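import Groth.Agent.Lib.UnifVanish7.Spanned
import Groth.Agent.Lib.Semiample.Criterion
import Groth.Agent.Lib.CMReg.Free
import Groth.Agent.Lib.CMReg.Sequences
import Groth.Agent.Lib.FormalExist7.Projective
import Groth.Agent.Lib.GVanish.Main
import Groth.Agent.Lib.OX.StalkTensor

/-!
# Globally generated bundles in dimension one
-/

set_option linter.style.haveILetI false
set_option backward.isDefEq.respectTransparency false

universe u

open CategoryTheory CategoryTheory.Limits AlgebraicGeometry TopologicalSpace Opposite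

noncomputable section

namespace GrothLib.CurveMult

open GrothLib.QCoh (stalkLin)

variable {X : Scheme.{u}}

/-- A globally generated module is spanned by its global sections. -/
theorem spanned_of_isGloballyGenerated {M : X.Modules} (h : Curv2.IsGloballyGenerated M) :
    ∃ (ι : Type u) (s : ι → Γ(M, ⊤)), Ample.Spanned M s := by
  classical
  obtain ⟨ι, s, hs⟩ := Semiample.exists_generatedBy h
  refine ⟨ι, s, fun O m x hx => ?_⟩
  have hm : M.presheaf.germ O x hx m ∈ Submodule.span (X.presheaf.stalk x)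
      (Set.range fun i => M.presheaf.germ ⊤ x trivial (s i)) := (hs x).symm ▸ Submodule.mem_top
  obtain ⟨c, hc⟩ := Finsupp.mem_span_range_iff_exists_finsupp.mp hm
  have : ∀ (S : Finset ι) (a : ι → X.presheaf.stalk x), ∃ (W : X.Opens) (hx : x ∈ W) (r : Γ(M, W)),
      r ∈ Submodule.span Γ(X, W) (Set.range fun i => InvExt.mres M (le_top : W ≤ ⊤) (s i)) ∧
        M.presheaf.germ W x hx r = ∑ i ∈ S, a i • M.presheaf.germ ⊤ x trivial (s i) := by
    intro S a
    induction S using Finset.induction_on with
    | empty => exact ⟨⊤, trivial, 0, Submodule.zero_mem _, by simp⟩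
    | insert j S hj ih =>
      obtain ⟨W, hxW, r, hr, hg⟩ := ih
      obtain ⟨U, hxU, b, hb⟩ := TopCat.Presheaf.exists_germ_eq X.presheaf (a j)
      have e1 := Ample.mres_mem_span_range (W := W ⊓ U) inf_le_left hr
      refine ⟨W ⊓ U, ⟨hxW, hxU⟩, InvExt.mres M inf_le_left r +
        (X.presheaf.map (homOfLE (inf_le_right : W ⊓ U ≤ U)).op b : Γ(X, W ⊓ U)) •
          InvExt.mres M (le_top : W ⊓ U ≤ ⊤) (s j), Submodule.add_mem _ e1
        (Submodule.smul_mem _ _ (Submodule.subset_span ⟨j, rfl⟩)), ?_⟩
      rw [map_add, Finset.sum_insert hj, WeakAss.germ_smul, add_comm]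
      congr 1
      · exact congrArg₂ (· • ·) ((TopCat.Presheaf.germ_res_apply X.presheaf (homOfLE inf_le_right) x (show x ∈ W ⊓ U from ⟨hxW, hxU⟩) b).trans hb)
          (TopCat.Presheaf.germ_res_apply M.presheaf (homOfLE le_top) x (show x ∈ W ⊓ U from ⟨hxW, hxU⟩) (s j))
      · exact (TopCat.Presheaf.germ_res_apply M.presheaf (homOfLE inf_le_left) x (show x ∈ W ⊓ U from ⟨hxW, hxU⟩) r).trans hg
  obtain ⟨W, hxW, r, hr, hg⟩ := this c.support c
  obtain ⟨V, hxV, i₁, i₂, hV⟩ := TopCat.Presheaf.germ_eq M.presheaf x hxW hx r m (hg.trans hc)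
  refine ⟨V, i₂.le, hxV, ?_⟩
  have := Ample.mres_mem_span_range (W := V) i₁.le hr
  rw [show InvExt.mres M i₂.le m = InvExt.mres M i₁.le r from hV.symm]
  exact this

/-- A globally generated module is spanned at the stalks. -/
theorem stalkSpanned_of_isGloballyGenerated {M : X.Modules} (h : Curv2.IsGloballyGenerated M) :
    UnifVanish7.StalkSpanned M := fun x => by
  obtain ⟨ι, s, hs⟩ := Semiample.exists_generatedBy h
  refine eq_top_iff.2 ((hs x).symm.le.trans (Submodule.span_mono ?_))
  rintro _ ⟨i, rfl⟩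
  exact ⟨s i, rfl⟩

theorem isGloballyGenerated_of_epi {M N : X.Modules} (f : M ⟶ N) [Epi f]
    (h : Curv2.IsGloballyGenerated M) : Curv2.IsGloballyGenerated N := by
  obtain ⟨ι, p, hp⟩ := h
  exact ⟨ι, p ≫ f, epi_comp p f⟩

/-- A globally generated coherent module is a quotient of a finite free one. -/
theorem exists_epi_freeMod [CompactSpace X] [IsLocallyNoetherian X] {M : X.Modules} (hM : Coh.IsCoh M)
    (h : Curv2.IsGloballyGenerated M) : ∃ (n : ℕ) (p : FlatMod.freeMod X n ⟶ M), Epi p := by
  haveI : M.IsQuasicoherent := hM.1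
  obtain ⟨ι, s, hs⟩ := spanned_of_isGloballyGenerated h
  obtain ⟨n, t, ht⟩ := Ample.exists_finite_spanned M
    (fun _ => ⟨⊤, trivial, fun W hW _ => FormalExist7.moduleFinite_sections_of_isCoh hM hW⟩) s hs
  exact ⟨n, Ample.exists_epi_free _ ht⟩

/-- A module with finite closed support is globally generated. -/
theorem isGloballyGenerated_of_finite_support {M : X.Modules} (hfin : (CohB1.support M).Finite)
    (hcl : ∀ x ∈ CohB1.support M, IsClosed ({x} : Set X)) : Curv2.IsGloballyGenerated M := by
  refine UnifVanish7.StalkSpanned.isGloballyGenerated fun x => eq_top_iff.2 fun v _ => ?_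
  obtain ⟨U, hxU, s, rfl⟩ := TopCat.Presheaf.exists_germ_eq M.presheaf v
  obtain ⟨t, ht⟩ := (AddCommGrpCat.epi_iff_surjective _).1
    ((Euler.isFlasque_of_finite_support M hfin hcl).epi (homOfLE (le_top : U ≤ ⊤)).op) s
  refine Submodule.subset_span ⟨t, ?_⟩
  exact (TopCat.Presheaf.germ_res_apply M.presheaf (homOfLE le_top) x hxU t).symm.trans
    (congrArg (M.presheaf.germ U x hxU) ht)

/-- Tensoring does not enlarge the support. -/
theorem support_tensor_subset (M N : X.Modules) :
    CohB1.support (CohB1.tensorMod M N) ⊆ CohB1.support M := fun x hx => by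
  by_contra h
  haveI := QCoh.stalk_subsingleton_of_notMem (M := M) (x := x) h
  have h0 : IsZero ((OX.stalk x).obj M) :=
    @ModuleCat.isZero_of_subsingleton _ _ ((OX.stalk x).obj M) (inferInstanceAs (Subsingleton (M.presheaf.stalk x)))
  have h1 : IsZero ((OX.stalk x).obj (CohB1.tensorMod M N)) :=
    ((MonoidalCategory.tensorRight ((OX.stalk x).obj N)).map_isZero h0).of_iso (OX.stalkTensorBiIso x M N)
  have : Subsingleton ((CohB1.tensorMod M N).presheaf.stalk x) := ModuleCat.subsingleton_of_isZero h1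
  exact hx this

/-- Finite sums of a globally generated module are globally generated. -/
theorem isGloballyGenerated_sigma {M : X.Modules} (h : Curv2.IsGloballyGenerated M) (m : ℕ) :
    Curv2.IsGloballyGenerated (∐ fun _ : Fin m => M) := by
  obtain ⟨ι, p, hp⟩ := h
  let q : (SheafOfModules.free (R := X.ringCatSheaf) (Fin m × ι) : X.Modules) ⟶ ∐ fun _ : Fin m => M :=
    Sigma.desc fun a => SheafOfModules.ιFree a.2 ≫ p ≫ Sigma.ι (fun _ : Fin m => M) a.1
  refine ⟨Fin m × ι, q, ⟨fun {N} g g' hgg => Sigma.hom_ext _ _ fun i => ?_⟩⟩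
  haveI := hp
  refine (cancel_epi p).1 (Sigma.hom_ext _ _ fun a => ?_)
  have h1 := congrArg (fun f => Sigma.ι (fun _ : Fin m × ι => Coh.structureModule X) (i, a) ≫ f) hgg
  simp only [q, Sigma.ι_desc_assoc] at h1
  simp only [Category.assoc] at h1 ⊢
  exact h1

variable (k : Type u) [Field k] [X.Over (Spec (CommRingCat.of k))] [IsNoetherian X]

include k in
/-- In dimension one first cohomology is right exact. -/
theorem subsingleton_H1_of_epi (hd : topologicalKrullDim X ≤ 1) {M N : X.Modules} (f : M ⟶ N) [Epi f]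
    (h : Subsingleton (Coh.HH X M 1)) : Subsingleton (Coh.HH X N 1) := by
  have hS : (ShortComplex.mk (kernel.ι f) f (kernel.condition f)).ShortExact :=
    { exact := ShortComplex.exact_of_f_is_kernel _ (kernelIsKernel f) }
  have h2 : Subsingleton (Coh.HH X (kernel f) 2) :=
    GVanish.subsingleton_H_of_krullDim_le (X := TopCat.of X) 1 hd (Coh.toAb (kernel f)) 2 one_lt_two
  refine subsingleton_of_forall_eq 0 fun y => ?_
  obtain ⟨x, rfl⟩ := (Cohom.exact₃ (A := k) hS 1 y).1 (@Subsingleton.elim _ h2 _ _)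
  rw [@Subsingleton.elim _ h x 0, map_zero]

include k in
/-- The middle term of a right exact sequence has no first cohomology when the outer ones have none. -/
theorem subsingleton_H1_of_rightExact (hd : topologicalKrullDim X ≤ 1) {S : ShortComplex X.Modules}
    (hS : S.Exact) [Epi S.g] (h₁ : Subsingleton (Coh.HH X S.X₁ 1)) (h₃ : Subsingleton (Coh.HH X S.X₃ 1)) :
    Subsingleton (Coh.HH X S.X₂ 1) := by
  have hS' : (ShortComplex.mk (kernel.ι S.g) S.g (kernel.condition S.g)).ShortExact :=
    { exact := ShortComplex.exact_of_f_is_kernel _ (kernelIsKernel S.g) }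
  haveI : Epi (kernel.lift S.g S.f S.zero) := (ShortComplex.exact_iff_epi_kernel_lift S).1 hS
  have hK := subsingleton_H1_of_epi k hd (kernel.lift S.g S.f S.zero) h₁
  refine subsingleton_of_forall_eq 0 fun y => ?_
  obtain ⟨x, rfl⟩ := (Cohom.exact₂ (A := k) hS' 1 y).1 (@Subsingleton.elim _ h₃ _ _)
  rw [@Subsingleton.elim _ hK x 0, map_zero]

include k in
/-- Finite sums of copies keep vanishing first cohomology. -/
theorem subsingleton_H1_freeMod (h : Subsingleton (Coh.HH X (Coh.structureModule X) 1)) (n : ℕ) :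
    Subsingleton (Coh.HH X (FlatMod.freeMod X n) 1) :=
  CMReg.subsingleton_HH_sigma (fun _ : Fin n => Coh.structureModule X) fun _ => h

include k in
/-- A globally generated coherent module in dimension one inherits `H¹ = 0` from the structure sheaf. -/
theorem subsingleton_H1_of_gg (hd : topologicalKrullDim X ≤ 1)
    (h : Subsingleton (Coh.HH X (Coh.structureModule X) 1)) {M : X.Modules} (hM : Coh.IsCoh M)
    (hg : Curv2.IsGloballyGenerated M) : Subsingleton (Coh.HH X M 1) := by
  obtain ⟨n, p, hp⟩ := exists_epi_freeMod hM hg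
  haveI := hp
  exact subsingleton_H1_of_epi k hd p (subsingleton_H1_freeMod k h n)

include k in
/-- Global generation of an extension. -/
theorem isGloballyGenerated_extension {S : ShortComplex X.Modules} (hS : S.Exact) [Epi S.g]
    (h : Subsingleton (Coh.HH X (kernel S.g) 1)) (h₁ : Curv2.IsGloballyGenerated S.X₁)
    (h₃ : Curv2.IsGloballyGenerated S.X₃) : Curv2.IsGloballyGenerated S.X₂ := by
  refine UnifVanish7.StalkSpanned.isGloballyGenerated fun x => eq_top_iff.2 fun v _ => ?_
  have hS' : (ShortComplex.mk (kernel.ι S.g) S.g (kernel.condition S.g)).ShortExact :=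
    { exact := ShortComplex.exact_of_f_is_kernel _ (kernelIsKernel S.g) }
  have hsurj : Function.Surjective (S.g.app ⊤) := fun t => by
    obtain ⟨y, hy⟩ := (Cohom.exact₃ (A := k) hS' 0 ((ProjCoh.H0top _).symm t)).1 (@Subsingleton.elim _ h _ _)
    refine ⟨ProjCoh.H0top _ y, ?_⟩
    have h1 := congrArg (ProjCoh.H0top _) hy
    rw [AddEquiv.apply_symm_apply] at h1
    exact (ProjCoh.H0top_map ((QCoh.toAbFun _).map S.g) y).symm.trans h1
  haveI : Epi (kernel.lift S.g S.f S.zero) := (ShortComplex.exact_iff_epi_kernel_lift S).1 hS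
  have hle : Submodule.map (stalkLin S.g x) (UnifVanish7.spanGlobal S.X₂ x) = ⊤ := by
    rw [eq_top_iff, ← stalkSpanned_of_isGloballyGenerated h₃ x, Submodule.span_le]
    rintro _ ⟨t, rfl⟩
    obtain ⟨s, rfl⟩ := hsurj t
    exact ⟨_, Submodule.subset_span ⟨s, rfl⟩, QCoh.stalkLin_germ S.g (U := ⊤) trivial s⟩
  obtain ⟨w, hw, hw'⟩ := (hle.symm ▸ Submodule.mem_top : stalkLin S.g x v ∈ _)
  have hex : Function.Exact (stalkLin (kernel.ι S.g) x) (stalkLin S.g x) :=
    (ShortComplex.ShortExact.moduleCat_exact_iff_function_exact _).1 ((OX.exact_iff _).1 hS'.exact x)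
  obtain ⟨a, ha⟩ := (hex (v - w)).1 (by rw [map_sub, hw', sub_self])
  obtain ⟨b, rfl⟩ := QCoh.stalkLin_surjective (kernel.lift S.g S.f S.zero) x a
  have hb := UnifVanish7.map_spanGlobal_le (kernel.lift S.g S.f S.zero ≫ kernel.ι S.g) x
    ⟨b, stalkSpanned_of_isGloballyGenerated h₁ x ▸ Submodule.mem_top, rfl⟩
  rw [show v = (v - w) + w by abel, ← ha, ← QCoh.stalkLin_comp]
  exact Submodule.add_mem _ hb hw

/-- A coherent module supported at closed points has finite support. -/
theorem finite_support_of_closed_points {M : X.Modules} (hM : Coh.IsCoh M)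
    (h : ∀ x ∈ CohB1.support M, IsClosed ({x} : Set X)) : (CohB1.support M).Finite :=
  Euler.finite_of_closed_points (QCoh.isClosed_support_of_isCoh hM) h

end GrothLib.CurveMult
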