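import Groth.Agent.Lib.Euler.Basic
import Groth.Agent.Lib.QCoh.Pieces
import Groth.Prelude.Def_ClSub2
import Groth.Prelude.Def_CurvBase
import Mathlib.AlgebraicGeometry.Morphisms.ClosedImmersion

/-!
# The structure module of a closed point
-/

set_option linter.style.haveILetI false
set_option backward.isDefEq.respectTransparency false

universe u

open CategoryTheory CategoryTheory.Limits AlgebraicGeometry TopologicalSpace Opposite

noncomputable section

namespace GrothLib.CurveMult

variable {X : Scheme.{u}}

theorem ker_fromSpecResidueField {x : X} (hx : IsClosed ({x} : Set X)) :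
    (X.fromSpecResidueField x).ker =
      Scheme.IdealSheafData.vanishingIdeal (⟨{x}, hx⟩ : TopologicalSpace.Closeds X) := by
  haveI := isClosed_singleton_iff_isClosedImmersion.1 hx
  rw [SchImage.ker_eq_vanishingIdeal]
  congr 1
  refine Closeds.ext ?_
  change closure (Set.range (X.fromSpecResidueField x)) = {x}
  rw [Scheme.range_fromSpecResidueField, hx.closure_eq]

attribute [local instance] Curv2.resAlgebra

/-- The global functions on a closed point are its residue field. -/
theorem finrank_H0_quotMod_point (k : Type u) [Field k] [X.Over (Spec (CommRingCat.of k))] {x : X}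
    (hx : IsClosed ({x} : Set X)) :
    Module.finrank k (Coh.HH X (ClSub.quotMod (X.fromSpecResidueField x).ker) 0) =
      Module.finrank k (X.residueField x) := by
  haveI := isClosed_singleton_iff_isClosedImmersion.1 hx
  let i := X.fromSpecResidueField x
  let ψ : Γ(i.ker.subscheme, ⊤) ≅ X.residueField x :=
    asIso (i.toImage.appTop ≫ (Scheme.ΓSpecIso (X.residueField x)).hom)
  have hψ : ∀ r : Γ(X, ⊤), ψ.hom (i.ker.subschemeι.appTop r) = X.residue x (X.presheaf.germ ⊤ x trivial r) := by
    intro r
    have h1 : i.ker.subschemeι.appTop ≫ i.toImage.appTop ≫ (Scheme.ΓSpecIso (X.residueField x)).hom =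
        X.presheaf.germ ⊤ x trivial ≫ X.residue x := by
      rw [← Category.assoc, ← Scheme.Hom.comp_appTop,
        show i.toImage ≫ i.ker.subschemeι = i from i.toImage_imageι]
      simp [i, Scheme.fromSpecResidueField, Scheme.fromSpecStalk_appTop, Scheme.ΓSpecIso_naturality,
        Scheme.ΓSpecIso_inv_naturality]
    exact congrArg (fun φ => φ r) h1
  let e : Coh.HH X (ClSub.quotMod i.ker) 0 ≃+ (X.residueField x : Type u) :=
    (ProjCoh.H0top (ClSub.quotMod i.ker)).trans ψ.commRingCatIsoToRingEquiv.toAddEquiv
  let e' : Coh.HH X (ClSub.quotMod i.ker) 0 ≃ₗ[k] (X.residueField x : Type u) :=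
    { e with
      map_smul' := fun a z => by
        show ψ.hom (ProjCoh.H0top (ClSub.quotMod i.ker) (a • z)) =
          Curv2.resMap k X x a * ψ.hom (ProjCoh.H0top (ClSub.quotMod i.ker) z)
        rw [ProjCoh.H0top_smul]
        show ψ.hom (i.ker.subschemeι.appTop _ * _) = _
        rw [map_mul, hψ]
        rfl }
  exact e'.finrank_eq

end GrothLib.CurveMult
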