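import Groth.Agent.Lib.CurveMult.TwistHom
import Groth.Agent.Lib.Cohom.LinearLES

/-!
# Splitting extensions by invertible modules
-/

set_option linter.style.haveILetI false
set_option backward.isDefEq.respectTransparency false

universe u

open CategoryTheory CategoryTheory.Limits AlgebraicGeometry TopologicalSpace Opposite

noncomputable section

namespace GrothLib.CurveMult

variable {X : Scheme.{u}}

/-- Twisting by an invertible module is an equivalence. -/
theorem isEquivalence_tF {P M : X.Modules} (e : CohB1.tensorMod P M ≅ Coh.structureModule X)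
    (e' : CohB1.tensorMod M P ≅ Coh.structureModule X) : (Euler.tF P).IsEquivalence :=
  (CategoryTheory.Equivalence.mk (Euler.tF P) (Euler.tF M) (twistInverseIso e).symm
    (twistInverseIso e')).isEquivalence_functor

/-- A map from an invertible module lifts along an epimorphism when the twisted kernel has no first cohomology. -/
theorem exists_lift_of_H1 (k : Type u) [Field k] [X.Over (Spec (CommRingCat.of k))] {S : ShortComplex X.Modules}
    (hS : S.ShortExact) {N M : X.Modules} (e : CohB1.tensorMod N M ≅ Coh.structureModule X)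
    (e' : CohB1.tensorMod M N ≅ Coh.structureModule X) (φ : N ⟶ S.X₃)
    (h : Subsingleton (Coh.HH X ((Euler.tF M).obj S.X₁) 1)) : ∃ ψ : N ⟶ S.X₂, ψ ≫ S.g = φ := by
  haveI := isEquivalence_tF e' e
  have hS' : (S.map (Euler.tF M)).ShortExact := hS.map_of_exact (Euler.tF M)
  let φ' : Coh.structureModule X ⟶ (S.map (Euler.tF M)).X₃ := e.inv ≫ (Euler.tF M).map φ
  obtain ⟨y, hy⟩ := (Cohom.exact₃ (A := k) hS' 0 ((ProjCoh.H0top _).symm (φ'.app ⊤ (FinCov.one X ⊤)))).1
    (@Subsingleton.elim _ h _ _)
  have hy' : (S.map (Euler.tF M)).g.app ⊤ (ProjCoh.H0top _ y) = φ'.app ⊤ (FinCov.one X ⊤) := by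
    have h1 := congrArg (ProjCoh.H0top _) hy
    rw [AddEquiv.apply_symm_apply] at h1
    exact (ProjCoh.H0top_map ((QCoh.toAbFun _).map (S.map (Euler.tF M)).g) y).symm.trans h1
  let f : Coh.structureModule X ⟶ (S.map (Euler.tF M)).X₂ := FinCov.homOfSection (ProjCoh.H0top _ y)
  have hf : f ≫ (S.map (Euler.tF M)).g = φ' := by
    refine hom_ext_one _ _ ?_
    show (S.map (Euler.tF M)).g.app ⊤ ((FinCov.homOfSection (ProjCoh.H0top _ y)).app ⊤ (FinCov.one X ⊤)) = _
    rw [FinCov.homOfSection_one]
    refine Eq.trans ?_ hy'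
    congr 1
    rw [show (homOfLE (le_top : (⊤ : X.Opens) ≤ ⊤)).op = 𝟙 _ from Subsingleton.elim _ _, CategoryTheory.Functor.map_id]
    rfl
  refine ⟨(Euler.tF M).preimage (e.hom ≫ f), (Euler.tF M).map_injective ?_⟩
  rw [(Euler.tF M).map_comp, Functor.map_preimage]
  exact (Category.assoc _ _ _).trans ((congrArg (e.hom ≫ ·) hf).trans (e.hom_inv_id_assoc _))

/-- An extension by an invertible module splits when the first cohomology of the twisted kernel vanishes. -/
theorem isSplitEpi_of_H1 (k : Type u) [Field k] [X.Over (Spec (CommRingCat.of k))] {S : ShortComplex X.Modules}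
    (hS : S.ShortExact) {M : X.Modules} (e : CohB1.tensorMod S.X₃ M ≅ Coh.structureModule X)
    (e' : CohB1.tensorMod M S.X₃ ≅ Coh.structureModule X)
    (h : Subsingleton (Coh.HH X ((Euler.tF M).obj S.X₁) 1)) : IsSplitEpi S.g := by
  obtain ⟨ψ, hψ⟩ := exists_lift_of_H1 k hS e e' (𝟙 S.X₃) h
  exact IsSplitEpi.mk' ⟨ψ, hψ⟩

end GrothLib.CurveMult
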