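import Groth.Agent.Lib.CurveMult.DegHom
import Groth.Agent.Lib.Euler.Section
import Groth.Agent.Lib.OX.TensorAssoc
import Groth.Agent.Lib.OX.TensorInjective
import Groth.Agent.Lib.FinCov.Frame
import Groth.Agent.Lib.Euler.Torsion
import Groth.Agent.Lib.Euler.Slope2

/-!
# Twisting morphisms by invertible modules
-/

set_option linter.style.haveILetI false
set_option backward.isDefEq.respectTransparency false

universe u

open CategoryTheory CategoryTheory.Limits AlgebraicGeometry TopologicalSpace Opposite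

noncomputable section

namespace GrothLib.CurveMult

variable {X : Scheme.{u}}

/-- A morphism out of the structure sheaf vanishes with its value at one. -/
theorem eq_zero_of_app_one {N : X.Modules} (f : Coh.structureModule X ⟶ N)
    (h : f.app ⊤ (FinCov.one X ⊤) = 0) : f = 0 := by
  refine Scheme.Modules.hom_ext _ _ fun U => AddCommGrpCat.ext fun a => ?_
  have h1 : f.app U (FinCov.one X U) = 0 := by
    have h2 := ConcreteCategory.congr_hom (f.mapPresheaf.naturality (homOfLE (le_top : U ≤ ⊤)).op) (FinCov.one X ⊤)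
    simp only [ConcreteCategory.comp_apply] at h2
    have h3 : N.presheaf.map (homOfLE (le_top : U ≤ ⊤)).op (f.app ⊤ (FinCov.one X ⊤)) = 0 := by rw [h, map_zero]
    refine Eq.trans ?_ (h2.trans h3)
    congr 1
    exact (map_one (X.presheaf.map (homOfLE (le_top : U ≤ ⊤)).op).hom).symm
  rw [← FinCov.smul_one U (show Γ(X, U) from a), Scheme.Modules.Hom.app_smul, h1, smul_zero]
  rfl

/-- Morphisms out of the structure sheaf agree when their values at one do. -/
theorem hom_ext_one {N : X.Modules} (f g : Coh.structureModule X ⟶ N)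
    (h : f.app ⊤ (FinCov.one X ⊤) = g.app ⊤ (FinCov.one X ⊤)) : f = g :=
  sub_eq_zero.1 (eq_zero_of_app_one _ (sub_eq_zero.2 h : f.app ⊤ (FinCov.one X ⊤) - g.app ⊤ (FinCov.one X ⊤) = 0))

/-- A nonzero morphism out of the structure sheaf gives a nonzero global section. -/
theorem nontrivial_H0_of_hom {N : X.Modules} {f : Coh.structureModule X ⟶ N} (hf : f ≠ 0) :
    Nontrivial (Coh.HH X N 0) := by
  refine ⟨(ProjCoh.H0top N).symm (f.app ⊤ (FinCov.one X ⊤)), 0, fun h => hf (eq_zero_of_app_one f ?_)⟩
  exact (ProjCoh.H0top N).symm.injective (h.trans (map_zero _).symm)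

/-- Tensoring twice with mutually inverse invertible modules is the identity. -/
def twistInverseIso {P M : X.Modules} (e : CohB1.tensorMod P M ≅ Coh.structureModule X) :
    Euler.tF P ⋙ Euler.tF M ≅ 𝟭 X.Modules :=
  (show Euler.tF P ⋙ Euler.tF M ≅ Euler.tF (CohB1.tensorMod P M) from
    NatIso.ofComponents (fun Y => ((OX.tensorAssocNatIso.app Y).app P).app M)
      (fun {Y Y'} f => congr_app (congr_app (OX.tensorAssocNatIso.hom.naturality f) P) M)) ≪≫
    (DCoh.tensorBi (X := X)).flip.mapIso e ≪≫
    (OX.tensorBraiding (X := X)).app (Coh.structureModule X) ≪≫ OX.tensorUnitNatIso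

/-- Twisting by an invertible module kills no morphism. -/
theorem tF_map_ne_zero {P M : X.Modules} (e : CohB1.tensorMod P M ≅ Coh.structureModule X)
    {A B : X.Modules} {j : A ⟶ B} (hj : j ≠ 0) : (Euler.tF P).map j ≠ 0 := fun h => hj (by
  have h1 := NatIso.naturality_1 (twistInverseIso e) j
  rw [Functor.comp_map, h, Functor.map_zero, zero_comp, comp_zero] at h1
  exact h1.symm)

/-- Locally free modules of rank one are invertible. -/
theorem isInvertible_of_rank_one {F : X.Modules} (hF : FlatMod.IsFinLocFreeOfRank 1 F) : PicF.IsInvertible F :=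
  InvExt.isInvertible_of_gens fun x => by
    obtain ⟨V, e, hx, he⟩ := FinCov.exists_frame_nhd_of_rank hF x
    exact ⟨V, e 0, hx, (InvExt.isGen_iff_isFrame e).1 he⟩

variable (k : Type u) [Field k] [X.Over (Spec (CommRingCat.of k))]
  [IsProper (X ↘ Spec (CommRingCat.of k))] [IsIntegral X]

include k in
/-- Inverse invertible modules have opposite degrees. -/
theorem exists_inverse (hd : topologicalKrullDim X ≤ 1) {L : X.Modules} (hL : PicF.IsInvertible L) :
    ∃ M : X.Modules, PicF.IsInvertible M ∧ Curv2.deg k X M 1 = - Curv2.deg k X L 1 ∧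
      Nonempty (CohB1.tensorMod L M ≅ Coh.structureModule X) ∧
      Nonempty (CohB1.tensorMod M L ≅ Coh.structureModule X) := by
  obtain ⟨c, ⟨e⟩⟩ := Ample.exists_cocycle hL
  let d := Cube.inv c
  have hd' : PicF.IsInvertible (d.twist 1) := d.isInvertible_twist 1
  have h1 : Cube.clsMod (Ample.isInvertible_tensorMod hd' hL) = 1 := by
    rw [Cube.clsMod_tensorMod hd' hL, Cube.clsMod_eq hd' (Iso.refl _), Cube.clsMod_eq hL e, ← Cube.cls_prod]
    exact Quotient.sound (Cube.eqv_prod_inv c)
  obtain ⟨i⟩ := (Cube.clsMod_eq_one_iff _).1 h1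
  have h2 := deg_tensorMod k hd hd' hL
  rw [Euler.deg_of_iso k i, Euler.deg_structure k] at h2
  exact ⟨d.twist 1, hd', by linarith,
    ⟨((OX.tensorBraiding (X := X)).app (d.twist 1)).app L ≪≫ i⟩, ⟨i⟩⟩

include k in
/-- A nonzero map from an invertible module gives a section of a twist. -/
theorem exists_twist_section (hd : topologicalKrullDim X ≤ 1) {P E : X.Modules} (hP : PicF.IsInvertible P)
    {j : P ⟶ E} (hj : j ≠ 0) : ∃ M : X.Modules, PicF.IsInvertible M ∧
      Curv2.deg k X M 1 = - Curv2.deg k X P 1 ∧ Nontrivial (Coh.HH X (CohB1.tensorMod E M) 0) := by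
  obtain ⟨M, hM, hdeg, ⟨e1⟩, ⟨e2⟩⟩ := exists_inverse k hd hP
  refine ⟨M, hM, hdeg, nontrivial_H0_of_hom (f := e1.inv ≫ (Euler.tF M).map j) fun h => ?_⟩
  refine tF_map_ne_zero e2 hj ?_
  rw [← cancel_epi e1.inv, comp_zero]
  exact h

include k in
/-- A line subbundle of maximal degree has invertible quotient. -/
theorem isInvertible_cokernel_of_max (hd : topologicalKrullDim X ≤ 1)
    (hpid : ∀ x : X, IsPrincipalIdealRing (X.presheaf.stalk x)) {P E : X.Modules} (hP : PicF.IsInvertible P)
    (hE : FlatMod.IsFinLocFreeOfRank 2 E) (i : P ⟶ E) [Mono i]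
    (hmax : ∀ (P' : X.Modules) (i' : P' ⟶ E), Mono i' → PicF.IsInvertible P' →
      Curv2.deg k X P' 1 ≤ Curv2.deg k X P 1) : PicF.IsInvertible (cokernel i) := by
  haveI := Euler.isNoetherian_of_proper (X := X) k
  have hE' := FinCov.isFinLocFree_of_rank hE
  have hEc := Euler.isCoh_of_isFinLocFree hE'
  have hP1 := Euler.isFinLocFreeOfRank_one_of_invertible hP
  have hPc := Euler.isCoh_of_isInvertible hP
  have h := Euler.isFinLocFreeOfRank_cokernel_of_max k hd hpid i hPc hEc fun P' i' hi' hP' hg => by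
    haveI := hi'
    have h1 := Euler.isFinLocFreeOfRank_of_mono hpid i' hP' hE'
    rw [hg, Euler.grank_of_locFree hP1] at h1
    rw [← Euler.deg_eq_degree k h1, ← Euler.deg_eq_degree k hP1]
    exact hmax P' i' hi' (isInvertible_of_rank_one h1)
  have hg := (Euler.degree_quotient k _ _ _ (Euler.cokernel_shortExact i) hPc hEc
    (QCoh.isCoh_cokernel i hPc hEc)).2
  rw [Euler.grank_of_locFree hE, Euler.grank_of_locFree hP1] at hg
  rw [show Euler.grank (cokernel i) = 1 by omega] at h
  exact isInvertible_of_rank_one h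

end GrothLib.CurveMult
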