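import Groth.Agent.Lib.BCCoh.FlatBC
import Groth.Agent.Lib.OX.LocFreeTensor
import Groth.Agent.Lib.Euler.Basic
import Groth.Agent.Lib.Euler.Coh
import Groth.Agent.Lib.HomSh.Coherent
import Mathlib.LinearAlgebra.Dimension.Constructions

/-!
# Cohomology of the structure sheaf under extension of the base field
-/

set_option linter.style.haveILetI false

universe u

open CategoryTheory CategoryTheory.Limits AlgebraicGeometry TopologicalSpace TensorProduct

namespace GrothLib.CurveMult

/-- The dimensions of `H^p(X, O)` do not change under extension of the base field. -/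
theorem finrank_HH_structure_baseChange {k k' : Type u} [Field k] [Field k'] (φ : k →+* k') {X X' : Scheme.{u}}
    [X.Over (Spec (CommRingCat.of k))] [X'.Over (Spec (CommRingCat.of k'))]
    [IsSeparated (X ↘ Spec (CommRingCat.of k))] [QuasiCompact (X ↘ Spec (CommRingCat.of k))]
    (g : X' ⟶ X) (H : IsPullback g (X' ↘ Spec (CommRingCat.of k')) (X ↘ Spec (CommRingCat.of k))
      (Spec.map (CommRingCat.ofHom φ))) (p : ℕ) :
    Module.finrank k' (Coh.HH X' (Coh.structureModule X') p) =
      Module.finrank k (Coh.HH X (Coh.structureModule X) p) := by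
  letI := φ.toAlgebra
  haveI : CompactSpace X := QuasiCompact.compactSpace_of_compactSpace (X ↘ Spec (CommRingCat.of k))
  haveI : X.IsSeparated := ⟨by
    rw [show terminal.from X = (X ↘ Spec (CommRingCat.of k)) ≫ terminal.from _ from terminal.hom_ext _ _]
    infer_instance⟩
  haveI : (Coh.structureModule X).IsQuasicoherent := (HomSh.isCoh_structureModule X).1
  have hflat : φ.Flat := by
    show Module.Flat k k'
    infer_instance
  obtain ⟨e⟩ := BCCoh.exists_flatBC φ hflat _ _ g H (Coh.structureModule X) p
  let eP := Euler.hhEquiv (A := k') (OX.pullUnitIso g) p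
  rw [← eP.finrank_eq]
  exact e.finrank_eq.symm.trans Module.finrank_baseChange

end GrothLib.CurveMult
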