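import Groth.Agent.Lib.CurveMult.SepBC
import Groth.Agent.Lib.CurveMult.BaseChangeH
import Groth.Agent.Lib.CurveRR.Setup

/-!
# Modules of degree at least `2g + 1`
-/

set_option linter.style.haveILetI false
set_option backward.isDefEq.respectTransparency false

universe u

open CategoryTheory CategoryTheory.Limits AlgebraicGeometry TopologicalSpace TensorProduct

noncomputable section

namespace GrothLib.CurveMult

/-- The dimensions of the cohomology of a quasi-coherent module do not change under extension of the base field. -/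
theorem finrank_HH_baseChange {k k' : Type u} [Field k] [Field k'] (φ : k →+* k') {X X' : Scheme.{u}}
    [X.Over (Spec (CommRingCat.of k))] [X'.Over (Spec (CommRingCat.of k'))]
    [IsSeparated (X ↘ Spec (CommRingCat.of k))] [QuasiCompact (X ↘ Spec (CommRingCat.of k))]
    (g : X' ⟶ X) (H : IsPullback g (X' ↘ Spec (CommRingCat.of k')) (X ↘ Spec (CommRingCat.of k))
      (Spec.map (CommRingCat.ofHom φ))) (F : X.Modules) [F.IsQuasicoherent] (p : ℕ) :
    Module.finrank k' (Coh.HH X' ((Scheme.Modules.pullback g).obj F) p) = Module.finrank k (Coh.HH X F p) := by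
  letI := φ.toAlgebra
  haveI : CompactSpace X := QuasiCompact.compactSpace_of_compactSpace (X ↘ Spec (CommRingCat.of k))
  haveI : X.IsSeparated := ⟨by
    rw [show terminal.from X = (X ↘ Spec (CommRingCat.of k)) ≫ terminal.from _ from terminal.hom_ext _ _]
    infer_instance⟩
  have hflat : φ.Flat := by
    show Module.Flat k k'
    infer_instance
  obtain ⟨e⟩ := BCCoh.exists_flatBC φ hflat _ _ g H F p
  exact e.finrank_eq.symm.trans Module.finrank_baseChange

variable {X : Scheme.{u}} (k : Type u) [Field k] [IsAlgClosed k] [X.Over (Spec (CommRingCat.of k))]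
  [IsIntegral X] [IsProper (X ↘ Spec (CommRingCat.of k))]

include k in
/-- Over an algebraically closed field a module with Euler characteristic at least `g + 2` has the bound. -/
theorem bound_of_euler_ge (hd : topologicalKrullDim X ≤ 1) {L : X.Modules} (hL : PicF.IsInvertible L)
    (he : (Curv2.genus k X : ℤ) + 2 ≤ Curv2.euler k X L) (Z : X.IdealSheafData)
    (hZ : topologicalKrullDim (Z.support : Set X) ≤ 0)
    (h2 : Module.finrank k (Coh.HH X (ClSub.quotMod Z) 0) ≤ 2) :
    Module.finrank k (Coh.HH X (CohB1.tensorMod (ClSub.idealMod Z) L) 0) +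
      Module.finrank k (Coh.HH X (ClSub.quotMod Z) 0) ≤ Module.finrank k (Coh.HH X L 0) := by
  haveI := Euler.isNoetherian_of_proper (X := X) k
  obtain ⟨L', j, hj, hL', hI, heq⟩ := ideal_tensor_data k hd hL Z hZ
  haveI := hI.1
  haveI := (Euler.isCoh_of_isInvertible hL).1
  have hL0 := Euler.euler_le_finrank_H0 k hd L
  have e1 := Euler.euler_eq_sub k hd (CohB1.tensorMod (ClSub.idealMod Z) L)
  rcases subsingleton_or_nontrivial (Coh.HH X (CohB1.tensorMod (ClSub.idealMod Z) L) 1) with hs | hn
  · rw [Module.finrank_zero_of_subsingleton (R := k)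
      (M := Coh.HH X (CohB1.tensorMod (ClSub.idealMod Z) L) 1)] at e1
    omega
  · have := euler_le_of_H1_nontrivial k hd j hL' hI hn
    omega

end GrothLib.CurveMult
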