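import Groth.Agent.Lib.Ample.ProjMap
import Mathlib.AlgebraicGeometry.Morphisms.Smooth
import Mathlib.RingTheory.RingHom.Smooth

/-!
# Projective space is smooth
-/

universe u

set_option backward.isDefEq.respectTransparency false

open AlgebraicGeometry CategoryTheory MvPolynomial
open HomogeneousLocalization

namespace GrothLib.CurveMult

variable (n : ℕ) (R : Type u) [CommRing R]

local notation "PG" => CohB1.polyGrading n R

theorem smooth_cst (i : Fin (n + 1)) : (Ample.ProjMap.cst (X i : MvPolynomial (Fin (n + 1)) R)).Smooth := by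
  let v : Fin (n + 1) → MvPolynomial (Fin n) R := i.insertNth 1 X
  let f : MvPolynomial (Fin (n + 1)) R →+* MvPolynomial (Fin n) R := eval₂Hom C v
  have hvi : v i = 1 := Fin.insertNth_apply_same (α := fun _ => MvPolynomial (Fin n) R) i 1 X
  have hf : IsUnit (f (X i)) := by simp [f, hvi]
  let φ : Away PG (X i) →+* MvPolynomial (Fin n) R := ProjPt.evalAway PG f (X i) hf
  let ψ : MvPolynomial (Fin n) R →+* Away PG (X i) :=
    eval₂Hom (Ample.ProjMap.cst (X i)) fun j => Ample.ProjMap.ratio i (i.succAbove j)
  have hφc : ∀ r, φ (Ample.ProjMap.cst (X i) r) = C r := fun r => by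
    have h := Ample.ProjMap.evalAway_cst f i hf r
    simpa [φ, f] using h
  have hφr : ∀ k, φ (Ample.ProjMap.ratio i k) = v k := fun k => by
    have h := Ample.ProjMap.evalAway_ratio f i k hf
    simpa [φ, f, hvi] using h
  have hrr : Ample.ProjMap.ratio (R := R) i i = 1 := by
    refine HomogeneousLocalization.val_injective _ ?_
    rw [HomogeneousLocalization.val_one]
    refine (IsLocalization.map_units (Localization.Away (X i : MvPolynomial (Fin (n + 1)) R))
      (⟨X i, Submonoid.mem_powers _⟩ : Submonoid.powers (X i : MvPolynomial (Fin (n + 1)) R))).mul_right_cancel ?_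
    rw [one_mul]
    exact Ample.ProjMap.ratio_val i i
  have h1 : ψ.comp φ = RingHom.id _ := by
    refine Ample.ProjMap.awayHom_ext (RingHom.ext fun r => ?_) fun k => ?_
    · simp [ψ, hφc]
    · rcases Fin.eq_self_or_eq_succAbove i k with rfl | ⟨j, rfl⟩
      · simp [ψ, hφr, hvi, hrr]
      · simp [ψ, hφr, v]
  have h2 : φ.comp ψ = RingHom.id _ := by
    refine MvPolynomial.ringHom_ext (fun r => ?_) fun j => ?_
    · simp [ψ, hφc]
    · simp [ψ, hφr, v]
  let e : MvPolynomial (Fin n) R ≃+* Away PG (X i) := RingEquiv.ofRingHom ψ φ h1 h2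
  have hC : (C : R →+* MvPolynomial (Fin n) R).Smooth := by
    rw [← MvPolynomial.algebraMap_eq]
    exact RingHom.smooth_algebraMap.2 ⟨inferInstance, inferInstance⟩
  have := RingHom.Smooth.respectsIso.1 C e hC
  convert this using 1
  exact RingHom.ext fun r => by simp [e, ψ]

theorem smooth_chart (i : Fin (n + 1)) :
    Smooth ((Proj.basicOpen PG (X i)).ι ≫ CohB1.ProjSpace.toSpec n R) := by
  rw [← MorphismProperty.cancel_left_of_respectsIso @Smooth
    (Proj.basicOpenIsoSpec PG (X i) (Ample.ProjMap.X_mem i) one_pos).inv, ← Category.assoc,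
    Proj.basicOpenIsoSpec_inv_ι, Ample.ProjMap.awayι_toSpec, HasRingHomProperty.Spec_iff (P := @Smooth)]
  exact smooth_cst n R i

/-- Projective space is smooth over the base. -/
theorem smooth_toSpec : Smooth (CohB1.ProjSpace.toSpec n R) :=
  (IsZariskiLocalAtSource.iff_of_iSup_eq_top (P := @Smooth) _ (Ample.ProjMap.iSup_basicOpen_X n R)).2
    fun i => smooth_chart n R i

end GrothLib.CurveMult
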