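import Groth.Agent.Lib.CurveMult.RankTwo
import Groth.Agent.Lib.CurveMult.ProjSmooth
import Groth.Agent.Lib.CMReg.StructureRegular
import Groth.Agent.Lib.ProjCohom.Corollaries
import Groth.Agent.S10960
import Groth.Agent.S10829

/-!
# Bundles on the projective line split
-/

set_option linter.style.haveILetI false
set_option backward.isDefEq.respectTransparency false

universe u

open CategoryTheory CategoryTheory.Limits AlgebraicGeometry TopologicalSpace Opposite

noncomputable section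

namespace GrothLib.CurveMult.P1Split

variable (k : Type u) [Field k]

local notation "PP" => CohB1.ProjSpace 1 k

/-- The structure morphism of the line. -/
@[implicit_reducible] def overP1 : (CohB1.ProjSpace 1 k).Over (Spec (CommRingCat.of k)) :=
  ⟨CohB1.ProjSpace.toSpec 1 k⟩

attribute [local instance] overP1

/-- `O(d)`. -/
abbrev O1 (d : ℤ) : (CohB1.ProjSpace 1 k).Modules := Twist.twistProjSpace 1 k d

theorem inv_O1 (d : ℤ) : PicF.IsInvertible (O1 k d) := CMReg.isInvertible_twist d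

instance : IsProper (CohB1.ProjSpace 1 k ↘ Spec (CommRingCat.of k)) := Chow.isProper_toSpec 1 k

instance : IsIntegral (CohB1.ProjSpace 1 k) := ProjDim.isIntegral_proj k 1

theorem dim_P1 : topologicalKrullDim (CohB1.ProjSpace 1 k) = 1 := by
  exact_mod_cast Groth.Agent.S10829.result k 1

instance : CurveRR.RegCurve (CohB1.ProjSpace 1 k) :=
  haveI : Smooth (CohB1.ProjSpace.toSpec 1 k) := smooth_toSpec 1 k
  CurveRR.regCurve_of_smooth (CohB1.ProjSpace.toSpec 1 k) (dim_P1 k)

theorem pid (x : CohB1.ProjSpace 1 k) : IsPrincipalIdealRing ((CohB1.ProjSpace 1 k).presheaf.stalk x) :=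
  CurveRR.pid_stalk x

theorem dim_le : topologicalKrullDim (CohB1.ProjSpace 1 k) ≤ 1 := (dim_P1 k).le

theorem subsingleton_H0 {d : ℤ} (hd : d < 0) : Subsingleton (Coh.HH PP (O1 k d) 0) :=
  ProjCohom.subsingleton_HH (n := 1) (R := k) (d := d) (q := 0) (fun h => by omega) (fun h => by omega)

theorem subsingleton_H1 {d : ℤ} (hd : -1 ≤ d) : Subsingleton (Coh.HH PP (O1 k d) 1) :=
  ProjCohom.subsingleton_HH (n := 1) (R := k) (d := d) (q := 1) (fun h => by omega) (fun h => by
    push_cast at h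
    omega)

theorem finrank_diff (d : ℤ) : (Module.finrank k (Coh.HH PP (O1 k d) 0) : ℤ) -
    Module.finrank k (Coh.HH PP (O1 k d) 1) = d + 1 := by
  have h := ProjCohom.euler_twist k 1 one_pos d
  rw [Finset.sum_range_succ, Finset.sum_range_one, Ring.choose_one_right] at h
  push_cast at h
  linarith

theorem euler_O1 (d : ℤ) : Curv2.euler k PP (O1 k d) = d + 1 := by
  haveI := Euler.isNoetherian_of_proper (X := PP) k
  haveI := (Euler.isCoh_of_isInvertible (inv_O1 k d)).1
  rw [Euler.euler_eq_sub k (dim_le k), finrank_diff]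

theorem deg_O1 (d : ℤ) : Curv2.deg k PP (O1 k d) 1 = d := by
  have h0 := euler_O1 k 0
  rw [Euler.euler_of_iso k CMReg.nonempty_twist_zero.some] at h0
  rw [Curv2.deg, euler_O1, h0]
  push_cast
  ring

theorem finrank_H0_O1 (d : ℤ) : Module.finrank k (Coh.HH PP (O1 k d) 0) = (d + 1).toNat := by
  rcases lt_or_ge d 0 with hd | hd
  · haveI := subsingleton_H0 k hd
    rw [Module.finrank_zero_of_subsingleton]; omega
  · haveI := subsingleton_H1 k (d := d) (by omega)
    have h := finrank_diff k d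
    rw [Module.finrank_zero_of_subsingleton (R := k) (M := Coh.HH PP (O1 k d) 1)] at h
    omega

/-- A line bundle is the twist by its degree. -/
theorem nonempty_iso_O1 {L : (PP).Modules} (hL : PicF.IsInvertible L) :
    Nonempty (L ≅ O1 k (Curv2.deg k PP L 1)) := by
  obtain ⟨d, ⟨e⟩, -⟩ := Groth.Agent.S10960.result k 1 le_rfl L hL
  rw [Euler.deg_of_iso k e 1, deg_O1]
  exact ⟨e⟩

/-- The twists multiply. -/
def mulIso (a b : ℤ) : CohB1.tensorMod (O1 k a) (O1 k b) ≅ O1 k (a + b) :=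
  (GrTilde.nonempty_twist_tensor_twist (𝒜 := CohB1.polyGrading 1 k) CMReg.h1 a b).some

/-- Opposite twists are inverse. -/
def invIso (a b : ℤ) (h : a + b = 0) : CohB1.tensorMod (O1 k a) (O1 k b) ≅ Coh.structureModule PP :=
  mulIso k a b ≪≫ eqToIso (by rw [h]) ≪≫ CMReg.nonempty_twist_zero.some

/-- Maps from `O(t)` lift along a quotient by `O(l)` as soon as `t ≤ l + 1`. -/
theorem exists_lift {S : ShortComplex (PP).Modules} (hS : S.ShortExact) {l : ℤ} (e₁ : S.X₁ ≅ O1 k l) {t : ℤ}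
    (ht : t ≤ l + 1) (φ : O1 k t ⟶ S.X₃) : ∃ ψ : O1 k t ⟶ S.X₂, ψ ≫ S.g = φ := by
  refine exists_lift_of_H1 k hS (invIso k t (-t) (by omega)) (invIso k (-t) t (by omega)) φ ?_
  haveI := subsingleton_H1 k (d := l + -t) (by omega)
  exact (Euler.hhEquiv (A := k) ((Euler.tF (O1 k (-t))).mapIso e₁ ≪≫
    (show (Euler.tF (O1 k (-t))).obj (O1 k l) ≅ O1 k (l + -t) from mulIso k l (-t))) 1).toEquiv.subsingleton

/-- There is a nonzero map between twists in increasing order. -/
theorem exists_hom_ne_zero {a b : ℤ} (h : a ≤ b) : ∃ j : O1 k a ⟶ O1 k b, j ≠ 0 := by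
  have hnt : Nontrivial (Coh.HH PP (O1 k (b + -a)) 0) :=
    Module.nontrivial_of_finrank_pos (R := k) (by rw [finrank_H0_O1]; omega)
  obtain ⟨L, j, hL, hj, hLd⟩ := exists_hom_of_twist_section k (E := O1 k b) (M := O1 k (-a)) (inv_O1 k _)
    ((Euler.hhEquiv (A := k) (mulIso k b (-a)) 0).toEquiv.nontrivial)
  rw [deg_O1, neg_neg] at hLd
  obtain ⟨e⟩ := nonempty_iso_O1 k hL
  rw [hLd] at e
  exact ⟨e.inv ≫ j, fun h0 => hj (by rw [← cancel_epi e.inv, h0, comp_zero])⟩

/-- Peeling off the first summand. -/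
def sigmaSucc {C : Type*} [Category C] [Abelian C] {n : ℕ} (F : Fin (n + 1) → C) [HasCoproduct F]
    [HasCoproduct fun i : Fin n => F i.succ] : (∐ F) ≅ F 0 ⊞ ∐ fun i : Fin n => F i.succ where
  hom := Sigma.desc (Fin.cases biprod.inl fun i => Sigma.ι (fun i : Fin n => F i.succ) i ≫ biprod.inr)
  inv := biprod.desc (Sigma.ι F 0) (Sigma.desc fun i => Sigma.ι F i.succ)
  hom_inv_id := by
    refine Sigma.hom_ext _ _ fun i => ?_
    induction i using Fin.cases <;> simp
  inv_hom_id := by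
    refine biprod.hom_ext' _ _ (by simp) ?_
    rw [biprod.inr_desc_assoc, Category.comp_id]
    refine Sigma.hom_ext _ _ fun i => ?_
    simp

/-- Every bundle of rank `r + 1` contains a line bundle of maximal degree. -/
theorem exists_max_line {r : ℕ} {E : (PP).Modules} (hE : FlatMod.IsFinLocFreeOfRank (r + 1) E) :
    ∃ (l : ℤ) (ι : O1 k l ⟶ E), Mono ι ∧
      ∀ (P : (PP).Modules) (i : P ⟶ E), Mono i → PicF.IsInvertible P → Curv2.deg k PP P 1 ≤ l := by
  haveI := Euler.isNoetherian_of_proper (X := PP) k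
  have hE' := FinCov.isFinLocFree_of_rank hE
  have hEc := Euler.isCoh_of_isFinLocFree hE'
  let Q : ℤ → Prop := fun n => ∃ (P : (PP).Modules) (i : P ⟶ E), Mono i ∧ PicF.IsInvertible P ∧
    Curv2.deg k PP P 1 = n
  have hbdd : ∃ b : ℤ, ∀ z, Q z → z ≤ b :=
    ⟨(Module.finrank k (Coh.HH PP E 0) : ℤ) + (1 : ℕ) * ((Curv2.genus k PP : ℤ) - 1), fun z ⟨P, i, hi, hP, e⟩ => e ▸
      (haveI := hi; Euler.deg_le_of_sub k (dim_le k) i (Euler.isFinLocFreeOfRank_one_of_invertible hP) hEc)⟩
  have hex : ∃ z, Q z := by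
    obtain ⟨m, h1, h2⟩ : ∃ m : ℤ, -Curv2.deg k PP E (r + 1) ≤ m ∧ (0 : ℤ) ≤ m :=
      ⟨|Curv2.deg k PP E (r + 1)|, neg_le_abs _, abs_nonneg _⟩
    have hM1 := Euler.isFinLocFreeOfRank_one_of_invertible (inv_O1 k m)
    obtain ⟨U, hU, ⟨φ⟩⟩ := Euler.exists_trivial_genericPoints k hM1
    have h := Euler.euler_tF k (dim_le k) hE (Euler.isCoh_of_isInvertible (inv_O1 k m)) hU φ
    have e1 : Curv2.euler k PP ((Euler.tF E).obj (O1 k m)) = Curv2.euler k PP (CohB1.tensorMod E (O1 k m)) :=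
      Euler.euler_of_iso k (((OX.tensorBraiding (X := PP)).app E).app (O1 k m))
    have hT : Coh.IsCoh (CohB1.tensorMod E (O1 k m)) :=
      CMReg.isCoh_tensorMod (X := PP) hEc (inv_O1 k m)
    have hpos : 0 < Curv2.euler k PP (CohB1.tensorMod E (O1 k m)) := by
      rw [← e1, h, euler_O1]
      have h3 : m + 1 ≤ ((r + 1 : ℕ) : ℤ) * (m + 1) :=
        le_mul_of_one_le_left (by linarith) (by exact_mod_cast Nat.succ_le_succ (Nat.zero_le r))
      generalize Curv2.deg k PP E (r + 1) = D at h1 ⊢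
      generalize ((r + 1 : ℕ) : ℤ) * (m + 1) = W at h3 ⊢
      rw [Nat.cast_one, one_mul]
      linarith
    obtain ⟨L, j, hL, hj, hLd⟩ := exists_hom_of_twist_section k (inv_O1 k m)
      (Euler.nontrivial_H0_of_euler_pos k (dim_le k) hT hpos)
    exact ⟨_, L, j, mono_of_ne_zero_invertible k (pid k) hL hE' hj, hL, rfl⟩
  obtain ⟨l, ⟨P, i, hi, hP, hl⟩, hmax⟩ := Int.exists_greatest_of_bdd hbdd hex
  obtain ⟨e⟩ := nonempty_iso_O1 k hP
  rw [hl] at e
  haveI := hi
  exact ⟨l, e.inv ≫ i, inferInstance, fun P' i' hi' hP' => hmax _ ⟨P', i', hi', hP', rfl⟩⟩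

/-- Existence of the splitting. -/
theorem exists_splitting : ∀ (r : ℕ) (E : (PP).Modules), FlatMod.IsFinLocFreeOfRank r E →
    ∃ d : Fin r → ℤ, Antitone d ∧ Nonempty (E ≅ ∐ fun i : Fin r => O1 k (d i)) := by
  intro r
  induction r with
  | zero =>
    intro E hE
    refine ⟨Fin.elim0, fun i => i.elim0, ⟨(Euler.isZero_of_rank_zero hE).iso ?_⟩⟩
    rw [IsZero.iff_id_eq_zero]
    exact Sigma.hom_ext _ _ fun i => i.elim0
  | succ r ih =>
    intro E hE
    haveI := Euler.isNoetherian_of_proper (X := PP) k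
    have hE' := FinCov.isFinLocFree_of_rank hE
    have hEc := Euler.isCoh_of_isFinLocFree hE'
    obtain ⟨l, ι, hι, hmax⟩ := exists_max_line k hE
    haveI := hι
    have hl1 := Euler.isFinLocFreeOfRank_one_of_invertible (inv_O1 k l)
    have hlc := Euler.isCoh_of_isInvertible (inv_O1 k l)
    have hQ := Euler.isFinLocFreeOfRank_cokernel_of_max k (dim_le k) (pid k) ι hlc hEc fun P' i' hi' hP' hg => by
      haveI := hi'
      have h1 := Euler.isFinLocFreeOfRank_of_mono (pid k) i' hP' hE'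
      rw [hg, Euler.grank_of_locFree hl1] at h1
      rw [← Euler.deg_eq_degree k h1, ← Euler.deg_eq_degree k hl1, deg_O1]
      exact hmax P' i' hi' (isInvertible_of_rank_one h1)
    have hS := Euler.cokernel_shortExact ι
    have hg := (Euler.degree_quotient k _ _ _ hS hlc hEc (QCoh.isCoh_cokernel ι hlc hEc)).2
    rw [Euler.grank_of_locFree hE, Euler.grank_of_locFree hl1] at hg
    rw [show Euler.grank (cokernel ι) = r by omega] at hQ
    obtain ⟨d, hd, ⟨eQ⟩⟩ := ih _ hQ
    let ε : ∀ i, O1 k (d i) ⟶ cokernel ι := fun i => Sigma.ι (fun i : Fin r => O1 k (d i)) i ≫ eQ.inv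
    have hεmono : ∀ i, Mono (ε i) := fun i => by
      haveI : IsSplitMono (Sigma.ι (fun i : Fin r => O1 k (d i)) i) := inferInstance
      infer_instance
    have hle : ∀ i, d i ≤ l := by
      intro i
      by_contra hlt
      obtain ⟨j, hj⟩ := exists_hom_ne_zero k (a := l + 1) (b := d i) (by omega)
      obtain ⟨ψ, hψ⟩ := exists_lift k hS (Iso.refl _) (t := l + 1) le_rfl (j ≫ ε i)
      have hψ0 : ψ ≠ 0 := fun h => hj (by
        haveI := hεmono i
        rw [h, zero_comp] at hψ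
        rw [← cancel_mono (ε i), zero_comp]
        exact hψ.symm)
      have h1 := hmax _ ψ (mono_of_ne_zero_invertible k (pid k) (inv_O1 k _) hE' hψ0) (inv_O1 k _)
      rw [deg_O1] at h1
      omega
    choose ψ hψ using fun i => exists_lift k hS (Iso.refl _) (t := d i) (by linarith [hle i]) (ε i)
    let s : cokernel ι ⟶ E := eQ.hom ≫ Sigma.desc ψ
    have hs : s ≫ cokernel.π ι = 𝟙 _ := by
      rw [Category.assoc, ← cancel_epi eQ.inv, eQ.inv_hom_id_assoc, Category.comp_id]
      refine Sigma.hom_ext _ _ fun i => ?_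
      rw [Sigma.ι_desc_assoc]
      exact hψ i
    let sp := ShortComplex.Splitting.ofExactOfSection _ hS.exact s hs hι
    let c : Fin (r + 1) → ℤ := Fin.cases l d
    refine ⟨c, ?_, ⟨sp.isoBinaryBiproduct ≪≫ biprod.mapIso (Iso.refl _) eQ ≪≫
      (sigmaSucc fun i : Fin (r + 1) => O1 k (c i)).symm⟩⟩
    intro a b hab
    induction b using Fin.cases with
    | zero =>
      induction a using Fin.cases with
      | zero => exact le_rfl
      | succ a => exact absurd hab (not_le.2 (Fin.succ_pos a))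
    | succ b =>
      induction a using Fin.cases with
      | zero => exact hle b
      | succ a => exact hd (Fin.succ_le_succ_iff.1 hab)

theorem hhMap_add' {M N : (PP).Modules} (f g : M ⟶ N) (x : Coh.HH PP M 0) :
    Cohom.hhMap k (f + g) 0 x = Cohom.hhMap k f 0 x + Cohom.hhMap k g 0 x := by
  rw [Cohom.hhMap_apply, Cohom.hhMap_apply, Cohom.hhMap_apply,
    show (QCoh.toAbFun PP).map (f + g) = (QCoh.toAbFun PP).map f + (QCoh.toAbFun PP).map g from Functor.map_add _,
    Cohom.H_map_eq_comp, Abelian.Ext.mk₀_add, Abelian.Ext.comp_add]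
  rfl

theorem hhMap_zero' {M N : (PP).Modules} (x : Coh.HH PP M 0) : Cohom.hhMap k (0 : M ⟶ N) 0 x = 0 :=
  add_eq_left.1 (by rw [← hhMap_add', add_zero] : Cohom.hhMap k (0 : M ⟶ N) 0 x + Cohom.hhMap k (0 : M ⟶ N) 0 x =
    Cohom.hhMap k (0 : M ⟶ N) 0 x)

/-- The sections of a split sum. -/
theorem finrank_H0_biprod {A B : (PP).Modules} (hA : Coh.IsCoh A) (hB : Coh.IsCoh B) :
    Module.finrank k (Coh.HH PP (A ⊞ B) 0) =
      Module.finrank k (Coh.HH PP A 0) + Module.finrank k (Coh.HH PP B 0) := by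
  haveI := Euler.finiteDimensional_HH k hA 0
  haveI := Euler.finiteDimensional_HH k hB 0
  rw [← Module.finrank_prod]
  refine (LinearEquiv.ofBijective ((Cohom.hhMap k (biprod.fst : A ⊞ B ⟶ A) 0).prod
    (Cohom.hhMap k (biprod.snd : A ⊞ B ⟶ B) 0)) ⟨(injective_iff_map_eq_zero _).2 fun x hx => ?_, fun y =>
    ⟨Cohom.hhMap k (biprod.inl : A ⟶ A ⊞ B) 0 y.1 + Cohom.hhMap k (biprod.inr : B ⟶ A ⊞ B) 0 y.2, ?_⟩⟩).finrank_eq
  · obtain ⟨h1, h2⟩ := Prod.ext_iff.1 hx
    change Cohom.hhMap k (biprod.fst : A ⊞ B ⟶ A) 0 x = 0 at h1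
    change Cohom.hhMap k (biprod.snd : A ⊞ B ⟶ B) 0 x = 0 at h2
    rw [← Euler.hhMap_id (A := k) (A ⊞ B) 0 x, ← biprod.total, hhMap_add', Euler.hhMap_comp,
      Euler.hhMap_comp, h1, h2, map_zero, map_zero, add_zero]
  · refine Prod.ext ?_ ?_
    · show Cohom.hhMap k (biprod.fst : A ⊞ B ⟶ A) 0 _ = _
      rw [map_add, ← Euler.hhMap_comp, ← Euler.hhMap_comp, biprod.inl_fst, biprod.inr_fst, Euler.hhMap_id,
        hhMap_zero', add_zero]
    · show Cohom.hhMap k (biprod.snd : A ⊞ B ⟶ B) 0 _ = _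
      rw [map_add, ← Euler.hhMap_comp, ← Euler.hhMap_comp, biprod.inl_snd, biprod.inr_snd, Euler.hhMap_id,
        hhMap_zero', zero_add]

theorem isCoh_sum : ∀ (r : ℕ) (d : Fin r → ℤ), Coh.IsCoh (∐ fun i : Fin r => O1 k (d i)) := by
  haveI := Euler.isNoetherian_of_proper (X := PP) k
  intro r
  induction r with
  | zero =>
    intro d
    refine Euler.isCoh_of_isZero ((IsZero.iff_id_eq_zero _).2 (Sigma.hom_ext _ _ fun i => i.elim0))
  | succ r ih =>
    intro d
    exact QCoh.isCoh_of_iso (sigmaSucc fun i : Fin (r + 1) => O1 k (d i)).symm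
      (QCoh.isCoh_biprod' (Euler.isCoh_of_isInvertible (inv_O1 k _)) (ih fun i => d i.succ))

/-- The twist of a split sum. -/
theorem nonempty_twist_sum (r : ℕ) (d : Fin r → ℤ) (t : ℤ) :
    Nonempty ((Euler.tF (O1 k t)).obj (∐ fun i : Fin r => O1 k (d i)) ≅ ∐ fun i : Fin r => O1 k (d i + t)) := by
  haveI := isEquivalence_tF (invIso k t (-t) (by omega)) (invIso k (-t) t (by omega))
  exact ⟨PreservesCoproduct.iso (Euler.tF (O1 k t)) _ ≪≫ Sigma.mapIso fun i => mulIso k (d i) t⟩

theorem finrank_H0_sum : ∀ (r : ℕ) (d : Fin r → ℤ),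
    Module.finrank k (Coh.HH PP (∐ fun i : Fin r => O1 k (d i)) 0) = ∑ i, (d i + 1).toNat := by
  intro r
  induction r with
  | zero =>
    intro d
    haveI : Subsingleton (Coh.HH PP (∐ fun i : Fin 0 => O1 k (d i)) 0) := by
      refine ⟨fun a b => ?_⟩
      have hz : 𝟙 (∐ fun i : Fin 0 => O1 k (d i)) = 0 := Sigma.hom_ext _ _ fun i => i.elim0
      rw [← Euler.hhMap_id (A := k) (∐ fun i : Fin 0 => O1 k (d i)) 0 a, hz, hhMap_zero',
        ← Euler.hhMap_id (A := k) (∐ fun i : Fin 0 => O1 k (d i)) 0 b, hz, hhMap_zero']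
    rw [Module.finrank_zero_of_subsingleton, Fin.sum_univ_zero]
  | succ r ih =>
    intro d
    rw [(Euler.hhEquiv (A := k) (sigmaSucc fun i : Fin (r + 1) => O1 k (d i)) 0).finrank_eq,
      finrank_H0_biprod k (Euler.isCoh_of_isInvertible (inv_O1 k _)) (isCoh_sum k r fun i => d i.succ),
      ih fun i => d i.succ, finrank_H0_O1, Fin.sum_univ_succ]

/-- Uniqueness of the splitting. -/
theorem unique_splitting {r : ℕ} {d d' : Fin r → ℤ} (hd : Antitone d) (hd' : Antitone d')
    (e : (∐ fun i : Fin r => O1 k (d i)) ≅ ∐ fun i : Fin r => O1 k (d' i)) : d = d' := by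
  classical
  have key : ∀ t : ℤ, ∑ i, (d i - t + 1).toNat = ∑ i, (d' i - t + 1).toNat := fun t => by
    obtain ⟨a⟩ := nonempty_twist_sum k r d (-t)
    obtain ⟨b⟩ := nonempty_twist_sum k r d' (-t)
    have := (Euler.hhEquiv (A := k) (a.symm ≪≫ (Euler.tF (O1 k (-t))).mapIso e ≪≫ b) 0).finrank_eq
    rw [finrank_H0_sum, finrank_H0_sum] at this
    simpa [sub_eq_add_neg] using this
  have hstep : ∀ (c : Fin r → ℤ) (t : ℤ), ∑ i, (c i - t + 1).toNat =
      ∑ i, (c i - (t + 1) + 1).toNat + (Finset.univ.filter fun i => t ≤ c i).card := fun c t => by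
    rw [Finset.card_filter, ← Finset.sum_add_distrib]
    refine Finset.sum_congr rfl fun i _ => ?_
    split_ifs <;> omega
  have hcount : ∀ t : ℤ, (Finset.univ.filter fun i => t ≤ d i).card = (Finset.univ.filter fun i => t ≤ d' i).card :=
    fun t => by
      have := hstep d t; have := hstep d' t; have := key t; have := key (t + 1); omega
  refine funext fun i => le_antisymm ?_ ?_
  all_goals
    by_contra hlt
    push Not at hlt
  · have h1 : Finset.Iic i ⊆ Finset.univ.filter fun j => d i ≤ d j := fun j hj =>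
      Finset.mem_filter.2 ⟨Finset.mem_univ _, hd (Finset.mem_Iic.1 hj)⟩
    have h2 : (Finset.univ.filter fun j => d i ≤ d' j) ⊆ Finset.Iio i := fun j hj => Finset.mem_Iio.2 (by
      by_contra hji
      push Not at hji
      have := hd' hji
      have := (Finset.mem_filter.1 hj).2
      omega)
    have := Finset.card_le_card h1; have := Finset.card_le_card h2; have := hcount (d i)
    simp only [Fin.card_Iic, Fin.card_Iio] at *
    omega
  · have h1 : Finset.Iic i ⊆ Finset.univ.filter fun j => d' i ≤ d' j := fun j hj =>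
      Finset.mem_filter.2 ⟨Finset.mem_univ _, hd' (Finset.mem_Iic.1 hj)⟩
    have h2 : (Finset.univ.filter fun j => d' i ≤ d j) ⊆ Finset.Iio i := fun j hj => Finset.mem_Iio.2 (by
      by_contra hji
      push Not at hji
      have := hd hji
      have := (Finset.mem_filter.1 hj).2
      omega)
    have := Finset.card_le_card h1; have := Finset.card_le_card h2; have := hcount (d' i)
    simp only [Fin.card_Iic, Fin.card_Iio] at *
    omega

end GrothLib.CurveMult.P1Split
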