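import Groth.Agent.Lib.FEt21.Splitting
import Groth.Agent.Lib.FEt21.Degree
import Groth.Agent.Lib.ProjFormula.Iso
import Groth.Agent.Lib.FlatBC.Push
import Groth.Agent.Lib.Snapper.PushEuler
import Groth.Agent.Lib.Euler.GenericCompare

/-!
# The Euler characteristic of a finite étale cover of a curve
-/

set_option linter.style.haveILetI false
set_option backward.isDefEq.respectTransparency false

universe u

open CategoryTheory CategoryTheory.Limits AlgebraicGeometry TopologicalSpace Opposite
open GrothLib.InvExt (mres)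

noncomputable section

namespace GrothLib.CurveMult

/-- A scheme covered by disjoint sections over `Z` has free direct image. -/
theorem nonempty_free_iso_of_sections {P Z : Scheme.{u}} (π : P ⟶ Z) (d : ℕ) (sec : Fin d → (Z ⟶ P))
    [∀ i, IsOpenImmersion (sec i)] (hsec : ∀ i, sec i ≫ π = 𝟙 Z)
    (hdis : ∀ i j, i ≠ j → Disjoint (Set.range (sec i)) (Set.range (sec j)))
    (hcov : ∀ p : P, ∃ i, p ∈ Set.range (sec i)) :
    Nonempty (FlatMod.freeMod Z d ≅ (Scheme.Modules.pushforward π).obj (Coh.structureModule P)) := by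
  classical
  let R : Fin d → P.Opens := fun i => (sec i).opensRange
  let sf : ∀ i j : Fin d, Γ(P, R j) := fun i j => if i = j then 1 else 0
  have hcompat : ∀ i, TopCat.Presheaf.IsCompatible P.presheaf R (sf i) := by
    intro i a b
    by_cases hab : a = b
    · subst hab; rfl
    · refine TopCat.Presheaf.section_ext (C := CommRingCat.{u}) (X := P.carrier) P.sheaf _ _ _ fun z hz => ?_
      exact absurd hz.2 (Set.disjoint_left.1 (hdis a b hab) hz.1)
  have hcov' : (⊤ : P.Opens) ≤ ⨆ j, R j := fun p _ => by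
    obtain ⟨i, hi⟩ := hcov p
    exact Opens.mem_iSup.2 ⟨i, hi⟩
  choose ε hε hεu using fun i => TopCat.Sheaf.existsUnique_gluing' P.sheaf R ⊤
    (fun j => homOfLE (le_top : R j ≤ ⊤)) hcov' (sf i) (hcompat i)
  have hle : ∀ (j : Fin d) (W : Z.Opens), W ≤ sec j ⁻¹ᵁ (π ⁻¹ᵁ W) := fun j W => by
    show W ≤ (sec j ≫ π) ⁻¹ᵁ W
    rw [hsec]; exact le_rfl
  let χ : ∀ (j : Fin d) (W : Z.Opens), Γ(P, π ⁻¹ᵁ W) →+* Γ(Z, W) := fun j W =>
    ((sec j).appLE (π ⁻¹ᵁ W) W (hle j W)).hom
  have hχπ : ∀ (j : Fin d) (W : Z.Opens) (c : Γ(Z, W)), χ j W ((π.app W).hom c) = c := by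
    intro j W c
    have key : ∀ (φ : Z ⟶ Z) (e : W ≤ φ ⁻¹ᵁ W), φ = 𝟙 Z → (φ.appLE W W e).hom c = c := by
      rintro _ e rfl
      simp [Scheme.Hom.appLE]
      exact congrArg (fun φ => φ.hom c) (Z.presheaf.map_id (op W))
    refine Eq.trans ?_ (key (sec j ≫ π) (hle j W) (hsec j))
    show ((π.app W) ≫ (sec j).appLE (π ⁻¹ᵁ W) W (hle j W)).hom c = _
    rw [Scheme.Hom.app_eq_appLE, Scheme.Hom.appLE_comp_appLE]
  have hχε : ∀ (i j : Fin d) (W : Z.Opens) (T : P.Opens) (hT : T ≤ π ⁻¹ᵁ W) (hTj : T = sec j ''ᵁ W),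
      χ j W ((P.presheaf.map (homOfLE (le_top : π ⁻¹ᵁ W ≤ ⊤)).op).hom (ε i)) = if i = j then 1 else 0 := by
    intro i j W T hT hTj
    subst hTj
    have hR : sec j ''ᵁ W ≤ R j := fun p hp => by obtain ⟨w, -, rfl⟩ := hp; exact ⟨w, rfl⟩
    have h1 := congrArg ((P.presheaf.map (homOfLE hR).op).hom) (hε i j)
    have h2 : χ j W ((P.presheaf.map (homOfLE (le_top : π ⁻¹ᵁ W ≤ ⊤)).op).hom (ε i)) =
        ((sec j).appLE (sec j ''ᵁ W) W ((sec j).preimage_image_eq W).ge).hom
          ((P.presheaf.map (homOfLE hR).op).hom ((P.presheaf.map (homOfLE (le_top : R j ≤ ⊤)).op).hom (ε i))) := by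
      show ((P.presheaf.map _) ≫ (sec j).appLE _ W _).hom (ε i) =
        ((P.presheaf.map (homOfLE (le_top : R j ≤ ⊤)).op ≫ P.presheaf.map (homOfLE hR).op) ≫
          (sec j).appLE _ W _).hom (ε i)
      rw [Scheme.Hom.map_appLE, ← Functor.map_comp, Scheme.Hom.map_appLE]
    rw [h2]
    refine (congrArg _ h1).trans ?_
    show _ = _
    simp only [sf]
    split <;> simp [map_one, map_zero]
  let M := (Scheme.Modules.pushforward π).obj (Coh.structureModule P)
  let e : Fin d → Γ(M, ⊤) := fun i => ε i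
  have hsub : ∀ (j : Fin d) (W : Z.Opens), sec j ''ᵁ W ≤ π ⁻¹ᵁ W := fun j W p hp => by
    obtain ⟨w, hw, rfl⟩ := hp
    show (sec j ≫ π) w ∈ W
    rw [hsec]; exact hw
  have hframe : ∀ W : Z.Opens, Function.Bijective fun c : Fin d → Γ(Z, W) =>
      ∑ i, c i • (show Γ(M, W) from M.presheaf.map (homOfLE (le_top : W ≤ ⊤)).op (e i)) := by
    intro W
    let S : (Fin d → Γ(Z, W)) → Γ(P, π ⁻¹ᵁ W) := fun c =>
      ∑ i, (π.app W).hom (c i) * (P.presheaf.map (homOfLE (le_top : π ⁻¹ᵁ W ≤ ⊤)).op).hom (ε i)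
    have hS : ∀ j c, χ j W (S c) = c j := fun j c => by
      simp only [S, map_sum, map_mul, hχπ, hχε _ j W _ (hsub j W) rfl, mul_ite, mul_one, mul_zero]
      simp
    suffices hbij : Function.Bijective S from hbij
    refine ⟨fun a b hab => funext fun j => by rw [← hS j a, ← hS j b, hab], fun s => ⟨fun i => χ i W s, ?_⟩⟩
    refine TopCat.Sheaf.eq_of_locally_eq' P.sheaf (fun j => sec j ''ᵁ W) (π ⁻¹ᵁ W) (fun j => homOfLE (hsub j W))
      (fun p hp => ?_) _ _ fun j => ?_
    · obtain ⟨j, w, rfl⟩ := hcov p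
      refine Opens.mem_iSup.2 ⟨j, w, ?_, rfl⟩
      have : (sec j ≫ π) w ∈ W := hp
      rwa [hsec] at this
    · refine (ConcreteCategory.bijective_of_isIso ((sec j).appIso W).hom).1 ?_
      have hχ : ∀ t : Γ(P, π ⁻¹ᵁ W), ((sec j).appIso W).hom ((P.presheaf.map (homOfLE (hsub j W)).op).hom t) = χ j W t := by
        intro t
        rw [Scheme.Hom.appIso_hom']
        show ((P.presheaf.map (homOfLE (hsub j W)).op) ≫ (sec j).appLE (sec j ''ᵁ W) W _).hom t = _
        rw [Scheme.Hom.map_appLE]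
      exact (hχ _).trans ((hS j _).trans (hχ s).symm)
  let Φ : FlatMod.freeMod Z d ⟶ M := Sigma.desc fun i => FinCov.homOfSection (e i)
  suffices IsIso Φ from ⟨asIso Φ⟩
  refine UnitsThick26.isIso_of_bijective_affine Φ fun W _ => ?_
  let F := FlatMod.freeMod Z d
  let ιm : ∀ _ : Fin d, Coh.structureModule Z ⟶ F := fun i => Sigma.ι (fun _ : Fin d => Coh.structureModule Z) i
  let C : Γ(F, W) → (Fin d → Γ(Z, W)) := fun x i => (FinCov.proj Z d i).app W x
  have hC : Function.Bijective C := by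
    refine Function.bijective_iff_has_inverse.2 ⟨fun c => ∑ i, (ιm i).app W (c i), fun x => ?_,
      fun c => funext fun j => ?_⟩
    · show ∑ i, (FinCov.proj _ d i ≫ ιm i).app W x = x
      rw [← FinCov.sum_app, FinCov.sum_proj_ι]; rfl
    · show (FinCov.proj _ d j).app W (∑ i, (ιm i).app W (c i)) = c j
      rw [map_sum, Finset.sum_eq_single j]
      · show (ιm j ≫ FinCov.proj _ d j).app W (c j) = c j
        rw [FinCov.ι_proj, if_pos rfl]; rfl
      · intro i _ hi
        show (ιm i ≫ FinCov.proj _ d j).app W (c i) = 0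
        rw [FinCov.ι_proj, if_neg hi]; rfl
      · simp
  have hΦ : ∀ x, Φ.app W x = ∑ i, C x i • (show Γ(M, W) from M.presheaf.map (homOfLE (le_top : W ≤ ⊤)).op (e i)) := by
    intro x
    have hx : x = ∑ i, (FinCov.proj _ d i ≫ ιm i).app W x := by rw [← FinCov.sum_app, FinCov.sum_proj_ι]; rfl
    conv_lhs => rw [hx]
    rw [map_sum]
    refine Finset.sum_congr rfl fun i _ => ?_
    have h1 : Φ.app W ((FinCov.proj _ d i ≫ ιm i).app W x) = (FinCov.homOfSection (e i)).app W (C x i) := by
      show ((FinCov.proj _ d i ≫ ιm i) ≫ Φ).app W x = _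
      simp only [Φ, ιm, Category.assoc, Sigma.ι_desc]
      rfl
    rw [h1, ← FinCov.smul_one W (C x i), Scheme.Modules.Hom.app_smul, FinCov.homOfSection_one]
    congr 1
    exact (FinCov.smul_one W (C x i)).symm
  exact Eq.mpr (congrArg Function.Bijective (funext hΦ)) ((hframe W).comp hC)

variable (k : Type u) [Field k]

/-- The Euler characteristic of a free module. -/
theorem euler_freeMod_structure {X : Scheme.{u}} [X.Over (Spec (CommRingCat.of k))]
    [IsProper (X ↘ Spec (CommRingCat.of k))] (m : ℕ) :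
    Curv2.euler k X (FlatMod.freeMod X m) = m * Curv2.euler k X (Coh.structureModule X) := by
  have := Euler.isNoetherian_of_proper (X := X) k
  have hfree : ∀ r, Coh.IsCoh (FlatMod.freeMod X r) := fun r => Euler.isCoh_of_isFinLocFree fun x =>
    ⟨⊤, r, trivial, ⟨DCoh.restrictFreeModIso _ r⟩⟩
  induction m with
  | zero =>
    have hM := Euler.isZero_freeMod_zero X
    have hs : CohB1.support (FlatMod.freeMod X 0) ⊆ ∅ := fun x hx =>
      hx (ModuleCat.isZero_iff_subsingleton.1 ((OX.stalk x).map_isZero hM))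
    rw [Euler.euler_eq_of_finite_support k _ (Set.finite_empty.subset hs) fun x hx => (hs hx).elim]
    have : Subsingleton Γ(FlatMod.freeMod X 0, ⊤) := subsingleton_of_forall_eq 0 fun s =>
      QCoh.section_eq_zero_of_germ _ s fun x _ =>
        @Subsingleton.elim _ (QCoh.stalk_subsingleton_of_notMem fun h => hs h) _ _
    have : Subsingleton (Coh.HH X (FlatMod.freeMod X 0) 0) := (ProjCoh.H0top _).toEquiv.subsingleton
    simp [Module.finrank_zero_of_subsingleton]
  | succ m ih =>
    let S := ShortComplex.mk (biprod.inl : FlatMod.freeMod X m ⟶ FlatMod.freeMod X m ⊞ FlatMod.freeMod X 1)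
      biprod.snd (by simp)
    have hS : S.ShortExact := (ShortComplex.Splitting.ofHasBinaryBiproduct _ _).shortExact
    have hmid : Coh.IsCoh (FlatMod.freeMod X m ⊞ FlatMod.freeMod X 1) := QCoh.isCoh_biprod' (hfree m) (hfree 1)
    have e1 := Euler.euler_additive k hS (hfree m) hmid (hfree 1)
    rw [Euler.euler_of_iso k (DCoh.freeModBiprodIso X m 1).symm]
    have e3 : Curv2.euler k X (FlatMod.freeMod X 1) = Curv2.euler k X (Coh.structureModule X) :=
      Euler.euler_of_iso k (coproductUniqueIso (fun _ : Fin 1 => Coh.structureModule X))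
    simp only [S] at e1
    push_cast
    linear_combination e1 + ih + e3

/-- **The Euler characteristic is multiplicative in finite étale covers of curves.** -/
theorem euler_structure_of_finite_etale {X Y : Scheme.{u}} [X.Over (Spec (CommRingCat.of k))]
    [Y.Over (Spec (CommRingCat.of k))] [IsProper (Y ↘ Spec (CommRingCat.of k))]
    (hd : topologicalKrullDim Y ≤ 1) (f : X ⟶ Y) [IsFinite f] [Etale f]
    (hf : f ≫ Y ↘ Spec (CommRingCat.of k) = X ↘ Spec (CommRingCat.of k)) {d : ℕ} (hdeg : ∀ y, f.finrank y = d) :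
    Curv2.euler k X (Coh.structureModule X) = d * Curv2.euler k Y (Coh.structureModule Y) := by
  obtain ⟨Z, g, hg, hgd, sec, hsec, hdis⟩ := FEt21.exists_splitting d f (FEt21.prop_of f) hdeg
  haveI := hg.1
  haveI := hg.2
  let P := pullback f g
  let f' : P ⟶ Z := pullback.snd f g
  let g' : P ⟶ X := pullback.fst f g
  haveI : IsFinite f' := inferInstanceAs (IsFinite (pullback.snd f g))
  haveI : Etale f' := inferInstanceAs (Etale (pullback.snd f g))
  have hd' : ∀ z, f'.finrank z = d := fun z => (Scheme.Hom.finrank_pullback_snd f g z).trans (hdeg _)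
  obtain ⟨e, he⟩ := FEt21.exists_iso_of_sections f' d hd' sec hsec hdis
  haveI : ∀ i, IsOpenImmersion (sec i) := fun i => EtBasicB.isOpenImmersion_section f' _ (hsec i)
  have hcov : ∀ p : P, ∃ i, p ∈ Set.range (sec i) := fun p => by
    obtain ⟨i, z, hz⟩ := (sigmaOpenCover (fun _ : Fin d => Z)).exists_eq (e.hom p)
    refine ⟨i, z, ?_⟩
    have hz' : Sigma.ι (fun _ : Fin d => Z) i z = e.hom p := hz
    rw [← he i, Scheme.Hom.comp_apply, hz', ← Scheme.Hom.comp_apply, e.hom_inv_id]
    rfl
  obtain ⟨φ⟩ := nonempty_free_iso_of_sections f' d sec hsec hdis hcov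
  letI : Z.Over (Spec (CommRingCat.of k)) := ⟨g ≫ Y ↘ Spec (CommRingCat.of k)⟩
  haveI : IsProper (Z ↘ Spec (CommRingCat.of k)) :=
    inferInstanceAs (IsProper (g ≫ Y ↘ Spec (CommRingCat.of k)))
  letI : P.Over (Spec (CommRingCat.of k)) := ⟨f' ≫ Z ↘ Spec (CommRingCat.of k)⟩
  have := Euler.isNoetherian_of_proper (X := Y) k
  haveI : IsProper (X ↘ Spec (CommRingCat.of k)) := hf ▸ inferInstance
  have := Euler.isNoetherian_of_proper (X := X) k
  have hOX : Coh.IsCoh (Coh.structureModule X) := Euler.isCoh_of_isInvertible Euler.isInvertible_structure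
  haveI := hOX.1
  haveI : (Coh.structureModule P).IsQuasicoherent := by
    haveI : IsProper (P ↘ Spec (CommRingCat.of k)) := inferInstanceAs (IsProper (f' ≫ Z ↘ Spec (CommRingCat.of k)))
    have := Euler.isNoetherian_of_proper (X := P) k
    exact (Euler.isCoh_of_isInvertible Euler.isInvertible_structure).1
  haveI : (Coh.structureModule Z).IsQuasicoherent := by
    have := Euler.isNoetherian_of_proper (X := Z) k
    exact (Euler.isCoh_of_isInvertible Euler.isInvertible_structure).1
  let A := (Scheme.Modules.pushforward f).obj (Coh.structureModule X)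
  let B := (Scheme.Modules.pushforward g).obj (Coh.structureModule Z)
  have hA : FlatMod.IsFinLocFreeOfRank d A := FEt21.isFinLocFreeOfRank_of_finrank f d hdeg
  have hB : FlatMod.IsFinLocFreeOfRank d.factorial B := FEt21.isFinLocFreeOfRank_of_finrank g _ hgd
  obtain ⟨U, hU, ⟨ψ⟩⟩ := Euler.exists_trivial_genericPoints k hA
  have hAc : Coh.IsCoh A := Euler.isCoh_of_isFinLocFree (FinCov.isFinLocFree_of_rank hA)
  have h1 := Euler.euler_tF k hd hB hAc hU ψ
  haveI := hAc.1
  have hgA : ((Scheme.Modules.pullback g).obj A).IsQuasicoherent := FittSheaf.isQuasicoherent_pullback g A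
  haveI := hgA
  haveI := FlatBC.isIso_bcMap (IsPullback.of_hasPullback f g) (Coh.structureModule X)
  let i1 : (Scheme.Modules.pullback g).obj A ≅
      (Scheme.Modules.pushforward f').obj ((Scheme.Modules.pullback g').obj (Coh.structureModule X)) :=
    asIso (AffBC.bcMap (IsPullback.of_hasPullback f g) (Coh.structureModule X))
  let i2 : (Scheme.Modules.pullback g).obj A ≅ FlatMod.freeMod Z d :=
    i1 ≪≫ (Scheme.Modules.pushforward f').mapIso (OX.pullUnitIso g') ≪≫ φ.symm
  have e2 : Curv2.euler k Z ((Scheme.Modules.pullback g).obj A) = d * Curv2.euler k Z (Coh.structureModule Z) := by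
    rw [Euler.euler_of_iso k i2, euler_freeMod_structure]
  haveI := ProjFormula.isIso_projHom g (FinCov.isFinLocFree_of_rank hA) (Coh.structureModule Z)
  let i3 : (Euler.tF B).obj A ≅ (Scheme.Modules.pushforward g).obj ((Scheme.Modules.pullback g).obj A) :=
    asIso (ProjFormula.projHom g A (Coh.structureModule Z)) ≪≫
      (Scheme.Modules.pushforward g).mapIso (Euler.tFUnitIso ((Scheme.Modules.pullback g).obj A))
  have e3 : Curv2.euler k Y ((Euler.tF B).obj A) = Curv2.euler k Z ((Scheme.Modules.pullback g).obj A) := by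
    rw [Euler.euler_of_iso k i3, Snapper.euler_pushforward g rfl]
  have e4 : Curv2.euler k Y B = Curv2.euler k Z (Coh.structureModule Z) := Snapper.euler_pushforward g rfl _
  have e5 : Curv2.euler k Y A = Curv2.euler k X (Coh.structureModule X) := Snapper.euler_pushforward f hf _
  have h0 : (d.factorial : ℤ) ≠ 0 := by exact_mod_cast d.factorial_ne_zero
  apply mul_left_cancel₀ h0
  simp only [Curv2.deg] at h1
  linear_combination -h1 + e3 + e2 - (d : ℤ) * e4 - (d.factorial : ℤ) * e5

end GrothLib.CurveMult
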