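import Groth.Agent.Lib.CurveMult.Basic
import Groth.Agent.Lib.CurveModel.Pencil
import Groth.Agent.Lib.Ample.Immersion

/-!
# Closed immersions into projective space of integral curves by a complete linear system
-/

set_option linter.style.haveILetI false
set_option backward.isDefEq.respectTransparency false

universe u

open CategoryTheory CategoryTheory.Limits AlgebraicGeometry TopologicalSpace Opposite
open GrothLib.InvExt (mres)
open GrothLib.Ample (Cocycle res ProjMap.sec)

noncomputable section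

namespace GrothLib.CurveMult

variable {X : Scheme.{u}} (k : Type u) [Field k] [X.Over (Spec (CommRingCat.of k))]

/-- A morphism to projective space by sections with affine loci and generating ratios is an immersion. -/
theorem exists_closedImmersion_of_sections [IsProper (X ↘ Spec (CommRingCat.of k))] (c : Cocycle X) {L : X.Modules}
    (e : L ≅ c.twist 1) {N : ℕ} (a : Fin (N + 1) → c.sect 1 ⊤) (hcov : ∀ x : X, ∃ j, x ∈ c.locus (a j))
    (haff : ∀ j, IsAffineOpen (c.locus (a j)))
    (hgen : ∀ j, ∀ b : Γ(X, c.locus (a j)), b ∈ Subring.closure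
      (Set.range (fun r : k => res (le_top : c.locus (a j) ≤ ⊤) (Coh.toGlobal (X ↘ Spec (CommRingCat.of k)) r)) ∪
        {g | ∃ l, g • c.sectRes (le_top : c.locus (a j) ≤ ⊤) (a j) = c.sectRes le_top (a l)})) :
    ∃ i : X ⟶ CohB1.ProjSpace N k, IsClosedImmersion i ∧
      i ≫ CohB1.ProjSpace.toSpec N k = X ↘ Spec (CommRingCat.of k) ∧
      Nonempty ((Scheme.Modules.pullback i).obj (Twist.twistProjSpace N k 1) ≅ L) := by
  let s : Fin (N + 1) → ProjUP.Γm L := fun l => e.inv.app ⊤ (a l)
  have hsec : ∀ l, Ample.ProjMap.sec c e s l = a l := fun l =>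
    congrArg (fun φ : c.twist 1 ⟶ c.twist 1 => φ.app ⊤ (a l)) e.inv_hom_id
  have hs : ⨆ i, c.locus (Ample.ProjMap.sec c e s i) = ⊤ := eq_top_iff.mpr fun x _ => by
    obtain ⟨j, hx⟩ := hcov x
    exact Opens.mem_iSup.mpr ⟨j, by rw [hsec]; exact hx⟩
  let q := X ↘ Spec (CommRingCat.of k)
  let D := Ample.ProjMap.dataOfSections c e s hs q
  obtain ⟨τ, -⟩ := Ample.ProjMap.exists_iso_pullback_map c e s hs q
  have hU : ∀ l, D.U l = c.locus (a l) := fun l => congrArg c.locus (hsec l)
  haveI := Chow.isProper_toSpec N k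
  haveI : IsProper (D.map ≫ CohB1.ProjSpace.toSpec N k) := by rw [D.map_toSpec]; infer_instance
  haveI : IsProper D.map := IsProper.of_comp D.map (CohB1.ProjSpace.toSpec N k)
  let P := CohB1.polyGrading N k
  let Dp : Fin (N + 1) → (CohB1.ProjSpace N k).Opens := fun l => Proj.basicOpen P (MvPolynomial.X l)
  have hpre : ∀ l, D.map ⁻¹ᵁ Dp l = D.U l := fun l => D.map_preimage l
  haveI : IsImmersion D.map := by
    refine Ample.isImmersion_of_affine_pieces D.map Dp
      (fun l => Proj.isAffineOpen_basicOpen P _ (Ample.ProjMap.X_mem l) one_pos)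
      (fun x => by
        obtain ⟨j, hx⟩ := hcov x
        exact ⟨j, show x ∈ D.map ⁻¹ᵁ Dp j by rw [hpre, hU]; exact hx⟩)
      (fun l => by rw [hpre, hU]; exact haff l) fun j => ?_
    have hle : c.locus (a j) ≤ D.map ⁻¹ᵁ Dp j := by rw [hpre, hU]
    suffices h : Function.Surjective (D.map.appLE (Dp j) (c.locus (a j)) hle).hom by
      have key : ∀ (V : X.Opens) (hV : V ≤ D.map ⁻¹ᵁ Dp j), V = c.locus (a j) →
          Function.Surjective (D.map.appLE (Dp j) V hV).hom := by
        rintro _ hV rfl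
        exact h
      exact key _ _ ((hpre j).trans (hU j))
    intro b
    have hb : b ∈ (D.map.appLE (Dp j) (c.locus (a j)) hle).hom.range := by
      refine (Subring.closure_le.mpr ?_) (hgen j b)
      rintro g (⟨r, rfl⟩ | ⟨l, hl⟩)
      · refine ⟨((CohB1.ProjSpace.toSpec N k).appLE ⊤ (Dp j) le_top).hom
          ((Scheme.ΓSpecIso (CommRingCat.of k)).inv r), ?_⟩
        rw [← CommRingCat.comp_apply, Scheme.Hom.appLE_comp_appLE]
        have key : ∀ (φ : X ⟶ Spec (CommRingCat.of k)) (h : c.locus (a j) ≤ φ ⁻¹ᵁ ⊤), φ = q →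
            (φ.appLE ⊤ (c.locus (a j)) h).hom ((Scheme.ΓSpecIso (CommRingCat.of k)).inv r) =
              res (le_top : c.locus (a j) ≤ ⊤) (Coh.toGlobal q r) := by
          rintro _ h rfl
          rfl
        exact key _ _ D.map_toSpec
      · refine ⟨Proj.awayToSection P (MvPolynomial.X j) (Ample.ProjMap.ratio j l), ?_⟩
        rw [D.map_appLE_ratio j l (hU j).ge hle]
        refine c.smul_injective_of_le_locus (a j) le_rfl (Eq.trans ?_ hl.symm)
        have h0 := congrArg (c.sectRes (show c.locus (a j) ≤ c.locus (Ample.ProjMap.sec c e s j) from (hU j).ge))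
          (c.exists_ratio (Ample.ProjMap.sec c e s j) (Ample.ProjMap.sec c e s l)).choose_spec.1
        rw [c.sectRes_smul, c.sectRes_sectRes, c.sectRes_sectRes] at h0
        exact (congrArg (res (hU j).ge (D.φ j l) • ·) (congrArg (c.sectRes le_top) (hsec j).symm)).trans
          (h0.symm.trans (congrArg (c.sectRes le_top) (hsec l)))
    exact hb
  exact ⟨D.map, by
    exact IsClosedImmersion.of_isPreimmersion _ (D.map.isClosedMap.isClosed_range), D.map_toSpec, ⟨τ⟩⟩

variable [IsIntegral X] [IsProper (X ↘ Spec (CommRingCat.of k))] (c : Cocycle X)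

include k in
theorem locus_ne_top (hd : topologicalKrullDim X ≤ 1) (hpos : 0 < Curv2.deg k X (c.twist 1) 1) (u : c.sect 1 ⊤) :
    c.locus u ≠ ⊤ := by
  intro htop
  haveI := c.isIso_hom_of_locus_eq_top u htop
  rw [← Euler.deg_of_iso k (asIso (c.hom u)), Euler.deg_structure k] at hpos
  exact hpos.false

include k in
/-- The affine locus and the ring of functions on it. -/
theorem locus_data (hdim : topologicalKrullDim X = 1) (hpos : 0 < Curv2.deg k X (c.twist 1) 1)
    {N : ℕ} (a : Fin (N + 1) → c.sect 1 ⊤)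
    (hspan : Submodule.span k (Set.range fun l => (ProjCoh.H0top (c.twist 1)).symm (a l)) = ⊤)
    {u : c.sect 1 ⊤} (hu : u ≠ 0) (hs : Function.Surjective (Cohom.hhMap k (seq c u 0).g 0)) :
    IsAffineOpen (c.locus u) ∧ ∀ b : Γ(X, c.locus u), b ∈ Subring.closure
      (Set.range (fun r : k => res (le_top : c.locus u ≤ ⊤) (Coh.toGlobal (X ↘ Spec (CommRingCat.of k)) r)) ∪
        {g | ∃ l, g • c.sectRes (le_top : c.locus u ≤ ⊤) u = c.sectRes le_top (a l)}) := by
  haveI := Euler.isNoetherian_of_proper (X := X) k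
  haveI := Euler.isSeparated_of_proper (X := X) k
  obtain ⟨v, huv⟩ := exists_gen_at_zeros c k hdim.le hu hs
  have hη : genericPoint X ∈ c.locus u := genericPoint_mem (Euler.locus_nonempty_of_ne_zero c hu)
  refine ⟨(CurveModel.isAffineOpen_of_pencil k inferInstance hdim.le c u v (fun y hy => ?_) huv).1, fun b => ?_⟩
  · have hyg : y = genericPoint X := by
      by_contra h
      exact hy (CurvePoints.isClosed_singleton hdim.le h)
    subst hyg
    obtain ⟨x, hx⟩ : ∃ x, x ∉ c.locus u := by
      by_contra h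
      push Not at h
      exact locus_ne_top k c hdim.le hpos u (eq_top_iff.2 fun x _ => h x)
    exact ⟨hη, x, (genericPoint_spec X).specializes trivial, hx⟩
  let U := c.locus u
  let S := Subring.closure
      (Set.range (fun r : k => res (le_top : U ≤ ⊤) (Coh.toGlobal (X ↘ Spec (CommRingCat.of k)) r)) ∪
        {g | ∃ l, g • c.sectRes (le_top : U ≤ ⊤) u = c.sectRes le_top (a l)})
  let uu : ∀ i, Γ(X, U ⊓ c.D i) := fun i => res (inf_le_inf_right (c.D i) (le_top : U ≤ ⊤)) (u.1 i)
  let P : ∀ n, c.sect n ⊤ → Prop := fun n B => ∃ g ∈ S, ∀ i,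
    res (inf_le_inf_right (c.D i) (le_top : U ≤ ⊤)) (B.1 i) = res (inf_le_left : U ⊓ c.D i ≤ U) g * uu i ^ n
  have h1 : ∀ z : Coh.HH X (c.twist 1) 0, P 1 (ProjCoh.H0top (c.twist 1) z) := by
    intro z
    have hz : z ∈ Submodule.span k (Set.range fun l => (ProjCoh.H0top (c.twist 1)).symm (a l)) := hspan ▸ trivial
    induction hz using Submodule.span_induction with
    | mem z hz =>
      obtain ⟨l, rfl⟩ := hz
      rw [AddEquiv.apply_symm_apply]
      obtain ⟨f, hf, -⟩ := c.exists_ratio u (a l)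
      refine ⟨f, Subring.subset_closure (Or.inr ⟨l, hf.symm⟩), fun i => ?_⟩
      have h := congrArg (fun t : c.sect 1 U => t.1 i) hf
      simp only [Cocycle.sectRes_apply, Cocycle.smul_apply] at h
      rw [pow_one]
      exact h
    | zero =>
      refine ⟨0, S.zero_mem, fun i => ?_⟩
      rw [map_zero (ProjCoh.H0top (c.twist 1))]
      show res _ (0 : Γ(X, _)) = _
      rw [map_zero, map_zero, zero_mul]
    | add z z' _ _ hz hz' =>
      obtain ⟨g, hg, hg'⟩ := hz
      obtain ⟨g', hgg, hgg'⟩ := hz'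
      refine ⟨g + g', S.add_mem hg hgg, fun i => ?_⟩
      rw [map_add (ProjCoh.H0top (c.twist 1))]
      show res _ ((show c.sect 1 ⊤ from ProjCoh.H0top (c.twist 1) z).1 i +
        (show c.sect 1 ⊤ from ProjCoh.H0top (c.twist 1) z').1 i) = _
      rw [map_add, hg' i, hgg' i, map_add, add_mul]
    | smul r z _ hz =>
      obtain ⟨g, hg, hg'⟩ := hz
      refine ⟨res (le_top : U ≤ ⊤) (Coh.toGlobal (X ↘ Spec (CommRingCat.of k)) r) * g,
        S.mul_mem (Subring.subset_closure (Or.inl ⟨r, rfl⟩)) hg, fun i => ?_⟩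
      rw [ProjCoh.H0top_smul]
      show res _ (res _ _ * _) = _
      rw [map_mul, hg' i, map_mul, mul_assoc, Ample.res_res, Ample.res_res]
  have hall : ∀ n, ∀ B : c.sect (n + 1) ⊤, P (n + 1) B := by
    intro n
    induction n with
    | zero =>
      intro B
      obtain ⟨z, hz⟩ := (ProjCoh.H0top (c.twist 1)).surjective B
      exact hz ▸ h1 z
    | succ n ih =>
      intro B
      obtain ⟨z, hz⟩ := surjective_succ c k hdim.le hu huv n (surjective_all c k hdim.le hu huv hs n)
        (Cohom.hhMap k (seq c u (n + 1)).g 0 ((ProjCoh.H0top (c.twist (n + 1 + 1))).symm B))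
      have hz' : Cohom.hhMap k (seq c u (n + 1)).g 0
          ((ProjCoh.H0top (c.twist (n + 1 + 1))).symm B - Cohom.hhMap k (T c v (n + 1)) 0 z) = 0 := by
        rw [map_sub, sub_eq_zero]; exact hz.symm
      obtain ⟨w, hw⟩ := (Cohom.exact₂ (A := k) (seq_shortExact c hu (n + 1)) 0 _).1 hz'
      have hB : B = mulFun c u (ProjCoh.H0top (c.twist (n + 1)) w) + mulFun c v (ProjCoh.H0top (c.twist (n + 1)) z) := by
        have h2 := congrArg (ProjCoh.H0top (c.twist (n + 1 + 1))) hw
        rw [map_sub, AddEquiv.apply_symm_apply, eq_sub_iff_add_eq] at h2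
        exact h2.symm.trans (congrArg₂ (· + ·) (ProjCoh.H0top_map _ w) (ProjCoh.H0top_map _ z))
      obtain ⟨g1, hg1, hg1'⟩ := ih (ProjCoh.H0top (c.twist (n + 1)) w)
      obtain ⟨g2, hg2, hg2'⟩ := ih (ProjCoh.H0top (c.twist (n + 1)) z)
      obtain ⟨zv, hzv⟩ := (ProjCoh.H0top (c.twist 1)).surjective v
      obtain ⟨gv, hgv, hgv'⟩ := hzv ▸ h1 zv
      refine ⟨g1 + g2 * gv, S.add_mem hg1 (S.mul_mem hg2 hgv), fun i => ?_⟩
      rw [hB]
      show res _ ((mulFun c u (ProjCoh.H0top (c.twist (n + 1)) w)).1 i +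
        (mulFun c v (ProjCoh.H0top (c.twist (n + 1)) z)).1 i) = _
      simp only [mulFun, map_add, map_mul, Ample.res_res, hg1' i, hg2' i, hgv' i]
      rw [pow_succ _ (n + 1), pow_one]
      ring
  obtain ⟨m, B, hB⟩ := c.exists_extend u b
  obtain ⟨g, hg, hg'⟩ := hall m (mulFun c u (c.sectCast (one_mul m) B))
  convert hg using 1
  refine c.smul_injective_of_le_locus (c.sectPow u (m + 1)) (c.le_locus_sectPow u (m + 1)) (c.sect_ext fun i => ?_)
  have h2 := congrArg (fun t : c.sect (1 * m) U => t.1 i) hB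
  have h3 := hg' i
  simp only [Cocycle.sectRes_apply, Cocycle.smul_apply, Cocycle.sectPow_apply, map_pow, mulFun, map_mul,
    Ample.res_res, Cocycle.sectCast_apply] at h2 h3 ⊢
  rw [← h3, h2, pow_succ, mul_assoc]

include k in
/-- A complete linear system of maximal dimension gives a closed immersion. -/
theorem exists_closedImmersion_of_surjective (hdim : topologicalKrullDim X = 1) {L : X.Modules}
    (e : L ≅ c.twist 1) (hpos : 0 < Curv2.deg k X L 1)
    (hsur : ∀ u : c.sect 1 ⊤, u ≠ 0 → Function.Surjective (Cohom.hhMap k (seq c u 0).g 0))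
    (N : ℕ) (hN : Module.finrank k (Coh.HH X L 0) = N + 1) :
    ∃ i : X ⟶ CohB1.ProjSpace N k, IsClosedImmersion i ∧
      i ≫ CohB1.ProjSpace.toSpec N k = X ↘ Spec (CommRingCat.of k) ∧
      Nonempty ((Scheme.Modules.pullback i).obj (Twist.twistProjSpace N k 1) ≅ L) := by
  haveI := Euler.isNoetherian_of_proper (X := X) k
  haveI := Euler.finiteDimensional_HH k (Euler.isCoh_of_isInvertible (c.isInvertible_twist 1)) 0
  have hN' : Module.finrank k (Coh.HH X (c.twist 1) 0) = N + 1 := by
    rw [← hN]; exact (Euler.hhEquiv (A := k) e 0).finrank_eq.symm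
  have hpos' : 0 < Curv2.deg k X (c.twist 1) 1 := by rw [← Euler.deg_of_iso k e 1]; exact hpos
  let bas := Module.finBasisOfFinrankEq k (Coh.HH X (c.twist 1) 0) hN'
  let a : Fin (N + 1) → c.sect 1 ⊤ := fun l => ProjCoh.H0top (c.twist 1) (bas l)
  have ha0 : ∀ l, a l ≠ 0 := fun l h => bas.ne_zero l ((ProjCoh.H0top (c.twist 1)).injective
    (h.trans (map_zero (ProjCoh.H0top (c.twist 1))).symm))
  have hspan : Submodule.span k (Set.range fun l => (ProjCoh.H0top (c.twist 1)).symm (a l)) = ⊤ := by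
    rw [← bas.span_eq]
    congr 2
    exact funext fun l => (ProjCoh.H0top (c.twist 1)).symm_apply_apply _
  have hcov : ∀ x : X, ∃ j, x ∈ c.locus (a j) := by
    intro x
    by_contra h
    push Not at h
    obtain ⟨v, huv⟩ := exists_gen_at_zeros c k hdim.le (ha0 0) (hsur _ (ha0 0))
    obtain ⟨i, hi⟩ := c.exists_mem x
    have hxv : x ∈ c.locus v := ((huv ▸ Opens.mem_top x : x ∈ c.locus (a 0) ⊔ c.locus v)).resolve_left (h 0)
    obtain ⟨zv, hzv⟩ := (ProjCoh.H0top (c.twist 1)).surjective v
    have hx1 : x ∈ (⊤ ⊓ c.D i : X.Opens) := ⟨trivial, hi⟩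
    have hall : ∀ z : Coh.HH X (c.twist 1) 0, x ∉ c.locus (ProjCoh.H0top (c.twist 1) z : c.sect 1 ⊤) := by
      intro z
      have hz : z ∈ Submodule.span k (Set.range fun l => (ProjCoh.H0top (c.twist 1)).symm (a l)) := hspan ▸ trivial
      induction hz using Submodule.span_induction with
      | mem z hz =>
        obtain ⟨l, rfl⟩ := hz
        rw [AddEquiv.apply_symm_apply]
        exact h l
      | zero =>
        rw [map_zero (ProjCoh.H0top (c.twist 1)), c.mem_locus_iff _ hi, Scheme.mem_basicOpen X _ x hx1]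
        show ¬ IsUnit (X.presheaf.germ _ x _ (0 : Γ(X, _)))
        rw [map_zero]
        exact not_isUnit_zero
      | add z z' _ _ hz hz' =>
        rw [c.mem_locus_iff _ hi, Scheme.mem_basicOpen X _ x hx1] at hz hz' ⊢
        rw [map_add (ProjCoh.H0top (c.twist 1))]
        show ¬ IsUnit (X.presheaf.germ _ x _ ((show c.sect 1 ⊤ from ProjCoh.H0top (c.twist 1) z).1 i +
          (show c.sect 1 ⊤ from ProjCoh.H0top (c.twist 1) z').1 i))
        rw [map_add]
        exact fun hu => (IsLocalRing.isUnit_or_isUnit_of_isUnit_add hu).elim hz hz'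
      | smul r z _ hz =>
        rw [c.mem_locus_iff _ hi, Scheme.mem_basicOpen X _ x hx1] at hz ⊢
        rw [ProjCoh.H0top_smul]
        show ¬ IsUnit (X.presheaf.germ _ x _ (_ * _))
        rw [map_mul]
        exact fun hu => hz (isUnit_of_mul_isUnit_right hu)
    exact hall zv (hzv ▸ hxv)
  exact exists_closedImmersion_of_sections k c e a hcov
    (fun j => (locus_data k c hdim hpos' a hspan (ha0 j) (hsur _ (ha0 j))).1)
    (fun j => (locus_data k c hdim hpos' a hspan (ha0 j) (hsur _ (ha0 j))).2)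

end GrothLib.CurveMult
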