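import Groth.Agent.Lib.CurveMult.SepCurve
import Groth.Agent.Lib.Ample.CocPullback
import Groth.Agent.Lib.BCCoh.FlatBC
import Mathlib.RingTheory.Flat.FaithfullyFlat.Basic

/-!
# Very ampleness tested after extension of the base field
-/

set_option linter.style.haveILetI false
set_option backward.isDefEq.respectTransparency false

universe u

open CategoryTheory CategoryTheory.Limits AlgebraicGeometry TopologicalSpace Opposite
open GrothLib.Ample (Cocycle res)
open scoped TensorProduct

noncomputable section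

namespace GrothLib.CurveMult

/-- A subalgebra with finite complement separating points and tangent vectors after extension to an
algebraically closed field is everything. -/
theorem eq_top_of_separates_baseChange (k K : Type u) [Field k] [Field K] [Algebra k K] [IsAlgClosed K]
    {B : Type u} [CommRing B] [Algebra k B] [Algebra.FiniteType k B] (S : Subalgebra k B) [Module.Finite S B]
    (hsep : ∀ J : Ideal (K ⊗[k] B), Module.Finite K ((K ⊗[k] B) ⧸ J) →
      Module.finrank K ((K ⊗[k] B) ⧸ J) ≤ 2 → ∀ b : K ⊗[k] B,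
        ∃ g ∈ (Algebra.TensorProduct.map (AlgHom.id K K) S.val).range, b - g ∈ J) :
    S = ⊤ := by
  classical
  let F : (K ⊗[k] S) →ₐ[K] (K ⊗[k] B) := Algebra.TensorProduct.map (AlgHom.id K K) S.val
  obtain ⟨s, hs⟩ := (inferInstance : Module.Finite S B).fg_top
  haveI : Algebra.FiniteType K (K ⊗[k] B) := inferInstance
  haveI : Module.Finite F.range (K ⊗[k] B) := by
    let N : Submodule F.range (K ⊗[k] B) :=
      Submodule.span F.range ((fun b => (1 : K) ⊗ₜ[k] b) '' (s : Set B))
    refine ⟨⟨s.image fun b => (1 : K) ⊗ₜ[k] b, ?_⟩⟩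
    rw [Finset.coe_image]
    show N = ⊤
    have h1 : ∀ b : B, (1 : K) ⊗ₜ[k] b ∈ N := by
      intro b
      have hb : b ∈ Submodule.span S (s : Set B) := hs ▸ trivial
      induction hb using Submodule.span_induction with
      | mem b hb => exact Submodule.subset_span ⟨b, hb, rfl⟩
      | zero => rw [TensorProduct.tmul_zero]; exact N.zero_mem
      | add b b' _ _ hb hb' => rw [TensorProduct.tmul_add]; exact N.add_mem hb hb'
      | smul t b _ hb =>
        have ht : (1 : K) ⊗ₜ[k] (t : B) ∈ F.range := ⟨1 ⊗ₜ t, by simp [F]⟩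
        have h2 := N.smul_mem (⟨_, ht⟩ : F.range) hb
        rw [Subalgebra.smul_def, smul_eq_mul, Algebra.TensorProduct.tmul_mul_tmul, one_mul] at h2
        rw [Subalgebra.smul_def, smul_eq_mul]
        exact h2
    refine eq_top_iff.2 fun z _ => ?_
    induction z using TensorProduct.induction_on with
    | zero => exact N.zero_mem
    | add x y hx hy => exact N.add_mem (hx trivial) (hy trivial)
    | tmul a b =>
      have ha : a ⊗ₜ[k] (1 : B) ∈ F.range := ⟨a ⊗ₜ 1, by simp [F]⟩
      have h2 := N.smul_mem (⟨_, ha⟩ : F.range) (h1 b)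
      rw [Subalgebra.smul_def, smul_eq_mul, Algebra.TensorProduct.tmul_mul_tmul, one_mul, mul_one] at h2
      exact h2
  have htop : F.range = ⊤ := eq_top_of_separates K (S := F.range) hsep
  have hsurj : Function.Surjective (S.val.toLinearMap.lTensor K) := by
    intro z
    obtain ⟨w, hw⟩ : z ∈ F.range := htop ▸ Algebra.mem_top
    refine ⟨w, ?_⟩
    rw [← hw]
    exact congrFun (congrArg DFunLike.coe (TensorProduct.ext' fun x y => rfl :
      S.val.toLinearMap.lTensor K = (F.restrictScalars k).toLinearMap)) w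
  have h3 := (Module.FaithfullyFlat.lTensor_surjective_iff_surjective k K _).1 hsurj
  refine Algebra.eq_top_iff.2 fun b => ?_
  obtain ⟨t, rfl⟩ := h3 b
  exact t.2

variable {X X' : Scheme.{u}} (k K : Type u) [Field k] [Field K] [Algebra k K]
  [X.Over (Spec (CommRingCat.of k))] [X'.Over (Spec (CommRingCat.of K))]
  (g : X' ⟶ X) (H : IsPullback g (X' ↘ Spec (CommRingCat.of K)) (X ↘ Spec (CommRingCat.of k))
    (Spec.map (CommRingCat.ofHom (algebraMap k K))))

include H in
/-- The functions on the preimage of an affine open. -/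
theorem exists_tensor_equiv {V : X.Opens} (hV : IsAffineOpen V) :
    letI := (locHom k V).toAlgebra
    letI := (locHom K (g ⁻¹ᵁ V)).toAlgebra
    ∃ e : K ⊗[k] Γ(X, V) ≃ₐ[K] Γ(X', g ⁻¹ᵁ V),
      ∀ f : Γ(X, V), e (1 ⊗ₜ f) = (g.appLE V (g ⁻¹ᵁ V) le_rfl).hom f := by
  let f := X ↘ Spec (CommRingCat.of k)
  let f' := X' ↘ Spec (CommRingCat.of K)
  let φ := algebraMap k K
  let S := Γ(X, V)
  let S' := Γ(X', g ⁻¹ᵁ V)
  letI : Algebra k S := (locHom k V).toAlgebra
  letI : Algebra K S' := (locHom K (g ⁻¹ᵁ V)).toAlgebra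
  letI : Algebra S S' := (g.appLE V (g ⁻¹ᵁ V) le_rfl).hom.toAlgebra
  letI : Algebra k S' := ((locHom K (g ⁻¹ᵁ V)).comp φ).toAlgebra
  haveI : IsScalarTower k K S' := IsScalarTower.of_algebraMap_eq fun _ => rfl
  haveI : IsScalarTower k S S' := IsScalarTower.of_algebraMap_eq fun a =>
    (BCCoh.appLE_psiS φ f f' g H V (g ⁻¹ᵁ V) le_rfl a).symm
  have hP : IsPushout (f.appLE ⊤ V le_top) ((Spec.map (CommRingCat.ofHom φ)).appLE ⊤ ⊤ le_top)
      (g.appLE V (g ⁻¹ᵁ V) le_rfl) (f'.appLE ⊤ (g ⁻¹ᵁ V) le_top) :=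
    (AlgebraicGeometry.isIso_pushoutSection_iff H (US := ⊤) (UT := ⊤) (UX := V) (UY := g ⁻¹ᵁ V)
      le_top le_top (by simp)).1
      (AlgebraicGeometry.isIso_pushoutSection_of_isAffineOpen H le_top le_top (by simp)
        (isAffineOpen_top _) (isAffineOpen_top _) hV)
  have hP' : IsPushout (CommRingCat.ofHom (algebraMap k K)) (CommRingCat.ofHom (algebraMap k S))
      (CommRingCat.ofHom (algebraMap K S')) (CommRingCat.ofHom (algebraMap S S')) := by
    refine hP.flip.of_iso (Scheme.ΓSpecIso (CommRingCat.of k)) (Scheme.ΓSpecIso (CommRingCat.of K))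
      (Iso.refl _) (Iso.refl _) ?_ ?_ ?_ ?_
    · have e1 : (Spec.map (CommRingCat.ofHom φ)).appLE ⊤ ⊤ le_top = (Spec.map (CommRingCat.ofHom φ)).appTop :=
        Scheme.Hom.appLE_eq_app _
      rw [e1]
      exact Scheme.ΓSpecIso_naturality (CommRingCat.ofHom φ)
    · rw [← Iso.inv_comp_eq]
      rfl
    · rw [← Iso.inv_comp_eq]
      rfl
    · rw [Iso.refl_hom, Iso.refl_hom, Category.comp_id]
      exact (Category.id_comp _).symm
  haveI hpush : Algebra.IsPushout k K S S' := CommRingCat.isPushout_iff_isPushout.1 hP'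
  let e := Algebra.IsPushout.equiv k K S S'
  exact ⟨e, fun x => (Algebra.IsPushout.equiv_tmul k K S S' 1 x).trans (by rw [map_one, one_mul]; rfl)⟩

variable [IsIntegral X] [IsProper (X ↘ Spec (CommRingCat.of k))]
  [IsIntegral X'] [IsProper (X' ↘ Spec (CommRingCat.of K))]

theorem pullSect_smul' (c : Cocycle X) {U : X.Opens} {V : X'.Opens} (h : V ≤ g ⁻¹ᵁ U)
    (r : Γ(X, U)) (a : c.sect 1 U) :
    c.pullSect g h (r • a) = (g.appLE U V h).hom r • c.pullSect g h a := by
  refine (c.comap g).sect_ext fun i => ?_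
  rw [c.pullSect_apply, c.smul_apply, Cocycle.smul_apply, c.pullSect_apply, map_mul, Ample.appLE_res,
    Ample.res_appLE]
  rfl

theorem sectRes_pullSect (c : Cocycle X) {U : X.Opens} (a : c.sect 1 ⊤) :
    (c.comap g).sectRes (le_top : g ⁻¹ᵁ U ≤ ⊤) (c.pullSect g (le_top : (⊤ : X'.Opens) ≤ g ⁻¹ᵁ ⊤) a) =
      c.pullSect g (le_refl (g ⁻¹ᵁ U)) (c.sectRes (le_top : U ≤ ⊤) a) := by
  refine (c.comap g).sect_ext fun i => ?_
  rw [Cocycle.sectRes_apply, c.pullSect_apply, c.pullSect_apply, c.sectRes_apply, Ample.appLE_res]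
  exact Ample.res_appLE g _ _ _

include H in
/-- Very ampleness of a module whose extension to an algebraically closed field has the bound. -/
theorem exists_closedImmersion_of_baseChange_bound [IsAlgClosed K] [Surjective g]
    (hd : topologicalKrullDim X ≤ 1) (hd' : topologicalKrullDim X' ≤ 1) (c : Cocycle X) {L : X.Modules}
    (eL : L ≅ c.twist 1) (hpos : 0 < Curv2.deg k X L 1)
    {N : ℕ} (hN : Module.finrank k (Coh.HH X (c.twist 1) 0) = N + 1)
    (hN' : Module.finrank K (Coh.HH X' ((c.comap g).twist 1) 0) = N + 1)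
    (hb : ∀ Z : X'.IdealSheafData, topologicalKrullDim (Z.support : Set X') ≤ 0 →
      Module.finrank K (Coh.HH X' (ClSub.quotMod Z) 0) ≤ 2 →
      Module.finrank K (Coh.HH X' (CohB1.tensorMod (ClSub.idealMod Z) ((c.comap g).twist 1)) 0) +
        Module.finrank K (Coh.HH X' (ClSub.quotMod Z) 0) ≤ Module.finrank K (Coh.HH X' ((c.comap g).twist 1) 0)) :
    ∃ (n : ℕ) (i : X ⟶ CohB1.ProjSpace n k), IsClosedImmersion i ∧
      i ≫ CohB1.ProjSpace.toSpec n k = X ↘ Spec (CommRingCat.of k) ∧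
      Nonempty ((Scheme.Modules.pullback i).obj (Twist.twistProjSpace n k 1) ≅ L) := by
  classical
  haveI := Euler.isNoetherian_of_proper (X := X) k
  haveI := Euler.isNoetherian_of_proper (X := X') K
  haveI := Euler.finiteDimensional_HH k (Euler.isCoh_of_isInvertible (c.isInvertible_twist 1)) 0
  let bas := Module.finBasisOfFinrankEq k (Coh.HH X (c.twist 1) 0) hN
  let a : Fin (N + 1) → c.sect 1 ⊤ := fun l => ProjCoh.H0top (c.twist 1) (bas l)
  let c' := c.comap g
  let a' : Fin (N + 1) → c'.sect 1 ⊤ := fun l => c.pullSect g (le_top : (⊤ : X'.Opens) ≤ g ⁻¹ᵁ ⊤) (a l)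
  let z' : Fin (N + 1) → Coh.HH X' (c'.twist 1) 0 := fun l => (ProjCoh.H0top (c'.twist 1)).symm (a' l)
  obtain ⟨i, hi⟩ := c.exists_mem (genericPoint X)
  obtain ⟨V, hV, hηV, hVi⟩ := exists_isAffineOpen_mem_and_subset (x := genericPoint X) (U := c.D i) hi
  letI := (locHom k V).toAlgebra
  letI := (locHom K (g ⁻¹ᵁ V)).toAlgebra
  obtain ⟨eV, heV⟩ := exists_tensor_equiv k K g H hV
  let π : Coh.HH X (c.twist 1) 0 →ₗ[k] Γ(X, V) :=
    { toFun := fun z => res (le_inf le_top hVi : V ≤ ⊤ ⊓ c.D i)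
        ((show c.sect 1 ⊤ from ProjCoh.H0top (c.twist 1) z).1 i)
      map_add' := fun z w => by
        rw [map_add (ProjCoh.H0top (c.twist 1))]
        exact map_add (res (le_inf le_top hVi : V ≤ ⊤ ⊓ c.D i)) _ _
      map_smul' := fun r z => by
        rw [ProjCoh.H0top_smul, RingHom.id_apply, Algebra.smul_def]
        show res _ (res _ _ * _) = _
        rw [map_mul, Ample.res_res]
        rfl }
  have hπ : Function.Injective π := by
    refine (injective_iff_map_eq_zero _).2 fun z hz => ?_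
    by_contra hz0
    have hη : genericPoint X ∈ c.locus (ProjCoh.H0top (c.twist 1) z : c.sect 1 ⊤) :=
      genericPoint_mem (Euler.locus_nonempty_of_ne_zero c fun h =>
        hz0 ((ProjCoh.H0top (c.twist 1)).injective (h.trans (map_zero (ProjCoh.H0top (c.twist 1))).symm)))
    rw [c.mem_locus_iff _ hi] at hη
    have h : genericPoint X ∈ V ⊓ X.basicOpen ((show c.sect 1 ⊤ from ProjCoh.H0top (c.twist 1) z).1 i) :=
      ⟨hηV, hη⟩
    rw [← Scheme.basicOpen_res _ _ (homOfLE (le_inf le_top hVi : V ≤ ⊤ ⊓ c.D i)).op] at h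
    rw [show X.presheaf.map (homOfLE (le_inf le_top hVi : V ≤ ⊤ ⊓ c.D i)).op
      ((show c.sect 1 ⊤ from ProjCoh.H0top (c.twist 1) z).1 i) = 0 from hz, Scheme.basicOpen_zero] at h
    exact h
  have hli : LinearIndependent K z' := by
    rw [Fintype.linearIndependent_iff]
    intro lam hlam
    have hsum : ∀ (t : Finset (Fin (N + 1))), res (le_inf le_top (g.preimage_mono hVi) : g ⁻¹ᵁ V ≤ ⊤ ⊓ c'.D i)
        ((show c'.sect 1 ⊤ from ProjCoh.H0top (c'.twist 1) (∑ l ∈ t, lam l • z' l)).1 i) =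
          eV (∑ l ∈ t, lam l ⊗ₜ π (bas l)) := by
      intro t
      induction t using Finset.induction_on with
      | empty =>
        rw [Finset.sum_empty, Finset.sum_empty, map_zero eV, map_zero (ProjCoh.H0top (c'.twist 1))]
        exact map_zero (res _)
      | insert l t hl ih =>
        rw [Finset.sum_insert hl, Finset.sum_insert hl, map_add (ProjCoh.H0top (c'.twist 1)), map_add eV]
        refine (map_add (res _) _ _).trans (congrArg₂ (· + ·) ?_ ih)
        rw [ProjCoh.H0top_smul, AddEquiv.apply_symm_apply]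
        show res _ (res _ _ * (c.pullSect g _ (a l)).1 i) = _
        rw [map_mul, Ample.res_res, show lam l ⊗ₜ[k] π (bas l) = algebraMap K (K ⊗[k] Γ(X, V)) (lam l) *
          (1 ⊗ₜ π (bas l)) by simp [Algebra.TensorProduct.algebraMap_apply], map_mul, AlgEquiv.commutes, heV]
        refine congrArg₂ (· * ·) rfl ?_
        rw [c.pullSect_apply]
        exact (Ample.res_appLE g _ _ _).trans (Ample.appLE_res g _ _ _).symm
    have h0 : ∑ l, lam l ⊗ₜ[k] π (bas l) = 0 := eV.injective (by
      rw [← hsum, hlam, map_zero eV, map_zero (ProjCoh.H0top (c'.twist 1))]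
      exact map_zero (res _))
    have h1 : ∑ l, lam l ⊗ₜ[k] bas l = 0 :=
      (Module.Flat.lTensor_preserves_injective_linearMap (M := K) π hπ) (by
        rw [map_sum, map_zero]
        exact h0)
    intro l
    have h2 := congrArg (fun t => (bas.baseChange K).repr t l) h1
    simpa [map_sum, Finsupp.single_apply] using h2
  have hspan : Submodule.span K (Set.range z') = ⊤ := by
    haveI := Euler.finiteDimensional_HH K (Euler.isCoh_of_isInvertible (c'.isInvertible_twist 1)) 0
    exact hli.span_eq_top_of_card_eq_finrank (by rw [Fintype.card_fin]; exact hN'.symm)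
  obtain ⟨hcov', hsep'⟩ := separating_of_bound K hd' c' hb z' hspan a' fun l =>
    ((ProjCoh.H0top (c'.twist 1)).apply_symm_apply _).symm
  have hloc : ∀ l, c'.locus (a' l) = g ⁻¹ᵁ c.locus (a l) := fun l => c.locus_pullSect g (a l)
  have hcov : ∀ x : X, ∃ j, x ∈ c.locus (a j) := by
    intro x
    obtain ⟨x', rfl⟩ := g.surjective x
    obtain ⟨j, hj⟩ := hcov' x'
    rw [hloc] at hj
    exact ⟨j, hj⟩
  have hpos' : 0 < Curv2.deg k X (c.twist 1) 1 := by rw [← Euler.deg_of_iso k eL 1]; exact hpos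
  have haff := isAffineOpen_locus_of_cover k hd c hpos' a hcov
  haveI : IsAffineHom g := BCCoh.isAffineHom_bc _ _ _ g H
  refine ⟨N, exists_closedImmersion_of_sections k c eL a hcov haff fun j b => ?_⟩
  let U := c.locus (a j)
  letI := (locHom k U).toAlgebra
  letI := (locHom K (g ⁻¹ᵁ U)).toAlgebra
  haveI : Algebra.FiniteType k Γ(X, U) := finiteType_locHom k (haff j)
  haveI := finite_ratioAlg k c eL a hcov haff j
  obtain ⟨eU, heU⟩ := exists_tensor_equiv k K g H (haff j)
  let u := c.sectRes (le_top : U ≤ ⊤) (a j)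
  let S := ratioAlg k c a j
  let F : (K ⊗[k] S) →ₐ[K] (K ⊗[k] Γ(X, U)) := Algebra.TensorProduct.map (AlgHom.id K K) S.val
  have key : ∀ (W : X'.Opens), W = g ⁻¹ᵁ U → IsAffineOpen W →
      (letI := (locHom K W).toAlgebra
      ∀ J : Ideal Γ(X', W), Module.Finite K (Γ(X', W) ⧸ J) →
        Module.finrank K (Γ(X', W) ⧸ J) ≤ 2 → ∀ b : Γ(X', W),
          ∃ g' ∈ Subring.closure (Set.range (locHom K W) ∪
            {g' | ∃ l, g' • c'.sectRes (le_top : W ≤ ⊤) (a' j) = c'.sectRes le_top (a' l)}), b - g' ∈ J) →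
      S = ⊤ := by
    rintro W rfl hW h
    refine eq_top_of_separates_baseChange k K S fun J hJ hJ2 b => ?_
    let J' := Ideal.map (eU : K ⊗[k] Γ(X, U) →+* Γ(X', g ⁻¹ᵁ U)) J
    let eJ : ((K ⊗[k] Γ(X, U)) ⧸ J) ≃ₐ[K] (Γ(X', g ⁻¹ᵁ U) ⧸ J') := Ideal.quotientEquivAlg J J' eU rfl
    haveI := hJ
    obtain ⟨g', hg', hgJ⟩ := h J' (Module.Finite.equiv eJ.toLinearEquiv)
      (eJ.toLinearEquiv.finrank_eq.symm.trans_le hJ2) (eU b)
    refine ⟨eU.symm g', ?_, ?_⟩
    · refine (Subring.closure_le (t := F.range.toSubring.comap eU.symm.toRingHom)).2 ?_ hg'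
      rintro g'' (⟨r, rfl⟩ | ⟨l, hl⟩)
      · show eU.symm (algebraMap K Γ(X', g ⁻¹ᵁ U) r) ∈ F.range
        rw [AlgEquiv.commutes]
        exact Subalgebra.algebraMap_mem _ r
      · obtain ⟨f, hf, -⟩ := c.exists_ratio (a j) (a l)
        have h1 : (g.appLE U (g ⁻¹ᵁ U) le_rfl).hom f • c'.sectRes (le_top : g ⁻¹ᵁ U ≤ ⊤) (a' j) =
            c'.sectRes le_top (a' l) := by
          rw [sectRes_pullSect g c, sectRes_pullSect g c, ← pullSect_smul' g c, ← hf]
        have h2 : g'' = eU (1 ⊗ₜ f) := by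
          rw [heU]
          exact c'.smul_injective_of_le_locus (a' j) (hloc j).ge (hl.trans h1.symm)
        refine ⟨1 ⊗ₜ ⟨f, Subring.subset_closure (Or.inr ⟨l, hf.symm⟩)⟩, ?_⟩
        rw [h2]
        exact (eU.symm_apply_apply _).symm
    · obtain ⟨t, ht, ht'⟩ := (Ideal.mem_map_iff_of_surjective _ eU.surjective).1 hgJ
      have : b - eU.symm g' = t := eU.injective (by rw [map_sub, AlgEquiv.apply_symm_apply]; exact ht'.symm)
      rw [this]
      exact ht
  have hW : IsAffineOpen (c'.locus (a' j)) := by rw [hloc]; exact (haff j).preimage g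
  exact show b ∈ S from (key _ (hloc j) hW (hsep' j hW)) ▸ Algebra.mem_top

end GrothLib.CurveMult
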