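import Groth.Agent.Lib.FEt21.Affine
import Mathlib.RingTheory.Etale.Field
import Mathlib.RingTheory.Etale.Locus
import Mathlib.RingTheory.Algebraic.Integral

/-!
# Generic degree and generic étaleness of finite flat covers of integral schemes
-/

set_option linter.style.haveILetI false
set_option backward.isDefEq.respectTransparency false

universe u

open CategoryTheory CategoryTheory.Limits AlgebraicGeometry TopologicalSpace Opposite

noncomputable section

namespace GrothLib.CurveMult

theorem rankAtStalk_bot (A B : Type u) [CommRing A] [IsDomain A] [AddCommGroup B] [Module A B] :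
    Module.rankAtStalk B (⟨⊥, Ideal.isPrime_bot⟩ : PrimeSpectrum A) = Module.finrank A B := by
  let p : Ideal A := ⊥
  haveI : p.IsPrime := Ideal.isPrime_bot
  have hp : p.primeCompl ≤ nonZeroDivisors A := fun x hx =>
    mem_nonZeroDivisors_of_ne_zero fun h => hx (h ▸ Ideal.mem_bot.2 rfl)
  show Module.finrank (Localization.AtPrime p) (LocalizedModule p.primeCompl B) = _
  unfold Module.finrank
  rw [IsLocalization.rank_eq (Localization.AtPrime p) p.primeCompl hp,
    ← Cardinal.lift_id (Module.rank A (LocalizedModule p.primeCompl B)),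
    IsLocalizedModule.lift_rank_eq p.primeCompl (LocalizedModule.mkLinearMap p.primeCompl B) hp, Cardinal.lift_id]

variable {X Y : Scheme.{u}}

/-- The residue field at the generic point is the fraction field of an affine open. -/
theorem isFractionRing_residueField [IsIntegral Y] {U : Y.Opens} (hU : IsAffineOpen U) (y : Y) (hy : y ∈ U)
    (hgen : y = genericPoint Y) :
    letI := ((Y.residue y).hom.comp (Y.presheaf.germ U y hy).hom).toAlgebra
    IsFractionRing Γ(Y, U) (Y.residueField y) := by
  subst hgen
  haveI : Nonempty U := ⟨⟨_, hy⟩⟩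
  haveI := functionField_isFractionRing_of_isAffineOpen Y U hU
  letI := ((Y.residue (genericPoint Y)).hom.comp (Y.presheaf.germ U (genericPoint Y) hy).hom).toAlgebra
  let e : Y.functionField ≃ₐ[Γ(Y, U)] Y.residueField (genericPoint Y) :=
    AlgEquiv.ofRingEquiv (f := RingEquiv.ofBijective (Y.residue (genericPoint Y)).hom
      ⟨RingHom.injective (R := Y.functionField) _, Y.residue_surjective _⟩) fun a => rfl
  exact IsLocalization.isLocalization_of_algEquiv (nonZeroDivisors _) e

/-- The degree of a finite flat cover is its residue degree at the generic point, and it is generically étale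
when that extension is separable. -/
theorem generic_finite_flat [IsIntegral X] [IsIntegral Y] (f : X ⟶ Y) [IsFinite f] [Flat f]
    [LocallyOfFinitePresentation f] (hξ : f (genericPoint X) = genericPoint Y) :
    (∀ y : Y, f.finrank y = f.residueDegree (genericPoint X)) ∧
      ((letI := (f.residueFieldMap (genericPoint X)).hom.toAlgebra
        Algebra.IsSeparable (Y.residueField (f (genericPoint X))) (X.residueField (genericPoint X))) →
        ∃ V : X.Opens, (V : Set X).Nonempty ∧ Etale (V.ι ≫ f)) := by
  classical
  obtain ⟨_, ⟨U, hU, rfl⟩, hyU, -⟩ :=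
    Y.isBasis_affineOpens.exists_subset_of_mem_open (Set.mem_univ (f (genericPoint X))) isOpen_univ
  let V₀ := f ⁻¹ᵁ U
  have hV₀ : IsAffineOpen V₀ := hU.preimage f
  have hηV : genericPoint X ∈ V₀ := hyU
  let A := Γ(Y, U)
  let B := Γ(X, V₀)
  let K := Y.residueField (f (genericPoint X))
  let L := X.residueField (genericPoint X)
  letI : Algebra A B := (f.app U).hom.toAlgebra
  letI : Algebra A K := ((Y.residue _).hom.comp (Y.presheaf.germ U _ hyU).hom).toAlgebra
  letI : Algebra B L := ((X.residue _).hom.comp (X.presheaf.germ V₀ _ hηV).hom).toAlgebra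
  haveI : IsFractionRing A K := isFractionRing_residueField hU _ hyU hξ
  haveI : IsFractionRing B L := isFractionRing_residueField hV₀ _ hηV rfl
  letI : Algebra K L := (f.residueFieldMap (genericPoint X)).hom.toAlgebra
  letI : Algebra A L := ((algebraMap B L).comp (algebraMap A B)).toAlgebra
  haveI : IsScalarTower A B L := .of_algebraMap_eq' rfl
  haveI : IsScalarTower A K L := .of_algebraMap_eq fun a => by
    show (X.residue _).hom ((X.presheaf.germ V₀ _ hηV).hom ((f.app U).hom a)) =
      (f.residueFieldMap _).hom ((Y.residue _).hom ((Y.presheaf.germ U _ hyU).hom a))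
    rw [show (f.residueFieldMap (genericPoint X)).hom ((Y.residue _).hom ((Y.presheaf.germ U _ hyU).hom a)) =
      (X.residue _).hom ((f.stalkMap (genericPoint X)).hom ((Y.presheaf.germ U _ hyU).hom a)) from
      congrArg (fun χ => χ.hom ((Y.presheaf.germ U _ hyU).hom a)) (Scheme.residue_residueFieldMap f (genericPoint X))]
    exact congrArg _ (congrArg (fun χ => χ.hom a) (f.germ_stalkMap U _ hyU)).symm
  haveI : Nonempty U := ⟨⟨_, hyU⟩⟩
  haveI : Nonempty V₀ := ⟨⟨_, hηV⟩⟩
  haveI : Module.Finite A B := f.finite_app U hU
  haveI : Algebra.FinitePresentation A B := by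
    have := HasRingHomProperty.appLE @LocallyOfFinitePresentation f inferInstance ⟨U, hU⟩ ⟨_, hV₀⟩ le_rfl
    rw [Scheme.Hom.appLE_eq_app] at this
    exact this
  haveI : Module.Flat A B := by
    have := HasRingHomProperty.appLE @Flat f inferInstance ⟨U, hU⟩ ⟨_, hV₀⟩ le_rfl
    rw [Scheme.Hom.appLE_eq_app] at this
    exact this
  have hinj : Function.Injective (algebraMap A B) := fun a b hab => by
    have h1 := congrArg (algebraMap B L) hab
    rw [← IsScalarTower.algebraMap_apply, ← IsScalarTower.algebraMap_apply,
      IsScalarTower.algebraMap_apply A K L, IsScalarTower.algebraMap_apply A K L] at h1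
    exact IsFractionRing.injective A K ((algebraMap K L).injective h1)
  haveI : FaithfulSMul A B := (faithfulSMul_iff_algebraMap_injective A B).2 hinj
  refine ⟨fun y => ?_, fun hsep => ?_⟩
  · let p : PrimeSpectrum A := ⟨⊥, Ideal.isPrime_bot⟩
    rw [f.isLocallyConstant_finrank.apply_eq_of_preconnectedSpace y (hU.fromSpec p),
      ← Scheme.Hom.finrank_of_isPullback _ _ _ _ (GrothLib.FEt21.isPullback_app f hU) p]
    refine (Scheme.Hom.finrank_SpecMap_algebraMap A B p).trans ((rankAtStalk_bot A B).trans ?_)
    exact (IsFractionRing.finrank_eq A K B L).symm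
  · haveI : Algebra.IsSeparable K L := hsep
    let q : Ideal B := ⊥
    haveI : q.IsPrime := Ideal.isPrime_bot
    haveI : Algebra.FormallyEtale A K := Algebra.FormallyEtale.of_isLocalization (nonZeroDivisors A)
    haveI : Algebra.EssFiniteType B L := Algebra.EssFiniteType.of_isLocalization L (nonZeroDivisors B)
    haveI : Algebra.EssFiniteType A L := Algebra.EssFiniteType.comp A B L
    haveI : Algebra.EssFiniteType K L := Algebra.EssFiniteType.of_comp A K L
    haveI : Algebra.FormallyEtale K L := Algebra.FormallyEtale.of_isSeparable K L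
    haveI : Algebra.FormallyEtale A L := Algebra.FormallyEtale.comp A K L
    have hq : q.primeCompl = nonZeroDivisors B := by
      ext x
      rw [mem_nonZeroDivisors_iff_ne_zero]
      exact not_congr Ideal.mem_bot
    haveI : IsLocalization.AtPrime L q := by
      show IsLocalization q.primeCompl L
      rw [hq]; infer_instance
    let e : L ≃ₐ[B] Localization.AtPrime q := IsLocalization.algEquiv q.primeCompl L (Localization.AtPrime q)
    haveI : Algebra.IsEtaleAt A q := Algebra.FormallyEtale.of_equiv (e.restrictScalars A)
    obtain ⟨s, hs, het⟩ := Algebra.exists_etale_of_isEtaleAt (R := A) q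
    have hle : X.basicOpen s ≤ V₀ := X.basicOpen_le s
    have hW : IsAffineOpen (X.basicOpen s) := hV₀.basicOpen s
    refine ⟨X.basicOpen s, ⟨genericPoint X, ?_⟩, ?_⟩
    · show genericPoint X ∈ X.basicOpen s
      rw [Scheme.mem_basicOpen _ _ _ hηV]
      refine isUnit_iff_ne_zero.2 (fun h => hs ?_) |> id
      exact Ideal.mem_bot.2 (germ_injective_of_isIntegral X (genericPoint X) hηV (h.trans (map_zero _).symm))
    · haveI := hV₀.isLocalization_basicOpen s
      letI : Algebra A Γ(X, X.basicOpen s) := ((algebraMap B Γ(X, X.basicOpen s)).comp (algebraMap A B)).toAlgebra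
      haveI : IsScalarTower A B Γ(X, X.basicOpen s) := .of_algebraMap_eq' rfl
      haveI := het
      haveI : Algebra.Etale A Γ(X, X.basicOpen s) := Algebra.Etale.of_equiv
        ((IsLocalization.algEquiv (Submonoid.powers s) (Localization.Away s) Γ(X, X.basicOpen s)).restrictScalars A)
      have hring : (f.appLE U (X.basicOpen s) hle).hom = algebraMap A Γ(X, X.basicOpen s) := by
        rw [Scheme.Hom.appLE]; rfl
      haveI : Etale (Spec.map (f.appLE U (X.basicOpen s) hle)) :=
        (HasRingHomProperty.Spec_iff (P := @Etale)).2 (by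
          rw [hring]; exact RingHom.etale_algebraMap.2 inferInstance)
      have heq : (X.basicOpen s).ι ≫ f =
          hW.isoSpec.hom ≫ Spec.map (f.appLE U (X.basicOpen s) hle) ≫ hU.fromSpec := by
        rw [IsAffineOpen.SpecMap_appLE_fromSpec f hU hW hle, IsAffineOpen.isoSpec_hom_fromSpec_assoc]
      rw [heq]
      infer_instance

end GrothLib.CurveMult
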