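import Groth.Prelude.Def_Omega4
import Groth.Agent.Lib.OX.PullbackTensor
import Groth.Agent.Lib.OX.Exact
import Groth.Agent.Lib.IdealModSec.Basic
import Mathlib.AlgebraicGeometry.Morphisms.Flat

/-!
# The stalks of the sheaf of differentials are generated by differentials of functions
-/

set_option autoImplicit false
set_option linter.style.haveILetI false
set_option backward.isDefEq.respectTransparency false
set_option maxHeartbeats 800000

universe u

open CategoryTheory CategoryTheory.Limits AlgebraicGeometry Opposite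
open GrothLib.InvExt (mres fres)
open scoped TensorProduct

noncomputable section

namespace GrothLib.CurveMult.OmegaGen

open GrothLib

variable {X P : Scheme.{u}} (g : X ⟶ P) (M : P.Modules) (x : X)

/-- The stalk of a pullback is spanned by pulled back germs. -/
theorem span_pull
    (S : Submodule (X.presheaf.stalk x) ((OX.stalk x).obj ((Scheme.Modules.pullback g).obj M)))
    (h : ∀ (U : P.Opens) (hx : g x ∈ U) (m : (DCoh.toP.obj M).obj (op U)),
      OX.germ (DCoh.toP.obj ((Scheme.Modules.pullback g).obj M)) (g ⁻¹ᵁ U) hx (OX.pullSec g M U m) ∈ S) :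
    S = ⊤ := by
  letI := (g.stalkMap x).hom.toAlgebra
  let e := ((OX.pullStalkIso g x).app M).toLinearEquiv
  refine eq_top_iff.2 fun z _ => ?_
  obtain ⟨w, rfl⟩ : ∃ w, e.symm w = z := ⟨e z, e.symm_apply_apply z⟩
  induction w using TensorProduct.induction_on with
  | zero =>
    have h0 : e.symm 0 = 0 := map_zero e.symm
    exact (show e.symm 0 ∈ S by rw [h0]; exact S.zero_mem)
  | tmul b n =>
    obtain ⟨U, hx, m, hm⟩ := OX.germ_exists (DCoh.toP.obj M) (show OX.stalkObj (g x) (DCoh.toP.obj M) from n)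
    subst hm
    change X.presheaf.stalk x at b
    have h1 : e (b • OX.germ (DCoh.toP.obj ((Scheme.Modules.pullback g).obj M)) (g ⁻¹ᵁ U) hx (OX.pullSec g M U m)) =
        b ⊗ₜ[P.presheaf.stalk (g x)] OX.germ (DCoh.toP.obj M) U hx m := by
      rw [map_smul]
      refine (congrArg (b • ·) (OX.pullStalkIso_germ g x M U hx m)).trans ?_
      show (b * 1) ⊗ₜ[P.presheaf.stalk (g x)] _ = _
      rw [mul_one]
    have h2 := S.smul_mem b (h U hx m)
    rw [← h1, LinearEquiv.symm_apply_apply]
    exact h2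
  | add a b ha hb =>
    have h0 := map_add e.symm a b
    exact (congrArg (· ∈ S) h0).mpr (S.add_mem (ha trivial) (hb trivial))

section Kernel

variable {Y : Scheme.{u}} [IsAffine Y] (f : X ⟶ Y) [QuasiSeparated f] {U : X.Opens} (hU : IsAffineOpen U)

include hU in
theorem isAffineOpen_diagNbhd : IsAffineOpen (OmegaSh.diagNbhd f U) := by
  have H := IsPullback.of_hasPullback f f
  haveI : IsAffine _ := hU
  haveI : IsAffine _ := isAffineOpen_top Y
  exact .of_isIso (Scheme.Hom.isPullback_resLE H (US := ⊤) (UT := U) (UX := U)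
    (UY := OmegaSh.diagNbhd f U) le_top le_top rfl).isoPullback.hom

/-- The functions on `U ×_Y U` are generated by functions on the factors. -/
theorem closure_eq_top (hU : IsAffineOpen U) :
    Subring.closure (Set.range ((pullback.fst f f).appLE U (OmegaSh.diagNbhd f U) inf_le_left).hom ∪
      Set.range ((pullback.snd f f).appLE U (OmegaSh.diagNbhd f U) inf_le_right).hom) = ⊤ := by
  have H := IsPullback.of_hasPullback f f
  have hP : IsPushout (f.appLE ⊤ U le_top) (f.appLE ⊤ U le_top)
      ((pullback.fst f f).appLE U (OmegaSh.diagNbhd f U) inf_le_left)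
      ((pullback.snd f f).appLE U (OmegaSh.diagNbhd f U) inf_le_right) :=
    (AlgebraicGeometry.isIso_pushoutSection_iff H (US := ⊤) (UT := U) (UX := U) (UY := OmegaSh.diagNbhd f U)
      le_top le_top rfl).1
      (AlgebraicGeometry.isIso_pushoutSection_of_isAffineOpen H le_top le_top rfl
        (isAffineOpen_top _) hU hU)
  let S := Subring.closure (Set.range ((pullback.fst f f).appLE U (OmegaSh.diagNbhd f U) inf_le_left).hom ∪
      Set.range ((pullback.snd f f).appLE U (OmegaSh.diagNbhd f U) inf_le_right).hom)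
  let a : Γ(X, U) ⟶ CommRingCat.of S := CommRingCat.ofHom
    (((pullback.fst f f).appLE U (OmegaSh.diagNbhd f U) inf_le_left).hom.codRestrict S
      fun t => Subring.subset_closure (Or.inl ⟨t, rfl⟩))
  let b : Γ(X, U) ⟶ CommRingCat.of S := CommRingCat.ofHom
    (((pullback.snd f f).appLE U (OmegaSh.diagNbhd f U) inf_le_right).hom.codRestrict S
      fun t => Subring.subset_closure (Or.inr ⟨t, rfl⟩))
  let i : CommRingCat.of S ⟶ Γ(pullback f f, OmegaSh.diagNbhd f U) := CommRingCat.ofHom S.subtype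
  have hab : f.appLE ⊤ U le_top ≫ a = f.appLE ⊤ U le_top ≫ b :=
    CommRingCat.hom_ext (RingHom.ext fun t => Subtype.ext (ConcreteCategory.congr_hom hP.w t))
  have hd : hP.desc a b hab ≫ i = 𝟙 _ := by
    refine hP.hom_ext ?_ ?_
    · rw [IsPushout.inl_desc_assoc, Category.comp_id]; rfl
    · rw [IsPushout.inr_desc_assoc, Category.comp_id]; rfl
  refine eq_top_iff.2 fun t _ => ?_
  have h1 : (hP.desc a b hab t : S).1 = t := ConcreteCategory.congr_hom hd t
  rw [← h1]
  exact (hP.desc a b hab t : S).2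

/-- The kernel of the diagonal on `U ×_Y U`. -/
theorem mem_span_diagDiff (hU : IsAffineOpen U) {t : Γ(pullback f f, OmegaSh.diagNbhd f U)}
    (ht : (pullback.diagonal f).app (OmegaSh.diagNbhd f U) t = 0) :
    t ∈ Ideal.span (Set.range (OmegaSh.diagDiff f U)) := by
  let W := OmegaSh.diagNbhd f U
  let p := (pullback.fst f f).appLE U W inf_le_left
  let q := (pullback.snd f f).appLE U W inf_le_right
  let r : Γ(pullback f f, W) →+* Γ(X, U) :=
    (X.presheaf.map (homOfLE (OmegaSh.le_preimage_diagNbhd f U)).op).hom.comp ((pullback.diagonal f).app W).hom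
  have hrp : ∀ a, r (p a) = a :=
    OmegaSh.res_diagonal_app_appLE f _ (pullback.diagonal_fst f) U inf_le_left
  have hrq : ∀ a, r (q a) = a :=
    OmegaSh.res_diagonal_app_appLE f _ (pullback.diagonal_snd f) U inf_le_right
  let J := Ideal.span (Set.range (OmegaSh.diagDiff f U))
  have key : ∀ s, s - p (r s) ∈ J := by
    intro s
    have hs : s ∈ Subring.closure (Set.range p.hom ∪ Set.range q.hom) := by
      rw [closure_eq_top f hU]; trivial
    induction hs using Subring.closure_induction with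
    | mem s hs =>
      rcases hs with ⟨a, rfl⟩ | ⟨a, rfl⟩
      · rw [hrp]; exact (sub_self (p.hom a)).symm ▸ J.zero_mem
      · rw [hrq]; exact Ideal.subset_span ⟨a, rfl⟩
    | zero => simp
    | one => simp
    | add a b _ _ ha hb =>
      rw [map_add, map_add, add_sub_add_comm]; exact J.add_mem ha hb
    | neg a _ ha =>
      rw [map_neg, map_neg, ← neg_sub']; exact J.neg_mem ha
    | mul a b _ _ ha hb =>
      have : a * b - p (r (a * b)) = a * (b - p (r b)) + p (r b) * (a - p (r a)) := by
        rw [map_mul, map_mul]; ring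
      rw [this]
      exact J.add_mem (J.mul_mem_left _ hb) (J.mul_mem_left _ ha)
  have h0 : r t = 0 := by
    show X.presheaf.map _ ((pullback.diagonal f).app W t) = 0
    rw [ht, map_zero]
  have := key t
  rwa [h0, map_zero, sub_zero] at this

end Kernel

variable {Y : Scheme.{u}} [IsAffine Y] (f : X ⟶ Y) [QuasiSeparated f]

/-- The stalks of the sheaf of differentials are spanned by differentials of functions. -/
theorem span_dOmega (S : Submodule (X.presheaf.stalk x) ((OX.stalk x).obj (Omega.sheaf f)))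
    (h : ∀ (U : X.Opens) (hx : x ∈ U) (s : Γ(X, U)),
      OX.germ (DCoh.toP.obj (Omega.sheaf f)) U hx ((OmegaSh.dOmega f).app U s) ∈ S) :
    S = ⊤ := by
  refine span_pull (pullback.diagonal f) _ x S fun U' hx m => ?_
  obtain ⟨U, hU, hxU, -⟩ := exists_isAffineOpen_mem_and_subset (x := x) (U := ⊤) trivial
  let Δ := pullback.diagonal f
  let I := Δ.ker
  have hW0 := isAffineOpen_diagNbhd f hU
  have hxW0 : Δ x ∈ OmegaSh.diagNbhd f U := OmegaSh.le_preimage_diagNbhd f U hxU
  obtain ⟨W, hxW, hW⟩ := BlowUp.exists_affine_mem_le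
    (W := U' ⊓ OmegaSh.diagNbhd f U) (⟨hx, hxW0⟩ : Δ x ∈ U' ⊓ OmegaSh.diagNbhd f U)
  let G : Γ(ClSub.idealMod I, W.1) → (OX.stalk x).obj (Omega.sheaf f) := fun k =>
    OX.germ (DCoh.toP.obj (Omega.sheaf f)) (Δ ⁻¹ᵁ W.1) hxW (OX.pullSec Δ (ClSub.idealMod I) W.1 k)
  have hGadd : ∀ a b, G (a + b) = G a + G b := fun a b => by
    show OX.germ _ _ _ (OX.pullSec Δ _ W.1 (a + b)) = _
    rw [show OX.pullSec Δ (ClSub.idealMod I) W.1 (a + b) =
      OX.pullSec Δ (ClSub.idealMod I) W.1 a + OX.pullSec Δ (ClSub.idealMod I) W.1 b from map_add _ _ _]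
    exact map_add _ _ _
  have hGsmul : ∀ (c : Γ(pullback f f, W.1)) a,
      G (c • a) = X.presheaf.germ (Δ ⁻¹ᵁ W.1) x hxW (Δ.app W.1 c) • G a := fun c a =>
    (congrArg (OX.germ (DCoh.toP.obj (Omega.sheaf f)) (Δ ⁻¹ᵁ W.1) hxW)
      (OmegaSh.pullSect_smul Δ (ClSub.idealMod I) W.1 c a)).trans
      (OX.germ_smul' (DCoh.toP.obj (Omega.sheaf f)) (Δ ⁻¹ᵁ W.1) hxW (Δ.app W.1 c) _)
  have hres : ∀ {A B : (pullback f f).Opens} (hBA : B ≤ A) (hA : Δ x ∈ A) (hB : Δ x ∈ B)
      (k : Γ(ClSub.idealMod I, A)),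
      OX.germ (DCoh.toP.obj (Omega.sheaf f)) (Δ ⁻¹ᵁ B) hB
          (OX.pullSec Δ (ClSub.idealMod I) B (mres (ClSub.idealMod I) hBA k)) =
        OX.germ (DCoh.toP.obj (Omega.sheaf f)) (Δ ⁻¹ᵁ A) hA (OX.pullSec Δ (ClSub.idealMod I) A k) :=
    fun {A B} hBA hA hB k =>
      (congrArg (OX.germ (DCoh.toP.obj (Omega.sheaf f)) (Δ ⁻¹ᵁ B) hB)
        (OmegaSh.pullSect_map Δ (ClSub.idealMod I) hBA k)).trans
        (OX.germ_map (DCoh.toP.obj (Omega.sheaf f)) (homOfLE (Δ.preimage_mono hBA)) hB _)
  have hgen : ∀ a ∈ I.ideal W, ∃ k, IdealModSec.val I W.1 k = a ∧ G k ∈ S := by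
    intro a ha
    rw [← I.map_ideal (U := W) (V := ⟨_, hW0⟩) (hW.trans inf_le_right)] at ha
    have ha' : a ∈ Ideal.span (Set.range fun s => fres (pullback f f) (hW.trans inf_le_right)
        (OmegaSh.diagDiff f U s)) := by
      rw [show (Set.range fun s => fres (pullback f f) (hW.trans inf_le_right) (OmegaSh.diagDiff f U s)) =
          ((pullback f f).presheaf.map (homOfLE (hW.trans inf_le_right)).op).hom '' Set.range (OmegaSh.diagDiff f U)
        from (Set.range_comp _ _), ← Ideal.map_span]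
      refine Ideal.map_mono ?_ ha
      intro t ht
      refine mem_span_diagDiff f hU ?_
      rw [Scheme.Hom.ker_apply, RingHom.mem_ker] at ht
      exact ht
    clear ha
    induction ha' using Submodule.span_induction with
    | mem a ha =>
      obtain ⟨s, rfl⟩ := ha
      refine ⟨mres (ClSub.idealMod I) (hW.trans inf_le_right) (OmegaSh.idealLift f U s), ?_, ?_⟩
      · rw [IdealModSec.val_mres]
        exact congrArg _ (OmegaSh.ι_idealLift f U s)
      · have h1 := h U hxU s
        have h2 : OX.germ (DCoh.toP.obj (Omega.sheaf f)) U hxU ((OmegaSh.dOmega f).app U s) =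
            G (mres (ClSub.idealMod I) (hW.trans inf_le_right) (OmegaSh.idealLift f U s)) :=
          (OX.germ_map (DCoh.toP.obj (Omega.sheaf f)) (homOfLE (OmegaSh.le_preimage_diagNbhd f U)) hxU _).trans
            (hres (hW.trans inf_le_right) hxW0 hxW _).symm
        exact h2 ▸ h1
    | zero =>
      refine ⟨0, IdealModSec.val_zero I W.1, ?_⟩
      have h1 := hGsmul 0 0
      rw [zero_smul, map_zero, map_zero, zero_smul] at h1
      exact h1 ▸ S.zero_mem
    | add a b _ _ ha hb =>
      obtain ⟨k, rfl, hk⟩ := ha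
      obtain ⟨l, rfl, hl⟩ := hb
      exact ⟨k + l, map_add ((ClSub.idealModι I).app W.1).hom k l, (hGadd k l).symm ▸ S.add_mem hk hl⟩
    | smul c a _ ha =>
      obtain ⟨k, rfl, hk⟩ := ha
      exact ⟨c • k, IdealModSec.val_smul I W.1 c k, (hGsmul c k).symm ▸ S.smul_mem _ hk⟩
  obtain ⟨k, hk, hkS⟩ := hgen _ (IdealModSec.val_mem I W (mres (ClSub.idealMod I) (hW.trans inf_le_left) m))
  rw [IdealModSec.val_injective I W.1 hk] at hkS
  exact (congrArg (· ∈ S) (hres (hW.trans inf_le_left) hx hxW m)).mp hkS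

end GrothLib.CurveMult.OmegaGen
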