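import Groth.Agent.Lib.CurveMult.HyperFF
import Groth.Agent.Lib.CurveMult.SepBC
import Groth.Agent.Lib.CurveMult.DegBound
import Groth.Agent.Lib.CurveRR.Setup
import Groth.Agent.Lib.CurveRR.Main
import Groth.Agent.Lib.CurveLocus.Basic
import Groth.Agent.Lib.FBase7.ProdComp
import Groth.Agent.Lib.Euler.Rank
import Groth.Agent.Lib.DiagGrp.TrivOver

/-!
# Double covers of the line by smooth curves of positive genus are separable
-/

set_option linter.style.haveILetI false
set_option backward.isDefEq.respectTransparency false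

universe u

open CategoryTheory CategoryTheory.Limits AlgebraicGeometry TopologicalSpace Opposite
open GrothLib.Ample (res)
open scoped TensorProduct
open IntermediateField

noncomputable section

namespace GrothLib.CurveMult

/-- A scheme with only constant global functions is connected. -/
theorem connectedSpace_of_finrank_H0 (k : Type u) [Field k] {X : Scheme.{u}} [X.Over (Spec (CommRingCat.of k))]
    (h0 : Module.finrank k (Coh.HH X (Coh.structureModule X) 0) = 1) : ConnectedSpace X := by
  classical
  let ψ : k →+* Γ(X, ⊤) := Coh.toGlobal (X ↘ Spec (CommRingCat.of k))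
  letI : Algebra k Γ(X, ⊤) := ψ.toAlgebra
  let e : Coh.HH X (Coh.structureModule X) 0 ≃ₗ[k] Γ(X, ⊤) :=
    { ProjCoh.H0top (Coh.structureModule X) with
      map_smul' := fun a h => (ProjCoh.H0top_smul (Coh.structureModule X) a h).trans (Algebra.smul_def (R := k) (A := Γ(X, ⊤)) a (ProjCoh.H0top (Coh.structureModule X) h)).symm }
  rw [e.finrank_eq] at h0
  haveI : Nontrivial Γ(X, ⊤) := Module.nontrivial_of_finrank_pos (R := k) (by omega)
  have hsc : ∀ t : Γ(X, ⊤), ∃ c : k, algebraMap k Γ(X, ⊤) c = t := fun t => by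
    obtain ⟨c, hc⟩ := (finrank_eq_one_iff_of_nonzero' (1 : Γ(X, ⊤)) one_ne_zero).1 h0 t
    exact ⟨c, by rw [Algebra.algebraMap_eq_smul_one, hc]⟩
  obtain ⟨x₀⟩ : Nonempty X := by
    by_contra h
    rw [not_nonempty_iff] at h
    exact (one_ne_zero : (1 : Γ(X, ⊤)) ≠ 0) (TopCat.Presheaf.section_ext X.sheaf ⊤ (1 : Γ(X, ⊤)) 0 fun x _ => h.elim x)
  haveI : PreconnectedSpace X := by
    refine preconnectedSpace_of_forall_constant fun f hf => ?_
    let U : ULift.{u} Bool → X.Opens := fun b => ⟨f ⁻¹' {b.down}, (isOpen_discrete _).preimage hf⟩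
    let sf : ∀ b, Γ(X, U b) := fun b => if b.down then 1 else 0
    have hc : TopCat.Presheaf.IsCompatible X.presheaf U sf := by
      intro a b
      by_cases hab : a = b
      · subst hab; rfl
      · refine TopCat.Presheaf.section_ext (C := CommRingCat.{u}) (X := X.carrier) X.sheaf _ _ _ fun z hz => ?_
        exact absurd (ULift.ext _ _ ((show f z = a.down from hz.1).symm.trans hz.2)) hab
    obtain ⟨t, ht, -⟩ := TopCat.Sheaf.existsUnique_gluing' X.sheaf U ⊤ (fun b => homOfLE le_top)
      (fun x _ => Opens.mem_iSup.2 ⟨⟨f x⟩, rfl⟩) sf hc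
    obtain ⟨c, rfl⟩ := hsc t
    have hval : ∀ x : X, (X.presheaf.germ ⊤ x trivial) (algebraMap k Γ(X, ⊤) c) = if f x then 1 else 0 := fun x => by
      have h1 := congrArg (X.presheaf.germ (U ⟨f x⟩) x rfl) (ht ⟨f x⟩)
      refine ((X.presheaf.germ_res_apply _ _ _ _).symm.trans h1).trans ?_
      show (X.presheaf.germ (U ⟨f x⟩) x rfl) (if f x then 1 else 0) = _
      split <;> simp
    have hnt : ∀ x : X, (1 : X.presheaf.stalk x) ≠ 0 := fun x => one_ne_zero
    intro x y
    by_contra hxy
    have hx := hval x
    have hy := hval y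
    by_cases hc0 : c = 0
    · rw [hc0, map_zero, map_zero] at hx hy
      have hfx : f x = false := by by_contra h; simp at h; rw [h] at hx; exact hnt x hx.symm
      have hfy : f y = false := by by_contra h; simp at h; rw [h] at hy; exact hnt y hy.symm
      exact hxy (hfx.trans hfy.symm)
    · have hu : IsUnit (algebraMap k Γ(X, ⊤) c) := (IsUnit.mk0 c hc0).map _
      have hfx : f x = true := by
        by_contra h; simp at h; rw [h] at hx
        exact (hu.map (X.presheaf.germ ⊤ x trivial).hom).ne_zero hx
      have hfy : f y = true := by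
        by_contra h; simp at h; rw [h] at hy
        exact (hu.map (X.presheaf.germ ⊤ y trivial).hom).ne_zero hy
      exact hxy (hfx.trans hfy.symm)
  exact ⟨⟨x₀⟩⟩

variable (k : Type u) [Field k] {X : Scheme.{u}} [IsIntegral X] [X.Over (Spec (CommRingCat.of k))]
  [IsProper (X ↘ Spec (CommRingCat.of k))] [Smooth (X ↘ Spec (CommRingCat.of k))] [CurveRR.RegCurve X]

/-- On a smooth curve of positive genus a function of degree two is separating. -/
theorem isSeparable_of_finrank_two (h0 : Module.finrank k (Coh.HH X (Coh.structureModule X) 0) = 1)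
    (hg : 0 < Curv2.genus k X) {x : X.functionField}
    (h2 : Module.finrank (adjoin k ({x} : Set X.functionField)) X.functionField = 2) :
    Algebra.IsSeparable (adjoin k ({x} : Set X.functionField)) X.functionField := by
  classical
  by_contra hns
  let E := adjoin k ({x} : Set X.functionField)
  have hsq := sq_mem_of_not_isSeparable E h2 hns
  obtain ⟨y, hy⟩ : ∃ y, y ∉ E := by
    by_contra hall
    push Not at hall
    have htop : E = ⊤ := eq_top_iff.2 fun u _ => hall u
    rw [show Module.finrank (adjoin k ({x} : Set X.functionField)) X.functionField = 1 by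
      rw [show adjoin k ({x} : Set X.functionField) = ⊤ from htop]; exact IntermediateField.finrank_top] at h2
    omega
  have htwo : (2 : X.functionField) = 0 := by
    by_contra h2
    refine hy ?_
    rw [show y = ((y + 1) ^ 2 - y ^ 2 - 1) / 2 by field_simp; ring]
    exact div_mem (sub_mem (sub_mem (hsq _) (hsq _)) (one_mem _)) (by
      rw [show (2 : X.functionField) = 1 + 1 by norm_num]; exact add_mem (one_mem _) (one_mem _))
  let K := AlgebraicClosure k
  let φ : k →+* K := algebraMap k K
  let q := X ↘ Spec (CommRingCat.of k)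
  let X' := pullback q (Spec.map (CommRingCat.ofHom φ))
  let g : X' ⟶ X := pullback.fst _ _
  letI : X'.Over (Spec (CommRingCat.of K)) := ⟨pullback.snd q (Spec.map (CommRingCat.ofHom φ))⟩
  haveI : Smooth (X' ↘ Spec (CommRingCat.of K)) :=
    inferInstanceAs (Smooth (pullback.snd q (Spec.map (CommRingCat.ofHom φ))))
  haveI : IsProper (X' ↘ Spec (CommRingCat.of K)) :=
    inferInstanceAs (IsProper (pullback.snd q (Spec.map (CommRingCat.ofHom φ))))
  have H := IsPullback.of_hasPullback q (Spec.map (CommRingCat.ofHom φ))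
  have := Euler.isNoetherian_of_proper (X := X) k
  haveI : (Coh.structureModule X).IsQuasicoherent :=
    (Euler.isCoh_of_isInvertible Euler.isInvertible_structure).1
  have hH : ∀ p, Module.finrank K (Coh.HH X' (Coh.structureModule X') p) =
      Module.finrank k (Coh.HH X (Coh.structureModule X) p) := fun p => by
    rw [← finrank_HH_baseChange φ g H (Coh.structureModule X) p,
      (Euler.hhEquiv (A := K) (OX.pullUnitIso g) p).finrank_eq]
  have h0' : Module.finrank K (Coh.HH X' (Coh.structureModule X') 0) = 1 := (hH 0).trans h0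
  haveI := connectedSpace_of_finrank_H0 K h0'
  haveI := Euler.isIntegral_of_smooth_connected K (X' ↘ Spec (CommRingCat.of K))
  have hdim : topologicalKrullDim X' = 1 := by
    let e : X' ≅ pullback (Spec.map (CommRingCat.ofHom φ)) q := pullbackSymmetry _ _
    rw [IsHomeomorph.topologicalKrullDim_eq _ e.hom.homeomorph.isHomeomorph]
    exact (CurveLocus.topologicalKrullDim_pullback (k := k) q K).trans CurveRR.RegCurve.dim
  haveI : CurveRR.RegCurve X' := CurveRR.regCurve_of_smooth (X' ↘ Spec (CommRingCat.of K)) hdim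
  have hg' : 0 < _root_.FunFld.genus K X'.functionField := by
    rw [← CurveRR.genus_eq K h0']
    show 0 < Module.finrank K (Coh.HH X' (Coh.structureModule X') 1)
    rw [hH 1]; exact hg
  -- the extension of function fields
  haveI : Flat (Spec.map (CommRingCat.ofHom φ)) := DiagGrp.flat_of_field _
  haveI : Flat g := MorphismProperty.pullback_fst _ _ inferInstance
  have hgη : g (genericPoint X') = genericPoint X :=
    FBase7.apply_eq_genericPoint_of_maximal g fun t ht =>
      (ht.antisymm ((genericPoint_spec X').specializes trivial)).eq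
  let ι : X.functionField →+* X'.functionField :=
    (g.stalkMap (genericPoint X')).hom.comp (X.presheaf.stalkCongr (Inseparable.of_eq hgη.symm)).hom.hom
  have hιgerm : ∀ (U : X.Opens) (hU : genericPoint X ∈ U) (hU' : g (genericPoint X') ∈ U) (r : Γ(X, U)),
      ι (X.presheaf.germ U _ hU r) = X'.presheaf.germ (g ⁻¹ᵁ U) _ hU' ((g.app U).hom r) := by
    intro U hU hU' r
    show (g.stalkMap _).hom ((X.presheaf.stalkCongr _).hom (X.presheaf.germ U _ hU r)) = _
    rw [show (X.presheaf.stalkCongr (Inseparable.of_eq hgη.symm)).hom (X.presheaf.germ U _ hU r) =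
      X.presheaf.germ U _ hU' r from ConcreteCategory.congr_hom (X.presheaf.germ_stalkSpecializes hU (specializes_of_eq hgη)) r]
    exact congrArg (fun χ => χ.hom r) (g.germ_stalkMap U _ hU')
  have hιc : ∀ c : k, ι (algebraMap k X.functionField c) = algebraMap K X'.functionField (φ c) := by
    intro c
    show ι (X.presheaf.germ ⊤ _ trivial (Coh.toGlobal (X ↘ Spec (CommRingCat.of k)) c)) = _
    rw [hιgerm ⊤ trivial trivial]
    refine congrArg (X'.presheaf.germ ⊤ _ trivial) ?_
    show (g.appTop).hom (q.appTop.hom ((Scheme.ΓSpecIso _).inv c)) =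
      (pullback.snd q (Spec.map (CommRingCat.ofHom φ))).appTop.hom ((Scheme.ΓSpecIso _).inv (φ c))
    have h1 := congrArg (fun m => (Scheme.Hom.appTop m).hom ((Scheme.ΓSpecIso (CommRingCat.of k)).inv c)) H.w
    simp only [Scheme.Hom.comp_appTop, CommRingCat.comp_apply] at h1
    refine h1.trans (congrArg _ ?_)
    exact (congrArg (fun m => m.hom c) (Scheme.ΓSpecIso_inv_naturality (CommRingCat.ofHom φ))).symm
  let E' := adjoin K ({ι x} : Set X'.functionField)
  have hιE : ∀ u ∈ E, ι u ∈ E' := by
    intro u hu
    induction hu using IntermediateField.adjoin_induction with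
    | mem u hu => rw [Set.mem_singleton_iff.1 hu]; exact mem_adjoin_simple_self K _
    | algebraMap c => rw [hιc]; exact E'.algebraMap_mem _
    | add u v _ _ hu hv => rw [map_add]; exact add_mem hu hv
    | inv u _ hu => rw [map_inv₀]; exact inv_mem hu
    | mul u v _ _ hu hv => rw [map_mul]; exact mul_mem hu hv
  have htwo' : (2 : X'.functionField) = 0 := by rw [← map_ofNat ι 2, htwo, map_zero]
  obtain ⟨_, ⟨U, hU, rfl⟩, hηU, -⟩ :=
    X.isBasis_affineOpens.exists_subset_of_mem_open (Set.mem_univ (genericPoint X)) isOpen_univ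
  haveI : IsAffineHom g := MorphismProperty.pullback_fst _ _ inferInstance
  have hU' : IsAffineOpen (g ⁻¹ᵁ U) := hU.preimage g
  have hηU' : genericPoint X' ∈ g ⁻¹ᵁ U := by show g (genericPoint X') ∈ U; rw [hgη]; exact hηU
  letI := (locHom k U).toAlgebra
  letI := (locHom K (g ⁻¹ᵁ U)).toAlgebra
  obtain ⟨e, he⟩ := exists_tensor_equiv k K g H hU
  let germ' : Γ(X', g ⁻¹ᵁ U) →+* X'.functionField := (X'.presheaf.germ (g ⁻¹ᵁ U) _ hηU').hom
  have hsq' : ∀ w : Γ(X', g ⁻¹ᵁ U), germ' w ^ 2 ∈ E' := by
    intro w
    obtain ⟨t, rfl⟩ := e.surjective w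
    induction t using TensorProduct.induction_on with
    | zero => rw [map_zero, map_zero]; simp
    | add t t' ht ht' =>
      rw [map_add, map_add, show (germ' (e t) + germ' (e t')) ^ 2 = germ' (e t) ^ 2 + germ' (e t') ^ 2 by
        linear_combination (germ' (e t) * germ' (e t')) * htwo']
      exact add_mem ht ht'
    | tmul c r =>
      rw [show e (c ⊗ₜ r) = c • e (1 ⊗ₜ r) by rw [← map_smul, TensorProduct.smul_tmul', smul_eq_mul, mul_one], he,
        Algebra.smul_def, map_mul, mul_pow]
      refine mul_mem (pow_mem ?_ 2) ?_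
      · have : germ' (algebraMap K Γ(X', g ⁻¹ᵁ U) c) = algebraMap K X'.functionField c :=
          X'.presheaf.germ_res_apply _ _ _ _
        rw [this]; exact E'.algebraMap_mem c
      · have : germ' ((g.appLE U (g ⁻¹ᵁ U) le_rfl).hom r) = ι (X.presheaf.germ U _ hηU r) := by
          rw [hιgerm U hηU hηU', Scheme.Hom.app_eq_appLE]
        rw [this, ← map_pow]
        exact hιE _ (hsq _)
  haveI : Nonempty (g ⁻¹ᵁ U : X'.Opens) := ⟨⟨_, hηU'⟩⟩
  haveI : IsFractionRing Γ(X', g ⁻¹ᵁ U) X'.functionField :=
    functionField_isFractionRing_of_isAffineOpen X' (g ⁻¹ᵁ U) hU'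
  have hall : ∀ u : X'.functionField, u ^ 2 ∈ E' := fun u => by
    obtain ⟨a, b, hb, rfl⟩ := IsFractionRing.div_surjective Γ(X', g ⁻¹ᵁ U) u
    rw [div_pow]
    exact div_mem (hsq' a) (hsq' b)
  have := genus_eq_zero_of_sq_mem (CurveRR.isFunctionField K h0') hall
  omega

end GrothLib.CurveMult
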