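import Groth.Agent.Lib.Euler.Section
import Groth.Agent.Lib.Euler.Scalar
import Groth.Agent.Lib.Euler.SectionKill
import Groth.Agent.Lib.Euler.TensorSupport
import Groth.Agent.Lib.Euler.Divisor

/-!
# Subsheaves of invertible modules with nonzero first cohomology have few sections
-/

set_option linter.style.haveILetI false
set_option backward.isDefEq.respectTransparency false

universe u

open CategoryTheory CategoryTheory.Limits AlgebraicGeometry TopologicalSpace Opposite Abelian
open GrothLib.QCoh (stalkLin)

noncomputable section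

namespace GrothLib.CurveMult

variable {X : Scheme.{u}} (k : Type u) [Field k] [X.Over (Spec (CommRingCat.of k))]

theorem hhMap_add' {M N : X.Modules} (f g : M ⟶ N) (n : ℕ) (x : Coh.HH X M n) :
    Cohom.hhMap k (f + g) n x = Cohom.hhMap k f n x + Cohom.hhMap k g n x := by
  rw [Cohom.hhMap_apply, Cohom.hhMap_apply, Cohom.hhMap_apply,
    show (QCoh.toAbFun X).map (f + g) = (QCoh.toAbFun X).map f + (QCoh.toAbFun X).map g from Functor.map_add _,
    Cohom.H_map_eq_comp, Ext.mk₀_add, Ext.comp_add]
  rfl

theorem homOfSection_add {N : X.Modules} (s t : Γ(N, ⊤)) :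
    FinCov.homOfSection (s + t) = FinCov.homOfSection s + FinCov.homOfSection t := by
  refine Scheme.Modules.hom_ext _ _ fun V => ?_
  ext a
  rw [Scheme.Modules.Hom.add_app]
  refine (Euler.homOfSection_app _ _ _).trans ?_
  rw [map_add, smul_add, ← Euler.homOfSection_app s V a, ← Euler.homOfSection_app t V a]
  rfl

theorem homOfSection_smul {N : X.Modules} (r : Coh.Γtop X) (s : Γ(N, ⊤)) :
    FinCov.homOfSection ((show Γ(X, ⊤) from r) • s) = FinCov.homOfSection s ≫ Euler.smulMod N r := by
  refine Scheme.Modules.hom_ext _ _ fun V => ?_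
  ext a
  refine (Euler.homOfSection_app _ _ _).trans ?_
  rw [Scheme.Modules.map_smul, smul_smul, mul_comm, mul_smul, ← Euler.homOfSection_app s V a]
  exact (Euler.smulMod_app N r V _).symm

theorem homOfSection_zero {N : X.Modules} : FinCov.homOfSection (0 : Γ(N, ⊤)) = 0 := by
  have h := homOfSection_add (0 : Γ(N, ⊤)) 0
  rw [add_zero] at h
  exact left_eq_add.1 h

/-- The pairing of sections of `F` with `H¹` of the structure sheaf. -/
def pair {F : X.Modules} (lam : Module.Dual k (Coh.HH X F 1)) :
    Coh.HH X F 0 →ₗ[k] Module.Dual k (Coh.HH X (Coh.structureModule X) 1) where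
  toFun z := lam.comp (Cohom.hhMap k (FinCov.homOfSection (ProjCoh.H0top F z)) 1)
  map_add' z z' := LinearMap.ext fun w => by
    simp only [map_add, homOfSection_add, LinearMap.add_apply, LinearMap.comp_apply, hhMap_add']
  map_smul' a z := LinearMap.ext fun w => by
    simp only [LinearMap.comp_apply, RingHom.id_apply, LinearMap.smul_apply]
    rw [ProjCoh.H0top_smul, homOfSection_smul, Euler.hhMap_comp, ← map_smul lam]
    rfl

variable [IsIntegral X] [IsProper (X ↘ Spec (CommRingCat.of k))]

include k in
theorem surjective_hhMap_one_section (hd : topologicalKrullDim X ≤ 1) {F L : X.Modules} (j : F ⟶ L) [Mono j]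
    (hL : PicF.IsInvertible L) {s : Γ(F, ⊤)} (hs : s ≠ 0) (hF : Coh.IsCoh F) :
    Function.Surjective (Cohom.hhMap k (FinCov.homOfSection s) 1) := by
  haveI := Euler.isNoetherian_of_proper (X := X) k
  have hs' : j.app ⊤ s ≠ 0 := by
    intro h
    refine hs (QCoh.section_eq_zero_of_germ F s fun x hx => QCoh.stalkLin_injective j x ?_)
    rw [QCoh.stalkLin_germ, h, map_zero, map_zero]
  have e : FinCov.homOfSection s ≫ j = FinCov.homOfSection (j.app ⊤ s) := by
    refine Scheme.Modules.hom_ext _ _ fun V => ?_
    ext a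
    refine Eq.trans ?_ (Euler.homOfSection_app _ _ _).symm
    show j.app V ((FinCov.homOfSection s).app V a) = _
    rw [Euler.homOfSection_app, Scheme.Modules.Hom.app_smul]
    exact congrArg _ (PresheafOfModules.naturality_apply j.val (homOfLE (le_top : V ≤ ⊤)).op s)
  haveI : Mono (FinCov.homOfSection s ≫ j) := e ▸ Euler.mono_homOfSection hL hs'
  haveI : Mono (FinCov.homOfSection s) := mono_of_mono (FinCov.homOfSection s) j
  have hη : Function.Surjective (stalkLin (FinCov.homOfSection s) (genericPoint X)) := fun y => by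
    obtain ⟨b, hb⟩ := (Euler.stalkLin_homOfSection_genericPoint hL hs').2 (stalkLin j (genericPoint X) y)
    refine ⟨b, QCoh.stalkLin_injective j _ ?_⟩
    rw [← QCoh.stalkLin_comp, e]
    exact hb
  have hQ := QCoh.isCoh_cokernel (FinCov.homOfSection s) (Euler.isCoh_of_isInvertible Euler.isInvertible_structure) hF
  obtain ⟨hfin, hcl⟩ := Euler.finite_support_of_notMem_genericPoint k hd hQ
    (QCoh.notMem_support_cokernel_of_surjective (FinCov.homOfSection s) hη)
  refine Euler.surjective_hhMap_one k (FinCov.homOfSection s) hfin hcl fun x hx => ⟨QCoh.stalkLin_injective _ x, fun y => ?_⟩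
  have hex := (OX.exact_iff (ShortComplex.mk (FinCov.homOfSection s) (cokernel.π _) (cokernel.condition _))).1
    (ShortComplex.exact_of_g_is_cokernel _ (cokernelIsCokernel _)) x
  rw [ShortComplex.moduleCat_exact_iff] at hex
  exact hex y (@Subsingleton.elim _ (QCoh.stalk_subsingleton_of_notMem hx) _ _)

include k in
/-- A subsheaf of an invertible module with nonzero first cohomology has at most `g` sections. -/
theorem finrank_H0_le_genus (hd : topologicalKrullDim X ≤ 1) {F L : X.Modules} (j : F ⟶ L) [Mono j]
    (hL : PicF.IsInvertible L) (hF : Coh.IsCoh F) (h1 : Nontrivial (Coh.HH X F 1)) :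
    Module.finrank k (Coh.HH X F 0) ≤ Curv2.genus k X := by
  obtain ⟨y, hy⟩ := exists_ne (0 : Coh.HH X F 1)
  obtain ⟨lam, hlam⟩ : ∃ lam : Module.Dual k (Coh.HH X F 1), lam y ≠ 0 := by
    by_contra h
    push Not at h
    haveI : Module.Free k (Coh.HH X F 1) := Module.Free.of_divisionRing k _
    haveI : Module.Projective k (Coh.HH X F 1) := Module.Projective.of_free
    exact hy ((Module.forall_dual_apply_eq_zero_iff k y).1 h)
  haveI := Euler.finiteDimensional_HH k (Euler.isCoh_of_isInvertible (Euler.isInvertible_structure (X := X))) 1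
  have hinj : Function.Injective (pair k lam) := by
    refine (injective_iff_map_eq_zero _).2 fun z hz => ?_
    by_contra hz0
    have hs : ProjCoh.H0top F z ≠ 0 := fun h => hz0 ((ProjCoh.H0top F).injective (h.trans (map_zero _).symm))
    obtain ⟨w, hw⟩ := surjective_hhMap_one_section k hd j hL hs hF y
    have := LinearMap.congr_fun hz w
    exact hlam (by rw [← hw]; exact this)
  have h := LinearMap.finrank_le_finrank_of_injective hinj
  rw [Subspace.dual_finrank_eq] at h
  exact h

include k in
/-- The degree bound: a subsheaf of an invertible module with nonzero first cohomology. -/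
theorem euler_le_of_H1_nontrivial (hd : topologicalKrullDim X ≤ 1) {F L : X.Modules} (j : F ⟶ L) [Mono j]
    (hL : PicF.IsInvertible L) (hF : Coh.IsCoh F) (h1 : Nontrivial (Coh.HH X F 1)) :
    Curv2.euler k X F ≤ (Curv2.genus k X : ℤ) - 1 := by
  haveI := hF.1
  haveI := Euler.finiteDimensional_HH k hF 1
  have h := finrank_H0_le_genus k hd j hL hF h1
  have h2 := Euler.euler_eq_sub k hd F
  have h3 : 0 < Module.finrank k (Coh.HH X F 1) := Module.finrank_pos
  omega

include k in
/-- The ideal of a zero-dimensional closed subscheme tensored with an invertible module. -/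
theorem ideal_tensor_data (hd : topologicalKrullDim X ≤ 1) {L : X.Modules} (hL : PicF.IsInvertible L)
    (Z : X.IdealSheafData) (hZ : topologicalKrullDim (Z.support : Set X) ≤ 0) :
    ∃ (L' : X.Modules) (j : CohB1.tensorMod (ClSub.idealMod Z) L ⟶ L'), Mono j ∧ PicF.IsInvertible L' ∧
      Coh.IsCoh (CohB1.tensorMod (ClSub.idealMod Z) L) ∧
      Curv2.euler k X (CohB1.tensorMod (ClSub.idealMod Z) L) =
        Curv2.euler k X L - Module.finrank k (Coh.HH X (ClSub.quotMod Z) 0) := by
  have := Euler.isNoetherian_of_proper (X := X) k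
  have hfin : (Z.support : Set X).Finite := Euler.finite_of_dim_le_zero Z.support.isClosed hZ
  have hcl : ∀ x ∈ (Z.support : Set X), IsClosed ({x} : Set X) := fun x hx =>
    Euler.isClosed_singleton_of_dim_le_zero Z.support.isClosed hZ hx
  haveI := Euler.epi_toSubscheme Z
  let S := ShortComplex.mk (ClSub.idealModι Z) (ClSub.toSubscheme Z) (kernel.condition _)
  haveI : Mono S.f := inferInstanceAs (Mono (kernel.ι (ClSub.toSubscheme Z)))
  haveI : Epi S.g := Euler.epi_toSubscheme Z
  have hS : S.ShortExact := { exact := ShortComplex.exact_of_f_is_kernel _ (kernelIsKernel _) }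
  have hL1 := Euler.isFinLocFreeOfRank_one' hL
  have hlf := FinCov.isFinLocFree_of_rank hL1
  have hflat := OX.flat_of_isFinLocFree hlf
  have hT := OX.tensor_map_shortExact hflat hS
  have hO : Coh.IsCoh (Coh.structureModule X) := Euler.isCoh_of_isInvertible Euler.isInvertible_structure
  have hQ : Coh.IsCoh (ClSub.quotMod Z) := QCoh.pushUnit_isCoh Z.subschemeι
  have hI : Coh.IsCoh (ClSub.idealMod Z) := QCoh.isCoh_kernel (ClSub.toSubscheme Z) hO hQ
  have hsupp : CohB1.support (ClSub.quotMod Z) ⊆ (Z.support : Set X) := by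
    rw [← Z.range_subschemeι]
    exact QCoh.support_pushforward_subset_range Z.subschemeι _
  let eL : (Euler.tF L).obj (Coh.structureModule X) ≅ L := OX.tensorUnitLeftIso L
  have h2 := Euler.euler_additive k hT (Euler.isCoh_tF hI hlf) (Euler.isCoh_tF hO hlf) (Euler.isCoh_tF hQ hlf)
  simp only [ShortComplex.map_X₁, ShortComplex.map_X₂, ShortComplex.map_X₃, S] at h2
  have e3 := Euler.euler_tF_of_finite_support k hL1 hQ (hfin.subset hsupp) (fun x hx => hcl x (hsupp hx))
  have e4 := Euler.euler_eq_of_finite_support k (ClSub.quotMod Z) (hfin.subset hsupp) (fun x hx => hcl x (hsupp hx))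
  have e2 := Euler.euler_of_iso k eL
  haveI := hT.mono_f
  refine ⟨L, (Euler.tF L).map (ClSub.idealModι Z) ≫ eL.hom, ?_, hL, Euler.isCoh_tF hI hlf, ?_⟩
  · exact mono_comp ((S.map (Euler.tF L)).f) eL.hom
  · show Curv2.euler k X ((Euler.tF L).obj (ClSub.idealMod Z)) = _
    push_cast at e3
    linear_combination -h2 + e2 - e3 - e4

include k in
/-- Modules of degree at least `2g` are globally generated. -/
theorem isGloballyGenerated_of_deg_ge (hd : topologicalKrullDim X ≤ 1) {L : X.Modules} (hL : PicF.IsInvertible L)
    (he : (Curv2.genus k X : ℤ) < Curv2.euler k X L) : Curv2.IsGloballyGenerated L := by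
  haveI := Euler.isNoetherian_of_proper (X := X) k
  have hLc := Euler.isCoh_of_isInvertible hL
  haveI := Euler.finiteDimensional_HH k hLc 0
  let b := Module.finBasis k (Coh.HH X L 0)
  let sec : Fin (Module.finrank k (Coh.HH X L 0)) → (Coh.structureModule X ⟶ L) := fun i =>
    FinCov.homOfSection (ProjCoh.H0top L (b i))
  let p : FlatMod.freeMod X (Module.finrank k (Coh.HH X L 0)) ⟶ L := Sigma.desc sec
  have hp : Epi p := by
    by_contra hne
    have hfree : Coh.IsCoh (FlatMod.freeMod X (Module.finrank k (Coh.HH X L 0))) :=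
      Euler.isCoh_of_isFinLocFree fun x => ⟨⊤, _, trivial, ⟨DCoh.restrictFreeModIso _ _⟩⟩
    have hC : Coh.IsCoh (cokernel p) := QCoh.isCoh_cokernel p hfree hLc
    let G := kernel (cokernel.π p)
    have hG : Coh.IsCoh G := QCoh.isCoh_kernel (cokernel.π p) hLc hC
    let j : G ⟶ L := kernel.ι _
    let S := ShortComplex.mk j (cokernel.π p) (kernel.condition _)
    have hS : S.ShortExact := { exact := ShortComplex.exact_of_f_is_kernel _ (kernelIsKernel (cokernel.π p)) }
    -- every section lifts to `G`
    have hzero : ∀ z : Coh.HH X L 0, Cohom.hhMap k S.g 0 z = 0 := by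
      suffices h : Cohom.hhMap k S.g 0 = 0 from fun z => LinearMap.congr_fun h z
      refine b.ext fun i => ?_
      refine (ProjCoh.H0top _).injective ?_
      rw [LinearMap.zero_apply, map_zero]
      refine (ProjCoh.H0top_map _ (b i)).trans ?_
      have h1 : sec i ≫ cokernel.π p = 0 := by
        rw [show sec i = Sigma.ι (fun _ => Coh.structureModule X) i ≫ p from (Sigma.ι_desc _ _).symm,
          Category.assoc, cokernel.condition, comp_zero]
      have h2 := congrArg (fun φ : Coh.structureModule X ⟶ cokernel p => φ.app ⊤ (FinCov.one X ⊤)) h1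
      simp only [Scheme.Modules.Hom.comp_app, ConcreteCategory.comp_apply] at h2
      rw [show (sec i).app ⊤ (FinCov.one X ⊤) = ProjCoh.H0top L (b i) from
        (FinCov.homOfSection_one _ ⊤).trans (InvExt.mres_self L _)] at h2
      exact h2
    have hsurj : Function.Surjective (Cohom.hhMap k S.f 0) := fun z =>
      (Cohom.exact₂ (A := k) hS 0 z).1 (hzero z)
    have hGL : Module.finrank k (Coh.HH X L 0) ≤ Module.finrank k (Coh.HH X G 0) := by
      haveI := Euler.finiteDimensional_HH k hG 0
      exact LinearMap.finrank_le_finrank_of_surjective hsurj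
    haveI := hLc.1
    have hL0 := Euler.euler_le_finrank_H0 k hd L
    rcases subsingleton_or_nontrivial (Coh.HH X G 1) with hs | hn
    · haveI := hG.1
      have e1 := Euler.euler_eq_sub k hd G
      rw [Module.finrank_zero_of_subsingleton (R := k) (M := Coh.HH X G 1)] at e1
      obtain ⟨q, hq, -, hiso⟩ := Euler.exists_cokernel_data k hd j hG hLc (by
        obtain ⟨z, hz⟩ : ∃ z : Coh.HH X L 0, z ≠ 0 := by
          haveI : Nontrivial (Coh.HH X L 0) := Module.nontrivial_of_finrank_pos (R := k) (by omega)
          exact exists_ne 0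
        obtain ⟨z', rfl⟩ := hsurj z
        have hs0 : ProjCoh.H0top G z' ≠ 0 := fun h => hz (by
          rw [(ProjCoh.H0top G).injective (h.trans (map_zero _).symm), map_zero])
        have hs' : j.app ⊤ (ProjCoh.H0top G z') ≠ 0 := fun h => hz ((ProjCoh.H0top L).injective
          ((ProjCoh.H0top_map _ z').trans (h.trans (map_zero _).symm)))
        intro y
        obtain ⟨a, ha⟩ := (Euler.stalkLin_homOfSection_genericPoint hL hs').2 y
        refine ⟨stalkLin (FinCov.homOfSection (ProjCoh.H0top G z')) _ a, ?_⟩
        rw [← QCoh.stalkLin_comp, ← ha]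
        congr 2
        refine Scheme.Modules.hom_ext _ _ fun V => ?_
        ext t
        refine Eq.trans ?_ (Euler.homOfSection_app _ _ _).symm
        show j.app V ((FinCov.homOfSection (ProjCoh.H0top G z')).app V t) = _
        rw [Euler.homOfSection_app, Scheme.Modules.Hom.app_smul]
        exact congrArg _ (PresheafOfModules.naturality_apply j.val (homOfLE (le_top : V ≤ ⊤)).op _))
      rcases Nat.eq_zero_or_pos q with hq0 | hq0
      · haveI := hiso hq0
        refine hne (Preadditive.epi_of_isZero_cokernel p ?_)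
        refine (IsZero.iff_id_eq_zero _).2 ((cancel_epi (cokernel.π p)).1 ?_)
        rw [Category.comp_id, comp_zero]
        exact (cancel_epi j).1 ((kernel.condition (cokernel.π p)).trans comp_zero.symm)
      · omega
    · have := finrank_H0_le_genus k hd j hL hG hn
      omega
  let q : (SheafOfModules.free (ULift.{u} (Fin (Module.finrank k (Coh.HH X L 0)))) : X.Modules) ⟶ L :=
    Sigma.desc fun i => sec i.down
  refine ⟨_, q, ?_⟩
  let r : FlatMod.freeMod X (Module.finrank k (Coh.HH X L 0)) ⟶
      (SheafOfModules.free (ULift.{u} (Fin (Module.finrank k (Coh.HH X L 0)))) : X.Modules) :=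
    Sigma.desc fun i => Sigma.ι (fun _ : ULift.{u} (Fin (Module.finrank k (Coh.HH X L 0))) => Coh.structureModule X) ⟨i⟩
  have hrq : r ≫ q = p := Sigma.hom_ext _ _ fun i => by simp [r, q, p]
  haveI := hp
  exact epi_of_epi_fac hrq

end GrothLib.CurveMult
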