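import Groth.Agent.Lib.CurveMult.DivIso
import Groth.Agent.Lib.CurveMult.H1Bound
import Groth.Agent.Lib.CurveRR.Main
import Groth.Agent.Lib.CurveRR.Degree
import Groth.Agent.Lib.Euler.VB
import Groth.Agent.Lib.FunFld.LinSeries

/-!
# The ideals of finite closed subschemes of a regular curve as sheaves of divisors
-/

set_option linter.style.haveILetI false
set_option backward.isDefEq.respectTransparency false

universe u

open CategoryTheory CategoryTheory.Limits AlgebraicGeometry TopologicalSpace Opposite WithZero
open _root_.FunFld (Place Divisor)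
open GrothLib.CurveRR

noncomputable section

namespace GrothLib.CurveMult.DivIso

variable (k : Type u) [Field k] {X : Scheme.{u}} [IsIntegral X] [RegCurve X]
  [X.Over (Spec (CommRingCat.of k))] [IsProper (X ↘ Spec (CommRingCat.of k))]

/-- Multiplication by a rational function between sheaves of divisors. -/
noncomputable def mulFn {D E : Divisor k X.functionField} (f : X.functionField)
    (h : ∀ x : CP X, exp (D (place k x)) * (place k x).1 f ≤ exp (E (place k x))) : oD k D ⟶ oD k E :=
  ⟨PresheafOfModules.homMk
    { app := fun V => AddCommGrpCat.ofHom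
        { toFun := fun s => (oDData k E).lift (fun hV => f * oval k (V := V.unop) s hV.down) fun x hx => by
            refine (map_mul (place k x).1 f _).le.trans ?_
            exact ((mul_le_mul_right (oval_bound (V := V.unop) s x hx) _).trans_eq (mul_comm _ _)).trans (h x)
          map_zero' := oval_ext fun hV => by
            show f * oval k (V := V.unop) (0 : Γ(oD k D, V.unop)) hV = 0
            rw [show oval k (V := V.unop) (0 : Γ(oD k D, V.unop)) hV = 0 from rfl, mul_zero]
          map_add' := fun s t => oval_ext fun hV => by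
            show f * oval k (V := V.unop) (s + t) hV = f * oval k (V := V.unop) s hV + f * oval k (V := V.unop) t hV
            exact (congrArg (f * ·) (oval_add (V := V.unop) s t hV)).trans (mul_add _ _ _) }
      naturality := fun _ _ _ => rfl } fun V r s => oval_ext fun hV => by
        show f * oval k (V := V.unop) (r • s) hV = _
        erw [oval_smul, oval_smul]
        exact mul_left_comm _ _ _⟩

/-- Linearly equivalent divisors give isomorphic modules. -/
theorem nonempty_iso_of_sub_mem {D E : Divisor k X.functionField}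
    (h : D - E ∈ _root_.FunFld.prinDivs k X.functionField) : Nonempty (oD k D ≅ oD k E) := by
  obtain ⟨f, hf0, hf⟩ := (FunFld.mem_prinDivs_iff (isFG k) _).1 h
  have hP : ∀ x : CP X, D (place k x) - E (place k x) = (place k x).ord f := fun x => by
    rw [← (isFG k).div_apply f (place k x), hf]; rfl
  have h1 : ∀ x : CP X, exp (D (place k x)) * (place k x).1 f ≤ exp (E (place k x)) := fun x => by
    rw [FunFld.val_eq (place k x) hf0, ← exp_add, exp_le_exp]; linarith [hP x]
  have h2 : ∀ x : CP X, exp (E (place k x)) * (place k x).1 f⁻¹ ≤ exp (D (place k x)) := fun x => by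
    rw [map_inv₀, FunFld.val_eq (place k x) hf0, ← exp_neg, ← exp_add, exp_le_exp]; linarith [hP x]
  refine ⟨⟨mulFn k f h1, mulFn k f⁻¹ h2, ?_, ?_⟩⟩ <;>
  · refine Scheme.Modules.hom_ext _ _ fun V => ?_
    ext s
    refine oval_ext fun hV => ?_
    first
      | exact inv_mul_cancel_left₀ hf0 _
      | exact mul_inv_cancel_left₀ hf0 _

end GrothLib.CurveMult.DivIso

namespace GrothLib.CurveMult

variable (k : Type u) [Field k] {X : Scheme.{u}} [IsIntegral X] [RegCurve X]
  [X.Over (Spec (CommRingCat.of k))] [IsProper (X ↘ Spec (CommRingCat.of k))]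

omit [X.Over (Spec (CommRingCat.of k))] [IsProper (X ↘ Spec (CommRingCat.of k))] in
theorem pid_stalk' (x : X) : IsPrincipalIdealRing (X.presheaf.stalk x) := by
  by_cases hx : x = genericPoint X
  · subst hx
    letI : Field (X.presheaf.stalk (genericPoint X)) := CurvePoints.isField_stalk_genericPoint.toField
    infer_instance
  · haveI := RegCurve.dvr x hx
    infer_instance

include k in
/-- The ideal of a finite closed subscheme is the sheaf of an antieffective divisor of the same degree. -/
theorem exists_effective_iso (Z : X.IdealSheafData) (hZ : topologicalKrullDim (Z.support : Set X) ≤ 0) :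
    ∃ E : Divisor k X.functionField, 0 ≤ E ∧ E.deg = Module.finrank k (Coh.HH X (ClSub.quotMod Z) 0) ∧
      Nonempty (ClSub.idealMod Z ≅ oD k (-E)) := by
  haveI := Euler.isNoetherian_of_proper (X := X) k
  have hfin : (Z.support : Set X).Finite := Euler.finite_of_dim_le_zero Z.support.isClosed hZ
  have hcl : ∀ x ∈ (Z.support : Set X), IsClosed ({x} : Set X) := fun x hx =>
    Euler.isClosed_singleton_of_dim_le_zero Z.support.isClosed hZ hx
  haveI := Euler.epi_toSubscheme Z
  let S := ShortComplex.mk (ClSub.idealModι Z) (ClSub.toSubscheme Z) (kernel.condition _)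
  haveI : Mono S.f := inferInstanceAs (Mono (kernel.ι (ClSub.toSubscheme Z)))
  haveI : Epi S.g := Euler.epi_toSubscheme Z
  have hS : S.ShortExact := { exact := ShortComplex.exact_of_f_is_kernel _ (kernelIsKernel _) }
  have hO : Coh.IsCoh (Coh.structureModule X) := Euler.isCoh_of_isInvertible Euler.isInvertible_structure
  have hQ : Coh.IsCoh (ClSub.quotMod Z) := QCoh.pushUnit_isCoh Z.subschemeι
  have hI : Coh.IsCoh (ClSub.idealMod Z) := QCoh.isCoh_kernel (ClSub.toSubscheme Z) hO hQ
  have hsupp : CohB1.support (ClSub.quotMod Z) ⊆ (Z.support : Set X) := by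
    rw [← Z.range_subschemeι]
    exact QCoh.support_pushforward_subset_range Z.subschemeι _
  have hη : genericPoint X ∉ (Z.support : Set X) := fun h => by
    obtain ⟨x⟩ : Nonempty X := inferInstance
    have h1 := CurvePoints.genericPoint_not_isClosed (RegCurve.dim (X := X))
    exact h1 (hcl _ h)
  have hgQ : Euler.grank (ClSub.quotMod Z) = 0 := by
    haveI := QCoh.stalk_subsingleton_of_notMem (M := ClSub.quotMod Z) (x := genericPoint X) fun h => hη (hsupp h)
    rw [Euler.grank]
    exact Module.finrank_zero_of_subsingleton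
  have hgI : Euler.grank (ClSub.idealMod Z) = 1 := by
    have h := Euler.grank_additive hS hO
    have h1 : Euler.grank (Coh.structureModule X) = 1 :=
      Euler.grank_of_locFree (Euler.isFinLocFreeOfRank_one' Euler.isInvertible_structure)
    change Euler.grank (Coh.structureModule X) = Euler.grank (ClSub.idealMod Z) + Euler.grank (ClSub.quotMod Z) at h
    omega
  have hIinv : PicF.IsInvertible (ClSub.idealMod Z) := fun y => by
    have h := Euler.isFinLocFreeOfRank_of_mono (pid_stalk' (X := X)) S.f hI
      (FinCov.isFinLocFree_of_rank (Euler.isFinLocFreeOfRank_one' Euler.isInvertible_structure))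
    rw [hgI] at h
    obtain ⟨U, hy, ⟨φ⟩⟩ := h y
    exact ⟨U, hy, ⟨φ ≪≫ coproductUniqueIso (fun _ : Fin 1 => Coh.structureModule U.toScheme)⟩⟩
  obtain ⟨A, ⟨eA⟩⟩ := exists_iso_oD k hIinv
  let φ : oD k A ⟶ oD k (0 : Divisor k X.functionField) :=
    eA.inv ≫ S.f ≫ (nonempty_iso_oD_zero k).some.hom
  obtain ⟨f, hf⟩ := DivIso.exists_factor k φ
  have hf0 : f ≠ 0 := by
    rintro rfl
    obtain ⟨V, g, hV, hg0, hg⟩ := exists_gen k A (genericPoint X)
    let e₀ := mkSec k A V g fun x hx => (hg x hx).le
    have h1 : φ.app V e₀ = 0 := oval_ext fun hV => by rw [hf, zero_mul]; rfl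
    haveI : Mono φ := inferInstance
    have h2 : e₀ = 0 := QCoh.section_eq_zero_of_germ (oD k A) e₀ fun x hx =>
      QCoh.stalkLin_injective φ x (by rw [QCoh.stalkLin_germ, h1, map_zero, map_zero])
    have h4 := congrArg (fun t => oval k t hV) h2
    rw [oval_mkSec] at h4
    exact hg0 (h4.trans rfl)
  have hFG := isFG k (X := X)
  refine ⟨_root_.FunFld.div k f - A, fun P => ?_, ?_, ?_⟩
  · obtain ⟨x, rfl⟩ := place_surjective (k := k) P
    have h := DivIso.le_of_factor k hf x
    rw [FunFld.val_eq (place k x) hf0, ← exp_add, exp_le_exp] at h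
    rw [Finsupp.sub_apply, hFG.div_apply f (place k x)]
    simp only [Finsupp.coe_zero, Pi.zero_apply] at h ⊢
    omega
  · have h1 : (_root_.FunFld.div k f - A).deg = - A.deg := by
      rw [FunFld.deg_sub, hFG.deg_div f]; ring
    rw [h1]
    have h2 := Euler.euler_additive k hS hI hO hQ
    simp only [S] at h2
    rw [Euler.euler_of_iso k eA, euler_oD, Euler.euler_eq_of_finite_support k (ClSub.quotMod Z) (hfin.subset hsupp)
      fun x hx => hcl x (hsupp hx)] at h2
    linarith
  · obtain ⟨t⟩ := DivIso.nonempty_iso_of_sub_mem k (D := A) (E := -(_root_.FunFld.div k f - A))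
      ((FunFld.mem_prinDivs_iff hFG _).2 ⟨f, hf0, by abel⟩)
    exact ⟨eA ≪≫ t⟩

end GrothLib.CurveMult
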