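import Groth.Agent.Lib.CurveMult.FFHom
import Groth.Agent.Lib.CurveMult.SepBC
import Groth.Agent.Lib.CurveMult.BaseChangeH
import Groth.Agent.Lib.FunFld.Separating
import Groth.Agent.Lib.SepField.Reduced
import Groth.Agent.Lib.SepField.Smooth
import Groth.Agent.Lib.PerfClosCyc.Fibre
import Groth.Agent.Lib.RedSmooth.Basic

/-!
# Purely inseparable maps from smooth curves over an arbitrary field

Below a separably generated function field the subfields over which it is purely inseparable are the
`k(K^q)`, so the bottom curve of a purely inseparable map from a smooth curve is a Frobenius twist.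
-/

set_option autoImplicit false
set_option linter.style.haveILetI false
set_option linter.unusedSectionVars false
set_option backward.isDefEq.respectTransparency false

universe u

open CategoryTheory CategoryTheory.Limits AlgebraicGeometry
open scoped TensorProduct

noncomputable section

namespace GrothLib.CurveMult.InsepTwistGen

open GrothLib GrothLib.CurveRR

/-- Subfields below which a separably generated field is purely inseparable. -/
theorem eq_adjoin_range_pow {k K : Type*} [Field k] [Field K] [Algebra k K] (p : ℕ) [Fact p.Prime]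
    [CharP K p] (z : K) [Algebra.IsSeparable (IntermediateField.adjoin k ({z} : Set K)) K]
    (L : IntermediateField k K) (hL : ∀ y : K, ∃ n : ℕ, y ^ p ^ n ∈ L) :
    ∃ r : ℕ, L = IntermediateField.adjoin k (Set.range fun y : K => y ^ p ^ r) := by
  classical
  haveI : ExpChar K p := ExpChar.prime Fact.out
  haveI : CharP L p := (Algebra.charP_iff L K p).mpr inferInstance
  haveI : ExpChar L p := ExpChar.prime Fact.out
  haveI hpi : IsPurelyInseparable L K := by
    rw [isPurelyInseparable_iff_pow_mem L p]
    exact fun y => by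
      obtain ⟨n, hn⟩ := hL y
      exact ⟨n, ⟨y ^ p ^ n, hn⟩, rfl⟩
  let E := IntermediateField.adjoin k ({z} : Set K)
  let r := Nat.find (hL z)
  have hz : z ^ p ^ r ∈ L := Nat.find_spec (hL z)
  let M := IntermediateField.adjoin k (Set.range fun y : K => y ^ p ^ r)
  have hE : ∀ w : E, (w : K) ^ p ^ r ∈ L := by
    rintro ⟨w, hw⟩
    induction hw using IntermediateField.adjoin_induction with
    | mem y hy => rw [Set.mem_singleton_iff] at hy; subst hy; exact hz
    | algebraMap c =>
      show algebraMap k K c ^ p ^ r ∈ L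
      rw [← map_pow]; exact L.algebraMap_mem _
    | add a b _ _ ha hb =>
      show (a + b) ^ p ^ r ∈ L
      rw [add_pow_expChar_pow]; exact add_mem ha hb
    | inv a _ ha =>
      show a⁻¹ ^ p ^ r ∈ L
      rw [inv_pow]; exact inv_mem ha
    | mul a b _ _ ha hb =>
      show (a * b) ^ p ^ r ∈ L
      rw [mul_pow]; exact mul_mem ha hb
  have hML : M ≤ L := by
    refine IntermediateField.adjoin_le_iff.2 ?_
    rintro _ ⟨y, rfl⟩
    let τ : E →+* L :=
      { toFun := fun w => ⟨(w : K) ^ p ^ r, hE w⟩
        map_one' := Subtype.ext (by simp)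
        map_mul' := fun a b => Subtype.ext (by simp [mul_pow])
        map_zero' := Subtype.ext (by simp [zero_pow (pow_ne_zero r (Fact.out : p.Prime).ne_zero)])
        map_add' := fun a b => Subtype.ext (by simp [add_pow_expChar_pow]) }
    have hsep : IsSeparable L (y ^ p ^ r) := by
      refine Polynomial.Separable.of_dvd ((show (minpoly E y).Separable from Algebra.IsSeparable.isSeparable E y).map (f := τ))
        (minpoly.dvd L _ ?_)
      have hτ : (algebraMap L K).comp τ = (iterateFrobenius K p r).comp (algebraMap E K) :=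
        RingHom.ext fun w => rfl
      rw [Polynomial.aeval_def, Polynomial.eval₂_map, hτ, ← Polynomial.eval₂_map, ← iterateFrobenius_def p r y, Polynomial.eval₂_at_apply,
        Polynomial.eval_map, ← Polynomial.aeval_def, minpoly.aeval, map_zero]
    obtain ⟨m, hm⟩ := IsPurelyInseparable.inseparable L (y ^ p ^ r) hsep
    show y ^ p ^ r ∈ L
    rw [← hm]
    exact m.2
  refine ⟨r, le_antisymm ?_ hML⟩
  intro y hy
  -- every element is a polynomial in `z` over `M`
  haveI : CharP M p := (Algebra.charP_iff M K p).mpr inferInstance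
  haveI : ExpChar M p := ExpChar.prime Fact.out
  let N := IntermediateField.adjoin M ({z} : Set K)
  have htop : ∀ v : K, v ∈ N := by
    intro v
    have hle : E ≤ N.restrictScalars k := IntermediateField.adjoin_simple_le_iff.2
      (IntermediateField.mem_adjoin_simple_self M z)
    letI : Algebra E N := (IntermediateField.inclusion hle).toRingHom.toAlgebra
    haveI : IsScalarTower E N K := IsScalarTower.of_algebraMap_eq fun _ => rfl
    haveI : Algebra.IsSeparable N K := Algebra.isSeparable_tower_top_of_isSeparable E N K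
    haveI : CharP N p := (Algebra.charP_iff N K p).mpr inferInstance
    haveI : ExpChar N p := ExpChar.prime Fact.out
    haveI : IsPurelyInseparable N K := by
      rw [isPurelyInseparable_iff_pow_mem N p]
      exact fun w => ⟨r, algebraMap M N ⟨w ^ p ^ r, IntermediateField.subset_adjoin _ _ ⟨w, rfl⟩⟩, rfl⟩
    obtain ⟨m, rfl⟩ := IsPurelyInseparable.surjective_algebraMap_of_isSeparable N K v
    exact m.2
  have hzM : IsIntegral M z := by
    refine IsIntegral.of_pow (pow_pos (Fact.out : p.Prime).pos r) ?_
    exact isIntegral_algebraMap (x := (⟨z ^ p ^ r, IntermediateField.subset_adjoin _ _ ⟨z, rfl⟩⟩ : M))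
  obtain ⟨f, hf⟩ : ∃ f : Polynomial M, Polynomial.aeval z f = y := by
    have : y ∈ (IntermediateField.adjoin M ({z} : Set K)).toSubalgebra := htop y
    rw [IntermediateField.adjoin_simple_toSubalgebra_of_isAlgebraic hzM.isAlgebraic,
      Algebra.adjoin_singleton_eq_range_aeval] at this
    exact this
  let μ : Polynomial M := Polynomial.X ^ p ^ r -
    Polynomial.C ⟨z ^ p ^ r, IntermediateField.subset_adjoin _ _ ⟨z, rfl⟩⟩
  have hμ : μ.Monic := Polynomial.monic_X_pow_sub_C _ (pow_ne_zero r (Fact.out : p.Prime).ne_zero)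
  have hμz : Polynomial.aeval z μ = 0 := by
    simp [μ, IntermediateField.algebraMap_apply]
  let g := f %ₘ μ
  have hg : Polynomial.aeval z g = y := by rw [← hf, Polynomial.aeval_modByMonic_eq_self_of_root hμz]
  have hgdeg : g.degree < (p ^ r : ℕ) := by
    have := Polynomial.degree_modByMonic_lt f hμ
    rwa [show μ.degree = (p ^ r : ℕ) from Polynomial.degree_X_pow_sub_C (pow_pos (Fact.out : p.Prime).pos r) _]
      at this
  have hmin : p ^ r ≤ (minpoly L z).natDegree := by
    obtain ⟨n, w, hnw⟩ := IsPurelyInseparable.minpoly_eq_X_pow_sub_C L p z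
    have h0 := minpoly.aeval L z
    rw [hnw] at h0 ⊢
    rw [Polynomial.natDegree_X_pow_sub_C]
    refine Nat.pow_le_pow_right (Fact.out : p.Prime).pos (Nat.find_min' (hL z) ?_)
    simp only [map_sub, map_pow, Polynomial.aeval_X, Polynomial.aeval_C, sub_eq_zero] at h0
    exact h0 ▸ w.2
  let P : Polynomial L := g.map (IntermediateField.inclusion hML).toRingHom - Polynomial.C ⟨y, hy⟩
  have hP : P = 0 := by
    by_contra hP0
    have hev : Polynomial.aeval z P = 0 := by
      simp only [P, map_sub, Polynomial.aeval_C, IntermediateField.algebraMap_apply]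
      rw [sub_eq_zero, Polynomial.aeval_def, Polynomial.eval₂_map]
      exact hg
    have h1 := minpoly.degree_le_of_ne_zero L z hP0 hev
    have h2 : P.degree < (p ^ r : ℕ) :=
      lt_of_le_of_lt (Polynomial.degree_sub_le _ _) (max_lt (lt_of_le_of_lt Polynomial.degree_map_le hgdeg)
        (lt_of_le_of_lt Polynomial.degree_C_le (by exact_mod_cast pow_pos (Fact.out : p.Prime).pos r)))
    rw [Polynomial.degree_eq_natDegree (minpoly.ne_zero (Algebra.IsIntegral.isIntegral z))] at h1
    exact absurd (lt_of_le_of_lt h1 h2) (by exact_mod_cast not_lt.2 hmin)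
  have h0 := congrArg (fun Q : Polynomial L => ((Q.coeff 0 : L) : K)) hP
  simp only [P, Polynomial.coeff_sub, Polynomial.coeff_map, Polynomial.coeff_C_zero, Polynomial.coeff_zero,
    AddSubgroupClass.coe_sub, ZeroMemClass.coe_zero, sub_eq_zero] at h0
  exact h0 ▸ (g.coeff 0).2

/-- A ring map out of a tensor product from compatible ring maps. -/
theorem exists_twistHom {k k' A T : Type u} [Field k] [Field k'] [CommRing A] [CommRing T] [Algebra k k']
    [Algebra k A] (a : A →+* T) (b : k' →+* T)
    (h : ∀ c, a (algebraMap k A c) = b (algebraMap k k' c)) :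
    ∃ F : k' ⊗[k] A →+* T, ∀ c x, F (c ⊗ₜ x) = b c * a x := by
  letI : Algebra k T := (b.comp (algebraMap k k')).toAlgebra
  let b' : k' →ₐ[k] T := { toRingHom := b, commutes' := fun c => rfl }
  let a' : A →ₐ[k] T := { toRingHom := a, commutes' := h }
  exact ⟨(Algebra.TensorProduct.lift b' a' fun _ _ => Commute.all _ _).toRingHom, fun c x => rfl⟩

section Geometry

variable (k k' : Type u) [Field k] [Field k'] [Algebra k k'] (p r : ℕ) [Fact p.Prime] [CharP k p]
  (θ : k' →+* k) (hθ : ∀ c : k, θ (algebraMap k k' c) = c ^ p ^ r)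
  (hθ' : ∀ c : k', algebraMap k k' (θ c) = c ^ p ^ r)
  {X X' : Scheme.{u}} [X.Over (Spec (CommRingCat.of k))] [X'.Over (Spec (CommRingCat.of k'))]
  (g : X' ⟶ X) (H : IsPullback g (X' ↘ Spec (CommRingCat.of k')) (X ↘ Spec (CommRingCat.of k))
    (Spec.map (CommRingCat.ofHom (algebraMap k k'))))

include hθ' H in
theorem isHomeomorph_twist : IsHomeomorph g := by
  haveI : ExpChar k p := ExpChar.prime Fact.out
  haveI : IsPurelyInseparable k k' := by
    rw [isPurelyInseparable_iff_pow_mem k p]
    exact fun c => ⟨r, θ c, hθ' c⟩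
  haveI : IsIntegralHom (Spec.map (CommRingCat.ofHom (algebraMap k k'))) :=
    IsIntegralHom.SpecMap_iff.2 (algebraMap_isIntegral_iff.2 inferInstance)
  haveI : Surjective (Spec.map (CommRingCat.ofHom (algebraMap k k'))) :=
    ⟨fun x => ⟨IsLocalRing.closedPoint k', Subsingleton.elim _ _⟩⟩
  haveI := PerfClosCyc.universallyInjective_specMap k k'
  haveI : UniversallyInjective g := MorphismProperty.of_isPullback H.flip inferInstance
  haveI : IsIntegralHom g := MorphismProperty.of_isPullback H.flip inferInstance
  haveI : Surjective g := MorphismProperty.of_isPullback H.flip inferInstance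
  exact isHomeomorph_iff_continuous_isClosedMap_bijective.2
    ⟨g.continuous, g.isClosedMap, g.injective, g.surjective⟩

variable [IsIntegral X] [IsIntegral X'] (e : g (genericPoint X') = genericPoint X)

include hθ hθ' H in
/-- The function field of the twist inside that of the curve. -/
theorem exists_fieldHom :
    ∃ ν : X'.functionField →+* X.functionField,
      (∀ c : k', ν (algebraMap k' X'.functionField c) = algebraMap k X.functionField (θ c)) ∧
      (∀ y, ν (Hurwitz.ψ e y) = y ^ p ^ r) ∧
      ∀ w, ν w ∈ IntermediateField.adjoin k (Set.range fun y : X.functionField => y ^ p ^ r) := by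
  obtain ⟨U, hU, hgU, -⟩ := exists_isAffineOpen_mem_and_subset (x := genericPoint X) (U := ⊤) trivial
  haveI : IsAffineHom g := by
    haveI : IsAffineHom (Spec.map (CommRingCat.ofHom (algebraMap k k'))) := inferInstance
    exact MorphismProperty.of_isPullback H.flip inferInstance
  haveI : Nonempty U := ⟨⟨_, hgU⟩⟩
  have hgU' : genericPoint X' ∈ g ⁻¹ᵁ U := by rw [Scheme.Hom.mem_preimage, e]; exact hgU
  haveI : Nonempty (g ⁻¹ᵁ U : X'.Opens) := ⟨⟨_, hgU'⟩⟩
  have hU' : IsAffineOpen (g ⁻¹ᵁ U) := hU.preimage g
  haveI := functionField_isFractionRing_of_isAffineOpen X U hU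
  haveI := functionField_isFractionRing_of_isAffineOpen X' (g ⁻¹ᵁ U) hU'
  obtain ⟨ee, hee⟩ := exists_tensor_equiv k k' g H hU
  letI : Algebra k Γ(X, U) := (locHom k U).toAlgebra
  letI : Algebra k' Γ(X', g ⁻¹ᵁ U) := (locHom k' (g ⁻¹ᵁ U)).toAlgebra
  let ε : k' ⊗[k] Γ(X, U) ≃ₐ[k'] Γ(X', g ⁻¹ᵁ U) := ee
  haveI : CharP Γ(X, U) p := charP_of_injective_ringHom (locHom k U).injective p
  haveI : ExpChar Γ(X, U) p := ExpChar.prime Fact.out
  obtain ⟨G, hG⟩ := exists_twistHom (k := k) (k' := k') (iterateFrobenius Γ(X, U) p r) ((locHom k U).comp θ)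
    fun c => by
      show (locHom k U c) ^ p ^ r = locHom k U (θ (algebraMap k k' c))
      rw [hθ, map_pow]
  haveI : Nontrivial (k' ⊗[k] Γ(X, U)) := ε.toEquiv.nontrivial
  haveI : CharP k' p := charP_of_injective_ringHom (algebraMap k k').injective p
  haveI : CharP (k' ⊗[k] Γ(X, U)) p := charP_of_injective_ringHom
    (algebraMap k' (k' ⊗[k] Γ(X, U))).injective p
  haveI : ExpChar (k' ⊗[k] Γ(X, U)) p := ExpChar.prime Fact.out
  have hpow : ∀ x : k' ⊗[k] Γ(X, U), x ^ p ^ r = 1 ⊗ₜ G x := by
    intro x
    induction x using TensorProduct.induction_on with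
    | zero => rw [map_zero, TensorProduct.tmul_zero, zero_pow (pow_ne_zero r (Fact.out : p.Prime).ne_zero)]
    | tmul c a =>
      rw [hG, Algebra.TensorProduct.tmul_pow, ← hθ' c, Algebra.algebraMap_eq_smul_one,
        TensorProduct.smul_tmul, Algebra.smul_def]
      rfl
    | add x y hx hy => rw [add_pow_expChar_pow, hx, hy, map_add, TensorProduct.tmul_add]
  let F : Γ(X', g ⁻¹ᵁ U) →+* X.functionField :=
    (algebraMap Γ(X, U) X.functionField).comp (G.comp (ε.symm : _ ≃ₐ[k'] _).toRingHom)
  have hF : Function.Injective F := by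
    refine (injective_iff_map_eq_zero F).2 fun n hn => ?_
    have h1 : G (ε.symm n) = 0 := IsFractionRing.injective Γ(X, U) X.functionField (hn.trans (map_zero _).symm)
    have h2 : (ε.symm n) ^ p ^ r = 0 := by rw [hpow, h1, TensorProduct.tmul_zero]
    have h3 := congrArg ε h2
    rw [map_pow, map_zero, AlgEquiv.apply_symm_apply] at h3
    exact (pow_eq_zero_iff (pow_ne_zero r (Fact.out : p.Prime).ne_zero)).1 h3
  let ν : X'.functionField →+* X.functionField := IsFractionRing.lift hF
  have hν : ∀ n, ν (algebraMap Γ(X', g ⁻¹ᵁ U) X'.functionField n) = F n := fun n =>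
    IsFractionRing.lift_algebraMap hF n
  have hcst : ∀ c : k, algebraMap Γ(X, U) X.functionField (locHom k U c) = algebraMap k X.functionField c := fun c =>
    TopCat.Presheaf.germ_res_apply X.presheaf (homOfLE (le_top : U ≤ ⊤)) _ hgU _
  refine ⟨ν, fun c => ?_, fun y => ?_, fun w => ?_⟩
  · have hc : algebraMap k' X'.functionField c =
        algebraMap Γ(X', g ⁻¹ᵁ U) X'.functionField (locHom k' (g ⁻¹ᵁ U) c) :=
      (TopCat.Presheaf.germ_res_apply X'.presheaf (homOfLE (le_top : g ⁻¹ᵁ U ≤ ⊤)) _ hgU' _).symm
    rw [hc, hν]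
    have : ε.symm (locHom k' (g ⁻¹ᵁ U) c) = c ⊗ₜ[k] 1 :=
      (ε.symm.commutes c).trans (Algebra.TensorProduct.algebraMap_apply c)
    show algebraMap Γ(X, U) X.functionField (G (ε.symm _)) = _
    rw [this, hG, map_one, mul_one]
    exact hcst _
  · have key : (ν.comp (Hurwitz.ψ e)).comp (algebraMap Γ(X, U) X.functionField) =
        (algebraMap Γ(X, U) X.functionField).comp (iterateFrobenius Γ(X, U) p r) := by
      ext a
      have h1 : Hurwitz.ψ e (algebraMap Γ(X, U) X.functionField a) =
          algebraMap Γ(X', g ⁻¹ᵁ U) X'.functionField ((g.appLE U (g ⁻¹ᵁ U) le_rfl).hom a) := by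
        rw [← Scheme.Hom.app_eq_appLE]
        show ((X.presheaf.germ U (genericPoint X) hgU ≫ X.presheaf.stalkSpecializes _) ≫ g.stalkMap _) a = _
        rw [TopCat.Presheaf.germ_stalkSpecializes, Scheme.Hom.germ_stalkMap]
        rfl
      show ν (Hurwitz.ψ e (algebraMap Γ(X, U) X.functionField a)) = _
      rw [h1, hν, ← hee]
      show algebraMap Γ(X, U) X.functionField (G (ε.symm (ε (1 ⊗ₜ a)))) = _
      rw [AlgEquiv.symm_apply_apply, hG, map_one, one_mul]
      rfl
    have hc : CharP X.functionField p := charP_of_injective_ringHom (algebraMap k X.functionField).injective p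
    haveI : ExpChar X.functionField p := ExpChar.prime Fact.out
    have h2 : ν.comp (Hurwitz.ψ e) = iterateFrobenius X.functionField p r :=
      IsLocalization.ringHom_ext (nonZeroDivisors Γ(X, U)) (key.trans (RingHom.ext fun a => by simp [iterateFrobenius_def]))
    exact RingHom.congr_fun h2 y
  · obtain ⟨n, d, -, rfl⟩ := IsFractionRing.div_surjective (A := Γ(X', g ⁻¹ᵁ U)) w
    rw [map_div₀, hν, hν]
    have hmem : ∀ x, algebraMap Γ(X, U) X.functionField (G x) ∈
        IntermediateField.adjoin k (Set.range fun y : X.functionField => y ^ p ^ r) := by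
      intro x
      induction x using TensorProduct.induction_on with
      | zero => rw [map_zero, map_zero]; exact zero_mem _
      | tmul c a =>
        rw [hG, map_mul, iterateFrobenius_def, map_pow]
        refine mul_mem ?_ (IntermediateField.subset_adjoin _ _ ⟨_, rfl⟩)
        rw [RingHom.comp_apply, hcst]
        exact IntermediateField.algebraMap_mem _ _
      | add x y hx hy => rw [map_add, map_add]; exact add_mem hx hy
    exact div_mem (hmem _) (hmem _)

end Geometry

/-- The function field of a smooth curve has a separating element. -/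
theorem exists_separating {k : Type u} [Field k] {X : Scheme.{u}} [IsIntegral X] [RegCurve X]
    [X.Over (Spec (CommRingCat.of k))] [IsProper (X ↘ Spec (CommRingCat.of k))]
    [Smooth (X ↘ Spec (CommRingCat.of k))] :
    ∃ z : X.functionField, Transcendental k z ∧
      Algebra.IsSeparable (IntermediateField.adjoin k ({z} : Set X.functionField)) X.functionField := by
  obtain ⟨U, hU, hgU, -⟩ := exists_isAffineOpen_mem_and_subset (x := genericPoint X) (U := ⊤) trivial
  haveI : Nonempty U := ⟨⟨_, hgU⟩⟩
  haveI := functionField_isFractionRing_of_isAffineOpen X U hU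
  letI : Algebra k Γ(X, U) := (locHom k U).toAlgebra
  haveI : IsScalarTower k Γ(X, U) X.functionField := IsScalarTower.of_algebraMap_eq fun c =>
    (TopCat.Presheaf.germ_res_apply X.presheaf (homOfLE (le_top : U ≤ ⊤)) _ hgU _).symm
  haveI : Algebra.Smooth k Γ(X, U) := RingHom.Smooth.toAlgebra (f := locHom k U)
    (show (((X ↘ Spec (CommRingCat.of k)).appLE ⊤ U le_top).hom.comp
        (Scheme.ΓSpecIso (CommRingCat.of k)).inv.hom).Smooth from
      (RingHom.Smooth.of_bijective (ConcreteCategory.bijective_of_isIso (Scheme.ΓSpecIso (CommRingCat.of k)).inv)).comp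
        ((X ↘ Spec (CommRingCat.of k)).smooth_appLE (isAffineOpen_top _) hU le_top))
  haveI : Algebra.FormallySmooth Γ(X, U) X.functionField :=
    Algebra.FormallySmooth.of_isLocalization (nonZeroDivisors Γ(X, U))
  haveI : Algebra.FormallySmooth k X.functionField := Algebra.FormallySmooth.comp k Γ(X, U) X.functionField
  have hg : Algebra.IsGeometricallyReduced k X.functionField :=
    SepField.formallySmooth_iff_isGeometricallyReduced.1 inferInstance
  refine FunFld.exists_separatingElement' (CurveRR.isFG k) fun q _ _ s hs => ?_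
  exact SepField.powIndep_of_isGeometricallyReduced hg _ hs

/-- A purely inseparable map from a smooth curve is a Frobenius twist. -/
theorem exists_iso_frobTwist {k : Type u} [Field k] (p : ℕ) [Fact p.Prime] [ExpChar k p]
    {X Y : Scheme.{u}} [IsIntegral X] [IsIntegral Y] [RegCurve X] [RegCurve Y]
    [X.Over (Spec (CommRingCat.of k))] [Y.Over (Spec (CommRingCat.of k))]
    [IsProper (X ↘ Spec (CommRingCat.of k))] [IsProper (Y ↘ Spec (CommRingCat.of k))]
    [Smooth (X ↘ Spec (CommRingCat.of k))]
    (f : X ⟶ Y) (hf : f ≫ (Y ↘ Spec (CommRingCat.of k)) = X ↘ Spec (CommRingCat.of k))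
    (e : f (genericPoint X) = genericPoint Y)
    (hpi : letI := (Hurwitz.ψ e).toAlgebra; IsPurelyInseparable Y.functionField X.functionField) :
    ∃ (r : ℕ) (i : Y ≅ pullback (X ↘ Spec (CommRingCat.of k)) (Spec.map (CommRingCat.ofHom (iterateFrobenius k p r)))),
      i.hom ≫ pullback.snd (X ↘ Spec (CommRingCat.of k)) (Spec.map (CommRingCat.ofHom (iterateFrobenius k p r))) =
        Y ↘ Spec (CommRingCat.of k) := by
  haveI : CharP k p := by
    cases ‹ExpChar k p› with
    | zero => exact absurd (Fact.out : Nat.Prime 1) Nat.not_prime_one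
    | prime _ => assumption
  haveI : CharP X.functionField p := charP_of_injective_algebraMap (algebraMap k X.functionField).injective p
  haveI : CharP Y.functionField p := charP_of_injective_algebraMap (algebraMap k Y.functionField).injective p
  let ψA : Y.functionField →ₐ[k] X.functionField :=
    { toRingHom := Hurwitz.ψ e, commutes' := Hurwitz.ψ_algebraMap k e hf }
  obtain ⟨z, -, hz⟩ := exists_separating (k := k) (X := X)
  obtain ⟨r, hr⟩ := eq_adjoin_range_pow p z ψA.fieldRange fun y => by
    letI := (Hurwitz.ψ e).toAlgebra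
    haveI := hpi
    haveI : ExpChar Y.functionField p := ExpChar.prime Fact.out
    obtain ⟨n, w, hw⟩ := IsPurelyInseparable.pow_mem Y.functionField p y
    exact ⟨n, w, hw⟩
  refine ⟨r, ?_⟩
  let sX := X ↘ Spec (CommRingCat.of k)
  let φ := iterateFrobenius k p r
  let X' := pullback sX (Spec.map (CommRingCat.ofHom φ))
  letI oX' : X'.Over (Spec (CommRingCat.of k)) := ⟨pullback.snd sX (Spec.map (CommRingCat.ofHom φ))⟩
  let π : X' ⟶ X := pullback.fst sX (Spec.map (CommRingCat.ofHom φ))
  have hsq : IsPullback π (X' ↘ Spec (CommRingCat.of k)) sX (Spec.map (CommRingCat.ofHom φ)) :=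
    IsPullback.of_hasPullback _ _
  have hθ : ∀ c : k, RingHom.id k (φ c) = c ^ p ^ r := fun c => rfl
  have hhom : IsHomeomorph π := @isHomeomorph_twist k k _ _ φ.toAlgebra p r _ _ (RingHom.id k) hθ _ _ _ _ π hsq
  haveI : Smooth (X' ↘ Spec (CommRingCat.of k)) := MorphismProperty.pullback_snd _ _ inferInstance
  haveI : IsProper (X' ↘ Spec (CommRingCat.of k)) := MorphismProperty.pullback_snd _ _ inferInstance
  haveI : AlgebraicGeometry.IsReduced X' := RedSmooth.isReduced_of_smooth (X' ↘ Spec (CommRingCat.of k))
  haveI : IrreducibleSpace X' := by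
    have h1 := (IrreducibleSpace.isIrreducible_univ X).image hhom.homeomorph.symm
      hhom.homeomorph.symm.continuous.continuousOn
    rw [Set.image_univ, hhom.homeomorph.symm.surjective.range_eq] at h1
    exact (irreducibleSpace_def X').2 h1
  haveI : IsIntegral X' := isIntegral_of_irreducibleSpace_of_isReduced X'
  haveI : RegCurve X' := regCurve_of_smooth (X' ↘ Spec (CommRingCat.of k))
    (hhom.topologicalKrullDim_eq.trans RegCurve.dim)
  have eπ : π (genericPoint X') = genericPoint X := by
    refine ((genericPoint_spec X).eq ?_).symm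
    have h1 := (genericPoint_spec X').image π.continuous
    rwa [Set.image_univ, hhom.bijective.2.range_eq, closure_univ] at h1
  obtain ⟨ν, hνc, hνψ, hνM⟩ := @exists_fieldHom k k _ _ φ.toAlgebra p r _ _ (RingHom.id k) hθ (fun c => rfl)
    X X' _ _ π hsq _ _ eπ
  let νA : X'.functionField →ₐ[k] X.functionField := { toRingHom := ν, commutes' := hνc }
  have hrange : νA.fieldRange = ψA.fieldRange := by
    rw [hr]
    refine le_antisymm ?_ (IntermediateField.adjoin_le_iff.2 ?_)
    · rintro _ ⟨w, rfl⟩; exact hνM w
    · rintro _ ⟨y, rfl⟩; exact ⟨_, hνψ y⟩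
  let χ : Y.functionField ≃ₐ[k] X'.functionField :=
    ((AlgEquiv.ofInjectiveField ψA).trans (IntermediateField.equivOfEq hrange.symm)).trans
      (AlgEquiv.ofInjectiveField νA).symm
  obtain ⟨i, hi, -⟩ := FFHom.exists_iso k (X := X') (Y := Y) χ.toRingEquiv χ.commutes
  refine ⟨i.symm, ?_⟩
  show i.inv ≫ (X' ↘ Spec (CommRingCat.of k)) = _
  rw [← hi, Iso.inv_hom_id_assoc]

end GrothLib.CurveMult.InsepTwistGen
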