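import Groth.Agent.Lib.CurveMult.OmegaCan
import Groth.Agent.Lib.CurveMult.InsepTwistGen
import Groth.Agent.Lib.CurveMult.DegBound
import Groth.Agent.Lib.CurveMult.IdealDiv
import Groth.Agent.Lib.CurveMult.BaseChangeH
import Groth.Agent.Lib.CurveMult.HyperSep
import Groth.Agent.Lib.OmegaBC.Section
import Groth.Agent.Lib.Dim.Scheme
import Groth.Agent.Lib.Euler.Rank
import Groth.Agent.Lib.FunFld.CliffordEq
import Mathlib.FieldTheory.IsAlgClosed.AlgebraicClosure

/-!
# The sheaf of differentials of a smooth proper curve over any field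

It is invertible, of degree `2g - 2`, with a `g`-dimensional space of sections, and the sheaf of a
canonical divisor.
-/

set_option autoImplicit false
set_option linter.style.haveILetI false
set_option linter.unusedSectionVars false

universe u

open CategoryTheory CategoryTheory.Limits AlgebraicGeometry
open _root_.FunFld (Place Divisor ell)

noncomputable section

namespace GrothLib.CurveMult.OmegaField

open GrothLib GrothLib.CurveRR

/-- The differentials of a smooth scheme base-change along any cartesian square. -/
theorem nonempty_pullback_omega {X X' S S' : Scheme.{u}} {f : X ⟶ S} {f' : X' ⟶ S'} {g : X' ⟶ X} {φ : S' ⟶ S}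
    [QuasiSeparated f] [QuasiSeparated f'] (H : IsPullback g f' f φ) :
    Nonempty ((Scheme.Modules.pullback g).obj (Omega.sheaf f) ≅ Omega.sheaf f') := by
  let m : pullback f' f' ⟶ pullback f f := pullback.map f' f' f f g g φ H.w.symm H.w.symm
  have h1 : IsPullback (m ≫ pullback.snd f f) (pullback.fst f' f') f (g ≫ f) := by
    rw [show m ≫ pullback.snd f f = pullback.snd f' f' ≫ g from pullback.lift_snd _ _ _, H.w]
    exact (IsPullback.of_hasPullback f' f').flip.paste_horiz H
  have hk : IsPullback m (pullback.fst f' f') (pullback.fst f f) g :=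
    IsPullback.of_right h1 (pullback.lift_fst _ _ _) (IsPullback.of_hasPullback f f).flip
  refine OmegaBC.nonempty_pullback_conormal_section (pullback.diagonal f) (pullback.diagonal f')
    (pullback.fst f f) (pullback.fst f' f') g m hk (pullback.diagonal_fst f) (pullback.diagonal_fst f') ?_
  refine pullback.hom_ext ?_ ?_
  · simp only [m, pullback.map, Category.assoc, pullback.lift_fst, pullback.diagonal_fst, Category.comp_id]
    rw [← Category.assoc, pullback.diagonal_fst, Category.id_comp]
  · simp only [m, pullback.map, Category.assoc, pullback.lift_snd, pullback.diagonal_snd, Category.comp_id]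
    rw [← Category.assoc, pullback.diagonal_snd, Category.id_comp]

variable (k : Type u) [Field k] {X : Scheme.{u}} [X.Over (Spec (CommRingCat.of k))] [IsIntegral X]
  [IsProper (X ↘ Spec (CommRingCat.of k))] [Smooth (X ↘ Spec (CommRingCat.of k))]

theorem isInvertible [RegCurve X] : PicF.IsInvertible (Omega.sheaf (X ↘ Spec (CommRingCat.of k))) := by
  obtain ⟨z, -, hsep⟩ := InsepTwistGen.exists_separating (k := k) (X := X)
  refine OmegaCan.isInvertible_omega (finrank_eq_one _ (FunFld.D_ne_zero_of_isSeparable (isFG k) hsep) fun w => ?_)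
  exact Submodule.mem_span_singleton.mp ((FunFld.span_D_eq_top (k := k) z) ▸ Submodule.mem_top)

theorem finrank_deg_omega (hdim : topologicalKrullDim X = 1)
    (h0 : Module.finrank k (Coh.HH X (Coh.structureModule X) 0) = 1) :
    Module.finrank k (Coh.HH X (Omega.sheaf (X ↘ Spec (CommRingCat.of k))) 0) = Curv2.genus k X ∧
      Curv2.deg k X (Omega.sheaf (X ↘ Spec (CommRingCat.of k))) 1 = 2 * (Curv2.genus k X : ℤ) - 2 := by
  let f := X ↘ Spec (CommRingCat.of k)
  let K := AlgebraicClosure k
  let φ := Spec.map (CommRingCat.ofHom (algebraMap k K))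
  let X' := Limits.pullback φ f
  letI : X'.Over (Spec (CommRingCat.of K)) := ⟨Limits.pullback.fst φ f⟩
  have H : IsPullback (Limits.pullback.snd φ f) (X' ↘ Spec (CommRingCat.of K)) f φ :=
    (IsPullback.of_hasPullback φ f).flip
  let g := Limits.pullback.snd φ f
  haveI : IsProper (X' ↘ Spec (CommRingCat.of K)) := inferInstanceAs (IsProper (Limits.pullback.fst φ f))
  haveI : Smooth (X' ↘ Spec (CommRingCat.of K)) := inferInstanceAs (Smooth (Limits.pullback.fst φ f))
  have eO := finrank_HH_structure_baseChange (algebraMap k K) g H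
  have h0' : Module.finrank K (Coh.HH X' (Coh.structureModule X') 0) = 1 := (eO 0).trans h0
  haveI := connectedSpace_of_finrank_H0 K h0'
  haveI : IsIntegral X' := Euler.isIntegral_of_smooth_connected K (X' ↘ Spec (CommRingCat.of K))
  haveI : IsLocallyNoetherian X := LocallyOfFiniteType.isLocallyNoetherian f
  have hdim' : topologicalKrullDim ↥X' = 1 := by
    have huniv : (Set.univ : Set ↥X') ∈ irreducibleComponents ↥X' := by
      rw [irreducibleComponents_eq_singleton]; rfl
    have h := Dim.topologicalKrullDim_component_pullback f _ huniv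
    rw [hdim] at h
    rw [← h]
    exact (IsHomeomorph.topologicalKrullDim_eq _ (Homeomorph.Set.univ ↥X').isHomeomorph).symm
  haveI := regCurve_of_smooth (X' ↘ Spec (CommRingCat.of K)) hdim'
  obtain ⟨C, hC, ⟨eC⟩⟩ := OmegaCan.exists_iso_omega (k := K) (X := X')
  have hK := isFunctionField K h0'
  have hg : _root_.FunFld.genus K X'.functionField = Curv2.genus k X :=
    (CurveRR.genus_eq K h0').symm.trans (eO 1)
  obtain ⟨e⟩ := nonempty_pullback_omega H
  haveI := OmegaSheaf.isQuasicoherent_sheaf f
  have eL : ∀ p, Module.finrank k (Coh.HH X (Omega.sheaf f) p) = Module.finrank K (Coh.HH X' (oD K C) p) :=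
    fun p => (finrank_HH_baseChange (algebraMap k K) g H (Omega.sheaf f) p).symm.trans
      (Euler.hhEquiv (A := K) (e ≪≫ eC) p).finrank_eq
  obtain ⟨hlC, hdC⟩ := FunFld.ell_canonical hK hC
  refine ⟨by rw [eL, finrank_H0_oD, hlC, hg], ?_⟩
  haveI := (Euler.isCoh_of_isInvertible (isInvertible_oD K C)).1
  have h1 := Euler.euler_eq_sub (X := X) k hdim.le (Omega.sheaf f)
  have h2 := Euler.euler_eq_sub (X := X') K hdim'.le (oD K C)
  have h3 := Euler.euler_structure (X := X) k hdim.le
  have h4 := Euler.euler_structure (X := X') K hdim'.le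
  have h5 := deg_oD (k := K) C
  rw [← eL, ← eL] at h2
  simp only [Curv2.deg, Nat.cast_one, one_mul] at h5 ⊢
  rw [eO 0, show Curv2.genus K X' = Curv2.genus k X from eO 1] at h4
  change Curv2.euler k X (Omega.sheaf f) - _ = _
  omega

/-- The sheaf of differentials is the sheaf of a canonical divisor. -/
theorem exists_iso_canonical [RegCurve X] (hdim : topologicalKrullDim X = 1)
    (h0 : Module.finrank k (Coh.HH X (Coh.structureModule X) 0) = 1) :
    ∃ C : Divisor k X.functionField, _root_.FunFld.IsCanonical k X.functionField C ∧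
      Nonempty (Omega.sheaf (X ↘ Spec (CommRingCat.of k)) ≅ oD k C) := by
  obtain ⟨D, ⟨e⟩⟩ := exists_iso_oD k (isInvertible k (X := X))
  obtain ⟨h1, h2⟩ := finrank_deg_omega k hdim h0
  rw [(Euler.hhEquiv (A := k) e 0).finrank_eq, finrank_H0_oD] at h1
  rw [Euler.deg_of_iso k e, deg_oD] at h2
  have hK := isFunctionField k h0
  have hg := CurveRR.genus_eq k h0
  obtain ⟨C, hC⟩ := FunFld.exists_isCanonical hK
  obtain ⟨e'⟩ := DivIso.nonempty_iso_of_sub_mem k
    (FunFld.sub_mem_prinDivs_of_canonical hK hC (A := D) (by omega) (by omega))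
  exact ⟨C, hC, ⟨e ≪≫ e'⟩⟩

/-- A geometrically connected smooth proper scheme is integral with only constant global functions. -/
theorem integral_and_h0 (k : Type u) [Field k] (X : Scheme.{u}) [X.Over (Spec (CommRingCat.of k))]
    [IsProper (X ↘ Spec (CommRingCat.of k))] [Smooth (X ↘ Spec (CommRingCat.of k))]
    [GeometricallyConnected (X ↘ Spec (CommRingCat.of k))] :
    IsIntegral X ∧ Module.finrank k (Coh.HH X (Coh.structureModule X) 0) = 1 := by
  let f := X ↘ Spec (CommRingCat.of k)
  let K := AlgebraicClosure k
  let φ := Spec.map (CommRingCat.ofHom (algebraMap k K))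
  let X' := Limits.pullback φ f
  letI : X'.Over (Spec (CommRingCat.of K)) := ⟨Limits.pullback.fst φ f⟩
  have H : IsPullback (Limits.pullback.snd φ f) (X' ↘ Spec (CommRingCat.of K)) f φ :=
    (IsPullback.of_hasPullback φ f).flip
  haveI : IsProper (X' ↘ Spec (CommRingCat.of K)) := inferInstanceAs (IsProper (Limits.pullback.fst φ f))
  haveI : Smooth (X' ↘ Spec (CommRingCat.of K)) := inferInstanceAs (Smooth (Limits.pullback.fst φ f))
  haveI : ConnectedSpace X' := ‹GeometricallyConnected f›.geometrically_connectedSpace _ _ _ H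
  haveI : IsIntegral X' := Euler.isIntegral_of_smooth_connected K (X' ↘ Spec (CommRingCat.of K))
  haveI : Surjective (Limits.pullback.snd φ f) := MorphismProperty.of_isPullback (P := @Surjective) H.flip inferInstance
  haveI : ConnectedSpace X := (Limits.pullback.snd φ f).surjective.connectedSpace (Limits.pullback.snd φ f).continuous
  haveI : IsIntegral X := Euler.isIntegral_of_smooth_connected k f
  refine ⟨inferInstance, ?_⟩
  rw [← finrank_HH_structure_baseChange (algebraMap k K) _ H 0]
  exact CurveRR.finrank_H0_structure_eq_one K (X := X')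

end GrothLib.CurveMult.OmegaField
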