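import Groth.Agent.Lib.CurveMult.SepIdeal
import Groth.Agent.Lib.Euler.AmpleIff

/-!
# The criterion for very ampleness on an integral curve
-/

set_option linter.style.haveILetI false
set_option backward.isDefEq.respectTransparency false

universe u

open CategoryTheory CategoryTheory.Limits AlgebraicGeometry TopologicalSpace Opposite
open GrothLib.InvExt (mres)
open GrothLib.Ample (Cocycle res)

noncomputable section

namespace GrothLib.CurveMult

variable {X : Scheme.{u}} (k : Type u) [Field k] [X.Over (Spec (CommRingCat.of k))]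
  [IsIntegral X] [IsProper (X ↘ Spec (CommRingCat.of k))]

include k in
/-- On a curve, sections without common zero of a bundle of positive degree have affine loci. -/
theorem isAffineOpen_locus_of_cover (hd : topologicalKrullDim X ≤ 1) (c : Cocycle X)
    (hpos : 0 < Curv2.deg k X (c.twist 1) 1) {N : ℕ} (a : Fin (N + 1) → c.sect 1 ⊤)
    (hcov : ∀ x : X, ∃ j, x ∈ c.locus (a j)) (j : Fin (N + 1)) : IsAffineOpen (c.locus (a j)) := by
  have := Euler.isNoetherian_of_proper (X := X) k
  let s : Fin (N + 1) → ProjUP.Γm (c.twist 1) := fun l => a l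
  have hloc : ∀ l, c.locus (Ample.ProjMap.sec c (Iso.refl _) s l) = c.locus (a l) := fun l => rfl
  have hs : ⨆ l, c.locus (Ample.ProjMap.sec c (Iso.refl _) s l) = ⊤ := eq_top_iff.mpr fun x _ => by
    obtain ⟨l, hx⟩ := hcov x
    exact Opens.mem_iSup.mpr ⟨l, hx⟩
  let q := X ↘ Spec (CommRingCat.of k)
  let D := Ample.ProjMap.dataOfSections c (Iso.refl _) s hs q
  let φ := D.map
  haveI := Chow.isProper_toSpec N k
  haveI : IsProper (φ ≫ CohB1.ProjSpace.toSpec N k) := by
    rw [show φ ≫ CohB1.ProjSpace.toSpec N k = q from D.map_toSpec]; infer_instance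
  haveI : IsProper φ := IsProper.of_comp φ (CohB1.ProjSpace.toSpec N k)
  obtain ⟨l, hη⟩ := hcov (genericPoint X)
  have hU : D.U l = c.locus (a l) := hloc l
  obtain ⟨x, hx⟩ : ∃ x, x ∉ c.locus (a l) := by
    by_contra h
    push Not at h
    exact locus_ne_top k c hd hpos (a l) (eq_top_iff.2 fun x _ => h x)
  have hne : φ x ≠ φ (genericPoint X) := by
    intro he
    refine hx ?_
    have h1 : genericPoint X ∈ φ ⁻¹ᵁ Proj.basicOpen (CohB1.polyGrading N k) (MvPolynomial.X l) := by
      rw [D.map_preimage, hU]; exact hη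
    have h2 : x ∈ φ ⁻¹ᵁ Proj.basicOpen (CohB1.polyGrading N k) (MvPolynomial.X l) := by
      show φ x ∈ Proj.basicOpen (CohB1.polyGrading N k) (MvPolynomial.X l)
      rw [he]
      exact h1
    rwa [D.map_preimage, hU] at h2
  have hgen : ¬ IsClosed ({φ (genericPoint X)} : Set _) := fun hc =>
    hne (Set.mem_singleton_iff.1 ((((genericPoint_spec X).specializes (y := x) trivial).map φ.continuous).mem_closed hc rfl))
  have hclimg : ∀ y : X, y ≠ genericPoint X → IsClosed ({φ y} : Set _) := fun y hy => by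
    rw [← Set.image_singleton]
    exact φ.isClosedMap _ (CurvePoints.isClosed_singleton hd hy)
  have hfib : ∀ z, (φ ⁻¹' {z}).Finite := by
    intro z
    by_cases hz : IsClosed ({z} : Set _)
    · refine CurvePoints.finite_of_isClosed hd (hz.preimage φ.continuous) fun h => hgen ?_
      rw [show φ (genericPoint X) = z from h]
      exact hz
    · refine (Set.finite_singleton (genericPoint X)).subset fun y hy => ?_
      by_contra hy'
      exact hz ((show φ y = z from hy) ▸ hclimg y hy')
  haveI : LocallyQuasiFinite φ := LocallyQuasiFinite.of_finite_preimage_singleton _ hfib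
  haveI : IsFinite φ := IsFinite.of_isProper_of_locallyQuasiFinite φ
  haveI : @IsAffineHom X (Proj (CohB1.polyGrading N k)) φ := (inferInstance : IsFinite φ).toIsAffineHom
  rw [← hloc j, show c.locus (Ample.ProjMap.sec c (Iso.refl _) s j) = D.U j from rfl, ← D.map_preimage j]
  exact (Proj.isAffineOpen_basicOpen (CohB1.polyGrading N k) _ (MvPolynomial.isHomogeneous_X k j) one_pos).preimage φ

theorem isMaximal_primeIdealOf {U : X.Opens} (hU : IsAffineOpen U) {x : X} (hxU : x ∈ U)
    (hx : IsClosed ({x} : Set X)) : (hU.primeIdealOf ⟨x, hxU⟩).asIdeal.IsMaximal := by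
  apply (PrimeSpectrum.isClosed_singleton_iff_isMaximal _).mp
  have h := hx.preimage hU.fromSpec.continuous
  have e : hU.fromSpec ⁻¹' {x} = {hU.primeIdealOf ⟨x, hxU⟩} := by
    refine Set.Subset.antisymm (fun p hp => hU.fromSpec.isOpenEmbedding.injective ?_) fun p hp => ?_
    · rw [hU.fromSpec_primeIdealOf]; exact hp
    · rw [Set.mem_singleton_iff.mp hp]
      exact hU.fromSpec_primeIdealOf ⟨x, hxU⟩
  rw [e] at h
  exact h

include k in
/-- At every closed point some section of a module with the bound does not vanish. -/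
theorem exists_section_at_closed [IsAlgClosed k] (c : Cocycle X)
    (hb : ∀ Z : X.IdealSheafData, topologicalKrullDim (Z.support : Set X) ≤ 0 →
      Module.finrank k (Coh.HH X (ClSub.quotMod Z) 0) ≤ 2 →
      Module.finrank k (Coh.HH X (CohB1.tensorMod (ClSub.idealMod Z) (c.twist 1)) 0) +
        Module.finrank k (Coh.HH X (ClSub.quotMod Z) 0) ≤ Module.finrank k (Coh.HH X (c.twist 1) 0))
    {x : X} (hx : IsClosed ({x} : Set X)) :
    ∃ z : Coh.HH X (c.twist 1) 0, x ∈ c.locus (ProjCoh.H0top (c.twist 1) z : c.sect 1 ⊤) := by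
  obtain ⟨i, hi⟩ := c.exists_mem x
  obtain ⟨V, hV, hxV, hVi⟩ := exists_isAffineOpen_mem_and_subset (x := x) (U := c.D i) hi
  have hu : ∀ t : c.sect 1 V, ∃! f : Γ(X, V), f • c.base 1 i hVi = t := by
    intro t
    have h := c.isGen_base 1 i hVi V le_rfl
    rw [InvExt.mres_self] at h
    exact h.existsUnique t
  let J := (hV.primeIdealOf ⟨x, hxV⟩).asIdeal
  haveI : J.IsMaximal := isMaximal_primeIdealOf hV hxV hx
  letI := (locHom k V).toAlgebra
  haveI : Algebra.FiniteType k Γ(X, V) := finiteType_locHom k hV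
  letI := Ideal.Quotient.field J
  haveI : Module.Finite k (Γ(X, V) ⧸ J) := finite_of_finite_type_of_isJacobsonRing k _
  obtain ⟨z, f, hf, hfJ⟩ := exists_sub_mem k c hV (c.base 1 i hVi) hu J inferInstance
    (fun Z h1 h2 => hb Z h1 (h2.trans_le ((finrank_quotient_le_one k J).trans one_le_two))) 1
  refine ⟨z, ?_⟩
  have hfx : f ∉ J := fun h => (Ideal.IsMaximal.ne_top inferInstance : J ≠ ⊤)
    ((Ideal.eq_top_iff_one J).2 (by simpa using J.add_mem hfJ h))
  have hxf : x ∈ X.basicOpen f := by
    have h2 : hV.primeIdealOf ⟨x, hxV⟩ ∈ hV.fromSpec ⁻¹ᵁ X.basicOpen f := by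
      rw [hV.fromSpec_preimage_basicOpen]; exact hfx
    have h3 : hV.fromSpec (hV.primeIdealOf ⟨x, hxV⟩) ∈ X.basicOpen f := h2
    rwa [hV.fromSpec_primeIdealOf] at h3
  rw [c.mem_locus_iff _ hi]
  have h3 := congrArg (fun t : c.sect 1 V => t.1 i) hf
  rw [c.smul_apply, c.base_self, mul_one, c.sectRes_apply] at h3
  have h4 := congrArg X.basicOpen h3
  rw [Scheme.basicOpen_res, Scheme.basicOpen_res] at h4
  exact (h4 ▸ (⟨⟨hxV, hi⟩, hxf⟩ : x ∈ (V ⊓ c.D i) ⊓ X.basicOpen f) :
    x ∈ (V ⊓ c.D i) ⊓ X.basicOpen ((show c.sect 1 ⊤ from ProjCoh.H0top (c.twist 1) z).1 i)).2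

include k in
/-- A spanning family of sections with the bound has no common zero and separates points and tangents. -/
theorem separating_of_bound [IsAlgClosed k] (hd : topologicalKrullDim X ≤ 1) (c : Cocycle X)
    (hb : ∀ Z : X.IdealSheafData, topologicalKrullDim (Z.support : Set X) ≤ 0 →
      Module.finrank k (Coh.HH X (ClSub.quotMod Z) 0) ≤ 2 →
      Module.finrank k (Coh.HH X (CohB1.tensorMod (ClSub.idealMod Z) (c.twist 1)) 0) +
        Module.finrank k (Coh.HH X (ClSub.quotMod Z) 0) ≤ Module.finrank k (Coh.HH X (c.twist 1) 0))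
    {N : ℕ} (z₀ : Fin (N + 1) → Coh.HH X (c.twist 1) 0) (hspan : Submodule.span k (Set.range z₀) = ⊤)
    (a : Fin (N + 1) → c.sect 1 ⊤) (ha : ∀ l, a l = ProjCoh.H0top (c.twist 1) (z₀ l)) :
    (∀ x : X, ∃ j, x ∈ c.locus (a j)) ∧
    ∀ j, IsAffineOpen (c.locus (a j)) →
      letI := (locHom k (c.locus (a j))).toAlgebra
      ∀ J : Ideal Γ(X, c.locus (a j)), Module.Finite k (Γ(X, c.locus (a j)) ⧸ J) →
        Module.finrank k (Γ(X, c.locus (a j)) ⧸ J) ≤ 2 → ∀ b : Γ(X, c.locus (a j)),
          ∃ g ∈ Subring.closure (Set.range (locHom k (c.locus (a j))) ∪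
            {g | ∃ l, g • c.sectRes (le_top : c.locus (a j) ≤ ⊤) (a j) = c.sectRes le_top (a l)}), b - g ∈ J := by
  haveI := Euler.isNoetherian_of_proper (X := X) k
  obtain rfl : a = fun l => ProjCoh.H0top (c.twist 1) (z₀ l) := funext ha
  let a : Fin (N + 1) → c.sect 1 ⊤ := fun l => ProjCoh.H0top (c.twist 1) (z₀ l)
  refine ⟨?_, fun j haff J hJ hJ2 b => ?_⟩
  · intro x
    by_cases hx : x = genericPoint X
    · subst hx
      obtain ⟨l, hl⟩ : ∃ l, z₀ l ≠ 0 := by
        by_contra h
        push Not at h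
        obtain ⟨x₀, -, hx₀⟩ := (isClosed_univ (X := X)).exists_closed_singleton Set.univ_nonempty
        obtain ⟨z, hz⟩ := exists_section_at_closed k c hb hx₀
        have hz0 : z = 0 := by
          rw [← Submodule.mem_bot k]
          refine (Submodule.span_le.2 ?_) (hspan ▸ trivial : z ∈ Submodule.span k (Set.range z₀))
          rintro _ ⟨l, rfl⟩
          exact (h l).symm ▸ rfl
        rw [hz0, map_zero (ProjCoh.H0top (c.twist 1))] at hz
        obtain ⟨i, hi⟩ := c.exists_mem x₀
        rw [c.mem_locus_iff _ hi, show (0 : c.sect 1 ⊤).1 i = 0 from rfl, Scheme.basicOpen_zero] at hz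
        exact hz
      exact ⟨l, genericPoint_mem (Euler.locus_nonempty_of_ne_zero c fun h => hl
        ((ProjCoh.H0top (c.twist 1)).injective (h.trans (map_zero (ProjCoh.H0top (c.twist 1))).symm)))⟩
    · by_contra h
      push Not at h
      obtain ⟨z, hzu⟩ := exists_section_at_closed k c hb (CurvePoints.isClosed_singleton hd hx)
      obtain ⟨i, hi⟩ := c.exists_mem x
      have hx1 : x ∈ (⊤ ⊓ c.D i : X.Opens) := ⟨trivial, hi⟩
      rw [c.mem_locus_iff _ hi, Scheme.mem_basicOpen X _ x hx1] at hzu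
      refine (IsLocalRing.maximalIdeal.isMaximal _).ne_top (Ideal.eq_top_of_isUnit_mem _ ?_ hzu)
      clear hzu
      have hz' : z ∈ Submodule.span k (Set.range z₀) := hspan ▸ trivial
      induction hz' using Submodule.span_induction with
      | mem z hz =>
        obtain ⟨l, rfl⟩ := hz
        have h' := h l
        rw [c.mem_locus_iff _ hi, Scheme.mem_basicOpen X _ x hx1] at h'
        exact h'
      | zero =>
        rw [map_zero (ProjCoh.H0top (c.twist 1))]
        show X.presheaf.germ _ x _ (0 : Γ(X, _)) ∈ _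
        rw [map_zero]
        exact zero_mem _
      | add z z' _ _ hz hz' =>
        rw [map_add (ProjCoh.H0top (c.twist 1))]
        show X.presheaf.germ _ x _ ((show c.sect 1 ⊤ from ProjCoh.H0top (c.twist 1) z).1 i +
          (show c.sect 1 ⊤ from ProjCoh.H0top (c.twist 1) z').1 i) ∈ _
        rw [map_add]
        exact add_mem hz hz'
      | smul r z _ hz =>
        rw [ProjCoh.H0top_smul]
        show X.presheaf.germ _ x _ (_ * _) ∈ _
        rw [map_mul]
        exact Ideal.mul_mem_left _ _ hz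
  let U := c.locus (a j)
  let u := c.sectRes (le_top : U ≤ ⊤) (a j)
  have hu : ∀ t : c.sect 1 U, ∃! f : Γ(X, U), f • u = t := by
    intro t
    obtain ⟨f, hf, hf'⟩ := (c.bijective_hom_app (a j) (le_refl U)).existsUnique t
    exact ⟨f, (c.hom_app_apply (a j) U f).symm.trans hf, fun f' hf'' =>
      hf' f' ((c.hom_app_apply (a j) U f').trans hf'')⟩
  letI := (locHom k U).toAlgebra
  obtain ⟨z, f, hf, hfJ⟩ := exists_sub_mem k c haff u hu J hJ
    (fun Z h1 h2 => hb Z h1 (h2.trans_le hJ2)) b
  refine ⟨f, ?_, hfJ⟩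
  clear hfJ
  have hz : z ∈ Submodule.span k (Set.range z₀) := hspan ▸ trivial
  induction hz using Submodule.span_induction generalizing f with
  | mem z hz =>
    obtain ⟨l, rfl⟩ := hz
    exact Subring.subset_closure (Or.inr ⟨l, hf⟩)
  | zero =>
    rw [(hu _).unique hf (show (0 : Γ(X, U)) • u = _ by
      rw [zero_smul, map_zero (ProjCoh.H0top (c.twist 1))]; exact (map_zero (c.sectRes _)).symm)]
    exact zero_mem _
  | add z z' _ _ hz hz' =>
    obtain ⟨g, hg, -⟩ := hu (c.sectRes (le_top : U ≤ ⊤) (ProjCoh.H0top (c.twist 1) z))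
    obtain ⟨g', hg', -⟩ := hu (c.sectRes (le_top : U ≤ ⊤) (ProjCoh.H0top (c.twist 1) z'))
    rw [(hu _).unique hf (show (g + g') • u = _ by
      rw [add_smul, hg, hg', map_add (ProjCoh.H0top (c.twist 1))]; exact (map_add (c.sectRes _) _ _).symm)]
    exact add_mem (hz g hg) (hz' g' hg')
  | smul r z _ hz =>
    obtain ⟨g, hg, -⟩ := hu (c.sectRes (le_top : U ≤ ⊤) (ProjCoh.H0top (c.twist 1) z))
    rw [(hu _).unique hf (show (locHom k U r * g) • u = _ by
      rw [mul_smul, hg, ProjCoh.H0top_smul]; exact (c.sectRes_smul _ _ _).symm)]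
    exact mul_mem (Subring.subset_closure (Or.inl ⟨r, rfl⟩)) (hz g hg)

include k in
/-- An invertible module of positive degree whose sections restrict surjectively to all closed subschemes of
length at most two is very ample. -/
theorem exists_closedImmersion_of_bound [IsAlgClosed k] (hd : topologicalKrullDim X ≤ 1) {L : X.Modules}
    (hL : PicF.IsInvertible L) (hpos : 0 < Curv2.deg k X L 1)
    (hb : ∀ Z : X.IdealSheafData, topologicalKrullDim (Z.support : Set X) ≤ 0 →
      Module.finrank k (Coh.HH X (ClSub.quotMod Z) 0) ≤ 2 →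
      Module.finrank k (Coh.HH X (CohB1.tensorMod (ClSub.idealMod Z) L) 0) +
        Module.finrank k (Coh.HH X (ClSub.quotMod Z) 0) ≤ Module.finrank k (Coh.HH X L 0)) :
    ∃ (n : ℕ) (i : X ⟶ CohB1.ProjSpace n k), IsClosedImmersion i ∧
      i ≫ CohB1.ProjSpace.toSpec n k = X ↘ Spec (CommRingCat.of k) ∧
      Nonempty ((Scheme.Modules.pullback i).obj (Twist.twistProjSpace n k 1) ≅ L) := by
  haveI := Euler.isNoetherian_of_proper (X := X) k
  obtain ⟨c, ⟨e⟩⟩ := Ample.exists_cocycle hL
  haveI := Euler.finiteDimensional_HH k (Euler.isCoh_of_isInvertible (c.isInvertible_twist 1)) 0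
  have hb' : ∀ Z : X.IdealSheafData, topologicalKrullDim (Z.support : Set X) ≤ 0 →
      Module.finrank k (Coh.HH X (ClSub.quotMod Z) 0) ≤ 2 →
      Module.finrank k (Coh.HH X (CohB1.tensorMod (ClSub.idealMod Z) (c.twist 1)) 0) +
        Module.finrank k (Coh.HH X (ClSub.quotMod Z) 0) ≤ Module.finrank k (Coh.HH X (c.twist 1) 0) := by
    intro Z h1 h2
    let e' : CohB1.tensorMod (ClSub.idealMod Z) L ≅ CohB1.tensorMod (ClSub.idealMod Z) (c.twist 1) :=
      ((DCoh.tensorBi (X := X)).obj (ClSub.idealMod Z)).mapIso e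
    rw [← (Euler.hhEquiv (A := k) e' 0).finrank_eq, ← (Euler.hhEquiv (A := k) e 0).finrank_eq]
    exact hb Z h1 h2
  obtain ⟨N, hN⟩ : ∃ N, Module.finrank k (Coh.HH X (c.twist 1) 0) = N + 1 := by
    refine Nat.exists_eq_add_one.2 (Module.finrank_pos_iff_exists_ne_zero.2 ?_)
    obtain ⟨x₀, -, hx₀⟩ := (isClosed_univ (X := X)).exists_closed_singleton Set.univ_nonempty
    obtain ⟨z, hz⟩ := exists_section_at_closed k c hb' hx₀
    refine ⟨z, fun h => ?_⟩
    rw [h, map_zero (ProjCoh.H0top (c.twist 1))] at hz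
    obtain ⟨i, hi⟩ := c.exists_mem x₀
    rw [c.mem_locus_iff _ hi, show (0 : c.sect 1 ⊤).1 i = 0 from rfl, Scheme.basicOpen_zero] at hz
    exact hz
  let bas := Module.finBasisOfFinrankEq k (Coh.HH X (c.twist 1) 0) hN
  let a : Fin (N + 1) → c.sect 1 ⊤ := fun l => ProjCoh.H0top (c.twist 1) (bas l)
  have hpos' : 0 < Curv2.deg k X (c.twist 1) 1 := by rw [← Euler.deg_of_iso k e 1]; exact hpos
  obtain ⟨hcov, hsep⟩ := separating_of_bound k hd c hb' bas bas.span_eq a fun _ => rfl
  have haff := isAffineOpen_locus_of_cover k hd c hpos' a hcov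
  exact ⟨N, exists_closedImmersion_of_separating k c e a hcov haff fun j => hsep j (haff j)⟩

end GrothLib.CurveMult
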