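import Groth.Agent.Lib.CurveMult.IdealDiv
import Groth.Agent.Lib.CurveMult.SepCurve
import Groth.Agent.Lib.FunFld.Conseq
import Groth.Agent.Lib.CurveRR.Setup
import Groth.Agent.Lib.Ample.VeryAmpleProd

/-!
# Very ampleness and sheaves of divisors
-/

set_option linter.style.haveILetI false
set_option backward.isDefEq.respectTransparency false

universe u

open CategoryTheory CategoryTheory.Limits AlgebraicGeometry TopologicalSpace Opposite WithZero
open _root_.FunFld (Place Divisor ell)
open GrothLib.CurveRR
open GrothLib.Ample (Cocycle res)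

noncomputable section

namespace GrothLib.CurveMult

variable (k : Type u) [Field k] [IsAlgClosed k] {X : Scheme.{u}} [IsIntegral X] [RegCurve X]
  [X.Over (Spec (CommRingCat.of k))] [IsProper (X ↘ Spec (CommRingCat.of k))]

theorem deg_place_eq_one (P : Place k X.functionField) : P.deg = 1 := FunFld.IsFG.deg_eq_one (isFG k) P

theorem ell_le_ell_sub_succ (D : Divisor k X.functionField) (P : Place k X.functionField) :
    ell D ≤ ell (D - Finsupp.single P 1) + 1 := by
  have h := FunFld.vdim_ge (isFG k) (le_refl (_root_.FunFld.L D)) (deg_place_eq_one k P) 1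
  have h' := FunFld.vdim_le_ell (isFG k) (_root_.FunFld.L D) D P 1
  push_cast at h
  have h'' : Module.finrank k (_root_.FunFld.L D) = ell D := rfl
  omega

/-- An effective divisor of degree at most two is a sum of at most two points. -/
theorem effective_cases {E : Divisor k X.functionField} (hE : 0 ≤ E) (h2 : E.deg ≤ 2) :
    E = 0 ∨ (∃ P, E = Finsupp.single P 1) ∨ ∃ P Q, E = Finsupp.single P 1 + Finsupp.single Q 1 := by
  classical
  have key : ∀ (n : ℕ) (E : Divisor k X.functionField), 0 ≤ E → E.deg ≤ n →
      ∃ l : List (Place k X.functionField), l.length ≤ n ∧ E = (l.map fun P => Finsupp.single P 1).sum := by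
    intro n
    induction n with
    | zero =>
      intro E hE hd
      refine ⟨[], le_rfl, Finsupp.ext fun P => ?_⟩
      by_contra hP
      have h1 : (E - Finsupp.single P 1).deg + 1 = E.deg := by
        rw [FunFld.deg_sub, FunFld.deg_single, deg_place_eq_one k P]; ring
      have h0 : 0 ≤ E - Finsupp.single P 1 := fun Q => by
        rcases eq_or_ne P Q with rfl | hQ
        · have := hE P
          simp only [List.map_nil, List.sum_nil, Finsupp.coe_zero, Pi.zero_apply] at hP this ⊢
          rw [Finsupp.sub_apply, Finsupp.single_eq_same]; omega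
        · rw [Finsupp.sub_apply, Finsupp.single_eq_of_ne' hQ, sub_zero]; exact hE Q
      have h2 : (0 : ℤ) ≤ (E - Finsupp.single P 1).deg := by
        rw [FunFld.deg_eq_degHom]
        exact Finset.sum_nonneg fun Q _ => mul_nonneg (h0 Q) (Int.natCast_nonneg _)
      push_cast at hd
      omega
    | succ n ih =>
      intro E hE hd
      by_cases h : E = 0
      · exact ⟨[], Nat.zero_le _, by simpa using h⟩
      obtain ⟨P, hP⟩ := Finsupp.ne_iff.1 h
      have h0 : 0 ≤ E - Finsupp.single P 1 := fun Q => by
        rcases eq_or_ne P Q with rfl | hQ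
        · have := hE P
          simp only [Finsupp.coe_zero, Pi.zero_apply] at hP this ⊢
          rw [Finsupp.sub_apply, Finsupp.single_eq_same]; omega
        · rw [Finsupp.sub_apply, Finsupp.single_eq_of_ne' hQ, sub_zero]; exact hE Q
      obtain ⟨l, hl, hl'⟩ := ih (E - Finsupp.single P 1) h0 (by
        rw [FunFld.deg_sub, FunFld.deg_single, deg_place_eq_one k P]; push_cast at hd ⊢; omega)
      exact ⟨P :: l, Nat.succ_le_succ hl, by rw [List.map_cons, List.sum_cons, ← hl']; abel⟩
  obtain ⟨l, hl, rfl⟩ := key 2 E hE (by exact_mod_cast h2)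
  match l, hl with
  | [], _ => exact Or.inl (by simp)
  | [P], _ => exact Or.inr (Or.inl ⟨P, by simp⟩)
  | [P, Q], _ => exact Or.inr (Or.inr ⟨P, Q, by simp⟩)
  | _ :: _ :: _ :: _, h => simp at h

include k in
/-- A sheaf of divisors whose complete system separates every two points, possibly equal, is very ample. -/
theorem exists_closedImmersion_of_ell {L : X.Modules} (hL : PicF.IsInvertible L) {D : Divisor k X.functionField}
    (e : L ≅ oD k D) (hD : 0 < D.deg)
    (h : ∀ P Q : Place k X.functionField, ell (D - Finsupp.single P 1 - Finsupp.single Q 1) + 2 ≤ ell D) :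
    ∃ (n : ℕ) (i : X ⟶ CohB1.ProjSpace n k), IsClosedImmersion i ∧
      i ≫ CohB1.ProjSpace.toSpec n k = X ↘ Spec (CommRingCat.of k) ∧
      Nonempty ((Scheme.Modules.pullback i).obj (Twist.twistProjSpace n k 1) ≅ L) := by
  refine exists_closedImmersion_of_bound k RegCurve.dim.le hL (by rw [Euler.deg_of_iso k e, deg_oD]; exact hD)
    fun Z hZ hlen => ?_
  obtain ⟨E, hE0, hEd, ⟨eZ⟩⟩ := exists_effective_iso k Z hZ
  obtain ⟨t⟩ := nonempty_tensor_iso k eZ e
  rw [(Euler.hhEquiv (A := k) t 0).finrank_eq, (Euler.hhEquiv (A := k) e 0).finrank_eq, finrank_H0_oD,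
    finrank_H0_oD, neg_add_eq_sub]
  have hd2 : E.deg ≤ 2 := by rw [hEd]; exact_mod_cast hlen
  rcases effective_cases k hE0 hd2 with rfl | ⟨P, rfl⟩ | ⟨P, Q, rfl⟩
  · rw [sub_zero]
    have : (0 : Divisor k X.functionField).deg = 0 := by simp [FunFld.deg_eq_degHom]
    omega
  · rw [FunFld.deg_single, deg_place_eq_one k P] at hEd
    have h1 := h P P
    have h2 := ell_le_ell_sub_succ k (D - Finsupp.single P 1) P
    omega
  · rw [FunFld.deg_add, FunFld.deg_single, FunFld.deg_single, deg_place_eq_one k P, deg_place_eq_one k Q] at hEd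
    rw [← sub_sub]
    have h1 := h P Q
    omega

theorem mem_prime_iff {U : X.Opens} (hU : IsAffineOpen U) (x : CP X) (hx : x.1 ∈ U) (b : Γ(X, U)) :
    b ∈ (hU.primeIdealOf ⟨x.1, hx⟩).asIdeal ↔
      (place k x).1 (X.presheaf.germ U (genericPoint X) (ProjCoh.genericPoint_mem hx) b) < 1 := by
  rw [germ_generic hx, place_lt_one_iff, IsLocalRing.mem_maximalIdeal, mem_nonunits_iff,
    ← X.mem_basicOpen b x.1 hx]
  have h1 : hU.primeIdealOf ⟨x.1, hx⟩ ∈ hU.fromSpec ⁻¹ᵁ X.basicOpen b ↔ x.1 ∈ X.basicOpen b := by
    show hU.fromSpec (hU.primeIdealOf ⟨x.1, hx⟩) ∈ X.basicOpen b ↔ _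
    rw [hU.fromSpec_primeIdealOf]
  rw [← h1, hU.fromSpec_preimage_basicOpen]
  exact not_not.symm

omit [IsAlgClosed k] [IsProper (X ↘ Spec (CommRingCat.of k))] [RegCurve X] in
theorem germ_locHom {U : X.Opens} (hη : genericPoint X ∈ U) (c : k) :
    X.presheaf.germ U (genericPoint X) hη (locHom k U c) = algebraMap k X.functionField c := by
  rw [← germ_toGlobal k c]
  exact TopCat.Presheaf.germ_res_apply _ _ _ _ _

include k in
/-- Closed points have residues in the base field. -/
theorem exists_val_sub_lt {U : X.Opens} (hU : IsAffineOpen U) (x : CP X) (hx : x.1 ∈ U) (b : Γ(X, U)) :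
    ∃ c : k, (place k x).1 (X.presheaf.germ U _ (ProjCoh.genericPoint_mem hx) b - algebraMap k X.functionField c) < 1 := by
  letI := (locHom k U).toAlgebra
  haveI : Algebra.FiniteType k Γ(X, U) := finiteType_locHom k hU
  haveI := isMaximal_primeIdealOf hU hx (CurvePoints.isClosed_singleton RegCurve.dim.le x.2)
  obtain ⟨c, hc⟩ := exists_sub_mem_of_isMaximal k (hU.primeIdealOf ⟨x.1, hx⟩).asIdeal b
  refine ⟨c, ?_⟩
  rw [mem_prime_iff k hU x hx, map_sub] at hc
  rw [← germ_locHom k (ProjCoh.genericPoint_mem hx) c]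
  exact hc

include k in
/-- An affine open containing a closed point has a uniformizer of it. -/
theorem exists_val_exp_neg_one {U : X.Opens} (hU : IsAffineOpen U) (x : CP X) (hx : x.1 ∈ U) :
    ∃ b : Γ(X, U), (place k x).1 (X.presheaf.germ U _ (ProjCoh.genericPoint_mem hx) b) = exp (-1) := by
  obtain ⟨g, -, hg⟩ := FunFld.exists_val_eq (place k x) (-1)
  obtain ⟨r, hr⟩ := (mem_place_O k).1 (show g ∈ (place k x).O from by
    show (place k x).1 g ≤ 1
    rw [show (place k x).1 g = exp (-1) from hg, ← exp_zero, exp_le_exp]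
    omega)
  letI := TopCat.Presheaf.algebra_section_stalk X.presheaf (⟨x.1, hx⟩ : U)
  haveI := hU.isLocalization_stalk ⟨x.1, hx⟩
  obtain ⟨⟨b, s⟩, hbs⟩ := IsLocalization.surj (hU.primeIdealOf ⟨x.1, hx⟩).asIdeal.primeCompl r
  refine ⟨b, ?_⟩
  have hs : (place k x).1 (X.presheaf.germ U _ (ProjCoh.genericPoint_mem hx) s.1) = 1 :=
    le_antisymm (place_germ_le_one k x hx _) (le_of_not_gt fun h => s.2 ((mem_prime_iff k hU x hx _).2 h))
  have e := congrArg (algebraMap (X.presheaf.stalk x.1) X.functionField) hbs
  rw [map_mul, hr] at e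
  change g * algebraMap _ _ (X.presheaf.germ U x.1 hx s.1) = algebraMap _ _ (X.presheaf.germ U x.1 hx b) at e
  rw [← germ_generic hx, ← germ_generic hx] at e
  rw [← e, map_mul, hs, mul_one]
  exact hg

include k in
/-- The complete system of a very ample sheaf of divisors separates every two points, possibly equal. -/
theorem ell_of_closedImmersion {L : X.Modules} (hL : PicF.IsInvertible L) {D : Divisor k X.functionField}
    (eD : L ≅ oD k D) {n : ℕ} (i : X ⟶ CohB1.ProjSpace n k) [IsClosedImmersion i]
    (hi : i ≫ CohB1.ProjSpace.toSpec n k = X ↘ Spec (CommRingCat.of k))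
    (t : (Scheme.Modules.pullback i).obj (Twist.twistProjSpace n k 1) ≅ L) (x y : CP X) :
    ell (D - Finsupp.single (place k x) 1 - Finsupp.single (place k y) 1) + 2 ≤ ell D := by
  classical
  obtain ⟨c, ⟨e⟩⟩ := Ample.exists_cocycle hL
  let e0 := t ≪≫ e
  obtain ⟨hs, hmap⟩ := Ample.ProjMap.eq_map_dataOfSections i c e0
  rw [hi] at hmap
  let s := Ample.ProjMap.pullCoord i
  let a := Ample.ProjMap.sec c e0 s
  let Dt := Ample.ProjMap.dataOfSections c e0 s hs (X ↘ Spec (CommRingCat.of k))
  let P := CohB1.polyGrading n k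
  have hpre : ∀ l, i ⁻¹ᵁ Proj.basicOpen P (MvPolynomial.X l) = c.locus (a l) := fun l => by
    conv_lhs => rw [hmap]
    exact Dt.map_preimage l
  haveI : IsClosedImmersion Dt.map := by rw [← hmap]; infer_instance
  have hDp : ∀ l, IsAffineOpen (Proj.basicOpen P (MvPolynomial.X l)) := fun l =>
    Proj.isAffineOpen_basicOpen P _ (Ample.ProjMap.X_mem l) one_pos
  have haff : ∀ l, IsAffineOpen (c.locus (a l)) := fun l => hpre l ▸ (hDp l).preimage i
  have hgen : ∀ (j : Fin (n + 1)) (b : Γ(X, c.locus (a j))), b ∈ Subring.closure (Set.range (locHom k (c.locus (a j))) ∪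
      {g | ∃ l, g • c.sectRes (le_top : c.locus (a j) ≤ ⊤) (a j) = c.sectRes le_top (a l)}) := by
    intro j b
    have hle : c.locus (a j) ≤ Dt.map ⁻¹ᵁ Proj.basicOpen P (MvPolynomial.X j) := (Dt.map_preimage j).ge
    have hsur : Function.Surjective (Dt.map.appLE (Proj.basicOpen P (MvPolynomial.X j)) (c.locus (a j)) hle).hom := by
      have key : ∀ (V : X.Opens) (hV : V ≤ Dt.map ⁻¹ᵁ Proj.basicOpen P (MvPolynomial.X j)),
          V = Dt.map ⁻¹ᵁ Proj.basicOpen P (MvPolynomial.X j) →
          Function.Surjective (Dt.map.appLE (Proj.basicOpen P (MvPolynomial.X j)) V hV).hom := by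
        rintro _ hV rfl
        rw [← Scheme.Hom.app_eq_appLE]
        exact Dt.map.app_surjective _ (hDp j)
      exact key _ hle (Dt.map_preimage j).symm
    obtain ⟨w, rfl⟩ := hsur b
    exact appLE_mem_closure k c e0 s hs j hle w
  have hcov : ∀ z : X, ∃ j, z ∈ c.locus (a j) := fun z => Opens.mem_iSup.1 (hs.ge (Opens.mem_top z))
  let ε : c.twist 1 ≅ oD k D := e.symm ≪≫ eD
  let η := genericPoint X
  let h : Fin (n + 1) → X.functionField := fun l => oval k (V := ⊤) (ε.hom.app ⊤ (a l)) trivial
  have hmem : ∀ l, h l ∈ _root_.FunFld.L D := fun l R => by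
    obtain ⟨z, rfl⟩ := place_surjective (k := k) R
    exact oval_bound (V := ⊤) (ε.hom.app ⊤ (a l)) z trivial
  have hratio : ∀ (j l : Fin (n + 1)) (f : Γ(X, c.locus (a j))) (hj : η ∈ c.locus (a j)),
      f • c.sectRes (le_top : c.locus (a j) ≤ ⊤) (a j) = c.sectRes le_top (a l) →
      X.presheaf.germ _ η hj f * h j = h l := by
    intro j l f hj hf
    have hn : ∀ m, ε.hom.app (c.locus (a j)) (c.sectRes le_top (a m)) =
        (oD k D).presheaf.map (homOfLE (le_top : c.locus (a j) ≤ ⊤)).op (ε.hom.app ⊤ (a m)) := fun m =>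
      PresheafOfModules.naturality_apply ε.hom.val (homOfLE (le_top : c.locus (a j) ≤ ⊤)).op (a m)
    have h1 := congrArg (fun r : c.sect 1 (c.locus (a j)) => oval k (ε.hom.app (c.locus (a j)) r) hj) hf
    simp only at h1
    rw [hn l, oval_map] at h1
    refine Eq.trans ?_ h1
    rw [show ε.hom.app (c.locus (a j)) (f • c.sectRes le_top (a j)) =
      f • ε.hom.app (c.locus (a j)) (c.sectRes le_top (a j)) from Scheme.Modules.Hom.app_smul _ _ _,
      oval_smul, hn j, oval_map]
  have hval : ∀ (j : Fin (n + 1)) (z : CP X), z.1 ∈ c.locus (a j) →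
      (place k z).1 (h j) = exp (D (place k z)) := by
    intro j z hz
    refine le_antisymm (hmem j (place k z)) ?_
    obtain ⟨V, g, hzV, -, hg⟩ := exists_gen k D z.1
    let W : X.Opens := c.locus (a j) ⊓ V
    have hWV : W ≤ V := inf_le_right
    have hW : W ≤ c.locus (a j) := inf_le_left
    let gW : Γ(oD k D, W) := mkSec k D W g fun w hw => (hg w (hWV hw)).le
    obtain ⟨(r : Γ(X, W)), hr⟩ := (c.bijective_hom_app (a j) hW).2 (ε.inv.app W gW)
    replace hr : r • c.sectRes (le_top : W ≤ ⊤) (a j) = ε.inv.app W gW := (c.hom_app_apply (a j) W r).symm.trans hr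
    have hzW : z.1 ∈ W := ⟨hz, hzV⟩
    have h1 := congrArg (fun m : c.sect 1 W => oval k (ε.hom.app W m) (ProjCoh.genericPoint_mem hzW)) hr
    simp only at h1
    have e1 : ε.hom.app W (ε.inv.app W gW) = gW :=
      ConcreteCategory.congr_hom (congrArg (fun φ : oD k D ⟶ oD k D => φ.app W) ε.inv_hom_id) gW
    rw [e1, oval_mkSec, show ε.hom.app W (r • c.sectRes le_top (a j)) = r • ε.hom.app W (c.sectRes le_top (a j))
      from Scheme.Modules.Hom.app_smul _ _ _, oval_smul,
      show ε.hom.app W (c.sectRes le_top (a j)) = (oD k D).presheaf.map (homOfLE (le_top : W ≤ ⊤)).op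
        (ε.hom.app ⊤ (a j)) from PresheafOfModules.naturality_apply ε.hom.val (homOfLE (le_top : W ≤ ⊤)).op (a j),
      oval_map] at h1
    rw [← hg z hzV, ← h1, map_mul]
    exact mul_le_of_le_one_left' (place_germ_le_one k z hzW r)
  have hfg := isFG k (X := X)
  haveI := hfg.finite_L D
  haveI := hfg.finite_L (D - Finsupp.single (place k x) 1)
  haveI := hfg.finite_L (D - Finsupp.single (place k y) 1)
  have hlt : ∀ (E : Divisor k X.functionField) (R : Place k X.functionField) (f : X.functionField),
      f ∈ _root_.FunFld.L E → ¬ R.1 f ≤ exp (E R - 1) → ell (E - Finsupp.single R 1) < ell E := by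
    intro E R f hf hnf
    haveI := hfg.finite_L E
    refine Submodule.finrank_lt_finrank_of_lt (lt_of_le_of_ne (FunFld.L_mono fun S => ?_) fun he => hnf ?_)
    · rcases eq_or_ne R S with rfl | hRS
      · rw [Finsupp.sub_apply, Finsupp.single_eq_same]; omega
      · rw [Finsupp.sub_apply, Finsupp.single_eq_of_ne' hRS, sub_zero]
    · have hf' := (he ▸ hf : f ∈ _root_.FunFld.L (E - Finsupp.single R 1)) R
      rwa [Finsupp.sub_apply, Finsupp.single_eq_same] at hf'
  obtain ⟨j, hxj⟩ := hcov x.1
  obtain ⟨jy, hyj⟩ := hcov y.1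
  have step1 : ell (D - Finsupp.single (place k y) 1) < ell D :=
    hlt D _ (h jy) (hmem jy) (by rw [hval jy y hyj, exp_le_exp]; omega)
  suffices step2 : ∃ f ∈ _root_.FunFld.L (D - Finsupp.single (place k y) 1),
      ¬ (place k x).1 f ≤ exp ((D - Finsupp.single (place k y) 1 : Divisor k X.functionField) (place k x) - 1) by
    obtain ⟨f, hf, hnf⟩ := step2
    have := hlt _ _ f hf hnf
    rw [sub_right_comm]
    omega
  have memy : ∀ f ∈ _root_.FunFld.L D, (place k y).1 f < exp (D (place k y)) →
      f ∈ _root_.FunFld.L (D - Finsupp.single (place k y) 1) := by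
    intro f hf hlt' R
    rcases eq_or_ne (place k y) R with rfl | hR
    · rw [Finsupp.sub_apply, Finsupp.single_eq_same, FunFld.le_exp_sub_one_iff]; exact hlt'
    · rw [Finsupp.sub_apply, Finsupp.single_eq_of_ne' hR, sub_zero]; exact hf R
  by_cases hyU : y.1 ∈ c.locus (a j)
  · have hηj : η ∈ c.locus (a j) := ProjCoh.genericPoint_mem hxj
    let v := fun b : Γ(X, c.locus (a j)) => X.presheaf.germ (c.locus (a j)) η hηj b
    by_contra hno
    push Not at hno
    let m : ℤ := if y = x then 2 else 1
    have hsame : D (place k x) - m = (D - Finsupp.single (place k y) 1 : Divisor k X.functionField) (place k x) - 1 := by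
      simp only [m, Finsupp.sub_apply]
      split_ifs with hyx
      · subst hyx; rw [Finsupp.single_eq_same]; ring
      · rw [Finsupp.single_eq_of_ne' (fun e => hyx (place_injective e)), sub_zero]
    let T : Set Γ(X, c.locus (a j)) := {b | ∃ r : k, (place k y).1 (v b - algebraMap k X.functionField r) < 1 ∧
      (place k x).1 (v b - algebraMap k X.functionField r) ≤ exp (-m)}
    have hgT : ∀ b, (∃ l, b • c.sectRes (le_top : c.locus (a j) ≤ ⊤) (a j) = c.sectRes le_top (a l)) → b ∈ T := by
      rintro b ⟨l, hl⟩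
      obtain ⟨r, hr⟩ := exists_val_sub_lt k (haff j) y hyU b
      refine ⟨r, hr, ?_⟩
      have e1 : h l - r • h j = (v b - algebraMap k X.functionField r) * h j := by
        rw [sub_mul, hratio j l b hηj hl, Algebra.smul_def]
      have h2 := hno (h l - r • h j) (memy _ (Submodule.sub_mem _ (hmem l) (Submodule.smul_mem _ r (hmem j))) (by
        rw [e1, map_mul, hval j y hyU]
        exact (mul_lt_mul_of_pos_right hr (zero_lt_iff.2 exp_ne_zero)).trans_eq (one_mul _)))
      rw [e1, map_mul, hval j x hxj, ← hsame] at h2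
      have h3 : (place k x).1 (v b - algebraMap k X.functionField r) * exp (D (place k x)) ≤
          exp (-m) * exp (D (place k x)) := by
        refine h2.trans_eq ?_
        rw [← exp_add]; congr 1; ring
      exact le_of_mul_le_mul_right h3 (zero_lt_iff.2 exp_ne_zero)
    have hle1 : ∀ (z : CP X), z.1 ∈ c.locus (a j) → ∀ b, (place k z).1 (v b) ≤ 1 := fun z hz b =>
      place_germ_le_one k z hz b
    have hc1 : ∀ (z : Place k X.functionField) (r : k), z.1 (algebraMap k X.functionField r) ≤ 1 := fun z r => z.2.1 r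
    have hall : ∀ b, b ∈ T := by
      intro b
      induction hgen j b using Subring.closure_induction with
      | mem b hb =>
        rcases hb with ⟨r, rfl⟩ | hb
        · refine ⟨r, ?_⟩
          rw [show v (locHom k (c.locus (a j)) r) = algebraMap k X.functionField r from germ_locHom k hηj r,
            sub_self, map_zero, map_zero]
          exact ⟨zero_lt_one, zero_le⟩
        · exact hgT b hb
      | zero => exact ⟨0, by simp [v], by simp [v]⟩
      | one => exact ⟨1, by simp [v], by simp [v]⟩
      | add p q _ _ hp hq =>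
        obtain ⟨r, hr, hr'⟩ := hp
        obtain ⟨r', hq, hq'⟩ := hq
        refine ⟨r + r', ?_⟩
        rw [show v (p + q) - algebraMap k X.functionField (r + r') =
          (v p - algebraMap k X.functionField r) + (v q - algebraMap k X.functionField r') by
            simp only [v, map_add]; ring]
        exact ⟨(Valuation.map_add _ _ _).trans_lt (max_lt hr hq), (Valuation.map_add _ _ _).trans (max_le hr' hq')⟩
      | neg p _ hp =>
        obtain ⟨r, hr, hr'⟩ := hp
        refine ⟨-r, ?_⟩
        rw [show v (-p) - algebraMap k X.functionField (-r) = -(v p - algebraMap k X.functionField r) by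
          simp only [v, map_neg]; ring, Valuation.map_neg, Valuation.map_neg]
        exact ⟨hr, hr'⟩
      | mul p q _ _ hp hq =>
        obtain ⟨r, hr, hr'⟩ := hp
        obtain ⟨r', hq, hq'⟩ := hq
        refine ⟨r * r', ?_⟩
        rw [show v (p * q) - algebraMap k X.functionField (r * r') =
          v p * (v q - algebraMap k X.functionField r') + (v p - algebraMap k X.functionField r) * algebraMap k X.functionField r' by
            simp only [v, map_mul]; ring]
        refine ⟨(Valuation.map_add _ _ _).trans_lt (max_lt ?_ ?_), (Valuation.map_add _ _ _).trans (max_le ?_ ?_)⟩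
        · rw [map_mul]; exact lt_of_le_of_lt (mul_le_of_le_one_left' (hle1 y hyU p)) hq
        · rw [map_mul]; exact lt_of_le_of_lt (mul_le_of_le_one_right' (hc1 _ r')) hr
        · rw [map_mul]; exact (mul_le_mul' (hle1 x hxj p) hq').trans_eq (one_mul _)
        · rw [map_mul]; exact (mul_le_mul' hr' (hc1 _ r')).trans_eq (mul_one _)
    by_cases hyx : y = x
    · subst hyx
      obtain ⟨b, hb⟩ := exists_val_exp_neg_one k (haff j) y hxj
      obtain ⟨r, hr, hr'⟩ := hall b
      have hm : m = 2 := if_pos rfl
      have hr0 : r = 0 := by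
        by_contra hr0
        have h1 := FunFld.val_const (place k y) hr0
        have h2 : (place k y).1 (algebraMap k X.functionField r) < 1 := by
          rw [show algebraMap k X.functionField r = v b + -(v b - algebraMap k X.functionField r) by ring]
          refine (Valuation.map_add _ _ _).trans_lt (max_lt ?_ (by rw [Valuation.map_neg]; exact hr))
          rw [show (place k y).1 (v b) = exp (-1) from hb, ← exp_zero, exp_lt_exp]; omega
        exact (ne_of_lt h2) h1
      rw [hr0, map_zero, sub_zero, show (place k y).1 (v b) = exp (-1) from hb, exp_le_exp, hm] at hr'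
      omega
    · obtain ⟨b, hby, hbx⟩ : ∃ b, b ∈ ((haff j).primeIdealOf ⟨y.1, hyU⟩).asIdeal ∧
          b ∉ ((haff j).primeIdealOf ⟨x.1, hxj⟩).asIdeal := by
        haveI := isMaximal_primeIdealOf (haff j) hxj (CurvePoints.isClosed_singleton RegCurve.dim.le x.2)
        haveI := isMaximal_primeIdealOf (haff j) hyU (CurvePoints.isClosed_singleton RegCurve.dim.le y.2)
        refine SetLike.not_le_iff_exists.1 fun hle => hyx (Subtype.ext ?_)
        have he : (haff j).primeIdealOf ⟨y.1, hyU⟩ = (haff j).primeIdealOf ⟨x.1, hxj⟩ :=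
          PrimeSpectrum.ext (Ideal.IsMaximal.eq_of_le inferInstance (Ideal.IsPrime.ne_top inferInstance) hle)
        have := congrArg (haff j).fromSpec he
        rwa [(haff j).fromSpec_primeIdealOf, (haff j).fromSpec_primeIdealOf] at this
      obtain ⟨r, hr, hr'⟩ := hall b
      have hr0 : r = 0 := by
        by_contra hr0
        have h1 := FunFld.val_const (place k y) hr0
        have h2 : (place k y).1 (algebraMap k X.functionField r) < 1 := by
          rw [show algebraMap k X.functionField r = v b + -(v b - algebraMap k X.functionField r) by ring]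
          exact (Valuation.map_add _ _ _).trans_lt
            (max_lt ((mem_prime_iff k (haff j) y hyU b).1 hby) (by rw [Valuation.map_neg]; exact hr))
        exact (ne_of_lt h2) h1
      rw [hr0, map_zero, sub_zero, show m = 1 from if_neg hyx] at hr'
      refine hbx ((mem_prime_iff k (haff j) x hxj b).2 (lt_of_le_of_lt hr' ?_))
      rw [← exp_zero, exp_lt_exp]; omega
  · refine ⟨h j, memy _ (hmem j) ?_, ?_⟩
    · obtain ⟨f, hf, -⟩ := c.exists_ratio (a jy) (a j)
      rw [← hratio jy j f (ProjCoh.genericPoint_mem hyj) hf.symm, map_mul, hval jy y hyj]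
      refine (mul_lt_mul_of_pos_right ((mem_prime_iff k (haff jy) y hyj f).1 ?_) (zero_lt_iff.2 exp_ne_zero)).trans_eq (one_mul _)
      have hb := c.basicOpen_eq_of_smul (a jy) (a j) le_rfl f hf
      by_contra hnb
      have h2 : (haff jy).primeIdealOf ⟨y.1, hyj⟩ ∈ (haff jy).fromSpec ⁻¹ᵁ X.basicOpen f := by
        rw [(haff jy).fromSpec_preimage_basicOpen]; exact hnb
      have h3 : (haff jy).fromSpec ((haff jy).primeIdealOf ⟨y.1, hyj⟩) ∈ X.basicOpen f := h2
      rw [(haff jy).fromSpec_primeIdealOf, hb] at h3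
      exact hyU h3.2
    · have hne : place k y ≠ place k x := fun e => hyU (by rw [show y = x from place_injective e]; exact hxj)
      rw [hval j x hxj, Finsupp.sub_apply, Finsupp.single_eq_of_ne' hne, sub_zero, exp_le_exp]
      omega

end GrothLib.CurveMult
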