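import Groth.Agent.Lib.Euler.SectionKill
import Groth.Agent.Lib.Euler.Support
import Groth.Agent.Lib.Euler.Basic
import Groth.Agent.Lib.Snapper.PushEuler
import Groth.Agent.Lib.QCoh.Qcqs
import Groth.Agent.Lib.QCoh.Abelian
import Groth.Agent.Lib.Dim.Scheme
import Mathlib.AlgebraicGeometry.Morphisms.ClosedImmersion
import Mathlib.AlgebraicGeometry.ZariskisMainTheorem

/-!
# First cohomology of the structure sheaf along finite maps to a curve
-/

set_option autoImplicit false
set_option linter.style.haveILetI false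

universe u

open CategoryTheory CategoryTheory.Limits AlgebraicGeometry TopologicalSpace Opposite Topology

noncomputable section

namespace GrothLib.CurveMult.GenusFinite

open GrothLib

theorem finite_compl_of_dense {X : Scheme.{u}} [IsNoetherian X] (hd : topologicalKrullDim X ≤ 1) {U : X.Opens}
    (hU : Dense (U : Set X)) : (((U : Set X)ᶜ)).Finite ∧ ∀ x ∈ (U : Set X)ᶜ, IsClosed ({x} : Set X) := by
  have hne : ∀ C ∈ irreducibleComponents X, ¬ C ⊆ (U : Set X)ᶜ := fun C hC hsub => by
    obtain ⟨o, ho, hone, hoC⟩ := NoetherianSpace.exists_isOpen_nonempty_subset_irreducibleComponent C hC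
    obtain ⟨x, hx⟩ := hU.inter_open_nonempty o ho hone
    exact hsub (hoC hx.1) hx.2
  have hdim : topologicalKrullDim ((U : Set X)ᶜ : Set X) ≤ 0 := by
    refine Order.krullDim_nonpos_iff_forall_isMax.2 fun a b hab => ?_
    by_contra hlt
    have hlt' : a < b := lt_of_le_not_ge hab hlt
    let ι : IrreducibleCloseds ((U : Set X)ᶜ : Set X) → IrreducibleCloseds X := IrreducibleCloseds.map Subtype.val continuous_subtype_val
    have hmono : StrictMono ι := IrreducibleCloseds.map_strictMono_of_isInducing IsInducing.subtypeVal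
    obtain ⟨C, hC, hbC⟩ := exists_mem_irreducibleComponents_subset_of_isIrreducible _ (ι b).2
    have hb : ι b < ⟨C, hC.1, isClosed_of_mem_irreducibleComponents C hC⟩ := by
      refine lt_of_le_of_ne hbC fun he => hne C hC fun x hx => ?_
      have hx' : x ∈ (ι b : Set X) := he ▸ hx
      have : (ι b : Set X) ⊆ (U : Set X)ᶜ := closure_minimal (by rintro _ ⟨y, -, rfl⟩; exact y.2) U.2.isClosed_compl
      exact this hx'
    have h2 : ((2 : ℕ) : WithBot ℕ∞) ≤ topologicalKrullDim X :=
      Order.le_krullDim_iff.2 ⟨⟨2, ![ι a, ι b, _], fun i => by fin_cases i; exacts [hmono hlt', hb]⟩, rfl⟩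
    exact absurd (h2.trans hd) (by norm_num)
  exact ⟨Euler.finite_of_dim_le_zero U.2.isClosed_compl hdim,
    fun x hx => Euler.isClosed_singleton_of_dim_le_zero U.2.isClosed_compl hdim hx⟩

theorem stalkLin_surjective_of_app {X : Scheme.{u}} {M N : X.Modules} (φ : M ⟶ N) {O : X.Opens} {x : X}
    (hx : x ∈ O) (h : ∀ T ≤ O, IsAffineOpen T → Function.Surjective (φ.app T)) :
    Function.Surjective (QCoh.stalkLin φ x) := fun e => by
  obtain ⟨V, hxV, t, rfl⟩ := TopCat.Presheaf.exists_germ_eq N.presheaf e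
  obtain ⟨T, hT, hxT, hTV⟩ := exists_isAffineOpen_mem_and_subset (x := x) (U := V ⊓ O) ⟨hxV, hx⟩
  obtain ⟨s, hs⟩ := h T (fun y hy => (hTV hy).2) hT (N.presheaf.map (homOfLE fun y hy => (hTV hy).1).op t)
  refine ⟨M.presheaf.germ T x hxT s, ?_⟩
  rw [QCoh.stalkLin_germ, hs]
  exact TopCat.Presheaf.germ_res_apply _ _ _ _ _

theorem genus_le (k : Type u) [Field k] {X Y : Scheme.{u}} [X.Over (Spec (CommRingCat.of k))]
    [Y.Over (Spec (CommRingCat.of k))] [IsProper (X ↘ Spec (CommRingCat.of k))]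
    (hdim : topologicalKrullDim X ≤ 1) (f : Y ⟶ X) [IsFinite f]
    (hf : f ≫ (X ↘ Spec (CommRingCat.of k)) = Y ↘ Spec (CommRingCat.of k))
    (U : X.Opens) (hU : Dense (U : Set X)) (hfU : IsClosedImmersion (f ∣_ U)) :
    Curv2.genus k Y ≤ Curv2.genus k X := by
  haveI := Euler.isNoetherian_of_proper (X := X) k
  haveI := Cohom.isQuasicoherent_structureModule X
  haveI := Cohom.isQuasicoherent_structureModule Y
  let N := (Scheme.Modules.pushforward f).obj (Coh.structureModule Y)
  haveI : N.IsQuasicoherent := QCoh.isQuasicoherent_pushforward f _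
  let η : Coh.structureModule X ⟶ N := ClSub.unitToPush f
  obtain ⟨hfin, hcl⟩ := finite_compl_of_dense hdim hU
  have hQ : CohB1.support (cokernel η) ⊆ (U : Set X)ᶜ := fun x hx hxU => by
    refine QCoh.notMem_support_cokernel_of_surjective η (stalkLin_surjective_of_app η hxU fun T hTU hT => ?_) hx
    show Function.Surjective (f.app T).hom
    obtain ⟨T', rfl⟩ : ∃ T' : U.toScheme.Opens, U.ι ''ᵁ T' = T :=
      ⟨U.ι ⁻¹ᵁ T, by rw [Scheme.Hom.image_preimage_eq_opensRange_inf, Scheme.Opens.opensRange_ι, inf_eq_right.2 hTU]⟩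
    have hT' : IsAffineOpen T' := (U.ι.isAffineOpen_iff_of_isOpenImmersion).1 hT
    have h1 := (f ∣_ U).app_surjective T' hT'
    rw [morphismRestrict_app] at h1
    intro y
    obtain ⟨s, hs⟩ := h1 ((Y.presheaf.map (eqToHom (image_morphismRestrict_preimage f U T')).op) y)
    exact ⟨s, (ConcreteCategory.bijective_of_isIso (Y.presheaf.map (eqToHom (image_morphismRestrict_preimage f U T')).op)).1 hs⟩
  haveI : (kernel η).IsQuasicoherent := QCoh.isQuasicoherent_kernel η
  have hsurj : Function.Surjective (Cohom.hhMap k η 1) := by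
    intro y
    have h2 : Subsingleton (Coh.HH X (Euler.imageSeq η).X₃ 1) :=
      Euler.subsingleton_HH_of_finite_support _ (hfin.subset hQ) (fun x hx => hcl x (hQ hx)) 1 le_rfl
    obtain ⟨z, hz⟩ := (Cohom.exact₂ (A := k) (Euler.imageSeq_shortExact η) 1 y).1 (Subsingleton.elim _ _)
    have h1 : Subsingleton (Coh.HH X (Euler.kernelSeq η).X₁ 2) :=
      Euler.subsingleton_HH_of_two_le k hdim (kernel η) 2 le_rfl
    obtain ⟨w, hw⟩ := (Cohom.exact₃ (A := k) (Euler.kernelSeq_shortExact η) 1 z).1 (Subsingleton.elim _ _)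
    refine ⟨w, ?_⟩
    calc Cohom.hhMap k η 1 w = Cohom.hhMap k (Abelian.factorThruImage η ≫ Abelian.image.ι η) 1 w := by
          rw [Abelian.image.fac]
      _ = y := by rw [Euler.hhMap_comp]; exact (congrArg _ hw).trans hz
  haveI := Euler.finiteDimensional_HH k (Euler.isCoh_of_isInvertible (Euler.isInvertible_structure (X := X))) 1
  obtain ⟨e⟩ := Snapper.nonempty_HH_linearEquiv_pushforward (A := k) f hf (Coh.structureModule Y) 1
  rw [Euler.genus_def, Euler.genus_def, e.finrank_eq]
  exact LinearMap.finrank_le_finrank_of_surjective hsurj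

theorem dim_le_of_dense {K : Type u} [Field K] {Y : Scheme.{u}} (f : Y ⟶ Spec (CommRingCat.of K))
    [LocallyOfFiniteType f] {W : Y.Opens} (hW : Dense (W : Set Y)) (hd : topologicalKrullDim W ≤ 1)
    [NoetherianSpace Y] : topologicalKrullDim Y ≤ 1 := by
  refine iSup_le fun p => ?_
  obtain ⟨S, hS, hpS⟩ := exists_mem_irreducibleComponents_subset_of_isIrreducible _ p.last.2
  have hSc := isClosed_of_mem_irreducibleComponents S hS
  obtain ⟨n, hn, hnU⟩ := Dim.exists_nat_dim_irreducible f hSc hS.1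
  obtain ⟨o, ho, hone, hoS⟩ := NoetherianSpace.exists_isOpen_nonempty_subset_irreducibleComponent S hS
  obtain ⟨x, hxo, hxW⟩ := hW.inter_open_nonempty o ho hone
  have hn1 : topologicalKrullDim (S : Set Y) ≤ 1 := by
    rw [hn, ← hnU W ⟨x, hoS hxo, hxW⟩]
    exact le_trans (IsEmbedding.inclusion (Set.inter_subset_right : S ∩ (W : Set Y) ⊆ W)).isInducing.topologicalKrullDim_le hd
  let q : ∀ i, IrreducibleCloseds S := fun i =>
    { carrier := Subtype.val ⁻¹' (p i : Set Y)
      isClosed' := (p i).3.preimage continuous_subtype_val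
      isIrreducible' := by
        have hsub : (p i : Set Y) ⊆ S := fun y hy => hpS ((p.monotone (Fin.le_last i)) hy)
        refine ⟨?_, fun u v hu hv => ?_⟩
        · obtain ⟨y, hy⟩ := (p i).2.nonempty
          exact ⟨⟨y, hsub hy⟩, hy⟩
        · obtain ⟨u', hu', rfl⟩ := isOpen_induced_iff.1 hu
          obtain ⟨v', hv', rfl⟩ := isOpen_induced_iff.1 hv
          rintro ⟨a, ha, ha'⟩ ⟨b, hb, hb'⟩
          obtain ⟨y, hy, hy'⟩ := (p i).2.2 u' v' hu' hv' ⟨a, ha, ha'⟩ ⟨b, hb, hb'⟩
          exact ⟨⟨y, hsub hy⟩, hy, hy'⟩ }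
  have hq : StrictMono q := Fin.strictMono_iff_lt_succ.2 fun i => by
    refine lt_of_le_not_ge (fun z hz => (le_of_lt (p.step i) : p i.castSucc ≤ p i.succ) hz) fun hge =>
      not_le_of_gt (show p i.castSucc < p i.succ from p.step i) fun y hy => ?_
    exact hge (show (⟨y, hpS (p.monotone (Fin.le_last i.succ) hy)⟩ : S) ∈ q i.succ from hy)
  exact le_trans (le_iSup (fun p : LTSeries (IrreducibleCloseds S) => ((p.length : ℕ∞) : WithBot ℕ∞))
    ⟨p.length, q, fun i => hq Fin.castSucc_lt_succ⟩) hn1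

/-- A proper map to a curve that is an isomorphism over a dense open with dense preimage is finite. -/
theorem isFinite_of_birational (k : Type u) [Field k] {X Y : Scheme.{u}} [X.Over (Spec (CommRingCat.of k))]
    [Y.Over (Spec (CommRingCat.of k))] [IsProper (X ↘ Spec (CommRingCat.of k))]
    (hdim : topologicalKrullDim X ≤ 1) (f : Y ⟶ X) [IsProper f]
    (hf : f ≫ (X ↘ Spec (CommRingCat.of k)) = Y ↘ Spec (CommRingCat.of k))
    (U : X.Opens) (hU : Dense (U : Set X)) (hU' : Dense ((f ⁻¹ᵁ U : Y.Opens) : Set Y)) (hfU : IsIso (f ∣_ U)) :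
    IsFinite f := by
  haveI : IsProper (Y ↘ Spec (CommRingCat.of k)) := hf ▸ inferInstance
  haveI := Euler.isNoetherian_of_proper (X := X) k
  haveI := Euler.isNoetherian_of_proper (X := Y) k
  let e := Scheme.homeoOfIso (asIso (f ∣_ U))
  have hd : topologicalKrullDim (f ⁻¹ᵁ U : Y.Opens) ≤ 1 :=
    (IsHomeomorph.topologicalKrullDim_eq _ e.isHomeomorph).le.trans ((topologicalKrullDim_subspace_le X _).trans hdim)
  obtain ⟨hfin, hcl⟩ := finite_compl_of_dense (dim_le_of_dense (Y ↘ Spec (CommRingCat.of k)) hU' hd) hU'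
  haveI : LocallyQuasiFinite f := LocallyQuasiFinite.of_finite_preimage_singleton _ fun y => by
    by_cases hy : y ∈ U
    · refine Set.Subsingleton.finite fun a ha b hb => ?_
      have ha' : a ∈ f ⁻¹ᵁ U := by show f.base a ∈ U; rw [show f.base a = y from ha]; exact hy
      have hb' : b ∈ f ⁻¹ᵁ U := by show f.base b ∈ U; rw [show f.base b = y from hb]; exact hy
      have he : e ⟨a, ha'⟩ = e ⟨b, hb'⟩ := Subtype.ext
        ((morphismRestrict_base_coe f U ⟨a, ha'⟩).trans ((ha.trans hb.symm).trans (morphismRestrict_base_coe f U ⟨b, hb'⟩).symm))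
      exact congrArg Subtype.val (e.injective he)
    · exact hfin.subset fun a ha hU => hy ((show f.base a = y from ha) ▸ hU)
  exact (IsFinite.iff_isProper_and_locallyQuasiFinite f).2 ⟨inferInstance, inferInstance⟩

end GrothLib.CurveMult.GenusFinite

namespace GrothLib.CurveMult.GenusFinite

open GrothLib

theorem isIso_of_app_bijective {X Y : Scheme.{u}} (f : Y ⟶ X) [IsAffineHom f]
    (h : ∀ U : X.Opens, Function.Bijective (f.app U).hom) : IsIso f := by
  refine HasAffineProperty.of_iSup_eq_top (P := MorphismProperty.isomorphisms Scheme)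
    (fun U : X.affineOpens => U) (iSup_affineOpens_eq_top X) (fun U => ⟨U.2.preimage f, ?_⟩)
  rw [Scheme.Hom.appTop, morphismRestrict_app]
  refine IsIso.comp_isIso' ((ConcreteCategory.isIso_iff_bijective _).2 (h _)) ?_
  rw [eqToHom_op, eqToHom_map]
  exact ⟨eqToHom (by rw [Scheme.Opens.toScheme_presheaf_obj] <;> simp), (eqToHom_trans _ _).trans (eqToHom_refl _ rfl), (eqToHom_trans _ _).trans (eqToHom_refl _ rfl)⟩

/-- Equality of the genus and surjectivity on constants force an isomorphism. -/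
theorem isIso_of_genus_eq (k : Type u) [Field k] {X Y : Scheme.{u}} [X.Over (Spec (CommRingCat.of k))]
    [Y.Over (Spec (CommRingCat.of k))] [IsProper (X ↘ Spec (CommRingCat.of k))] [IsReduced X]
    (hdim : topologicalKrullDim X ≤ 1) (f : Y ⟶ X) [IsFinite f]
    (hf : f ≫ (X ↘ Spec (CommRingCat.of k)) = Y ↘ Spec (CommRingCat.of k))
    (U : X.Opens) (hU : Dense (U : Set X)) (hfU : IsIso (f ∣_ U))
    (h0 : Function.Surjective (f.app ⊤).hom) (h1 : Curv2.genus k Y = Curv2.genus k X) : IsIso f := by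
  haveI := Euler.isNoetherian_of_proper (X := X) k
  haveI := Cohom.isQuasicoherent_structureModule X
  haveI := Cohom.isQuasicoherent_structureModule Y
  let N := (Scheme.Modules.pushforward f).obj (Coh.structureModule Y)
  let η : Coh.structureModule X ⟶ N := ClSub.unitToPush f
  obtain ⟨hfin, hcl⟩ := finite_compl_of_dense hdim hU
  have hbij : ∀ T ≤ U, Function.Bijective (f.app T).hom := fun T hTU => by
    obtain ⟨T', rfl⟩ : ∃ T' : U.toScheme.Opens, U.ι ''ᵁ T' = T :=
      ⟨U.ι ⁻¹ᵁ T, by rw [Scheme.Hom.image_preimage_eq_opensRange_inf, Scheme.Opens.opensRange_ι, inf_eq_right.2 hTU]⟩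
    have h1 := ConcreteCategory.bijective_of_isIso ((f ∣_ U).app T')
    rw [morphismRestrict_app] at h1
    let m := Y.presheaf.map (eqToHom (image_morphismRestrict_preimage f U T')).op
    refine ⟨fun a b hab => h1.1 (congrArg m.hom hab), fun y => ?_⟩
    obtain ⟨s, hs⟩ := h1.2 (m.hom y)
    exact ⟨s, (ConcreteCategory.bijective_of_isIso m).1 hs⟩
  have hinj : ∀ T : X.Opens, Function.Injective (f.app T).hom := fun T => by
    refine (injective_iff_map_eq_zero _).2 fun s hs => ?_
    rw [← basicOpen_eq_bot_iff]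
    have hr : X.presheaf.map (homOfLE (inf_le_left : T ⊓ U ≤ T)).op s = 0 := by
      apply (hbij _ inf_le_right).1
      have := congr($(f.naturality (homOfLE (inf_le_left : T ⊓ U ≤ T)).op) s)
      refine this.trans ?_
      show (Y.presheaf.map _).hom ((f.app T).hom s) = _
      rw [hs, map_zero, map_zero]
    have hb := congrArg (X.basicOpen ·) hr
    simp only [Scheme.basicOpen_res, Scheme.basicOpen_zero] at hb
    by_contra hne
    have hne' : ((X.basicOpen s : X.Opens) : Set X).Nonempty := by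
      rw [Set.nonempty_iff_ne_empty]
      exact fun he => hne (Opens.ext (he.trans rfl))
    obtain ⟨x, hx, hxU⟩ := hU.inter_open_nonempty _ (X.basicOpen s).2 hne'
    have : x ∈ (T ⊓ U) ⊓ X.basicOpen s := ⟨⟨X.basicOpen_le s hx, hxU⟩, hx⟩
    rw [hb] at this
    exact this
  haveI hmono : Mono η := ⟨fun a b hab => Scheme.Modules.hom_ext _ _ fun V => by
    ext s
    exact hinj V (ConcreteCategory.congr_hom (congrArg (fun φ => Scheme.Modules.Hom.app φ V) hab) s)⟩
  let S := ShortComplex.mk η (cokernel.π η) (cokernel.condition η)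
  have hS : S.ShortExact := { exact := ShortComplex.exact_of_g_is_cokernel _ (cokernelIsCokernel η) }
  have hQ : CohB1.support (cokernel η) ⊆ (U : Set X)ᶜ := fun x hx hxU =>
    QCoh.notMem_support_cokernel_of_surjective η
      (stalkLin_surjective_of_app η hxU fun T hTU _ => (hbij T hTU).2) hx
  haveI hQ1 : Subsingleton (Coh.HH X S.X₃ 1) :=
    Euler.subsingleton_HH_of_finite_support _ (hfin.subset hQ) (fun x hx => hcl x (hQ hx)) 1 le_rfl
  haveI := Euler.finiteDimensional_HH k (Euler.isCoh_of_isInvertible (Euler.isInvertible_structure (X := X))) 1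
  obtain ⟨e⟩ := Snapper.nonempty_HH_linearEquiv_pushforward (A := k) f hf (Coh.structureModule Y) 1
  have hs1 : Function.Surjective (Cohom.hhMap k S.f 1) := fun y =>
    (Cohom.exact₂ (A := k) hS 1 y).1 (Subsingleton.elim _ _)
  haveI : FiniteDimensional k (Coh.HH X S.X₂ 1) := Module.Finite.of_surjective _ hs1
  have hi1 : Function.Injective (Cohom.hhMap k S.f 1) :=
    (LinearMap.injective_iff_surjective_of_finrank_eq_finrank (show Module.finrank k (Coh.HH X S.X₁ 1) =
      Module.finrank k (Coh.HH X S.X₂ 1) from h1.symm.trans (by rw [Euler.genus_def]; exact e.finrank_eq))).2 hs1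
  have hs0 : Function.Surjective (Cohom.hhMap k S.f 0) := fun y => by
    obtain ⟨s, hs⟩ := h0 (ProjCoh.H0top N y)
    refine ⟨(ProjCoh.H0top (Coh.structureModule X)).symm s, (ProjCoh.H0top N).injective ?_⟩
    refine (ProjCoh.H0top_map _ _).trans ?_
    rw [AddEquiv.apply_symm_apply]
    exact hs
  have hQ0 : ∀ q : Coh.HH X S.X₃ 0, q = 0 := fun q => by
    obtain ⟨y, rfl⟩ := (Cohom.exact₃ (A := k) hS 0 q).1
      (hi1 ((((Cohom.exact₁ (A := k) hS 0) _).2 ⟨q, rfl⟩).trans (map_zero _).symm))
    obtain ⟨x, rfl⟩ := hs0 y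
    exact ((Cohom.exact₂ (A := k) hS 0) _).2 ⟨x, rfl⟩
  have hfl := Euler.isFlasque_of_finite_support (cokernel η) (hfin.subset hQ) fun x hx => hcl x (hQ hx)
  have hQz : ∀ (V : X.Opens) (t : Γ(cokernel η, V)), t = 0 := fun V t => by
    obtain ⟨t', ht'⟩ := (AddCommGrpCat.epi_iff_surjective _).1 (hfl.epi (homOfLE (le_top : V ≤ ⊤)).op) t
    rw [← ht']
    have : t' = 0 := (ProjCoh.H0top (cokernel η)).symm.injective ((hQ0 _).trans (map_zero _).symm)
    rw [this]
    exact map_zero _
  haveI : Epi η := Abelian.epi_of_cokernel_π_eq_zero _ (Scheme.Modules.hom_ext _ _ fun V => by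
    ext s
    exact hQz V _)
  haveI : IsIso η := isIso_of_mono_of_epi η
  exact isIso_of_app_bijective f fun V => ConcreteCategory.bijective_of_isIso (η.app V)

end GrothLib.CurveMult.GenusFinite
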