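import Groth.Agent.Lib.CurveMult.Embed
import Groth.Agent.Lib.ProjDim.Const
import Groth.Agent.S10829

/-!
# Integral curves of genus zero with a line bundle of degree one
-/

set_option linter.style.haveILetI false
set_option backward.isDefEq.respectTransparency false

universe u

open CategoryTheory CategoryTheory.Limits AlgebraicGeometry TopologicalSpace Opposite

noncomputable section

namespace GrothLib.CurveMult

variable {X : Scheme.{u}} (k : Type u) [Field k] [X.Over (Spec (CommRingCat.of k))]
  [IsIntegral X] [IsProper (X ↘ Spec (CommRingCat.of k))]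

include k in
/-- The dimension of the field of global functions divides that of the sections of any module. -/
theorem finrank_H0_structure_dvd (M : X.Modules) :
    Module.finrank k (Coh.HH X (Coh.structureModule X) 0) ∣ Module.finrank k (Coh.HH X M 0) := by
  let φ : k →+* Γ(X, ⊤) := Coh.toGlobal (X ↘ Spec (CommRingCat.of k))
  letI : Algebra k Γ(X, ⊤) := φ.toAlgebra
  letI : Module k Γ(M, ⊤) := Module.compHom Γ(M, ⊤) φ
  letI : Field Γ(X, ⊤) := (isField_of_universallyClosed k (X ↘ Spec (CommRingCat.of k))).toField
  haveI : IsScalarTower k Γ(X, ⊤) Γ(M, ⊤) := ⟨fun a r m => by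
    show (φ a * r) • m = φ a • r • m
    exact mul_smul _ _ _⟩
  let e1 : Coh.HH X (Coh.structureModule X) 0 ≃ₗ[k] Γ(X, ⊤) :=
    { ProjCoh.H0top (Coh.structureModule X) with
      map_smul' := fun a x => ProjCoh.H0top_smul (Coh.structureModule X) a x }
  let e2 : Coh.HH X M 0 ≃ₗ[k] Γ(M, ⊤) :=
    { ProjCoh.H0top M with map_smul' := fun a x => ProjCoh.H0top_smul M a x }
  rw [e1.finrank_eq, e2.finrank_eq]
  exact ⟨_, (Module.finrank_mul_finrank k Γ(X, ⊤) Γ(M, ⊤)).symm⟩

include k in
/-- A line bundle of degree one with a section forces the global functions to be the constants. -/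
theorem finrank_H0_structure_eq_one_of_deg_one (hd : topologicalKrullDim X ≤ 1) {L : X.Modules}
    (hL : PicF.IsInvertible L) (hs : Nontrivial (Coh.HH X L 0)) (hdeg : Curv2.deg k X L 1 = 1) :
    Module.finrank k (Coh.HH X (Coh.structureModule X) 0) = 1 := by
  obtain ⟨c, ⟨e⟩⟩ := Ample.exists_cocycle hL
  have hne : Nontrivial (Coh.HH X (c.twist 1) 0) := (Euler.hhEquiv (A := k) e 0).symm.toEquiv.nontrivial
  obtain ⟨u₀, hu⟩ := Euler.exists_ne_zero_section hne
  obtain ⟨u, hu'⟩ : ∃ u : c.sect 1 ⊤, u ≠ 0 := ⟨u₀, hu⟩
  have h := finrank_coker c k hd hu' 0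
  rw [← Euler.deg_of_iso k e 1, hdeg] at h
  have h2 : Module.finrank k (Coh.HH X (cokernel (T c u 0)) 0) = 1 := by exact_mod_cast h
  have h3 := finrank_H0_structure_dvd k (cokernel (T c u 0))
  rw [h2] at h3
  exact Nat.dvd_one.1 h3

include k in
/-- Genus zero: every linear system restricted to the zeros of a section is complete. -/
theorem surjective_of_genus_zero (c : Ample.Cocycle X) (hg : Subsingleton (Coh.HH X (Coh.structureModule X) 1))
    {u : c.sect 1 ⊤} (hu : u ≠ 0) : Function.Surjective (Cohom.hhMap k (seq c u 0).g 0) := by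
  obtain ⟨e0⟩ := c.nonempty_twist_zero
  have h : Subsingleton (Coh.HH X (c.twist 0) 1) := (Euler.hhEquiv (A := k) e0 1).symm.toEquiv.subsingleton
  intro y
  exact (Cohom.exact₃ (A := k) (seq_shortExact c hu 0) 0 y).1 (@Subsingleton.elim _ h _ _)

include k in
/-- Complete linear systems on curves of genus zero are very ample. -/
theorem exists_closedImmersion_of_genus_zero (hdim : topologicalKrullDim X = 1)
    (h0 : Module.finrank k (Coh.HH X (Coh.structureModule X) 0) = 1)
    (hg : Subsingleton (Coh.HH X (Coh.structureModule X) 1))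
    {L : X.Modules} (hL : PicF.IsInvertible L) (d : ℕ) (hd : 0 < d) (hdeg : Curv2.deg k X L 1 = d) :
    ∃ i : X ⟶ CohB1.ProjSpace d k, IsClosedImmersion i ∧
      i ≫ CohB1.ProjSpace.toSpec d k = X ↘ Spec (CommRingCat.of k) ∧
      Nonempty ((Scheme.Modules.pullback i).obj (Twist.twistProjSpace d k 1) ≅ L) := by
  haveI := Euler.isNoetherian_of_proper (X := X) k
  obtain ⟨c, ⟨e⟩⟩ := Ample.exists_cocycle hL
  refine exists_closedImmersion_of_surjective k c hdim e (by rw [hdeg]; exact_mod_cast hd)
    (fun u hu => surjective_of_genus_zero k c hg hu) d ?_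
  have hLc := Euler.isCoh_of_isInvertible hL
  haveI := hLc.1
  haveI := hg
  have e1 := Euler.euler_eq_sub k hdim.le L
  have e2 := Euler.euler_structure (X := X) k hdim.le
  rw [h0, show Curv2.genus k X = 0 from Module.finrank_zero_of_subsingleton] at e2
  have hpos : 0 < Curv2.euler k X L := by
    rw [Curv2.deg] at hdeg
    push_cast at *
    omega
  obtain ⟨u₀, hu⟩ := Euler.exists_ne_zero_section ((Euler.nontrivial_H0_of_euler_pos k hdim.le hLc hpos))
  haveI : Mono (FinCov.homOfSection u₀) := Euler.mono_homOfSection hL hu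
  have hQ := QCoh.isCoh_cokernel (FinCov.homOfSection u₀) (Euler.isCoh_of_isInvertible Euler.isInvertible_structure) hLc
  obtain ⟨hfin, hcl⟩ := Euler.finite_support_of_notMem_genericPoint k hdim.le hQ
    (QCoh.notMem_support_cokernel_of_surjective _ (Euler.stalkLin_homOfSection_genericPoint hL hu).2)
  let S := ShortComplex.mk (FinCov.homOfSection u₀) (cokernel.π _) (cokernel.condition _)
  have hS : S.ShortExact := { exact := ShortComplex.exact_of_g_is_cokernel _ (cokernelIsCokernel _) }
  haveI h1L : Subsingleton (Coh.HH X L 1) := by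
    refine subsingleton_of_forall_eq 0 fun y => ?_
    obtain ⟨z, hz⟩ := (Cohom.exact₂ (A := k) hS 1 y).1
      (@Subsingleton.elim _ (Euler.subsingleton_HH_of_finite_support (X := X) S.X₃ hfin hcl 1 le_rfl) _ _)
    rw [← hz, @Subsingleton.elim _ hg z 0, map_zero]
  rw [Module.finrank_zero_of_subsingleton (R := k) (M := Coh.HH X L 1)] at e1
  rw [Curv2.deg] at hdeg
  push_cast at *
  omega

include k in
/-- A curve of genus zero with a line bundle of degree one is the projective line. -/
theorem exists_iso_P1 (hdim : topologicalKrullDim X = 1)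
    (hg : Subsingleton (Coh.HH X (Coh.structureModule X) 1))
    {L : X.Modules} (hL : PicF.IsInvertible L) (hdeg : Curv2.deg k X L 1 = 1) :
    ∃ e : X ≅ CohB1.ProjSpace 1 k, e.hom ≫ CohB1.ProjSpace.toSpec 1 k = X ↘ Spec (CommRingCat.of k) := by
  haveI := Euler.isNoetherian_of_proper (X := X) k
  have hLc := Euler.isCoh_of_isInvertible hL
  have e2 := Euler.euler_structure (X := X) k hdim.le
  haveI := hg
  rw [show Curv2.genus k X = 0 from Module.finrank_zero_of_subsingleton] at e2
  have hpos : 0 < Curv2.euler k X L := by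
    rw [Curv2.deg] at hdeg
    push_cast at *
    omega
  have h0 := finrank_H0_structure_eq_one_of_deg_one k hdim.le hL
    (Euler.nontrivial_H0_of_euler_pos k hdim.le hLc hpos) hdeg
  obtain ⟨i, hi, hik, -⟩ := exists_closedImmersion_of_genus_zero k hdim h0 hg hL 1 one_pos (by simpa using hdeg)
  haveI := hi
  haveI : IsIntegral (CohB1.ProjSpace 1 k) := ProjDim.isIntegral_proj k 1
  have hP : topologicalKrullDim ↥(CohB1.ProjSpace 1 k) = 1 := by exact_mod_cast Groth.Agent.S10829.result k 1
  haveI : Surjective i := ⟨fun y => by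
    have hη : i (genericPoint X) = genericPoint (CohB1.ProjSpace 1 k) := by
      by_contra hne
      have hcl : IsClosed ({i (genericPoint X)} : Set (CohB1.ProjSpace 1 k)) :=
        CurvePoints.isClosed_singleton hP.le hne
      have hall : ∀ x : X, x = genericPoint X := fun x => i.isClosedEmbedding.injective
        (Set.mem_singleton_iff.1 ((((genericPoint_spec X).specializes trivial).map i.continuous).mem_closed hcl (Set.mem_singleton _)))
      haveI : Subsingleton X := ⟨fun a b => (hall a).trans (hall b).symm⟩
      haveI : DiscreteTopology X := inferInstance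
      have h1 := hdim.symm.trans_le (topologicalKrullDim_zero_of_discreteTopology X)
      exact absurd h1 (by decide)
    exact (((genericPoint_spec (CohB1.ProjSpace 1 k)).specializes trivial).mem_closed i.isClosedMap.isClosed_range
      ⟨_, hη⟩)⟩
  haveI : IsIso i := isIso_of_isClosedImmersion_of_surjective i
  exact ⟨asIso i, hik⟩

end GrothLib.CurveMult
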