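import Groth.Agent.Lib.Euler.AmpleCurve
import Groth.Agent.Lib.Cube.Pic

/-!
# The degrees of invertible modules form a subgroup
-/

set_option linter.style.haveILetI false

universe u

open CategoryTheory CategoryTheory.Limits AlgebraicGeometry

namespace GrothLib.CurveMult

variable {X : Scheme.{u}} (k : Type u) [Field k] [X.Over (Spec (CommRingCat.of k))]
  [IsProper (X ↘ Spec (CommRingCat.of k))] [IsIntegral X]

include k in
theorem deg_tensorMod (hd : topologicalKrullDim X ≤ 1) {L M : X.Modules} (hL : PicF.IsInvertible L)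
    (hM : PicF.IsInvertible M) :
    Curv2.deg k X (CohB1.tensorMod L M) 1 = Curv2.deg k X L 1 + Curv2.deg k X M 1 := by
  have hM1 := Euler.isFinLocFreeOfRank_one' hM
  have hL1 := Euler.isFinLocFreeOfRank_one' hL
  obtain ⟨U, hU, ⟨φ⟩⟩ := Euler.exists_trivial_genericPoints k hL1
  have h := Euler.euler_tF k hd hM1 (Euler.isCoh_of_isInvertible hL) hU φ
  have e : Curv2.euler k X ((Euler.tF M).obj L) = Curv2.euler k X (CohB1.tensorMod L M) :=
    Euler.euler_of_iso k (Iso.refl _)
  simp only [Curv2.deg] at h ⊢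
  push_cast at *
  linear_combination h - e

include k in
theorem exists_deg_neg (hd : topologicalKrullDim X ≤ 1) {L : X.Modules} (hL : PicF.IsInvertible L) :
    ∃ M : X.Modules, PicF.IsInvertible M ∧ Curv2.deg k X M 1 = - Curv2.deg k X L 1 := by
  obtain ⟨c, ⟨e⟩⟩ := Ample.exists_cocycle hL
  let d := Cube.inv c
  have hd' : PicF.IsInvertible (d.twist 1) := d.isInvertible_twist 1
  refine ⟨d.twist 1, hd', ?_⟩
  have h1 : Cube.clsMod (Ample.isInvertible_tensorMod hd' hL) = 1 := by
    rw [Cube.clsMod_tensorMod hd' hL, Cube.clsMod_eq hd' (Iso.refl _), Cube.clsMod_eq hL e, ← Cube.cls_prod]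
    exact Quotient.sound (Cube.eqv_prod_inv c)
  obtain ⟨i⟩ := (Cube.clsMod_eq_one_iff _).1 h1
  have h2 := deg_tensorMod k hd hd' hL
  rw [Euler.deg_of_iso k i, Euler.deg_structure k] at h2
  linarith

include k in
/-- A family of bundles with coprime degrees gives a bundle of degree one. -/
theorem exists_deg_one_of_gcd (hd : topologicalKrullDim X ≤ 1) {ι : Type*} (s : Finset ι) (f : ι → ℕ)
    (hf : ∀ x ∈ s, ∃ L : X.Modules, PicF.IsInvertible L ∧ Curv2.deg k X L 1 = f x) (hgcd : s.gcd f = 1) :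
    ∃ L : X.Modules, PicF.IsInvertible L ∧ Curv2.deg k X L 1 = 1 := by
  let S : AddSubgroup ℤ :=
    { carrier := {d | ∃ L : X.Modules, PicF.IsInvertible L ∧ Curv2.deg k X L 1 = d}
      zero_mem' := ⟨_, Euler.isInvertible_structure, Euler.deg_structure k⟩
      add_mem' := by
        rintro a b ⟨L, hL, rfl⟩ ⟨M, hM, rfl⟩
        exact ⟨_, Ample.isInvertible_tensorMod hL hM, deg_tensorMod k hd hL hM⟩
      neg_mem' := by
        rintro a ⟨L, hL, rfl⟩
        exact exists_deg_neg k hd hL }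
  obtain ⟨a, ha⟩ := Int.subgroup_cyclic S
  have h : a.natAbs ∣ s.gcd f := Finset.dvd_gcd fun x hx => by
    have h1 : (f x : ℤ) ∈ S := hf x hx
    rw [ha, AddSubgroup.mem_closure_singleton] at h1
    obtain ⟨m, hm⟩ := h1
    exact ⟨m.natAbs, by rw [mul_comm, ← Int.natAbs_mul, ← smul_eq_mul, hm, Int.natAbs_natCast]⟩
  rw [hgcd, Nat.dvd_one] at h
  have h2 : (1 : ℤ) ∈ S := by
    rw [ha, AddSubgroup.mem_closure_singleton]
    rcases Int.natAbs_eq_iff.1 h with h | h
    · exact ⟨1, by rw [h]; simp⟩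
    · exact ⟨-1, by rw [h]; simp⟩
  exact h2

end GrothLib.CurveMult
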