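import Groth.Agent.Lib.CurveMult.Basic
import Groth.Agent.Lib.Euler.AmpleExists
import Groth.Agent.Lib.Euler.Scalar
import Groth.Agent.Lib.GrpSchField.Smooth
import Groth.Agent.Lib.CurveRR.Places
import Groth.Prelude.Def_CurvBase

/-!
# The line bundle of a regular rational point on an integral curve
-/

set_option linter.style.haveILetI false
set_option backward.isDefEq.respectTransparency false

universe u

open CategoryTheory CategoryTheory.Limits AlgebraicGeometry TopologicalSpace Opposite
open GrothLib.Ample (Cocycle Equations res)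
open GrothLib.QCoh (stalkLin)

noncomputable section

namespace GrothLib.CurveMult

variable {X : Scheme.{u}} [IsIntegral X]

theorem exists_uniformizer_equation [IsNoetherian X] (hd : topologicalKrullDim X ≤ 1) {x : X}
    (hxη : x ≠ genericPoint X) (hreg : (IsLocalRing.maximalIdeal (X.presheaf.stalk x)).IsPrincipal) :
    ∃ (U : X.Opens) (hx : x ∈ U) (f : Γ(X, U)), (X.basicOpen f : Set X) = (U : Set X) \ {x} ∧
      IsLocalRing.maximalIdeal (X.presheaf.stalk x) = Ideal.span {X.presheaf.germ U x hx f} := by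
  obtain ⟨t, ht⟩ := hreg
  obtain ⟨V, hxV, f, rfl⟩ := TopCat.Presheaf.exists_germ_eq X.presheaf t
  have hxf : x ∉ X.basicOpen f := fun h => by
    rw [Scheme.mem_basicOpen X _ x hxV] at h
    exact (IsLocalRing.maximalIdeal.isMaximal _).ne_top
      (ht.trans (Ideal.span_singleton_eq_top.2 h))
  by_cases hη : genericPoint X ∈ X.basicOpen f
  · have hfin : ((X.basicOpen f : Set X)ᶜ).Finite :=
      CurvePoints.finite_of_isClosed hd (X.basicOpen f).2.isClosed_compl fun h => h hη
    have hC : IsClosed ((X.basicOpen f : Set X)ᶜ \ {x}) := by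
      rw [← Set.biUnion_of_singleton ((X.basicOpen f : Set X)ᶜ \ {x})]
      exact hfin.sdiff.isClosed_biUnion fun y hy => CurvePoints.isClosed_singleton hd fun h => hy.1 (h ▸ hη)
    let U : X.Opens := V ⊓ ⟨((X.basicOpen f : Set X)ᶜ \ {x})ᶜ, hC.isOpen_compl⟩
    refine ⟨U, ⟨hxV, fun h => h.2 rfl⟩, res inf_le_left f, ?_, ?_⟩
    · rw [Ample.res, Scheme.basicOpen_res]
      ext y
      constructor
      · rintro ⟨hy, hyf⟩
        exact ⟨hy, fun h => hxf (Set.mem_singleton_iff.1 h ▸ hyf)⟩
      · rintro ⟨hy, hyx⟩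
        exact ⟨hy, by_contra fun h => hy.2 ⟨h, hyx⟩⟩
    · refine ht.trans ?_
      show Ideal.span _ = _
      congr 2
      exact (X.presheaf.germ_res_apply _ _ _ _).symm
  · exfalso
    have h0 : f = 0 := (basicOpen_eq_bot_iff f).1 (eq_bot_iff.2 fun y hy =>
      (hη (((genericPoint_spec X).mem_open_set_iff (X.basicOpen f).2).2 ⟨y, trivial, hy⟩)).elim)
    have hm : IsLocalRing.maximalIdeal (X.presheaf.stalk x) = ⊥ := by
      refine ht.trans ?_
      rw [h0, map_zero]
      exact Ideal.span_singleton_eq_bot.2 rfl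
    have h1 := CurvePoints.ringKrullDim_stalk hd hxη
    rw [ringKrullDim_eq_zero_of_isField (IsLocalRing.isField_iff_maximalIdeal_eq.2 hm)] at h1
    exact zero_ne_one h1

attribute [local instance] Curv2.resAlgebra

variable (k : Type u) [Field k] [X.Over (Spec (CommRingCat.of k))]
  [IsProper (X ↘ Spec (CommRingCat.of k))]

include k in
/-- A regular point gives a line bundle with a section, of degree the degree of the point. -/
theorem exists_point_bundle_deg (hd : topologicalKrullDim X ≤ 1) {x : X} (hxη : x ≠ genericPoint X)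
    (hreg : (IsLocalRing.maximalIdeal (X.presheaf.stalk x)).IsPrincipal) :
    ∃ L : X.Modules, PicF.IsInvertible L ∧
      Curv2.deg k X L 1 = Module.finrank k (X.residueField x) ∧ Nontrivial (Coh.HH X L 0) := by
  classical
  haveI := Euler.isNoetherian_of_proper (X := X) k
  obtain ⟨U, hxU, f, hf, hm⟩ := exists_uniformizer_equation hd hxη hreg
  have hcl : IsClosed ({x} : Set X) := CurvePoints.isClosed_singleton hd hxη
  let V : X.Opens := ⟨{x}ᶜ, hcl.isOpen_compl⟩
  let E : Equations X :=
    { ι := ULift.{u} Bool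
      D := fun o => if o.down then U else V
      f := fun o => match o with
        | ⟨true⟩ => f
        | ⟨false⟩ => 1
      V := V
      cover := eq_top_iff.2 fun y _ => by
        by_cases hy : y = x
        · exact Opens.mem_iSup.2 ⟨⟨true⟩, hy ▸ hxU⟩
        · exact Opens.mem_iSup.2 ⟨⟨false⟩, hy⟩
      disjoint := by
        rintro ⟨_ | _⟩ ⟨_ | _⟩ hne
        · exact (hne rfl).elim
        · exact inf_le_left
        · exact inf_le_right
        · exact (hne rfl).elim
      basicOpen_eq := by
        rintro ⟨_ | _⟩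
        · exact (Scheme.basicOpen_of_isUnit X isUnit_one).trans (inf_idem V).symm
        · exact Opens.ext hf }
  let c := E.cocycle
  let u : c.sect 1 ⊤ := E.section₁
  have hloc : c.locus u = V := E.locus_section₁
  have hu : u ≠ 0 := by
    intro h0
    have : genericPoint X ∈ c.locus u := hloc ▸ (fun h => hxη (Set.mem_singleton_iff.1 h).symm : genericPoint X ∈ ({x}ᶜ : Set X))
    rw [h0] at this
    obtain ⟨i, hi⟩ := Opens.mem_iSup.1 this
    rw [show ((0 : c.sect 1 ⊤).1 i) = (0 : Γ(X, _)) from rfl, Scheme.basicOpen_zero] at hi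
    exact hi
  refine ⟨c.twist 1, c.isInvertible_twist 1, ?_, ?_⟩
  · obtain ⟨hQc, hfin, hclQ, hsub⟩ := seq_data c k hd hu 0
    have hd1 := finrank_coker c k hd hu 0
    let Q := cokernel (T c u 0)
    let π : c.twist 1 ⟶ Q := cokernel.π (T c u 0)
    have hsuppQ : CohB1.support Q ⊆ {x} := fun y hy => by_contra fun h => hsub hy (hloc ▸ h : y ∈ (c.locus u : Set X))
    let b : Γ(c.twist 1, U) := c.base 1 ⟨true⟩ (le_rfl : U ≤ c.D ⟨true⟩)
    let q := stalkLin π x ((c.twist 1).presheaf.germ U x hxU b)
    have hspan : ∀ y : Q.presheaf.stalk x, ∃ r : X.presheaf.stalk x,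
        r • q = y := by
      intro y
      obtain ⟨y1, rfl⟩ := QCoh.stalkLin_surjective π x y
      obtain ⟨W, hxW, hWU, s, rfl⟩ : ∃ (W : X.Opens) (hxW : x ∈ W) (_ : W ≤ U) (s : Γ(c.twist 1, W)),
          (c.twist 1).presheaf.germ W x hxW s = y1 := by
        obtain ⟨W, hxW, s, hs⟩ := TopCat.Presheaf.exists_germ_eq (c.twist 1).presheaf y1
        refine ⟨W ⊓ U, ⟨hxW, hxU⟩, inf_le_right, InvExt.mres (c.twist 1) (inf_le_left : W ⊓ U ≤ W) s, ?_⟩
        rw [← hs]
        exact (c.twist 1).presheaf.germ_res_apply _ _ _ _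
      obtain ⟨r, hr⟩ := (c.isGen_base 1 ⟨true⟩ (le_rfl : U ≤ c.D ⟨true⟩)).exists_smul_eq hWU s
      refine ⟨X.presheaf.germ W x hxW r, ?_⟩
      have hs' : (c.twist 1).presheaf.germ W x hxW s =
          X.presheaf.germ W x hxW r • (c.twist 1).presheaf.germ U x hxU b := by
        rw [hr]
        exact (WeakAss.germ_smul _ _ _).trans
          (congrArg (_ • ·) ((c.twist 1).presheaf.germ_res_apply _ _ _ _))
      rw [hs', map_smul]
    have hkill : stalkLin π x (X.presheaf.germ U x hxU f • (c.twist 1).presheaf.germ U x hxU b) = 0 := by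
      have h1 : (show c.sect 1 U from (T c u 0).app U (c.base 0 ⟨true⟩ (le_rfl : U ≤ c.D ⟨true⟩))) =
          f • c.base 1 ⟨true⟩ (le_rfl : U ≤ c.D ⟨true⟩) := by
        refine c.sect_ext_of_le (i := ⟨true⟩) (le_rfl : U ≤ c.D ⟨true⟩) ?_
        show (c.base 0 ⟨true⟩ _).1 ⟨true⟩ * res _ (res _ f) = res _ f * (c.base 1 ⟨true⟩ _).1 ⟨true⟩
        rw [Cocycle.base_self, Cocycle.base_self, one_mul, mul_one, Ample.res_res]
      rw [← WeakAss.germ_smul, QCoh.stalkLin_germ]
      show Q.presheaf.germ U x hxU (π.app U (f • b)) = 0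
      rw [show (f • b : Γ(c.twist 1, U)) = (T c u 0).app U (c.base 0 ⟨true⟩ (le_rfl : U ≤ c.D ⟨true⟩)) from h1.symm]
      have h2 := congrArg (fun φ : c.twist 0 ⟶ Q => φ.app U (c.base 0 ⟨true⟩ (le_rfl : U ≤ c.D ⟨true⟩)))
        (cokernel.condition (T c u 0))
      exact (congrArg (Q.presheaf.germ U x hxU) h2).trans (map_zero _)
    let Ψ : X.presheaf.stalk x →ₗ[X.presheaf.stalk x] Q.presheaf.stalk x := LinearMap.toSpanSingleton _ _ q
    have hΨ : Function.Surjective Ψ := fun y => hspan y
    have hinj : ∀ w w' : Coh.HH X Q 0, Q.presheaf.germ ⊤ x trivial (ProjCoh.H0top Q w) =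
        Q.presheaf.germ ⊤ x trivial (ProjCoh.H0top Q w') → w = w' := by
      intro w w' h
      refine (ProjCoh.H0top Q).injective ((Euler.bijective_germs Q hfin hclQ).1 (funext fun y => ?_))
      obtain ⟨y, hy⟩ := y
      obtain rfl : y = x := hsuppQ hy
      exact h
    have hpos : 0 < Curv2.deg k X (c.twist 1) 1 := by
      refine Euler.deg_pos_of_locus k c hd (n := 1) (a := u) ⟨genericPoint X, ?_⟩ ?_
      · rw [hloc]; exact fun h => hxη (Set.mem_singleton_iff.1 h).symm
      · rw [hloc]
        intro h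
        exact (h ▸ Opens.mem_top x : x ∈ V) rfl
    have hq : q ≠ 0 := by
      intro hq0
      haveI : Subsingleton (Coh.HH X Q 0) := subsingleton_of_forall_eq 0 fun w => hinj w 0 (by
        obtain ⟨r, hr⟩ := hspan (Q.presheaf.germ ⊤ x trivial (ProjCoh.H0top Q w))
        rw [← hr, hq0, smul_zero, map_zero (ProjCoh.H0top Q), map_zero])
      change (Module.finrank k (Coh.HH X Q 0) : ℤ) = _ at hd1
      rw [Module.finrank_zero_of_subsingleton] at hd1
      omega
    have hker : LinearMap.ker Ψ = IsLocalRing.maximalIdeal (X.presheaf.stalk x) := by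
      refine ((IsLocalRing.maximalIdeal.isMaximal _).eq_of_le ?_ ?_).symm
      · intro h
        have h1 : (1 : X.presheaf.stalk x) ∈ LinearMap.ker Ψ := h ▸ Submodule.mem_top
        rw [LinearMap.mem_ker, LinearMap.toSpanSingleton_apply, one_smul] at h1
        exact hq h1
      · rw [hm, Ideal.span_le, Set.singleton_subset_iff, SetLike.mem_coe, LinearMap.mem_ker,
          LinearMap.toSpanSingleton_apply, ← map_smul (stalkLin π x)]
        exact hkill
    let φ : (X.presheaf.stalk x ⧸ IsLocalRing.maximalIdeal (X.presheaf.stalk x)) ≃ₗ[X.presheaf.stalk x]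
        Q.presheaf.stalk x :=
      (Submodule.quotEquivOfEq _ _ hker.symm).trans (Ψ.quotKerEquivOfSurjective hΨ)
    let g : Coh.HH X Q 0 →+ (X.residueField x : Type u) :=
      AddMonoidHom.mk' (fun w => φ.symm (Q.presheaf.germ ⊤ x trivial (ProjCoh.H0top Q w))) fun w w' => by
        simp only [map_add]
    have hgb : Function.Bijective g := by
      refine ⟨fun w w' h => hinj w w' (φ.symm.injective h), fun y => ?_⟩
      obtain ⟨s, hs⟩ := (Euler.bijective_germs Q hfin hclQ).2 fun z => if hz : (z : X) = x then hz ▸ φ y else 0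
      refine ⟨(ProjCoh.H0top Q).symm s, φ.injective ?_⟩
      show φ (φ.symm _) = φ y
      rw [LinearEquiv.apply_symm_apply, AddEquiv.apply_symm_apply]
      by_cases hxs : x ∈ CohB1.support Q
      · have h := congrFun hs ⟨x, hxs⟩
        simpa using h
      · haveI := QCoh.stalk_subsingleton_of_notMem hxs
        exact Subsingleton.elim _ _
    let e : Coh.HH X Q 0 ≃ₗ[k] (X.residueField x : Type u) :=
      { AddEquiv.ofBijective g hgb with
        map_smul' := fun a w => by
          show φ.symm _ = Curv2.resMap k X x a * (show (X.residueField x : Type u) from φ.symm _)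
          rw [Euler.germ_H0top_smul, map_smul]
          rfl }
    change (Module.finrank k (Coh.HH X Q 0) : ℤ) = _ at hd1
    rw [e.finrank_eq] at hd1
    exact hd1.symm
  · refine ⟨(ProjCoh.H0top (c.twist 1)).symm u, 0, fun h => hu ?_⟩
    exact (ProjCoh.H0top (c.twist 1)).symm.injective (h.trans (map_zero (ProjCoh.H0top (c.twist 1)).symm).symm)

include k in
/-- A regular rational point gives a line bundle of degree one with a section. -/
theorem exists_point_bundle [IsAlgClosed k] (hd : topologicalKrullDim X ≤ 1) {x : X} (hxη : x ≠ genericPoint X)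
    (hreg : (IsLocalRing.maximalIdeal (X.presheaf.stalk x)).IsPrincipal) :
    ∃ L : X.Modules, PicF.IsInvertible L ∧ Curv2.deg k X L 1 = 1 ∧ Nontrivial (Coh.HH X L 0) := by
  obtain ⟨L, h1, h2, h3⟩ := exists_point_bundle_deg k hd hxη hreg
  refine ⟨L, h1, ?_, h3⟩
  rw [h2]
  have hb := Euler.exists_const_residue (X ↘ Spec (CommRingCat.of k)) (CurvePoints.isClosed_singleton hd hxη)
  have e : k ≃ₗ[k] (X.residueField x : Type u) := LinearEquiv.ofBijective (Algebra.linearMap k _) hb
  rw [← e.finrank_eq, Module.finrank_self, Nat.cast_one]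

variable [IsAlgClosed k]

include k in
/-- An integral curve over an algebraically closed field has a regular rational point. -/
theorem exists_regular_point (hdim : topologicalKrullDim X = 1) :
    ∃ x : X, x ≠ genericPoint X ∧ (IsLocalRing.maximalIdeal (X.presheaf.stalk x)).IsPrincipal := by
  haveI := Euler.isNoetherian_of_proper (X := X) k
  let q := X ↘ Spec (CommRingCat.of k)
  haveI : JacobsonSpace X := LocallyOfFiniteType.jacobsonSpace q
  have hη := Scheme.Hom.genericPoint_mem_smoothLocus_of_perfectField q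
  obtain ⟨x, hxU, hxc⟩ := nonempty_inter_closedPoints (Z := (q.smoothLocus : Set X))
    ⟨_, hη⟩ q.smoothLocus.2.isLocallyClosed
  have hxη : x ≠ genericPoint X := fun h => CurvePoints.genericPoint_not_isClosed hdim (h ▸ hxc)
  refine ⟨x, hxη, ?_⟩
  let U := q.smoothLocus
  haveI : Smooth (U.ι ≫ q) := by
    rw [← Scheme.Hom.smoothLocus_eq_top_iff, ← Scheme.Hom.preimage_smoothLocus_eq]
    exact eq_top_iff.2 fun y _ => y.2
  have hy : IsClosed ({(⟨x, hxU⟩ : U)} : Set U) := by
    have : IsClosed (Subtype.val ⁻¹' ({x} : Set X) : Set U) := IsClosed.preimage continuous_subtype_val hxc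
    convert this using 1
    ext y
    exact Subtype.ext_iff
  haveI hr := GrpSchField.isRegularLocalRing_stalk_of_smooth (U.ι ≫ q) hy
  haveI : IsRegularLocalRing (X.presheaf.stalk x) :=
    IsRegularLocalRing.of_ringEquiv ((U.stalkIso ⟨x, hxU⟩).commRingCatIsoToRingEquiv)
  have h1 := (IsRegularLocalRing.spanFinrank_maximalIdeal (R := X.presheaf.stalk x)).trans
    (CurvePoints.ringKrullDim_stalk hdim.le hxη)
  have h2 : (IsLocalRing.maximalIdeal (X.presheaf.stalk x)).spanFinrank = 1 := by exact_mod_cast h1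
  have hfg : (IsLocalRing.maximalIdeal (X.presheaf.stalk x)).FG := IsNoetherian.noetherian _
  obtain ⟨a, ha⟩ := Set.ncard_eq_one.1 ((Submodule.FG.generators_ncard hfg).trans h2)
  exact ⟨⟨a, by rw [← ha, Submodule.span_generators]⟩⟩

end GrothLib.CurveMult
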