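import Groth.Agent.Lib.CurveMult.DegBound
import Groth.Agent.Lib.EulerConst10.Main
import Groth.Agent.Lib.LocFreeHom.Lift
import Groth.Agent.Lib.Seesaw26.Closed
import Groth.Agent.Lib.OX.LocalLift
import Groth.Agent.Lib.OX.OneDegLocus
import Groth.Agent.Lib.Euler.Slope2

/-!
# Jumping of homomorphisms in families of bundles on a curve
-/

set_option autoImplicit false
set_option linter.style.haveILetI false
set_option linter.unusedSectionVars false
set_option backward.isDefEq.respectTransparency false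
set_option maxHeartbeats 1000000

universe u

open CategoryTheory CategoryTheory.Limits AlgebraicGeometry Opposite TopologicalSpace

noncomputable section

namespace GrothLib.CurveMult.StableSeparated

open GrothLib LocFreeHom

attribute [local instance] LocFreeHom.hasSheafHom

section Semicont

variable {P T : Scheme.{u}} (f : P ⟶ T) [IsProper f] [LocallyOfFinitePresentation f]

/-- Upper semicontinuity of `h⁰` of the fibres of a flat family. -/
theorem isClosed_setOf_le_fiberRank (H : P.Modules) (hH : CohB1.IsFP H) (hfl : FlatMod.IsFlatOver f H) (n : ℕ) :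
    IsClosed {y : T | n ≤ CohIII.fiberRank f H 0 y} := by
  haveI := SemiPrufer.qcoh_of_isFP hH
  refine isOpen_compl_iff.1 (isOpen_iff_forall_mem_open.2 fun y hy => ?_)
  obtain ⟨V, hV, hyV, -⟩ := exists_isAffineOpen_mem_and_subset (x := y) (U := (⊤ : T.Opens)) trivial
  obtain ⟨m⟩ := BCCrit.nonempty_model_affine_fp f hV H hH hfl
  have hopen : IsOpen {Q : PrimeSpectrum Γ(T, V) | CohIII.dRank m.L ((0 : ℕ) : ℤ) Q < n} :=
    (FlatCx.upperSemicontinuous_dRank m.L (fun i =>
      haveI := (m.finFree i).2; ⟨(m.finFree i).1, inferInstance⟩) _).isOpen_preimage n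
  let W : Set T := Subtype.val '' ((fun z : V => hV.primeIdealOf z) ⁻¹'
    {Q : PrimeSpectrum Γ(T, V) | CohIII.dRank m.L ((0 : ℕ) : ℤ) Q < n})
  refine ⟨W, ?_, V.isOpen.isOpenMap_subtype_val _ (hopen.preimage hV.isoSpec.hom.continuous), ?_⟩
  · rintro _ ⟨z, hz, rfl⟩
    show ¬ (n ≤ CohIII.fiberRank f H 0 z.1)
    rw [m.fiberRank_affine f hV H 0 z.1 z.2, not_le]
    exact hz
  · refine ⟨⟨y, hyV⟩, ?_, rfl⟩
    show CohIII.dRank m.L ((0 : ℕ) : ℤ) _ < n
    rw [← m.fiberRank_affine f hV H 0 y hyV]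
    exact not_le.1 hy

/-- The Euler characteristic of the fibres is constant over a connected base. -/
theorem fibEuler_eq_of_connected [PreconnectedSpace T] (H : P.Modules) (hH : CohB1.IsFP H)
    (hfl : FlatMod.IsFlatOver f H) (y y' : T) :
    EulerConst10.fibEuler f H y = EulerConst10.fibEuler f H y' := by
  refine IsLocallyConstant.apply_eq_of_preconnectedSpace ?_ y y'
  refine (IsLocallyConstant.iff_exists_open _).2 fun s => ?_
  obtain ⟨U, hs, hU⟩ := EulerConst10.exists_nhd_euler_eq f H hH hfl s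
  exact ⟨U, U.2, hs, hU⟩

end Semicont

section Point

variable (k : Type u) [Field k] {X P T : Scheme.{u}} [X.Over (Spec (CommRingCat.of k))]
  (f : P ⟶ T) [IsProper f] (t : Spec (CommRingCat.of k) ⟶ T) (j : X ⟶ P)
  (hpb : IsPullback j (X ↘ Spec (CommRingCat.of k)) f t)

include hpb in
/-- The cohomology of the fibre at a rational point. -/
theorem fiberRank_point (F : P.Modules) [F.IsQuasicoherent] (p : ℕ) :
    CohIII.fiberRank f F p (t (IsLocalRing.closedPoint k)) =
      Module.finrank k (Coh.HH X ((Scheme.Modules.pullback j).obj F) p) := by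
  let y : T := t (IsLocalRing.closedPoint k)
  let φ : T.residueField y ⟶ CommRingCat.of k := Scheme.descResidueField (Scheme.stalkClosedPointTo t)
  have hφ : Spec.map φ ≫ T.fromSpecResidueField y = t :=
    Scheme.descResidueField_stalkClosedPointTo_fromSpecResidueField k T t
  let Z := f.fiber y
  letI : Z.Over (Spec (CommRingCat.of (T.residueField y))) := ⟨f.fiberToSpecResidueField y⟩
  haveI : IsProper (Z ↘ Spec (CommRingCat.of (T.residueField y))) :=
    inferInstanceAs (IsProper (pullback.snd f (T.fromSpecResidueField y)))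
  have H1 : IsPullback (f.fiberι y) (f.fiberToSpecResidueField y) f (T.fromSpecResidueField y) :=
    IsPullback.of_hasPullback _ _
  let g : X ⟶ Z := H1.lift j ((X ↘ Spec (CommRingCat.of k)) ≫ Spec.map φ) (by
    rw [Category.assoc, hφ]; exact hpb.w)
  have hg : g ≫ f.fiberι y = j := H1.lift_fst _ _ _
  have hg' : g ≫ f.fiberToSpecResidueField y = (X ↘ Spec (CommRingCat.of k)) ≫ Spec.map φ := H1.lift_snd _ _ _
  have Hg : IsPullback g (X ↘ Spec (CommRingCat.of k)) (Z ↘ Spec (CommRingCat.of (T.residueField y)))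
      (Spec.map φ) := by
    refine IsPullback.of_right ?_ hg' H1
    rw [hg, hφ]
    exact hpb
  haveI : ((Scheme.Modules.pullback (f.fiberι y)).obj F).IsQuasicoherent :=
    FittSheaf.isQuasicoherent_pullback _ _
  have h := CurveMult.finrank_HH_baseChange φ.hom g
    (by rw [show CommRingCat.ofHom φ.hom = φ from rfl]; exact Hg) ((Scheme.Modules.pullback (f.fiberι y)).obj F) p
  exact h.symm.trans (Euler.hhEquiv (A := k) ((Scheme.Modules.pullbackComp g (f.fiberι y)).app F ≪≫
    (Scheme.Modules.pullbackCongr hg).app F) p).finrank_eq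

include hpb in
theorem fibEuler_point (F : P.Modules) [F.IsQuasicoherent] :
    EulerConst10.fibEuler f F (t (IsLocalRing.closedPoint k)) =
      Curv2.euler k X ((Scheme.Modules.pullback j).obj F) := by
  show ∑ᶠ i : ℕ, (-1 : ℤ) ^ i * (CohIII.fiberRank f F i (t (IsLocalRing.closedPoint k)) : ℤ) = _
  exact finsum_congr fun i => by rw [fiberRank_point k f t j hpb F i]

end Point

theorem isClosed_singleton_of_section {k : Type u} [Field k] [IsAlgClosed k] {T : Scheme.{u}}
    [T.Over (Spec (CommRingCat.of k))] [LocallyOfFiniteType (T ↘ Spec (CommRingCat.of k))]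
    {t : Spec (CommRingCat.of k) ⟶ T} (ht : t ≫ (T ↘ Spec (CommRingCat.of k)) = 𝟙 _) :
    IsClosed ({t (IsLocalRing.closedPoint k)} : Set T) :=
  (pointEquivClosedPoint (T ↘ Spec (CommRingCat.of k)) ⟨t, ht⟩).2

theorem grank_zero {Z : Scheme.{u}} [IsIntegral Z] {F : Z.Modules} (hF : IsZero F) : Euler.grank F = 0 := by
  haveI := QCoh.stalk_subsingleton_of_notMem (M := F) (x := genericPoint Z) fun h => h <| by
    refine subsingleton_of_forall_eq 0 fun e => ?_
    obtain ⟨U, hU, s, rfl⟩ := TopCat.Presheaf.exists_germ_eq F.presheaf e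
    rw [show s = 0 from by
      have h2 : (𝟙 F : F ⟶ F) = 0 := hF.eq_of_src _ _
      have := congrArg (fun φ : F ⟶ F => φ.app U s) h2
      exact this, map_zero]
  exact Module.finrank_zero_of_subsingleton

section Hom

variable {Z : Scheme.{u}}

/-- Maps out of the structure sheaf are the global sections. -/
def homTopEquiv (N : Z.Modules) : (Coh.structureModule Z ⟶ N) ≃ N.val.obj (op ⊤) where
  toFun g := g.val.app (op ⊤) (1 : Z.ringCatSheaf.obj.obj (op ⊤))
  invFun m := OX.ofTop m
  left_inv g := OX.hom_ext_top _ _ (OX.ofTop_app_top _)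
  right_inv m := OX.ofTop_app_top m

theorem nontrivial_hom_iff (A B : Z.Modules) :
    Nontrivial (A ⟶ B) ↔ Nontrivial (Coh.HH Z (iHom A B) 0) := by
  refine Equiv.nontrivial_congr ?_
  exact ((Iso.homCongr (tensorUnitRight A) (Iso.refl B)).symm.trans ((DCoh.sheafHomAdj A).homEquiv _ B)).trans
    ((homTopEquiv (iHom A B)).trans (ProjCoh.H0top (iHom A B)).symm.toEquiv)

end Hom

/-- Stable bundles which are limits of the same family are isomorphic. -/
theorem nonempty_iso (k : Type u) [Field k] [IsAlgClosed k] {X T P : Scheme.{u}}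
    [X.Over (Spec (CommRingCat.of k))] [IsIntegral X] [IsProper (X ↘ Spec (CommRingCat.of k))]
    [Smooth (X ↘ Spec (CommRingCat.of k))] (hd : topologicalKrullDim X = 1)
    [T.Over (Spec (CommRingCat.of k))] [IsIntegral T] [LocallyOfFiniteType (T ↘ Spec (CommRingCat.of k))]
    (hT : topologicalKrullDim T = 1) (f : P ⟶ T) [IsProper f] [Flat f] [LocallyOfFinitePresentation f]
    (q : P ⟶ X) (hP : IsPullback q f (X ↘ Spec (CommRingCat.of k)) (T ↘ Spec (CommRingCat.of k)))
    (t₀ : Spec (CommRingCat.of k) ⟶ T) (ht₀ : t₀ ≫ (T ↘ Spec (CommRingCat.of k)) = 𝟙 _)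
    (r : ℕ) (E E' : P.Modules) (hE : FlatMod.IsFinLocFreeOfRank r E) (hE' : FlatMod.IsFinLocFreeOfRank r E')
    (hiso : ∀ (t : Spec (CommRingCat.of k) ⟶ T) (j : X ⟶ P), t ≫ (T ↘ Spec (CommRingCat.of k)) = 𝟙 _ → t ≠ t₀ →
      j ≫ q = 𝟙 X → j ≫ f = (X ↘ Spec (CommRingCat.of k)) ≫ t →
      Nonempty ((Scheme.Modules.pullback j).obj E ≅ (Scheme.Modules.pullback j).obj E'))
    (j₀ : X ⟶ P) (hj₀ : j₀ ≫ q = 𝟙 X) (hj₀' : j₀ ≫ f = (X ↘ Spec (CommRingCat.of k)) ≫ t₀)
    (hst : Euler.SubLt k ((Scheme.Modules.pullback j₀).obj E) (Curv2.deg k X ((Scheme.Modules.pullback j₀).obj E) r) r)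
    (hst' : Euler.SubLt k ((Scheme.Modules.pullback j₀).obj E') (Curv2.deg k X ((Scheme.Modules.pullback j₀).obj E') r) r) :
    Nonempty ((Scheme.Modules.pullback j₀).obj E ≅ (Scheme.Modules.pullback j₀).obj E') := by
  classical
  have hF := OX.isFinLocFreeOfRank_pullback j₀ hE
  have hF' := OX.isFinLocFreeOfRank_pullback j₀ hE'
  rcases Nat.eq_zero_or_pos r with rfl | hr
  · exact ⟨(Euler.isZero_of_rank_zero hF).iso (Euler.isZero_of_rank_zero hF')⟩
  have hElf := FinCov.isFinLocFree_of_rank hE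
  have hE'lf := FinCov.isFinLocFree_of_rank hE'
  haveI : E.IsQuasicoherent := Euler.isQuasicoherent_of_isFinLocFree hElf
  haveI : E'.IsQuasicoherent := Euler.isQuasicoherent_of_isFinLocFree hE'lf
  let H := iHom E E'
  have hHlf : FlatMod.IsFinLocFree H := isFinLocFree_iHom hElf hE'lf
  haveI : H.IsQuasicoherent := Euler.isQuasicoherent_of_isFinLocFree hHlf
  -- the fibre over a rational point
  have hsq : ∀ (t : Spec (CommRingCat.of k) ⟶ T) (j : X ⟶ P), t ≫ (T ↘ Spec (CommRingCat.of k)) = 𝟙 _ →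
      j ≫ q = 𝟙 X → j ≫ f = (X ↘ Spec (CommRingCat.of k)) ≫ t →
      IsPullback j (X ↘ Spec (CommRingCat.of k)) f t := fun t j ht hjq hjf => by
    refine IsPullback.of_right ?_ hjf hP.flip.flip
    rw [hjq, ht]
    exact IsPullback.of_horiz_isIso ⟨by simp⟩
  let y₀ : T := t₀ (IsLocalRing.closedPoint k)
  -- the closed points other than `t₀` are dense
  have hne : ∀ (S : Set T), IsClosed S → (∀ y : T, IsClosed ({y} : Set T) → y ≠ y₀ → y ∈ S) → y₀ ∈ S := by
    intro S hS hall
    haveI : JacobsonSpace T := LocallyOfFiniteType.jacobsonSpace (T ↘ Spec (CommRingCat.of k))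
    by_contra h0
    have hcl₀ : IsClosed ({y₀} : Set T) := isClosed_singleton_of_section ht₀
    have hsub : closedPoints T ⊆ S ∪ {y₀} := fun y hy => by
      rcases eq_or_ne y y₀ with rfl | h
      · exact Or.inr rfl
      · exact Or.inl (hall y hy h)
    have huniv : (Set.univ : Set T) ⊆ S ∪ {y₀} :=
      closure_closedPoints (X := T) ▸ closure_minimal hsub (hS.union hcl₀)
    have hη : genericPoint T ∈ S := (huniv (Set.mem_univ _)).resolve_right fun h =>
      CurvePoints.genericPoint_not_isClosed hT (h ▸ hcl₀)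
    exact h0 (((genericPoint_spec T).specializes (show y₀ ∈ ⊤ from trivial)).mem_closed hS hη)
  have hpts : ∀ y : T, IsClosed ({y} : Set T) → y ≠ y₀ →
      ∃ (t : Spec (CommRingCat.of k) ⟶ T) (j : X ⟶ P), t ≫ (T ↘ Spec (CommRingCat.of k)) = 𝟙 _ ∧
        t (IsLocalRing.closedPoint k) = y ∧ IsPullback j (X ↘ Spec (CommRingCat.of k)) f t ∧
        Nonempty ((Scheme.Modules.pullback j).obj E ≅ (Scheme.Modules.pullback j).obj E') := by
    intro y hy hne'
    let t := pointOfClosedPoint (T ↘ Spec (CommRingCat.of k)) y hy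
    have ht : t ≫ (T ↘ Spec (CommRingCat.of k)) = 𝟙 _ := pointOfClosedPoint_comp _ y hy
    have hty : t (IsLocalRing.closedPoint k) = y := pointOfClosedPoint_apply _ y hy _
    let j : X ⟶ P := hP.lift (𝟙 X) ((X ↘ Spec (CommRingCat.of k)) ≫ t) (by
      rw [Category.id_comp, Category.assoc, ht, Category.comp_id])
    have hjq : j ≫ q = 𝟙 X := hP.lift_fst _ _ _
    have hjf : j ≫ f = (X ↘ Spec (CommRingCat.of k)) ≫ t := hP.lift_snd _ _ _
    exact ⟨t, j, ht, hty, hsq t j ht hjq hjf,
      hiso t j ht (fun h => hne' (by rw [← hty, h])) hjq hjf⟩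
  have hpb₀ := hsq t₀ j₀ ht₀ hj₀ hj₀'
  have hHfp : CohB1.IsFP H := LocFree8.isFP_of_isFinLocFree (M := H) hHlf
  have hHfl : FlatMod.IsFlatOver f H := isFlatOver_of_isFinLocFree f hHlf
  -- nonzero homomorphisms in the limit
  have hHom : ∀ (j : X ⟶ P), Nontrivial (Coh.HH X ((Scheme.Modules.pullback j).obj H) 0) ↔
      Nontrivial ((Scheme.Modules.pullback j).obj E ⟶ (Scheme.Modules.pullback j).obj E') := fun j => by
    haveI := isIso_cmp j hElf E'
    rw [nontrivial_hom_iff]
    exact (Euler.hhEquiv (A := k) (asIso (cmp j E E')) 0).toEquiv.nontrivial_congr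
  haveI := Euler.isNoetherian_of_proper (X := X) k
  have hfin : ∀ (j : X ⟶ P), Module.Finite k (Coh.HH X ((Scheme.Modules.pullback j).obj H) 0) := fun j =>
    Euler.finiteDimensional_HH k (Euler.isCoh_of_isFinLocFree (OX.isFinLocFree_pullback j hHlf)) 0
  have h1 : y₀ ∈ {y : T | 1 ≤ CohIII.fiberRank f H 0 y} := by
    refine hne _ (isClosed_setOf_le_fiberRank f H hHfp hHfl 1) fun y hy hne' => ?_
    obtain ⟨t, j, -, hty, hpb, ⟨e⟩⟩ := hpts y hy hne'
    show 1 ≤ CohIII.fiberRank f H 0 y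
    rw [← hty, fiberRank_point k f t j hpb H 0]
    haveI := hfin j
    refine Module.finrank_pos_iff.mpr ((hHom j).2 ⟨e.hom, 0, fun h => ?_⟩)
    have hz : IsZero ((Scheme.Modules.pullback j).obj E) := by
      rw [IsZero.iff_id_eq_zero, ← e.hom_inv_id, h, zero_comp]
    have h3 := Euler.grank_of_locFree (OX.isFinLocFreeOfRank_pullback j hE)
    rw [grank_zero hz] at h3
    omega
  rw [Set.mem_setOf_eq, fiberRank_point k f t₀ j₀ hpb₀ H 0] at h1
  haveI := hfin j₀
  obtain ⟨φ, hφ⟩ := (nontrivial_iff_exists_ne (0 : (Scheme.Modules.pullback j₀).obj E ⟶ _)).mp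
    ((hHom j₀).1 (Module.finrank_pos_iff.mp h1))
  -- the degrees agree
  obtain ⟨y₁, hy₁, hy₁'⟩ : ∃ y : T, IsClosed ({y} : Set T) ∧ y ≠ y₀ := by
    by_contra hn
    push Not at hn
    have := hne ∅ isClosed_empty fun y hy h => (h (hn y hy)).elim
    exact this
  obtain ⟨t₁, j₁, -, hty₁, hpb₁, ⟨e₁⟩⟩ := hpts y₁ hy₁ hy₁'
  have hχ : ∀ (F : P.Modules) (hF : FlatMod.IsFinLocFree F) [F.IsQuasicoherent],
      Curv2.euler k X ((Scheme.Modules.pullback j₀).obj F) =
        Curv2.euler k X ((Scheme.Modules.pullback j₁).obj F) := fun F hF _ => by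
    rw [← fibEuler_point k f t₀ j₀ hpb₀ F, ← fibEuler_point k f t₁ j₁ hpb₁ F]
    exact fibEuler_eq_of_connected f F (LocFree8.isFP_of_isFinLocFree (M := F) hF)
      (isFlatOver_of_isFinLocFree f hF) _ _
  have hdeg : Curv2.deg k X ((Scheme.Modules.pullback j₀).obj E) r =
      Curv2.deg k X ((Scheme.Modules.pullback j₀).obj E') r := by
    show _ - _ = _ - _
    rw [hχ E hElf, hχ E' hE'lf, Euler.euler_of_iso k e₁]
  have hpid := Euler.isPrincipalIdealRing_stalk_of_smooth (X ↘ Spec (CommRingCat.of k)) hd.le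
  haveI := Euler.isIso_of_ne_zero_hom k hd.le hpid hr hF hF' hdeg (Euler.subLe_of_subLt k hd.le hF hst)
    (Euler.subLe_of_subLt k hd.le hF' hst') (Or.inl hst) φ hφ
  exact ⟨asIso φ⟩

end GrothLib.CurveMult.StableSeparated
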