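import Groth.Agent.Lib.CurveMult.NefDescent
import Groth.Agent.Lib.GVanish.FibreDim
import Groth.Agent.Lib.FormalFn.Main
import Groth.Agent.Lib.FormalFn.Push
import Groth.Agent.Lib.FormalExist7.Pullback
import Groth.Agent.Lib.FormalExist7.PushTwist
import Groth.Agent.Lib.UnitsThick26.FlatIdeal
import Groth.Agent.Lib.Cube.Mod
import Groth.Agent.Lib.ProjCoh.Finite
import Groth.Agent.Lib.AdicFS.Unramified
import Groth.Agent.Lib.CMReg.Free
import Groth.Agent.Lib.FormalFun.HomLift
import Groth.Agent.Lib.FittSheaf.Pullback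

/-!
# Relatively nef bundles on families of curves without `H¹(O)`
-/

set_option linter.style.haveILetI false
set_option backward.isDefEq.respectTransparency false

universe u

open CategoryTheory CategoryTheory.Limits AlgebraicGeometry TopologicalSpace Opposite
open GrothLib.QCoh (stalkLin)

noncomputable section

namespace GrothLib.CurveMult.RelNef

section Cohomology

variable {A : Type u} [CommRing A] {X : Scheme.{u}} [X.Over (Spec (CommRingCat.of A))]

theorem eq_zero_of_smul_maximal_eq_top {M : Type u} [AddCommGroup M] [Module A M] [Module.Finite A M]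
    (h : ∀ m : Ideal A, m.IsMaximal → m • (⊤ : Submodule A M) = ⊤) : Subsingleton M := by
  refine subsingleton_of_forall_eq 0 fun x => ?_
  by_contra hx
  obtain ⟨m, hm, hle⟩ := Ideal.exists_le_maximal (LinearMap.ker (LinearMap.toSpanSingleton A M x))
    (fun ht => hx (by
      have h1 : (1 : A) • x = 0 := LinearMap.mem_ker.1 (ht ▸ Submodule.mem_top)
      rwa [one_smul] at h1))
  obtain ⟨r, hr, hr0⟩ := Submodule.exists_sub_one_mem_and_smul_eq_zero_of_fg_of_le_smul m (⊤ : Submodule A M)
    Module.Finite.fg_top (h m hm).ge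
  have h1 : (1 : A) ∈ m := by
    have h2 : r - (r - 1) ∈ m :=
      m.sub_mem (hle (LinearMap.mem_ker.2 (hr0 x Submodule.mem_top))) hr
    simpa using h2
  exact hm.ne_top ((Ideal.eq_top_iff_one _).2 h1)

variable [IsNoetherianRing A] [IsProper (X ↘ Spec (CommRingCat.of A))]

/-- Vanishing of cohomology above the dimension of the closed fibres. -/
theorem subsingleton_HH_of_fibre_dim_le
    (hfib : ∀ y : ↥(Spec (CommRingCat.of A)), topologicalKrullDim ↥((X ↘ Spec (CommRingCat.of A)).fiber y) ≤ 1)
    {G : X.Modules} (hG : Coh.IsCoh G) {p : ℕ} (hp : 1 < p) : Subsingleton (Coh.HH X G p) := by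
  haveI : IsLocallyNoetherian X := LocallyOfFiniteType.isLocallyNoetherian (X ↘ Spec (CommRingCat.of A))
  haveI := ProjCoh.moduleFinite_HH A G hG p
  refine eq_zero_of_smul_maximal_eq_top (A := A) fun m hm => ?_
  obtain ⟨e⟩ := FormalFn.formal_functions (I := m) (M := G) (p := p) hG
  have hlvl : ∀ n, Subsingleton (Formal.HHmodPow m G p n) := by
    intro n
    let f := X ↘ Spec (CommRingCat.of A)
    let y : ↥(Spec (CommRingCat.of A)) := ⟨m, hm.isPrime⟩
    have hy : IsClosed ({y} : Set _) := (PrimeSpectrum.isClosed_singleton_iff_isMaximal y).2 hm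
    have hdim : topologicalKrullDim ↥(f ⁻¹' {y}) ≤ ((1 : ℕ) : WithBot ℕ∞) :=
      (IsHomeomorph.topologicalKrullDim_eq _ (f.fiberHomeo y).symm.isHomeomorph).trans_le (hfib y)
    haveI : CompactSpace X := QuasiCompact.compactSpace_of_compactSpace f
    haveI : IsNoetherian X := {}
    haveI : NoetherianSpace X := inferInstance
    haveI : NoetherianSpace (TopCat.of ↥(f ⁻¹' {y}) : TopCat.{u}) :=
      inferInstanceAs (NoetherianSpace ↥(f ⁻¹' {y}))
    refine GVanish.subsingleton_H_of_closedEmbedding (Z := TopCat.of ↥(f ⁻¹' {y})) (X := X.toTopCat)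
      (TopCat.ofHom ⟨Subtype.val, continuous_subtype_val⟩)
      ((hy.preimage f.continuous).isClosedEmbedding_subtypeVal) 1 hdim _ (fun x hx => ?_) p hp
    have hxP : f x ≠ y := fun he => hx ⟨⟨x, he⟩, rfl⟩
    obtain ⟨a, ha, hax⟩ : ∃ a ∈ m, a ∉ (f x).asIdeal := by
      by_contra hne
      refine hxP (PrimeSpectrum.ext ?_)
      refine (hm.eq_of_le (f x).isPrime.ne_top fun a ha => by_contra fun h => hne ⟨a, ha, h⟩).symm
    haveI := GVanish.subsingleton_stalk_of_killedBy
      ((FormalSys.IsQuot.modPowπ m (n + 1) G).killedBy)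
      (x := x) (Ideal.pow_mem_pow ha (n + 1)) (fun h => hax ((f x).isPrime.mem_of_pow_mem _ h))
    exact @AddCommGrpCat.isZero_of_subsingleton _ this
  haveI hlim : Subsingleton (Formal.HHlim m G p) :=
    ⟨fun a b => Subtype.ext (funext fun n => @Subsingleton.elim _ (hlvl n) _ _)⟩
  exact GrothLib.AdicFS.subsingleton_adicCompletion_iff.1 e.toEquiv.subsingleton

variable (hfib : ∀ y : ↥(Spec (CommRingCat.of A)),
  topologicalKrullDim ↥((X ↘ Spec (CommRingCat.of A)).fiber y) ≤ 1)

include hfib in
/-- First cohomology is right exact. -/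
theorem surjective_H1_of_epi {M N : X.Modules} (hM : Coh.IsCoh M) (hN : Coh.IsCoh N) (f : M ⟶ N) [Epi f] :
    Function.Surjective (Cohom.hhMap A f 1) := by
  haveI : IsLocallyNoetherian X := LocallyOfFiniteType.isLocallyNoetherian (X ↘ Spec (CommRingCat.of A))
  have hS : (ShortComplex.mk (kernel.ι f) f (kernel.condition f)).ShortExact :=
    { exact := ShortComplex.exact_of_f_is_kernel _ (kernelIsKernel f) }
  intro z
  exact (Cohom.exact₃ (A := A) hS 1 z).1 (@Subsingleton.elim _
    (subsingleton_HH_of_fibre_dim_le hfib (QCoh.isCoh_kernel f hM hN) one_lt_two) _ _)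

end Cohomology

/-! ### The quotient by the maximal ideal of a closed point -/

section Fibre

variable {A : Type u} [CommRing A] [IsNoetherianRing A] {X : Scheme.{u}} [X.Over (Spec (CommRingCat.of A))]
  [IsProper (X ↘ Spec (CommRingCat.of A))]

/-- The image of a family of multiples at a stalk. -/
theorem stalkLin_desc_mem {L M : X.Modules} {r : ℕ} (g : Fin r → (L ⟶ M)) (x : X)
    (N : Submodule (X.presheaf.stalk x) (M.presheaf.stalk x)) (h : ∀ l v, stalkLin (g l) x v ∈ N)
    (c : (∐ fun _ : Fin r => L).presheaf.stalk x) : stalkLin (Sigma.desc g) x c ∈ N := by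
  haveI : HasFiniteBiproducts X.Modules := HasFiniteBiproducts.of_hasFiniteCoproducts
  let F : Fin r → X.Modules := fun _ => L
  let π : ∀ l, ∐ F ⟶ F l := fun l => (biproduct.isoCoproduct F).inv ≫ biproduct.π F l
  have htot : ∑ l, π l ≫ Sigma.ι F l = 𝟙 (∐ F) := by
    have hι : ∀ l, Sigma.ι F l = biproduct.ι F l ≫ (biproduct.isoCoproduct F).hom := fun l => by simp
    simp only [π, hι, Category.assoc, ← Preadditive.comp_sum]
    simp only [← Category.assoc (biproduct.π F _), ← Preadditive.sum_comp]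
    rw [biproduct.total, Category.id_comp, Iso.inv_hom_id]
  have hg : Sigma.desc g = ∑ l, π l ≫ g l := by
    rw [← Category.id_comp (Sigma.desc g), ← htot, Preadditive.sum_comp]
    exact Finset.sum_congr rfl fun l _ => by rw [Category.assoc, Sigma.ι_desc]
  rw [hg, FormalFun.stalkLin_sum]
  exact Submodule.sum_mem _ fun l _ => by rw [QCoh.stalkLin_comp]; exact h l _

theorem isCoh_sigma_const [IsLocallyNoetherian X] {L : X.Modules} (hL : PicF.IsInvertible L) (r : ℕ) :
    Coh.IsCoh (∐ fun _ : Fin r => L) := by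
  obtain ⟨e⟩ : Nonempty (CohB1.tensorMod (FlatMod.freeMod X r) L ≅ ∐ fun _ : Fin r => L) :=
    ⟨CMReg.tensorSigmaIso (fun _ : Fin r => Coh.structureModule X) L ≪≫
      Sigma.mapIso fun _ => OX.tensorUnitLeftIso L⟩
  exact QCoh.isCoh_of_iso e (CMReg.isCoh_tensorMod
    (Euler.isCoh_of_isFinLocFree fun x => ⟨⊤, _, trivial, ⟨DCoh.restrictFreeModIso _ _⟩⟩) hL)

end Fibre

/-- Euler characteristics do not change along isomorphisms over the field. -/
theorem euler_pullback_iso {K : Type u} [Field K] {Y Y' : Scheme.{u}} [Y.Over (Spec (CommRingCat.of K))]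
    [Y'.Over (Spec (CommRingCat.of K))] (e : Y' ⟶ Y) [IsIso e]
    (he : e ≫ Y ↘ Spec (CommRingCat.of K) = Y' ↘ Spec (CommRingCat.of K)) (N : Y.Modules) [N.IsQuasicoherent] :
    Curv2.euler K Y' ((Scheme.Modules.pullback e).obj N) = Curv2.euler K Y N := by
  haveI : ((Scheme.Modules.pullback e).obj N).IsQuasicoherent := FittSheaf.isQuasicoherent_pullback e N
  rw [← Snapper.euler_pushforward e he ((Scheme.Modules.pullback e).obj N)]
  haveI : IsIso ((Scheme.Modules.pullbackPushforwardAdjunction e).unit.app N) :=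
    QCoh.isIso_unit_of_killed e N fun U a ha m => by
      rw [Scheme.Hom.ker_eq_bot_of_isIso] at ha
      rw [show a = 0 by simpa using ha, zero_smul]
  exact Euler.euler_of_iso K (asIso ((Scheme.Modules.pullbackPushforwardAdjunction e).unit.app N)).symm

/-- A closed point of the base: everything about the fibre. -/
theorem fibre_step {A : Type u} [CommRing A] [IsNoetherianRing A] {X : Scheme.{u}}
    [X.Over (Spec (CommRingCat.of A))] [IsProper (X ↘ Spec (CommRingCat.of A))]
    (hfib : ∀ y : ↥(Spec (CommRingCat.of A)),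
      topologicalKrullDim ↥((X ↘ Spec (CommRingCat.of A)).fiber y) ≤ 1)
    (h1 : Subsingleton (Coh.HH X (Coh.structureModule X) 1))
    {L : X.Modules} (hL : PicF.IsInvertible L)
    (hnef : ∀ (K : Type u) [Field K] (i : A →+* K) (J : X.IdealSheafData)
      (t : J.subscheme ⟶ Spec (CommRingCat.of K)),
      AlgebraicGeometry.IsIntegral J.subscheme → topologicalKrullDim ↥J.subscheme = 1 →
      t ≫ Spec.map (CommRingCat.ofHom i) = J.subschemeι ≫ (X ↘ Spec (CommRingCat.of A)) →
      0 ≤ @Curv2.deg K _ J.subscheme ⟨t⟩ ((Scheme.Modules.pullback J.subschemeι).obj L) 1)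
    {m : Ideal A} (hm : m.IsMaximal) {r : ℕ} (a : Fin r → A) (ha : Ideal.span (Set.range a) = m) :
    Subsingleton (Coh.HH X (cokernel (Sigma.desc fun l => Formal.smulMod A L (a l))) 1) ∧
      ∀ x : X, (X ↘ Spec (CommRingCat.of A)) x = ⟨m, hm.isPrime⟩ →
        UnifVanish7.spanGlobal (cokernel (Sigma.desc fun l => Formal.smulMod A L (a l))) x = ⊤ := by
  letI := Ideal.Quotient.field m
  let f := X ↘ Spec (CommRingCat.of A)
  let φ : A →+* A ⧸ m := Ideal.Quotient.mk m
  haveI : IsClosedImmersion (Spec.map (CommRingCat.ofHom φ)) :=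
    IsClosedImmersion.spec_of_surjective _ Ideal.Quotient.mk_surjective
  haveI : IsLocallyNoetherian X := LocallyOfFiniteType.isLocallyNoetherian f
  let Z : Scheme.{u} := pullback f (Spec.map (CommRingCat.ofHom φ))
  let i : Z ⟶ X := pullback.fst f (Spec.map (CommRingCat.ofHom φ))
  let p : Z ⟶ Spec (CommRingCat.of (A ⧸ m)) := pullback.snd f (Spec.map (CommRingCat.ofHom φ))
  have hsq : IsPullback i p f (Spec.map (CommRingCat.ofHom φ)) := IsPullback.of_hasPullback _ _
  haveI : IsClosedImmersion i := MorphismProperty.pullback_fst _ _ inferInstance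
  letI : Z.Over (Spec (CommRingCat.of (A ⧸ m))) := ⟨p⟩
  haveI : IsProper p := MorphismProperty.of_isPullback hsq ‹IsProper (X ↘ Spec (CommRingCat.of A))›
  haveI : IsProper (Z ↘ Spec (CommRingCat.of (A ⧸ m))) := ‹IsProper p›
  haveI := Euler.isNoetherian_of_proper (X := Z) (A ⧸ m)
  let y : ↥(Spec (CommRingCat.of A)) := ⟨m, hm.isPrime⟩
  have hrange : Set.range i = f ⁻¹' {y} := by
    rw [Scheme.Pullback.range_fst]
    congr 1
    refine Set.Subset.antisymm ?_ ?_
    · rintro _ ⟨q, rfl⟩
      refine PrimeSpectrum.ext ?_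
      have hq : q.asIdeal = ⊥ := (Ideal.eq_bot_or_top _).resolve_right q.isPrime.ne_top
      show Ideal.comap φ q.asIdeal = m
      rw [hq]
      exact Ideal.mk_ker
    · rintro _ rfl
      refine ⟨⟨⊥, Ideal.bot_prime⟩, PrimeSpectrum.ext ?_⟩
      show Ideal.comap φ ⊥ = m
      exact Ideal.mk_ker
  have hZdim : topologicalKrullDim Z ≤ 1 := by
    rw [IsHomeomorph.topologicalKrullDim_eq _
      ((i.isClosedEmbedding.isEmbedding.toHomeomorph.trans (Homeomorph.setCongr hrange)).trans
        (f.fiberHomeo y).symm).isHomeomorph]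
    exact hfib y
  -- `H¹(O) = 0` on the fibre
  let LZ := (Scheme.Modules.pullback i).obj L
  have hLZ : PicF.IsInvertible LZ := Ample.isInvertible_pullback i hL
  have hOc := Euler.isCoh_of_isInvertible (Euler.isInvertible_structure (X := X))
  have hOZ := Euler.isCoh_of_isInvertible (Euler.isInvertible_structure (X := Z))
  obtain ⟨eq, -⟩ := FormalFn.exists_push_equiv i 1
  have hOZ1 : Subsingleton (Coh.HH Z (Coh.structureModule Z) 1) := by
    haveI := hOZ.1
    haveI := UnitsThick26.epi_unitToPush i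
    have hPc : Coh.IsCoh ((Scheme.Modules.pushforward i).obj (Coh.structureModule Z)) :=
      FormalExist7.isCoh_pushforward i hOZ
    have hs := surjective_H1_of_epi hfib hOc hPc (ClSub.unitToPush i)
    exact @Equiv.subsingleton _ _ (eq _ hOZ.1).toEquiv hs.subsingleton
  have hnefZ : ∀ J : Z.IdealSheafData, IsIntegral J.subscheme → topologicalKrullDim J.subscheme = 1 →
      0 ≤ @Curv2.deg (A ⧸ m) _ J.subscheme ⟨J.subschemeι ≫ (Z ↘ (Spec (CommRingCat.of (A ⧸ m))))⟩
        ((Scheme.Modules.pullback J.subschemeι).obj LZ) 1 := by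
    intro J hJ hJd
    let j : J.subscheme ⟶ X := J.subschemeι ≫ i
    let e : J.subscheme ⟶ j.ker.subscheme := j.toImage
    haveI : IsIso e := inferInstanceAs (IsIso j.toImage)
    let t : j.ker.subscheme ⟶ Spec (CommRingCat.of (A ⧸ m)) := inv e ≫ J.subschemeι ≫ p
    have ht : t ≫ Spec.map (CommRingCat.ofHom φ) = j.ker.subschemeι ≫ f := by
      have h0 : e ≫ j.ker.subschemeι = j := j.toImage_imageι
      rw [← cancel_epi e, ← Category.assoc e j.ker.subschemeι, h0]
      simp only [t, j, Category.assoc, IsIso.hom_inv_id_assoc]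
      exact congrArg (J.subschemeι ≫ ·) hsq.w.symm
    haveI : Nonempty j.ker.subscheme := (IsIntegral.nonempty (X := J.subscheme)).map e
    haveI : IsIntegral j.ker.subscheme := isIntegral_of_isOpenImmersion (inv e)
    have hd : topologicalKrullDim j.ker.subscheme = 1 :=
      (IsHomeomorph.topologicalKrullDim_eq _ e.homeomorph.isHomeomorph).symm.trans hJd
    have h := hnef (A ⧸ m) φ j.ker t inferInstance hd ht
    letI : j.ker.subscheme.Over (Spec (CommRingCat.of (A ⧸ m))) := ⟨t⟩
    letI : J.subscheme.Over (Spec (CommRingCat.of (A ⧸ m))) := ⟨J.subschemeι ≫ p⟩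
    have he : e ≫ j.ker.subscheme ↘ Spec (CommRingCat.of (A ⧸ m)) = J.subscheme ↘ Spec (CommRingCat.of (A ⧸ m)) :=
      IsIso.hom_inv_id_assoc e _
    have hN := Euler.isCoh_of_isInvertible (Ample.isInvertible_pullback j.ker.subschemeι hL)
    haveI := hN.1
    haveI := (Euler.isCoh_of_isInvertible (Euler.isInvertible_structure (X := j.ker.subscheme))).1
    have e1 : Curv2.euler (A ⧸ m) J.subscheme ((Scheme.Modules.pullback J.subschemeι).obj LZ) =
        Curv2.euler (A ⧸ m) j.ker.subscheme ((Scheme.Modules.pullback j.ker.subschemeι).obj L) := by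
      rw [← euler_pullback_iso e he]
      exact Euler.euler_of_iso _ ((Scheme.Modules.pullbackComp J.subschemeι i).app L ≪≫
        (Scheme.Modules.pullbackCongr j.toImage_imageι.symm).app L ≪≫
        ((Scheme.Modules.pullbackComp e j.ker.subschemeι).app L).symm)
    have e2 : Curv2.euler (A ⧸ m) J.subscheme (Coh.structureModule J.subscheme) =
        Curv2.euler (A ⧸ m) j.ker.subscheme (Coh.structureModule j.ker.subscheme) := by
      rw [← euler_pullback_iso e he]
      exact Euler.euler_of_iso _ (OX.pullUnitIso e).symm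
    show 0 ≤ Curv2.deg (A ⧸ m) J.subscheme _ 1
    rw [Curv2.deg, e1, e2]
    exact h
  obtain ⟨hZ1, hZgg⟩ := nef_of_genus_zero_ideal (A ⧸ m) hZdim hOZ1 hLZ hnefZ
  -- the quotient is a direct image from the fibre
  let q : (∐ fun _ : Fin r => L) ⟶ L := Sigma.desc fun l => Formal.smulMod A L (a l)
  let Q := cokernel q
  have hLc := Euler.isCoh_of_isInvertible hL
  have hQc : Coh.IsCoh Q := QCoh.isCoh_cokernel q (isCoh_sigma_const hL r) hLc
  haveI := hQc.1
  have hQm : Formal.KilledBy m Q := by
    have hgen : ∀ l, Formal.smulMod A Q (a l) = 0 := fun l => by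
      rw [← cancel_epi (cokernel.π q), comp_zero, ← FormalSys.smulMod_naturality,
        show Formal.smulMod A L (a l) = Sigma.ι (fun _ : Fin r => L) l ≫ q from
          (Sigma.ι_desc (fun l => Formal.smulMod A L (a l)) l).symm,
        Category.assoc, cokernel.condition, comp_zero]
    intro b hb
    rw [← ha] at hb
    induction hb using Submodule.span_induction with
    | mem z hz => obtain ⟨l, rfl⟩ := hz; exact hgen l
    | zero =>
      have h0 := FormalSys.smulMod_add (M := Q) (0 : A) 0
      rw [add_zero] at h0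
      simpa using h0
    | add u v _ _ hu hv => rw [FormalSys.smulMod_add, hu, hv, add_zero]
    | smul c u _ hu => rw [smul_eq_mul, FormalSys.smulMod_mul, hu, zero_comp]
  have hker : ClSub.KilledByIdeal i.ker Q := by
    intro U z hz s
    rw [Scheme.Hom.ker_apply, UnitsThick26.ker_app_of_isPullback hsq Ideal.Quotient.mk_surjective U.2,
      show RingHom.ker φ = m from Ideal.mk_ker] at hz
    rw [Ideal.map] at hz
    induction hz using Submodule.span_induction with
    | mem w hw =>
      obtain ⟨b, hb, rfl⟩ := hw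
      have h := congrArg (fun g : Q ⟶ Q => g.app U.1 s) (hQm b hb)
      refine Eq.trans ?_ h
      exact (Coh.smulAb_app Q _ (op U.1) s).symm
    | zero => exact zero_smul _ _
    | add u v _ _ hu hv => rw [add_smul, hu, hv, add_zero]
    | smul c u _ hu => rw [smul_eq_mul, mul_smul, hu, smul_zero]
  letI : Z.Over (Spec (CommRingCat.of A)) := ⟨i ≫ f⟩
  have hzero : ∀ l, Formal.smulMod A LZ (a l) = 0 := by
    intro l
    have hal : a l ∈ m := ha ▸ Ideal.subset_span ⟨l, rfl⟩
    refine Scheme.Modules.hom_ext _ _ fun U => ?_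
    ext s
    refine (Coh.smulAb_app _ _ (op U) s).trans ?_
    have h0 : Coh.toGlobal (i ≫ f) (a l) = 0 := by
      rw [show i ≫ f = p ≫ Spec.map (CommRingCat.ofHom φ) from hsq.w]
      show (p ≫ Spec.map (CommRingCat.ofHom φ)).appTop.hom ((Scheme.ΓSpecIso (CommRingCat.of A)).inv.hom (a l)) = 0
      rw [Scheme.Hom.comp_appTop, CommRingCat.hom_comp, RingHom.comp_apply]
      have h1 : (Spec.map (CommRingCat.ofHom φ)).appTop.hom ((Scheme.ΓSpecIso (CommRingCat.of A)).inv.hom (a l)) =
          (Scheme.ΓSpecIso (CommRingCat.of (A ⧸ m))).inv.hom (φ (a l)) :=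
        (congrArg (fun g => (CommRingCat.Hom.hom g) (a l))
          (Scheme.ΓSpecIso_inv_naturality (CommRingCat.ofHom φ))).symm
      rw [h1, show φ (a l) = 0 from Ideal.Quotient.eq_zero_iff_mem.2 hal, map_zero, map_zero]
    rw [show Coh.toGlobal (Z ↘ Spec (CommRingCat.of A)) (a l) = 0 from h0, map_zero, zero_smul]
    rfl
  haveI : (Scheme.Modules.pullback i).Additive :=
    (Scheme.Modules.pullbackPushforwardAdjunction i).left_adjoint_additive
  haveI : (Scheme.Modules.pullback i).IsLeftAdjoint :=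
    (Scheme.Modules.pullbackPushforwardAdjunction i).isLeftAdjoint
  have hiq : (Scheme.Modules.pullback i).map q = 0 := by
    haveI : PreservesColimitsOfShape (Discrete (Fin r)) (Scheme.Modules.pullback i) := inferInstance
    rw [← cancel_epi (PreservesCoproduct.iso (Scheme.Modules.pullback i) (fun _ : Fin r => L)).inv, comp_zero]
    refine Sigma.hom_ext _ _ fun l => ?_
    rw [comp_zero, PreservesCoproduct.inv_hom, ι_comp_sigmaComparison_assoc, ← Functor.map_comp, Sigma.ι_desc,
      FormalExist7.pullback_map_smulMod i rfl L (a l), hzero l]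
  let eQ : (Scheme.Modules.pullback i).obj Q ≅ LZ :=
    PreservesCokernel.iso (Scheme.Modules.pullback i) q ≪≫ cokernelIsoOfEq hiq ≪≫ cokernelZeroIsoTarget
  haveI := QCoh.isIso_unit_of_killed i Q hker
  let E : Q ≅ (Scheme.Modules.pushforward i).obj LZ :=
    asIso ((Scheme.Modules.pullbackPushforwardAdjunction i).unit.app Q) ≪≫
      (Scheme.Modules.pushforward i).mapIso eQ
  refine ⟨CMReg.subsingleton_of_iso E.symm
    (@Equiv.subsingleton _ _ (eq _ (Euler.isCoh_of_isInvertible hLZ).1).symm.toEquiv hZ1), fun x hx => ?_⟩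
  obtain ⟨z, rfl⟩ : x ∈ Set.range i := by rw [hrange]; exact hx
  have hN := stalkSpanned_of_isGloballyGenerated hZgg
  have htop : UnifVanish7.spanGlobal ((Scheme.Modules.pushforward i).obj LZ) (i z) = ⊤ := by
    refine eq_top_iff.2 fun v _ => ?_
    have hb := QCoh.pushStalkHom_bijective i z LZ (Scheme.Hom.isClosedEmbedding i).isInducing
    have key : ∀ a ∈ UnifVanish7.spanGlobal LZ z,
        ∃ w ∈ UnifVanish7.spanGlobal ((Scheme.Modules.pushforward i).obj LZ) (i z),
          (QCoh.pushStalkHom i z LZ).hom w = a := by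
      intro a ha
      induction ha using Submodule.span_induction with
      | mem w hw =>
        obtain ⟨s, rfl⟩ := hw
        exact ⟨_, Submodule.subset_span ⟨s, rfl⟩, QCoh.pushStalkHom_germ i z LZ ⊤ trivial s⟩
      | zero => exact ⟨0, Submodule.zero_mem _, map_zero _⟩
      | add a b _ _ ha hb =>
        obtain ⟨a', ha', rfl⟩ := ha
        obtain ⟨b', hb', rfl⟩ := hb
        exact ⟨a' + b', Submodule.add_mem _ ha' hb', map_add _ _ _⟩
      | smul r a _ ha =>
        obtain ⟨a', ha', rfl⟩ := ha
        obtain ⟨r', rfl⟩ := i.stalkMap_surjective z r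
        exact ⟨r' • a', Submodule.smul_mem _ _ ha', (QCoh.pushStalkHom i z LZ).hom.map_smul r' a'⟩
    obtain ⟨w, hw, he⟩ := key ((QCoh.pushStalkHom i z LZ).hom v) (hN z ▸ Submodule.mem_top)
    exact hb.1 he ▸ hw
  refine eq_top_iff.2 fun v _ => ?_
  obtain ⟨w, rfl⟩ := QCoh.stalkLin_surjective E.inv (i z) v
  exact UnifVanish7.map_spanGlobal_le E.inv (i z) ⟨w, htop ▸ Submodule.mem_top, rfl⟩

/-- Relatively nef bundles on families of curves without `H¹(O)`. -/
theorem main {A : Type u} [CommRing A] [IsNoetherianRing A] {X : Scheme.{u}}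
    [X.Over (Spec (CommRingCat.of A))] [IsProper (X ↘ Spec (CommRingCat.of A))]
    (hfib : ∀ y : ↥(Spec (CommRingCat.of A)),
      topologicalKrullDim ↥((X ↘ Spec (CommRingCat.of A)).fiber y) ≤ 1)
    (h1 : Subsingleton (Coh.HH X (Coh.structureModule X) 1))
    {L : X.Modules} (hL : PicF.IsInvertible L)
    (hnef : ∀ (K : Type u) [Field K] (i : A →+* K) (J : X.IdealSheafData)
      (t : J.subscheme ⟶ Spec (CommRingCat.of K)),
      AlgebraicGeometry.IsIntegral J.subscheme → topologicalKrullDim ↥J.subscheme = 1 →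
      t ≫ Spec.map (CommRingCat.ofHom i) = J.subschemeι ≫ (X ↘ Spec (CommRingCat.of A)) →
      0 ≤ @Curv2.deg K _ J.subscheme ⟨t⟩ ((Scheme.Modules.pullback J.subschemeι).obj L) 1) :
    Curv2.IsGloballyGenerated L ∧ Subsingleton (Coh.HH X L 1) := by
  let f := X ↘ Spec (CommRingCat.of A)
  haveI : IsLocallyNoetherian X := LocallyOfFiniteType.isLocallyNoetherian f
  haveI : CompactSpace X := QuasiCompact.compactSpace_of_compactSpace f
  have hLc := Euler.isCoh_of_isInvertible hL
  haveI := ProjCoh.moduleFinite_HH A L hLc 1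
  have hgen : ∀ m : Ideal A, ∃ (r : ℕ) (a : Fin r → A), Ideal.span (Set.range a) = m := fun m => by
    obtain ⟨r, a, ha⟩ := Submodule.fg_iff_exists_fin_generating_family.1 (IsNoetherian.noetherian m)
    exact ⟨r, a, ha⟩
  have hH1 : Subsingleton (Coh.HH X L 1) := by
    refine eq_zero_of_smul_maximal_eq_top (A := A) fun m hm => eq_top_iff.2 fun z _ => ?_
    obtain ⟨r, a, ha⟩ := hgen m
    obtain ⟨hQ, -⟩ := fibre_step hfib h1 hL hnef hm a ha
    let q : (∐ fun _ : Fin r => L) ⟶ L := Sigma.desc fun l => Formal.smulMod A L (a l)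
    have hsig := isCoh_sigma_const hL r
    have hK : Coh.IsCoh (kernel (cokernel.π q)) :=
      QCoh.isCoh_kernel _ hLc (QCoh.isCoh_cokernel q hsig hLc)
    have hS : (ShortComplex.mk (kernel.ι (cokernel.π q)) (cokernel.π q) (kernel.condition _)).ShortExact :=
      { exact := ShortComplex.exact_of_f_is_kernel _ (kernelIsKernel _) }
    obtain ⟨w, hw⟩ := (Cohom.exact₂ (A := A) hS 1 z).1 (@Subsingleton.elim _ hQ _ _)
    haveI : Epi (Abelian.factorThruImage q) := inferInstance
    obtain ⟨v, hv⟩ := surjective_H1_of_epi hfib hsig hK (Abelian.factorThruImage q) w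
    obtain ⟨ys, hys⟩ := CMReg.exists_eq_sum_sigma (fun _ : Fin r => L) 1 v
    have hz : z = Cohom.hhMap A q 1 v := by
      rw [← hw, ← hv, ← Euler.hhMap_comp]
      exact congrArg (fun g => Cohom.hhMap A g 1 v) (Abelian.image.fac q)
    rw [hz, hys, map_sum]
    refine Submodule.sum_mem _ fun l _ => ?_
    have hl : Cohom.hhMap A q 1 (Cohom.hhMap A (Sigma.ι (fun _ : Fin r => L) l) 1 (ys l)) = a l • ys l :=
      (Euler.hhMap_comp (A := A) (Sigma.ι (fun _ : Fin r => L) l) q 1 (ys l)).symm.trans
        ((congrArg (fun g => Cohom.hhMap A g 1 (ys l))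
          (Sigma.ι_desc (fun l => Formal.smulMod A L (a l)) l)).trans
          (FormalFun.hhMap_smulMod (a l) 1 (ys l)))
    have hmem : a l • ys l ∈ m • (⊤ : Submodule A (Coh.HH X L 1)) :=
      Submodule.smul_mem_smul (ha ▸ Ideal.subset_span ⟨l, rfl⟩) Submodule.mem_top
    rw [← hl] at hmem
    exact hmem
  refine ⟨?_, hH1⟩
  -- spanning at closed points
  have hclosed : ∀ x : X, IsClosed ({x} : Set X) → UnifVanish7.spanGlobal L x = ⊤ := by
    intro x hx
    have hfx : IsClosed ({f x} : Set _) := by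
      rw [← Set.image_singleton]; exact f.isClosedMap _ hx
    have hm : (f x).asIdeal.IsMaximal := (PrimeSpectrum.isClosed_singleton_iff_isMaximal _).1 hfx
    obtain ⟨r, a, ha⟩ := hgen (f x).asIdeal
    obtain ⟨-, hQ⟩ := fibre_step hfib h1 hL hnef hm a ha
    let q : (∐ fun _ : Fin r => L) ⟶ L := Sigma.desc fun l => Formal.smulMod A L (a l)
    have hsig := isCoh_sigma_const hL r
    have hK : Coh.IsCoh (kernel (cokernel.π q)) :=
      QCoh.isCoh_kernel _ hLc (QCoh.isCoh_cokernel q hsig hLc)
    have hK1 : Subsingleton (Coh.HH X (kernel (cokernel.π q)) 1) := by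
      haveI : Subsingleton (Coh.HH X (∐ fun _ : Fin r => L) 1) := CMReg.subsingleton_HH_sigma _ fun _ => hH1
      exact (surjective_H1_of_epi hfib hsig hK (Abelian.factorThruImage q)).subsingleton
    have hS : (ShortComplex.mk (kernel.ι (cokernel.π q)) (cokernel.π q) (kernel.condition _)).ShortExact :=
      { exact := ShortComplex.exact_of_f_is_kernel _ (kernelIsKernel _) }
    have hsurj := CMReg.surjective_app_top hS hK1
    let I : Ideal (X.presheaf.stalk x) := IsLocalRing.maximalIdeal _
    obtain ⟨t, ht⟩ := Ref1.exists_gen_of_isInvertible hL x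
    have hle : (⊤ : Submodule (X.presheaf.stalk x) (L.presheaf.stalk x)) ≤
        UnifVanish7.spanGlobal L x ⊔ I • ⊤ := by
      intro v _
      have h1 : UnifVanish7.spanGlobal (cokernel q) x ≤
          (UnifVanish7.spanGlobal L x).map (stalkLin (cokernel.π q) x) := by
        rw [Submodule.map_span]
        refine Submodule.span_mono ?_
        rintro _ ⟨s, rfl⟩
        obtain ⟨s', rfl⟩ := hsurj s
        exact ⟨_, ⟨s', rfl⟩, QCoh.stalkLin_germ (cokernel.π q) (U := ⊤) trivial s'⟩
      obtain ⟨w, hw, he⟩ := h1 (show stalkLin (cokernel.π q) x v ∈ _ from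
        (hQ x rfl).symm ▸ Submodule.mem_top)
      rw [← sub_add_cancel v w, add_comm]
      refine Submodule.add_mem_sup hw ?_
      obtain ⟨c, hc⟩ := FormalExist7.exists_cokernel_preimage q x (v := v - w)
        (by rw [map_sub, he, sub_self])
      rw [← hc]
      refine stalkLin_desc_mem (fun l => Formal.smulMod A L (a l)) x _ (fun l u => ?_) c
      rw [FormalFun.stalkLin_smulMod]
      refine Submodule.smul_mem_smul ?_ Submodule.mem_top
      by_contra hu
      have hu' : IsUnit (FormalFun.toStalk A x (a l)) := not_not.1 hu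
      have h2 := Scheme.mem_basicOpen X (Coh.toGlobal f (a l)) x (U := ⊤) trivial
      have h3 : x ∈ X.basicOpen (Coh.toGlobal f (a l)) := h2.2 hu'
      have h4 : f x ∈ (Spec (CommRingCat.of A)).basicOpen ((Scheme.ΓSpecIso (CommRingCat.of A)).inv (a l)) := by
        show x ∈ f ⁻¹ᵁ ((Spec (CommRingCat.of A)).basicOpen ((Scheme.ΓSpecIso (CommRingCat.of A)).inv (a l)))
        rw [Scheme.preimage_basicOpen]
        exact h3
      rw [basicOpen_eq_of_affine] at h4
      exact h4 (by simpa using (ha ▸ Ideal.subset_span ⟨l, rfl⟩ : a l ∈ (f x).asIdeal))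
    haveI : Module.Finite (X.presheaf.stalk x) (L.presheaf.stalk x) :=
      ⟨⟨{t}, by rw [Finset.coe_singleton]; exact ht.span⟩⟩
    exact top_le_iff.1 (Submodule.le_of_le_smul_of_le_jacobson_bot Module.Finite.fg_top
      (IsLocalRing.maximalIdeal_le_jacobson _) hle)
  -- the cokernel of evaluation has no closed point in its support
  haveI := ProjCoh.moduleFinite_HH A L hLc 0
  refine UnifVanish7.StalkSpanned.isGloballyGenerated fun x => ?_
  obtain ⟨z, hxz, hz⟩ := (isClosed_closure (s := ({x} : Set X))).exists_closed_singleton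
    ⟨x, subset_closure rfl⟩
  have hs : x ⤳ z := specializes_iff_mem_closure.2 hxz
  obtain ⟨V, e, hzV, he⟩ := InvExt.exists_gen_nhd hL z
  have hxV : x ∈ V := hs.mem_open V.2 hzV
  have key : ∀ v ∈ UnifVanish7.spanGlobal L z, Ref1.sp L hs v ∈ UnifVanish7.spanGlobal L x := by
    intro v hv
    induction hv using Submodule.span_induction with
    | mem w hw =>
      obtain ⟨s, rfl⟩ := hw
      exact Submodule.subset_span ⟨s, (Ref1.sp_germ L hs (U := ⊤) trivial s).symm⟩
    | zero => rw [map_zero]; exact Submodule.zero_mem _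
    | add u w _ _ hu hw => rw [map_add]; exact Submodule.add_mem _ hu hw
    | smul c u _ hu => rw [Ref1.sp_smul]; exact Submodule.smul_mem _ _ hu
  have h := key (L.presheaf.germ V z hzV e) (hclosed z hz ▸ Submodule.mem_top)
  rw [Ref1.sp_germ] at h
  refine top_le_iff.1 ?_
  rw [← (Ref1.gen_of_isGen he hxV).span, Submodule.span_le, Set.singleton_subset_iff]
  exact h

end GrothLib.CurveMult.RelNef
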