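import Groth.Agent.Lib.CurveMult.Point
import Groth.Agent.Lib.GrpSchField.SepPoint
import Groth.Agent.Lib.SepPts.SmoothDense

/-!
# Rational regular points over separably closed fields
-/

set_option linter.style.haveILetI false
set_option backward.isDefEq.respectTransparency false

universe u

open CategoryTheory CategoryTheory.Limits AlgebraicGeometry TopologicalSpace Opposite

noncomputable section

namespace GrothLib.CurveMult

variable {X : Scheme.{u}} (k : Type u) [Field k] [X.Over (Spec (CommRingCat.of k))]

include k in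
/-- The image of a section of the structure morphism has residue field `k`. -/
theorem bijective_resMap_of_section (s : Spec (CommRingCat.of k) ⟶ X)
    (hs : s ≫ (X ↘ Spec (CommRingCat.of k)) = 𝟙 _) (z : Spec (CommRingCat.of k)) :
    Function.Bijective (Curv2.resMap k X (s z)) := by
  haveI : Subsingleton ↥(Spec (CommRingCat.of k)) := inferInstanceAs (Subsingleton (PrimeSpectrum k))
  obtain rfl : z = IsLocalRing.closedPoint k := Subsingleton.elim _ _
  have e := Scheme.descResidueField_stalkClosedPointTo_fromSpecResidueField k X s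
  generalize X.descResidueField (Scheme.stalkClosedPointTo s) = φ at e
  generalize s (IsLocalRing.closedPoint k) = x at φ e ⊢
  rw [← e, Category.assoc] at hs
  let f := X ↘ Spec (CommRingCat.of k)
  obtain ⟨ψ, hψ⟩ := Spec.map_surjective (X.fromSpecResidueField x ≫ f)
  have h := congrArg Scheme.Hom.appTop hψ
  rw [Scheme.Hom.comp_appTop] at h
  have h2 : ψ ≫ (Scheme.ΓSpecIso (X.residueField x)).inv =
      (Scheme.ΓSpecIso (CommRingCat.of k)).inv ≫ f.appTop ≫ (X.fromSpecResidueField x).appTop := by
    rw [Scheme.ΓSpecIso_inv_naturality, h]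
  have h3 : ψ = (Scheme.ΓSpecIso (CommRingCat.of k)).inv ≫ f.appTop ≫
      X.presheaf.germ ⊤ x trivial ≫ X.residue x := by
    rw [← cancel_mono (Scheme.ΓSpecIso (X.residueField x)).inv, h2]
    simp [Scheme.fromSpecResidueField, Scheme.fromSpecStalk_appTop, Scheme.ΓSpecIso_inv_naturality]
  have h4 : ∀ a : k, ψ.hom a = Curv2.resMap k X x a := fun a => by
    rw [h3]
    rfl
  have h5 : Spec.map φ ≫ Spec.map ψ = 𝟙 _ := by
    rw [hψ]; exact hs
  rw [← Spec.map_comp, ← Spec.map_id] at h5
  have h6 := Spec.map_injective h5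
  have h3 : ∀ a : k, φ.hom (Curv2.resMap k X x a) = a := fun a => by
    rw [← h4]
    exact congr($(h6).hom a)
  refine ⟨RingHom.injective _, fun y => ⟨φ.hom y, ?_⟩⟩
  exact φ.hom.injective (h3 _)

attribute [local instance] Curv2.resAlgebra

include k in
/-- A geometrically reduced integral curve over a separably closed field has a regular rational point. -/
theorem exists_regular_rational_point [IsSepClosed k] [IsIntegral X]
    [IsProper (X ↘ Spec (CommRingCat.of k))] [GeometricallyReduced (X ↘ Spec (CommRingCat.of k))]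
    (hdim : topologicalKrullDim X = 1) :
    ∃ x : X, x ≠ genericPoint X ∧ (IsLocalRing.maximalIdeal (X.presheaf.stalk x)).IsPrincipal ∧
      Module.finrank k (X.residueField x) = 1 := by
  haveI := Euler.isNoetherian_of_proper (X := X) k
  let q := X ↘ Spec (CommRingCat.of k)
  obtain ⟨w, hw⟩ := (SepPts.dense_smoothLocus q).nonempty
  let U := q.smoothLocus
  haveI : Smooth (U.ι ≫ q) := by
    rw [← Scheme.Hom.smoothLocus_eq_top_iff, ← Scheme.Hom.preimage_smoothLocus_eq]
    exact eq_top_iff.2 fun y _ => y.2
  haveI : Nonempty U := ⟨⟨w, hw⟩⟩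
  obtain ⟨s, hs⟩ := GrpSchField.exists_section_of_smooth (U.ι ≫ q)
  rw [← Category.assoc] at hs
  let t := s ≫ U.ι
  let z : ↥(Spec (CommRingCat.of k)) := IsLocalRing.closedPoint k
  haveI : IsClosedImmersion (t ≫ q) := by rw [hs]; infer_instance
  haveI : IsClosedImmersion t := .of_comp t q
  haveI : Subsingleton ↥(Spec (CommRingCat.of k)) := inferInstanceAs (Subsingleton (PrimeSpectrum k))
  have hxc : IsClosed ({t z} : Set X) := by
    have := t.isClosedEmbedding.isClosedMap _ (isClosed_discrete {z})
    rwa [Set.image_singleton] at this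
  have hxη : t z ≠ genericPoint X := fun h => CurvePoints.genericPoint_not_isClosed hdim (h ▸ hxc)
  have hxU : t z ∈ U := (s z).2
  refine ⟨t z, hxη, ?_, ?_⟩
  · have hy : IsClosed ({(⟨t z, hxU⟩ : U)} : Set U) := by
      have : IsClosed (Subtype.val ⁻¹' ({t z} : Set X) : Set U) := IsClosed.preimage continuous_subtype_val hxc
      convert this using 1
      ext y
      exact Subtype.ext_iff
    haveI hr := GrpSchField.isRegularLocalRing_stalk_of_smooth (U.ι ≫ q) hy
    haveI : IsRegularLocalRing (X.presheaf.stalk (t z)) :=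
      IsRegularLocalRing.of_ringEquiv ((U.stalkIso ⟨t z, hxU⟩).commRingCatIsoToRingEquiv)
    have h1 := (IsRegularLocalRing.spanFinrank_maximalIdeal (R := X.presheaf.stalk (t z))).trans
      (CurvePoints.ringKrullDim_stalk hdim.le hxη)
    have h2 : (IsLocalRing.maximalIdeal (X.presheaf.stalk (t z))).spanFinrank = 1 := by exact_mod_cast h1
    have hfg : (IsLocalRing.maximalIdeal (X.presheaf.stalk (t z))).FG := IsNoetherian.noetherian _
    obtain ⟨a, ha⟩ := Set.ncard_eq_one.1 ((Submodule.FG.generators_ncard hfg).trans h2)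
    exact ⟨⟨a, by rw [← ha, Submodule.span_generators]⟩⟩
  · have hb := bijective_resMap_of_section k t hs z
    have e : k ≃ₗ[k] (X.residueField (t z) : Type u) := LinearEquiv.ofBijective (Algebra.linearMap k _) hb
    rw [← e.finrank_eq, Module.finrank_self]

end GrothLib.CurveMult
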