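import Groth.Agent.Lib.CurveMult.GGCurve
import Groth.Agent.Lib.Kleiman.FieldExt
import Groth.Agent.Lib.QCoh.SchSupport
import Groth.Agent.Lib.K0Sub.PushExact
import Groth.Agent.Lib.ProjFormula.Iso
import Groth.Agent.Lib.Euler.InvHom
import Groth.Agent.Lib.Euler.Divisor
import Groth.Agent.Lib.Euler.Slope2
import Groth.Agent.Lib.Cohom.Serre
import Groth.Agent.Lib.CurveRR.Setup
import Mathlib.RingTheory.Ideal.AssociatedPrime.Localization

/-!
# Nef line bundles on curves without `H¹(O)` over an algebraically closed field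
-/

set_option linter.style.haveILetI false
set_option backward.isDefEq.respectTransparency false

universe u

open CategoryTheory CategoryTheory.Limits AlgebraicGeometry TopologicalSpace Opposite

noncomputable section

namespace GrothLib.CurveMult

open GrothLib.QCoh (stalkLin)

variable {X : Scheme.{u}}

theorem isGloballyGenerated_structure : Curv2.IsGloballyGenerated (Coh.structureModule X) := by
  let q : (SheafOfModules.free (R := X.ringCatSheaf) PUnit.{u+1} : X.Modules) ⟶ Coh.structureModule X :=
    Sigma.desc fun _ : PUnit.{u+1} => 𝟙 (Coh.structureModule X)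
  refine ⟨PUnit.{u+1}, q, ⟨fun {N} g g' hgg => ?_⟩⟩
  have h1 := congrArg (fun f => Sigma.ι (fun _ : PUnit.{u+1} => Coh.structureModule X) PUnit.unit ≫ f) hgg
  have h2 : Sigma.ι (fun _ : PUnit.{u+1} => Coh.structureModule X) PUnit.unit ≫ q = 𝟙 (Coh.structureModule X) :=
    Sigma.ι_desc _ _
  exact (Category.id_comp g).symm.trans ((congrArg (· ≫ g) h2).symm.trans ((Category.assoc _ _ _).trans
    (h1.trans ((Category.assoc _ _ _).symm.trans ((congrArg (· ≫ g') h2).trans (Category.id_comp g'))))))

/-- On a noetherian scheme the ideals satisfy the ascending chain condition. -/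
theorem wellFoundedGT_idealSheafData [IsNoetherian X] : WellFoundedGT X.IdealSheafData := by
  classical
  have hc : ∀ x : X, ∃ U : X.affineOpens, x ∈ U.1 := fun x => by
    obtain ⟨U, hU, hxU, -⟩ := Opens.isBasis_iff_nbhd.1 X.isBasis_affineOpens (Opens.mem_top x)
    exact ⟨⟨U, hU⟩, hxU⟩
  choose U hxU using hc
  obtain ⟨t, ht⟩ := isCompact_univ.elim_finite_subcover (fun x => ((U x).1 : Set X)) (fun x => (U x).1.isOpen)
    (fun x _ => Set.mem_iUnion.2 ⟨x, hxU x⟩)
  haveI : ∀ i : t, WellFoundedGT (Ideal Γ(X, (U i.1).1)) := fun i => by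
    haveI := IsLocallyNoetherian.component_noetherian (X := X) (U i.1)
    infer_instance
  let φ : X.IdealSheafData → ∀ i : t, Ideal Γ(X, (U i.1).1) := fun J i => J.ideal (U i.1)
  have hφ : StrictMono φ := by
    intro J J' h
    refine lt_of_le_of_ne (fun i => h.le _) fun e => h.ne ?_
    refine Scheme.IdealSheafData.ext_of_iSup_eq_top (fun i : t => U i.1) (eq_top_iff.2 fun x _ => ?_)
      fun i => congrFun e i
    obtain ⟨i, hi, hxi⟩ := Set.mem_iUnion₂.1 (ht (Set.mem_univ x))
    exact Opens.mem_iSup.2 ⟨⟨i, hi⟩, hxi⟩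
  haveI : WellFoundedLT (∀ i : t, (Ideal Γ(X, (U i.1).1))ᵒᵈ) := Pi.wellFoundedLT
  have hψ : StrictAnti (fun J : X.IdealSheafData => (fun i => OrderDual.toDual (φ J i) : ∀ i : t, (Ideal Γ(X, (U i.1).1))ᵒᵈ)) :=
    fun J J' h => hφ h
  exact hψ.wellFoundedGT

/-- A point of a closed subscheme is in the support of its structure sheaf. -/
theorem mem_support_quotMod (J : X.IdealSheafData) {x : X} (hx : x ∈ (J.support : Set X)) :
    x ∈ CohB1.support (ClSub.quotMod J) := by
  rw [← Scheme.IdealSheafData.range_subschemeι] at hx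
  obtain ⟨y, rfl⟩ := hx
  intro h
  have hs := (QCoh.pushStalkHom_bijective J.subschemeι y (Coh.structureModule J.subscheme)
    J.subschemeι.isClosedEmbedding.isInducing).2
  have h2 : Subsingleton ((Coh.structureModule J.subscheme).presheaf.stalk y) :=
    ⟨fun a b => by
      obtain ⟨a', rfl⟩ := hs a
      obtain ⟨b', rfl⟩ := hs b
      exact congrArg _ (@Subsingleton.elim _ h a' b')⟩
  exact not_subsingleton (J.subscheme.presheaf.stalk y) (HomSh.unitStalk y).toEquiv.subsingleton

variable (k : Type u) [Field k] [X.Over (Spec (CommRingCat.of k))] [IsProper (X ↘ Spec (CommRingCat.of k))]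

include k in
/-- Nef invertible modules on integral curves without `H¹(O)`. -/
theorem nef_of_genus_zero_integral [IsIntegral X] (hd : topologicalKrullDim X ≤ 1)
    (h1 : Subsingleton (Coh.HH X (Coh.structureModule X) 1)) {L : X.Modules} (hL : PicF.IsInvertible L)
    (hdeg : 0 ≤ Curv2.deg k X L 1) : Subsingleton (Coh.HH X L 1) ∧ Curv2.IsGloballyGenerated L := by
  haveI := Euler.isNoetherian_of_proper (X := X) k
  have hO : PicF.IsInvertible (Coh.structureModule X) := Euler.isInvertible_structure
  have hOc := Euler.isCoh_of_isInvertible hO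
  have hLc := Euler.isCoh_of_isInvertible hL
  haveI := hOc.1
  have e0 := Euler.euler_eq_sub k hd (Coh.structureModule X)
  haveI := h1
  rw [Module.finrank_zero_of_subsingleton (R := k) (M := Coh.HH X (Coh.structureModule X) 1)] at e0
  have hp := Euler.finrank_H0_structure_pos (X := X) k
  have hpos : 0 < Curv2.euler k X L := by
    rw [Curv2.deg] at hdeg
    push_cast at *
    omega
  obtain ⟨u, hu⟩ := Euler.exists_ne_zero_section (Euler.nontrivial_H0_of_euler_pos k hd hLc hpos)
  have hs : FinCov.homOfSection u ≠ 0 := fun h => hu (by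
    have h1 := FinCov.homOfSection_one u ⊤
    rw [h] at h1
    rw [show (homOfLE (le_top : (⊤ : X.Opens) ≤ ⊤)).op = 𝟙 _ from Subsingleton.elim _ _,
      CategoryTheory.Functor.map_id] at h1
    exact h1.symm)
  generalize FinCov.homOfSection u = s at hs
  haveI := Euler.mono_of_ne_zero hO hL hs
  have hTc := QCoh.isCoh_cokernel s hOc hLc
  obtain ⟨hfin, hcl⟩ := Euler.finite_support_of_notMem_genericPoint k hd hTc
    (QCoh.notMem_support_cokernel_of_surjective s (Euler.stalkLin_genericPoint_bijective hO hL hs).2)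
  let S := ShortComplex.mk s (cokernel.π s) (cokernel.condition s)
  have hS : S.Exact := ShortComplex.exact_of_g_is_cokernel _ (cokernelIsCokernel s)
  haveI : Epi S.g := inferInstanceAs (Epi (cokernel.π s))
  refine ⟨subsingleton_H1_of_rightExact k hd hS h1 (Euler.subsingleton_HH_of_finite_support _ hfin hcl 1 le_rfl),
    isGloballyGenerated_extension k hS ?_ isGloballyGenerated_structure
      (isGloballyGenerated_of_finite_support hfin hcl)⟩
  exact subsingleton_H1_of_epi k hd (Abelian.factorThruImage s) h1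

include k in
/-- Closed subschemes inherit `H¹(O) = 0` in dimension one. -/
theorem subsingleton_H1_subscheme [IsNoetherian X] (hd : topologicalKrullDim X ≤ 1)
    (h1 : Subsingleton (Coh.HH X (Coh.structureModule X) 1)) (J : X.IdealSheafData) :
    Subsingleton (Coh.HH J.subscheme (Coh.structureModule J.subscheme) 1) := by
  haveI := Euler.epi_toSubscheme J
  have h := subsingleton_H1_of_epi k hd (ClSub.toSubscheme J) h1
  haveI := Cohom.isQuasicoherent_structureModule J.subscheme
  obtain ⟨e⟩ := Cohom.nonempty_HH_equiv_pushforward J.subschemeι (Coh.structureModule J.subscheme) 1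
  exact e.toEquiv.subsingleton

include k in
/-- Over an algebraically closed field the ideal of an integral subscheme has no first cohomology. -/
theorem subsingleton_H1_idealMod [IsAlgClosed k] [IsNoetherian X] (hd : topologicalKrullDim X ≤ 1)
    (h1 : Subsingleton (Coh.HH X (Coh.structureModule X) 1)) (J : X.IdealSheafData) [IsIntegral J.subscheme] :
    Subsingleton (Coh.HH X (ClSub.idealMod J) 1) := by
  haveI := Euler.epi_toSubscheme J
  have hS : (ShortComplex.mk (ClSub.idealModι J) (ClSub.toSubscheme J) (kernel.condition _)).ShortExact :=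
    { exact := ShortComplex.exact_of_f_is_kernel _ (kernelIsKernel _)
      mono_f := inferInstanceAs (Mono (kernel.ι (ClSub.toSubscheme J))) }
  letI : J.subscheme.Over (Spec (CommRingCat.of k)) := ⟨J.subschemeι ≫ X ↘ Spec (CommRingCat.of k)⟩
  haveI : IsProper (J.subscheme ↘ Spec (CommRingCat.of k)) :=
    inferInstanceAs (IsProper (J.subschemeι ≫ X ↘ Spec (CommRingCat.of k)))
  let eC : Coh.HH J.subscheme (Coh.structureModule J.subscheme) 0 ≃+ Γ(J.subscheme, ⊤) := ProjCoh.H0top _
  have h0 := CurveRR.finrank_H0_structure_eq_one k (X := J.subscheme)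
  haveI : Nonempty J.subscheme := IsIntegral.nonempty (X := J.subscheme)
  have hone : eC.symm 1 ≠ 0 := fun h => one_ne_zero ((eC.apply_symm_apply 1).symm.trans ((congrArg eC h).trans (map_zero eC)))
  have hsurj : Function.Surjective (Cohom.hhMap k (ClSub.toSubscheme J) 0) := by
    intro z
    let g : Γ(J.subscheme, ⊤) := ProjCoh.H0top (ClSub.quotMod J) z
    obtain ⟨a, ha⟩ := (finrank_eq_one_iff_of_nonzero' _ hone).1 h0 (eC.symm g)
    refine ⟨(ProjCoh.H0top (Coh.structureModule X)).symm (show Γ(X, ⊤) from Coh.toGlobal (X ↘ Spec (CommRingCat.of k)) a),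
      (ProjCoh.H0top (ClSub.quotMod J)).injective ?_⟩
    refine (ProjCoh.H0top_map ((QCoh.toAbFun _).map (ClSub.toSubscheme J)) _).trans ?_
    erw [AddEquiv.apply_symm_apply]
    have h2 := congrArg eC ha
    rw [show eC (a • eC.symm 1) = (show Γ(J.subscheme, ⊤) from Coh.toGlobal (J.subscheme ↘ Spec (CommRingCat.of k)) a) *
      eC (eC.symm 1) from ProjCoh.H0top_smul _ a _, AddEquiv.apply_symm_apply, AddEquiv.apply_symm_apply, mul_one] at h2
    exact h2
  refine subsingleton_of_forall_eq 0 fun y => ?_
  obtain ⟨x, rfl⟩ := (Cohom.exact₁ (A := k) hS 0 y).1 (@Subsingleton.elim _ h1 _ _)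
  obtain ⟨w, rfl⟩ := hsurj x
  exact (Cohom.exact₃ (A := k) hS 0 _).2 ⟨w, rfl⟩

/-- The annihilator of the ideal of a component is not zero. -/
theorem annIdeal_ne_bot [IsNoetherian X] (Z : Closeds X) (hZ : (Z : Set X) ∈ irreducibleComponents X)
    [(ClSub.idealMod (Scheme.IdealSheafData.vanishingIdeal Z)).IsQuasicoherent]
    (hft : SheafOfModules.IsFiniteType.{u, u, u} (R := X.ringCatSheaf)
      (ClSub.idealMod (Scheme.IdealSheafData.vanishingIdeal Z))) :
    QCoh.annIdeal (ClSub.idealMod (Scheme.IdealSheafData.vanishingIdeal Z)) hft ≠ ⊥ := by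
  intro hbot
  let J := Scheme.IdealSheafData.vanishingIdeal Z
  obtain ⟨η, hη⟩ := QuasiSober.sober hZ.1 Z.isClosed
  obtain ⟨U, hU, hηU, -⟩ := Opens.isBasis_iff_nbhd.1 X.isBasis_affineOpens (Opens.mem_top η)
  haveI := IsLocallyNoetherian.component_noetherian (X := X) ⟨U, hU⟩
  let p := hU.primeIdealOf ⟨η, hηU⟩
  have hmin : p.asIdeal ∈ (Module.annihilator Γ(X, U) Γ(X, U)).minimalPrimes := by
    rw [Module.annihilator_eq_bot.2 inferInstance]
    refine ⟨⟨p.isPrime, bot_le⟩, ?_⟩
    rintro q ⟨hq, -⟩ hqp
    have hs : (⟨q, hq⟩ : PrimeSpectrum Γ(X, U)) ⤳ p := (PrimeSpectrum.le_iff_specializes _ _).1 hqp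
    have h2 := hs.map hU.fromSpec.continuous
    rw [hU.fromSpec_primeIdealOf] at h2
    have hcl : closure ({hU.fromSpec ⟨q, hq⟩} : Set X) ⊆ (Z : Set X) :=
      hZ.2 isIrreducible_singleton.closure (hη.def ▸ h2.closure_subset)
    have h3 : η ⤳ hU.fromSpec ⟨q, hq⟩ :=
      specializes_iff_mem_closure.2 (hη.def.symm ▸ hcl (subset_closure rfl))
    have h4 : hU.fromSpec ⟨q, hq⟩ = η := (h2.antisymm h3).eq
    replace h4 := h4.trans (hU.fromSpec_primeIdealOf ⟨η, hηU⟩).symm
    exact (congrArg PrimeSpectrum.asIdeal (hU.fromSpec.isOpenEmbedding.injective h4)).ge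
  obtain ⟨-, a, ha⟩ := isAssociatedPrime_iff.1
    (Module.associatedPrimes.minimalPrimes_annihilator_subset_associatedPrimes Γ(X, U) Γ(X, U) hmin)
  have hker : ∀ m : Γ(ClSub.idealMod J, U), (show Γ(X, U) from (ClSub.idealModι J).app U m) ∈ J.ideal ⟨U, hU⟩ := by
    intro m
    rw [(congrArg (fun I : X.IdealSheafData => I.ideal ⟨U, hU⟩) (Scheme.IdealSheafData.ker_subschemeι J)).symm.trans
      (Scheme.Hom.ker_apply J.subschemeι ⟨U, hU⟩), RingHom.mem_ker]
    have h : (ClSub.idealModι J ≫ ClSub.toSubscheme J).app U m = (0 : ClSub.idealMod J ⟶ ClSub.quotMod J).app U m := by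
      rw [show ClSub.idealModι J ≫ ClSub.toSubscheme J = 0 from kernel.condition _]
    exact h
  have hle : ∀ b ∈ J.ideal ⟨U, hU⟩, b ∈ p.asIdeal := by
    intro b hb
    rw [show J.ideal ⟨U, hU⟩ = PrimeSpectrum.vanishingIdeal (hU.fromSpec ⁻¹' (Z : Set X)) from rfl,
      PrimeSpectrum.mem_vanishingIdeal] at hb
    refine hb p ?_
    rw [Set.mem_preimage, hU.fromSpec_primeIdealOf]
    exact hη.mem
  have hanni : a ∈ Module.annihilator Γ(X, U) Γ(ClSub.idealMod J, U) := by
    refine Module.mem_annihilator.2 fun m => ?_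
    haveI : Mono (ClSub.idealModι J) := inferInstanceAs (Mono (kernel.ι (ClSub.toSubscheme J)))
    refine Cohom.app_injective_of_mono (ClSub.idealModι J) U ?_
    rw [Scheme.Modules.Hom.app_smul, map_zero]
    have h := hle _ (hker m)
    rw [ha] at h
    rw [Submodule.mem_colon_singleton, Submodule.mem_bot, smul_eq_mul] at h
    show a * (show Γ(X, U) from (ClSub.idealModι J).app U m) = 0
    rw [mul_comm]
    exact h
  rw [← QCoh.annIdeal_ideal _ hft ⟨U, hU⟩, hbot, Scheme.IdealSheafData.ideal_bot] at hanni
  have ha0 : a = 0 := by simpa using hanni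
  exact p.isPrime.ne_top ((Ideal.eq_top_iff_one _).2 (by rw [ha, ha0]; simp))

include k in
/-- The inductive step. -/
theorem nef_step [IsAlgClosed k] (hd : topologicalKrullDim X ≤ 1)
    (h1 : Subsingleton (Coh.HH X (Coh.structureModule X) 1)) {L : X.Modules} (hL : PicF.IsInvertible L)
    (hnef : NumR.IsNef k X L)
    (ih : ∀ K : X.IdealSheafData, K ≠ ⊥ → Curv2.IsGloballyGenerated ((Scheme.Modules.pullback K.subschemeι).obj L)) :
    Subsingleton (Coh.HH X L 1) ∧ Curv2.IsGloballyGenerated L := by
  haveI := Euler.isNoetherian_of_proper (X := X) k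
  have hLc := Euler.isCoh_of_isInvertible hL
  haveI := hLc.1
  have hLl := Euler.isFinLocFree_of_isInvertible hL
  have hL1 := Euler.isFinLocFreeOfRank_one' hL
  let T := Euler.tF L
  have key : ∀ x : X, Subsingleton (Coh.HH X L 1) ∧ UnifVanish7.spanGlobal L x = ⊤ := by
    intro x
    obtain ⟨Z, hZ, hxZ⟩ : ∃ Z : Closeds X, (Z : Set X) ∈ irreducibleComponents X ∧ x ∈ (Z : Set X) :=
      ⟨⟨irreducibleComponent x, isClosed_irreducibleComponent⟩, irreducibleComponent_mem_irreducibleComponents x,
        mem_irreducibleComponent⟩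
    obtain ⟨η, hη⟩ := QuasiSober.sober hZ.1 Z.isClosed
    let J := Scheme.IdealSheafData.vanishingIdeal Z
    haveI hint : IsIntegral J.subscheme := by
      have hZe : Z = ⟨closure ({η} : Set X), isClosed_closure⟩ := Closeds.ext hη.def.symm
      show IsIntegral (Scheme.IdealSheafData.vanishingIdeal Z).subscheme
      rw [hZe]
      exact Snapper.isIntegral_pt η
    letI : J.subscheme.Over (Spec (CommRingCat.of k)) := ⟨J.subschemeι ≫ X ↘ Spec (CommRingCat.of k)⟩
    haveI : IsProper (J.subscheme ↘ Spec (CommRingCat.of k)) :=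
      inferInstanceAs (IsProper (J.subschemeι ≫ X ↘ Spec (CommRingCat.of k)))
    haveI := Euler.isNoetherian_of_proper (X := J.subscheme) k
    have hdJ : topologicalKrullDim J.subscheme ≤ 1 :=
      le_trans J.subschemeι.isClosedEmbedding.isInducing.topologicalKrullDim_le hd
    let LC := (Scheme.Modules.pullback J.subschemeι).obj L
    have hLC : PicF.IsInvertible LC := Ample.isInvertible_pullback J.subschemeι hL
    have hLCc := Euler.isCoh_of_isInvertible hLC
    haveI := hLCc.1
    obtain ⟨hC1, hCg⟩ := nef_of_genus_zero_integral k hdJ (subsingleton_H1_subscheme k hd h1 J) hLC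
      (Kleiman.deg_nonneg_of_isNef k hdJ hLC (Kleiman.isNef_pullback k hnef J.subschemeι rfl hL))
    -- the restriction to the component
    haveI := ProjFormula.isIso_projHom J.subschemeι hLl (Coh.structureModule J.subscheme)
    let e1 : T.obj (ClSub.quotMod J) ≅ (Scheme.Modules.pushforward J.subschemeι).obj LC :=
      ((OX.tensorBraiding (X := X)).app L).app _ ≪≫
        asIso (ProjFormula.projHom J.subschemeι L (Coh.structureModule J.subscheme)) ≪≫
        (Scheme.Modules.pushforward J.subschemeι).mapIso (Euler.tFUnitIso LC)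
    have hQ1 : Subsingleton (Coh.HH X (T.obj (ClSub.quotMod J)) 1) := by
      obtain ⟨e⟩ := Cohom.nonempty_HH_equiv_pushforward J.subschemeι LC 1
      haveI := hC1
      haveI : Subsingleton (Coh.HH X ((Scheme.Modules.pushforward J.subschemeι).obj LC) 1) := e.symm.toEquiv.subsingleton
      exact (Euler.hhEquiv (A := k) e1 1).toEquiv.subsingleton
    have hQg : Curv2.IsGloballyGenerated (T.obj (ClSub.quotMod J)) := by
      haveI := Euler.epi_toSubscheme J
      obtain ⟨l, p, hp⟩ := exists_epi_freeMod hLCc hCg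
      haveI := hp
      haveI := K0Sub.epi_push (i := J.subschemeι) p
      let c := PreservesCoproduct.iso (Scheme.Modules.pushforward J.subschemeι)
        (fun _ : Fin l => Coh.structureModule J.subscheme)
      let q : (∐ fun _ : Fin l => ClSub.quotMod J) ⟶ T.obj (ClSub.quotMod J) :=
        c.inv ≫ (Scheme.Modules.pushforward J.subschemeι).map p ≫ e1.inv
      haveI : Epi q := epi_comp _ _
      exact isGloballyGenerated_of_epi q
        (isGloballyGenerated_sigma (isGloballyGenerated_of_epi (ClSub.toSubscheme J) isGloballyGenerated_structure) l)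
    -- the ideal of the component
    let I := ClSub.idealMod J
    have hI : Coh.IsCoh I :=
      QCoh.isCoh_kernel _ (Euler.isCoh_of_isInvertible Euler.isInvertible_structure) (Snapper.isCoh_quotMod k J)
    haveI := hI.1
    have hI1 : Subsingleton (Coh.HH X (T.obj I) 1) := by
      let K := QCoh.annIdeal I hI.2
      haveI := QCoh.isIso_unit_annIdeal I hI.2
      let ι := K.subschemeι
      let I'' := (Scheme.Modules.pullback ι).obj I
      let L'' := (Scheme.Modules.pullback ι).obj L
      let eI : I ≅ (Scheme.Modules.pushforward ι).obj I'' :=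
        asIso ((Scheme.Modules.pullbackPushforwardAdjunction ι).unit.app I)
      haveI := ProjFormula.isIso_projHom ι hLl I''
      let e2 : T.obj I ≅ (Scheme.Modules.pushforward ι).obj (CohB1.tensorMod L'' I'') :=
        T.mapIso eI ≪≫ ((OX.tensorBraiding (X := X)).app L).app _ ≪≫ asIso (ProjFormula.projHom ι L I'')
      letI : K.subscheme.Over (Spec (CommRingCat.of k)) := ⟨ι ≫ X ↘ Spec (CommRingCat.of k)⟩
      haveI : IsProper (K.subscheme ↘ Spec (CommRingCat.of k)) :=
        inferInstanceAs (IsProper (ι ≫ X ↘ Spec (CommRingCat.of k)))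
      haveI := Euler.isNoetherian_of_proper (X := K.subscheme) k
      obtain ⟨n, p, hp⟩ := exists_epi_freeMod
        (Euler.isCoh_of_isInvertible (Ample.isInvertible_pullback ι hL)) (ih K (annIdeal_ne_bot Z hZ hI.2))
      haveI := hp
      let W := Euler.tF I''
      have hWp : Epi (W.map p) := W.map_epi p
      let d : (∐ fun _ : Fin n => I'') ⟶ CohB1.tensorMod L'' I'' :=
        (CMReg.tensorSigmaIso (fun _ : Fin n => Coh.structureModule K.subscheme) I'' ≪≫
          Sigma.mapIso fun _ => OX.tensorUnitLeftIso I'').inv ≫ W.map p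
      haveI : Epi d := @epi_comp _ _ _ _ _ _ inferInstance (W.map p) hWp
      haveI := K0Sub.epi_push (i := ι) d
      let q : (∐ fun _ : Fin n => I) ⟶ T.obj I :=
        (Sigma.mapIso fun _ => eI).hom ≫
          (PreservesCoproduct.iso (Scheme.Modules.pushforward ι) (fun _ : Fin n => I'')).inv ≫
          (Scheme.Modules.pushforward ι).map d ≫ e2.inv
      haveI : Epi q := epi_comp _ _
      exact subsingleton_H1_of_epi k hd q
        (CMReg.subsingleton_HH_sigma (fun _ : Fin n => I) fun _ => subsingleton_H1_idealMod k hd h1 J)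
    -- the sequence
    let eL : T.obj (Coh.structureModule X) ≅ L := OX.tensorUnitLeftIso L
    haveI := Euler.epi_toSubscheme J
    have hTg : Epi (T.map (ClSub.toSubscheme J)) := T.map_epi _
    let S : ShortComplex X.Modules := ShortComplex.mk (T.map (ClSub.idealModι J) ≫ eL.hom)
      (eL.inv ≫ T.map (ClSub.toSubscheme J)) (by
        rw [Category.assoc, eL.hom_inv_id_assoc, ← T.map_comp,
          show ClSub.idealModι J ≫ ClSub.toSubscheme J = 0 from kernel.condition _, Functor.map_zero])
    have hS : S.Exact := by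
      let S₀ := ShortComplex.mk (ClSub.idealModι J) (ClSub.toSubscheme J) (kernel.condition _)
      have h0 : S₀.Exact := ShortComplex.exact_of_f_is_kernel _ (kernelIsKernel _)
      haveI : Epi S₀.g := inferInstanceAs (Epi (ClSub.toSubscheme J))
      have hT : (S₀.map T).Exact :=
        ShortComplex.exact_of_g_is_cokernel _ (CokernelCofork.mapIsColimit _ h0.gIsCokernel T)
      refine ShortComplex.exact_of_iso (show S₀.map T ≅ S from
        ShortComplex.isoMk (Iso.refl _) eL (Iso.refl _) ?_ ?_) hT
      · exact Category.id_comp _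
      · exact (eL.hom_inv_id_assoc _).trans (Category.comp_id _).symm
    haveI : Epi S.g := @epi_comp _ _ _ _ _ eL.inv inferInstance _ hTg
    refine ⟨subsingleton_H1_of_rightExact k hd hS hI1 hQ1, ?_⟩
    have hker : Subsingleton (Coh.HH X (kernel S.g) 1) := by
      haveI : Epi (kernel.lift S.g S.f S.zero) := (ShortComplex.exact_iff_epi_kernel_lift S).1 hS
      exact subsingleton_H1_of_epi k hd (kernel.lift S.g S.f S.zero) hI1
    have hS' : (ShortComplex.mk (kernel.ι S.g) S.g (kernel.condition S.g)).ShortExact :=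
      { exact := ShortComplex.exact_of_f_is_kernel _ (kernelIsKernel S.g) }
    have hsurj : Function.Surjective (S.g.app ⊤) := fun t => by
      obtain ⟨y, hy⟩ := (Cohom.exact₃ (A := k) hS' 0 ((ProjCoh.H0top _).symm t)).1 (@Subsingleton.elim _ hker _ _)
      refine ⟨ProjCoh.H0top _ y, ?_⟩
      have h1 := congrArg (ProjCoh.H0top _) hy
      rw [AddEquiv.apply_symm_apply] at h1
      exact (ProjCoh.H0top_map ((QCoh.toAbFun _).map S.g) y).symm.trans h1
    have hle : Submodule.map (stalkLin S.g x) (UnifVanish7.spanGlobal L x) = ⊤ := by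
      rw [eq_top_iff, ← stalkSpanned_of_isGloballyGenerated hQg x, Submodule.span_le]
      rintro _ ⟨t, rfl⟩
      obtain ⟨s, rfl⟩ := hsurj t
      exact ⟨_, Submodule.subset_span ⟨s, rfl⟩, QCoh.stalkLin_germ S.g (U := ⊤) trivial s⟩
    by_contra hne
    let R := X.presheaf.stalk x
    obtain ⟨ψ⟩ := Euler.nonempty_stalk_equiv_pi (M := Coh.structureModule X) hL1 x
    let φ : L.presheaf.stalk x ≃ₗ[R] R :=
      (((OX.stalk x).mapIso eL).symm.toLinearEquiv).trans ((ψ.trans (LinearEquiv.funUnique (Fin 1) R _)).trans (HomSh.unitStalk x).symm)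
    have hN : UnifVanish7.spanGlobal L x ≤ IsLocalRing.maximalIdeal R • (⊤ : Submodule R (L.presheaf.stalk x)) := by
      intro v hv
      have hvm : φ v ∈ IsLocalRing.maximalIdeal R := by
        by_contra hu
        rw [IsLocalRing.mem_maximalIdeal, mem_nonunits_iff, not_not] at hu
        refine hne (eq_top_iff.2 fun w _ => ?_)
        have : w = (φ w * (↑hu.unit⁻¹ : R)) • v := φ.injective (by
          rw [map_smul, smul_eq_mul, mul_assoc, hu.val_inv_mul, mul_one])
        rw [this]
        exact Submodule.smul_mem _ _ hv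
      have : v = φ v • φ.symm 1 := φ.injective (by rw [map_smul, φ.apply_symm_apply, smul_eq_mul, mul_one])
      rw [this]
      exact Submodule.smul_mem_smul hvm Submodule.mem_top
    have hQx : (⊤ : Submodule R ((T.obj (ClSub.quotMod J)).presheaf.stalk x)) ≤
        IsLocalRing.maximalIdeal R • ⊤ := by
      refine le_trans hle.ge (le_trans (Submodule.map_mono hN) ?_)
      rw [Submodule.map_smul'']
      exact Submodule.smul_mono le_rfl le_top
    haveI : Module.Finite R ((T.obj (ClSub.quotMod J)).presheaf.stalk x) :=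
      haveI : Module.Finite R (L.presheaf.stalk x) := Euler.stalk_finite hLc x
      Module.Finite.of_surjective (stalkLin S.g x) (QCoh.stalkLin_surjective S.g x)
    have hzero := Submodule.eq_bot_of_le_smul_of_le_jacobson_bot (IsLocalRing.maximalIdeal R) ⊤
      (Module.finite_def.1 inferInstance) hQx (IsLocalRing.maximalIdeal_le_jacobson _)
    obtain ⟨ψ'⟩ := Euler.nonempty_stalk_equiv_pi (M := ClSub.quotMod J) hL1 x
    refine mem_support_quotMod J (x := x) ?_ ?_
    · rw [Scheme.IdealSheafData.coe_support_vanishingIdeal]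
      exact hxZ
    · haveI : Subsingleton ((T.obj (ClSub.quotMod J)).presheaf.stalk x) :=
        (Submodule.subsingleton_iff R).1 (subsingleton_of_bot_eq_top hzero.symm)
      exact (ψ'.trans (LinearEquiv.funUnique (Fin 1) R _)).symm.toEquiv.subsingleton
  refine ⟨?_, UnifVanish7.StalkSpanned.isGloballyGenerated fun x => (key x).2⟩
  by_cases hne : Nonempty X
  · exact (key hne.some).1
  · haveI : IsEmpty X := not_nonempty_iff.1 hne
    exact Euler.subsingleton_HH_of_finite_support L (Set.toFinite _) (fun x _ => isEmptyElim x) 1 le_rfl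

include k in
/-- Nef invertible modules on proper curves with `H¹(O) = 0` over an algebraically closed field. -/
theorem nef_of_genus_zero [IsAlgClosed k] (hd : topologicalKrullDim X ≤ 1)
    (h1 : Subsingleton (Coh.HH X (Coh.structureModule X) 1)) {L : X.Modules} (hL : PicF.IsInvertible L)
    (hnef : NumR.IsNef k X L) : Subsingleton (Coh.HH X L 1) ∧ Curv2.IsGloballyGenerated L := by
  haveI := Euler.isNoetherian_of_proper (X := X) k
  haveI := wellFoundedGT_idealSheafData (X := X)
  have main : ∀ J : X.IdealSheafData, Curv2.IsGloballyGenerated ((Scheme.Modules.pullback J.subschemeι).obj L) := by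
    intro J
    refine (wellFounded_gt (α := X.IdealSheafData)).induction (C := fun J =>
      Curv2.IsGloballyGenerated ((Scheme.Modules.pullback J.subschemeι).obj L)) J fun J ih => ?_
    letI : J.subscheme.Over (Spec (CommRingCat.of k)) := ⟨J.subschemeι ≫ X ↘ Spec (CommRingCat.of k)⟩
    haveI : IsProper (J.subscheme ↘ Spec (CommRingCat.of k)) :=
      inferInstanceAs (IsProper (J.subschemeι ≫ X ↘ Spec (CommRingCat.of k)))
    refine (nef_step k (le_trans J.subschemeι.isClosedEmbedding.isInducing.topologicalKrullDim_le hd)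
      (subsingleton_H1_subscheme k hd h1 J) (Ample.isInvertible_pullback J.subschemeι hL)
      (Kleiman.isNef_pullback k hnef J.subschemeι rfl hL) fun K hK => ?_).2
    let f := K.subschemeι ≫ J.subschemeι
    have hJK : J < f.ker := by
      refine lt_of_le_of_ne ?_ fun e => hK ?_
      · exact le_trans (Scheme.IdealSheafData.ker_subschemeι J).ge (Scheme.Hom.le_ker_comp _ _)
      · obtain ⟨g, hg⟩ : ∃ g : K.subscheme ⟶ J.subscheme, IsIso g ∧ g ≫ J.subschemeι = f := by
          have : ∀ J', f.ker = J' → ∃ g : K.subscheme ⟶ J'.subscheme, IsIso g ∧ g ≫ J'.subschemeι = f := by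
            rintro _ rfl
            exact ⟨f.toImage, inferInstance, f.toImage_imageι⟩
          exact this J e.symm
        haveI := hg.1
        have := (cancel_mono J.subschemeι).1 hg.2
        rw [← Scheme.IdealSheafData.ker_subschemeι K, ← this]
        exact Scheme.Hom.ker_eq_bot_of_isIso g
    obtain ⟨ι₀, p, hp⟩ := ih f.ker hJK
    haveI := hp
    let e : (Scheme.Modules.pullback K.subschemeι).obj ((Scheme.Modules.pullback J.subschemeι).obj L) ≅
        (Scheme.Modules.pullback f.toImage).obj ((Scheme.Modules.pullback f.ker.subschemeι).obj L) :=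
      (Scheme.Modules.pullbackComp K.subschemeι J.subschemeι).app L ≪≫
        (Scheme.Modules.pullbackCongr f.toImage_imageι.symm).app L ≪≫
        ((Scheme.Modules.pullbackComp f.toImage f.ker.subschemeι).app L).symm
    letI : f.ker.subscheme.Over (Spec (CommRingCat.of k)) := ⟨f.ker.subschemeι ≫ X ↘ Spec (CommRingCat.of k)⟩
    haveI : IsProper (f.ker.subscheme ↘ Spec (CommRingCat.of k)) :=
      inferInstanceAs (IsProper (f.ker.subschemeι ≫ X ↘ Spec (CommRingCat.of k)))
    haveI := Euler.isNoetherian_of_proper (X := f.ker.subscheme) k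
    obtain ⟨n, p', hp'⟩ := exists_epi_freeMod
      (Euler.isCoh_of_isInvertible (Ample.isInvertible_pullback f.ker.subschemeι hL)) ⟨ι₀, p, hp⟩
    haveI := hp'
    refine Ample.isGloballyGenerated_of_iso e.symm ?_
    let F := Scheme.Modules.pullback f.toImage
    haveI : PreservesColimitsOfSize.{0, 0} F :=
      (Scheme.Modules.pullbackPushforwardAdjunction f.toImage).leftAdjoint_preservesColimits
    let c := PreservesCoproduct.iso F (fun _ : Fin n => Coh.structureModule f.ker.subscheme)
    let q : (∐ fun _ : Fin n => Coh.structureModule K.subscheme) ⟶ F.obj ((Scheme.Modules.pullback f.ker.subschemeι).obj L) :=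
      (Sigma.mapIso fun _ => (OX.pullUnitIso f.toImage).symm).hom ≫ c.inv ≫ F.map p'
    haveI : Epi (F.map p') := F.map_epi p'
    haveI : Epi q := epi_comp _ _
    exact isGloballyGenerated_of_epi q (isGloballyGenerated_sigma isGloballyGenerated_structure n)
  exact nef_step k hd h1 hL hnef fun K _ => main K

end GrothLib.CurveMult
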