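import Groth.Agent.Lib.CurveMult.VeryStable
import Groth.Agent.Lib.CurveMult.TwistSplit
import Groth.Agent.Lib.Euler.Slope3

/-!
# Pairs twisted by invertible modules
-/

set_option linter.style.haveILetI false
set_option backward.isDefEq.respectTransparency false

universe u

open CategoryTheory CategoryTheory.Limits AlgebraicGeometry TopologicalSpace Opposite
open GrothLib.CurveRR

noncomputable section

namespace GrothLib.CurveMult

variable {X : Scheme.{u}} [IsIntegral X] (k : Type u) [Field k] [RegCurve X]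
  [X.Over (Spec (CommRingCat.of k))] [IsProper (X ↘ Spec (CommRingCat.of k))]

include k in
/-- The degree of a twist. -/
theorem deg_tF {n : ℕ} {E N : X.Modules} (hE : FlatMod.IsFinLocFreeOfRank n E) (hN : PicF.IsInvertible N) :
    Curv2.deg k X ((Euler.tF N).obj E) n = Curv2.deg k X E n + n * Curv2.deg k X N 1 := by
  haveI := Euler.isNoetherian_of_proper (X := X) k
  have hN1 := Euler.isFinLocFreeOfRank_one_of_invertible hN
  obtain ⟨U, hU, ⟨φ⟩⟩ := Euler.exists_trivial_genericPoints k hN1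
  have h := Euler.euler_tF k RegCurve.dim.le hE (Euler.isCoh_of_isInvertible hN) hU φ
  have e : Curv2.euler k X ((Euler.tF E).obj N) = Curv2.euler k X ((Euler.tF N).obj E) :=
    Euler.euler_of_iso k (((OX.tensorBraiding (X := X)).app E).app N)
  rw [e] at h
  simp only [Curv2.deg] at h ⊢
  rw [h]
  push_cast
  ring

include k in
/-- A subsheaf of a twist, twisted back. -/
theorem exists_untwist {n : ℕ} {Q N G : X.Modules} (hN : PicF.IsInvertible N)
    (hG : FlatMod.IsFinLocFreeOfRank n G) (i : G ⟶ (Euler.tF N).obj Q) (hi : Mono i) :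
    ∃ (G' : X.Modules) (i' : G' ⟶ Q), Mono i' ∧ FlatMod.IsFinLocFreeOfRank n G' ∧
      Curv2.deg k X G' n = Curv2.deg k X G n - n * Curv2.deg k X N 1 := by
  haveI := Euler.isNoetherian_of_proper (X := X) k
  obtain ⟨M, hM, hMd, ⟨e⟩, ⟨e'⟩⟩ := exists_inverse k RegCurve.dim.le hN
  haveI := isEquivalence_tF' k hM
  haveI : Mono ((Euler.tF M).map i) := inferInstance
  haveI : Mono ((twistInverseIso e).hom.app Q) := inferInstance
  refine ⟨_, (Euler.tF M).map i ≫ (twistInverseIso e).hom.app Q, mono_comp _ _,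
    isFinLocFreeOfRank_tF hG hM, ?_⟩
  rw [deg_tF k hG hM, hMd]
  ring

include k in
/-- A semistable pair with values in a bundle of nonpositive degree is semistable. -/
theorem subLe_of_pair {L E : X.Modules} (hL : PicF.IsInvertible L) (hL0 : Curv2.deg k X L 1 ≤ 0) {r : ℕ}
    (hr : 0 < r) (hE : FlatMod.IsFinLocFreeOfRank r E) (φ : E ⟶ (Euler.tF L).obj E)
    (hss : ∀ (G : X.Modules) (n : ℕ) (j : G ⟶ E) (χ : G ⟶ (Euler.tF L).obj G), Mono j → 0 < n →
      FlatMod.IsFinLocFreeOfRank n G → χ ≫ (Euler.tF L).map j = j ≫ φ →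
      Curv2.deg k X G n * (r : ℤ) ≤ Curv2.deg k X E r * (n : ℤ)) :
    Euler.SubLe k E (Curv2.deg k X E r) r := by
  haveI := Euler.isNoetherian_of_proper (X := X) k
  have hdim : topologicalKrullDim X ≤ 1 := RegCurve.dim.le
  have hpid : ∀ x : X, IsPrincipalIdealRing (X.presheaf.stalk x) := CurveRR.pid_stalk
  obtain ⟨E₁, r₁, j, hj, hr₁, hE₁, hmax⟩ := Euler.exists_max_slope k hdim hr hE
  haveI := hj
  haveI := isEquivalence_tF' k hL
  have hE₁c := Euler.isCoh_of_isFinLocFree (FinCov.isFinLocFree_of_rank hE₁)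
  have hle : Euler.SubLe k E (Curv2.deg k X E₁ r₁) r₁ := fun G r' i hi hr' hG => (hmax G r' i hi hr' hG).1
  have hQ := Euler.isFinLocFreeOfRank_cokernel_of_subLe k hdim hpid hr₁ j hE₁c hE hle
    (by rw [Euler.grank_of_locFree hE₁, Euler.deg_eq_degree k hE₁])
  have hw : (j ≫ φ) ≫ (Euler.tF L).map (cokernel.π j) = 0 := by
    refine Euler.hom_eq_zero_of_slope_lt k hpid hE₁
      (FinCov.isFinLocFree_of_rank (isFinLocFreeOfRank_tF hQ hL))
      (fun G r' i hi hr' hG => (hmax G r' (i ≫ j) (mono_comp i j) hr' hG).1) (fun G r' i hi hr' hG => ?_) _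
    obtain ⟨G', i', hi', hG', hd'⟩ := exists_untwist k hL hG i hi
    haveI := hi'
    have h := Euler.quotient_slope_lt k hdim hpid hr₁ hE hE₁ j hmax i' hr' hG'
    rw [hd'] at h
    have h0 : (r' : ℤ) * Curv2.deg k X L 1 * r₁ ≤ 0 :=
      mul_nonpos_of_nonpos_of_nonneg (mul_nonpos_of_nonneg_of_nonpos (by positivity) hL0) (by positivity)
    linarith [h, h0]
  have hS := (Euler.cokernel_shortExact j).map_of_exact (Euler.tF L)
  obtain ⟨χ, hχ⟩ : ∃ χ : E₁ ⟶ (Euler.tF L).obj E₁, χ ≫ (Euler.tF L).map j = j ≫ φ := by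
    obtain ⟨χ, hχ⟩ := KernelFork.IsLimit.lift' hS.fIsKernel (j ≫ φ) hw
    exact ⟨χ, hχ⟩
  have h1 := hss E₁ r₁ j χ hj hr₁ hE₁ hχ
  intro G r' i hi hr' hG
  have h2 := (hmax G r' i hi hr' hG).1
  have hr1 : (0 : ℤ) < r₁ := by exact_mod_cast hr₁
  refine le_of_mul_le_mul_right ?_ hr1
  calc Curv2.deg k X G r' * r * r₁ = Curv2.deg k X G r' * r₁ * r := by ring
    _ ≤ Curv2.deg k X E₁ r₁ * r' * r := mul_le_mul_of_nonneg_right h2 (by positivity)
    _ = Curv2.deg k X E₁ r₁ * r * r' := by ring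
    _ ≤ Curv2.deg k X E r * r₁ * r' := mul_le_mul_of_nonneg_right h1 (by positivity)
    _ = Curv2.deg k X E r * r' * r₁ := by ring

end GrothLib.CurveMult

namespace GrothLib.CurveMult

variable {X : Scheme.{u}} [IsIntegral X] (k : Type u) [Field k] [RegCurve X]
  [X.Over (Spec (CommRingCat.of k))] [IsProper (X ↘ Spec (CommRingCat.of k))]

include k in
/-- Cancelling an invertible module. -/
theorem nonempty_iso_structure_of_twist {Q N : X.Modules} (hQ : PicF.IsInvertible Q)
    (e : (Euler.tF N).obj Q ≅ Q) : Nonempty (N ≅ Coh.structureModule X) := by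
  haveI := isEquivalence_tF' k hQ
  exact ⟨(Euler.tF Q).preimageIso ((((OX.tensorBraiding (X := X)).app N).app Q).symm ≪≫ e ≪≫
    (OX.tensorUnitLeftIso Q).symm)⟩

include k in
/-- A short exact sequence and the twisted map out of the subbundle. -/
theorem twisted_map_dichotomy {L E A B : X.Modules} (hL : PicF.IsInvertible L) (hA : PicF.IsInvertible A)
    (hB : PicF.IsInvertible B) (f : A ⟶ E) (g : E ⟶ B) (w : f ≫ g = 0)
    (hS : (ShortComplex.mk f g w).ShortExact) (φ : E ⟶ (Euler.tF L).obj E) :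
    (∃ χ : A ⟶ (Euler.tF L).obj A, χ ≫ (Euler.tF L).map f = f ≫ φ) ∨
      (Curv2.deg k X A 1 ≤ Curv2.deg k X B 1 + Curv2.deg k X L 1 ∧
        (Curv2.deg k X A 1 = Curv2.deg k X B 1 + Curv2.deg k X L 1 → Nonempty (A ≅ (Euler.tF L).obj B))) := by
  haveI := Euler.isNoetherian_of_proper (X := X) k
  haveI := isEquivalence_tF' k hL
  have hT := hS.map_of_exact (Euler.tF L)
  by_cases h : (f ≫ φ) ≫ (Euler.tF L).map g = 0
  · left
    obtain ⟨χ, hχ⟩ := KernelFork.IsLimit.lift' hT.fIsKernel (f ≫ φ) h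
    exact ⟨χ, hχ⟩
  · right
    have hBL : PicF.IsInvertible ((Euler.tF L).obj B) := Ample.isInvertible_tensorMod hB hL
    obtain ⟨q, hq, hiso⟩ := Euler.deg_le_of_ne_zero k RegCurve.dim.le hA hBL h
    have hd := deg_tF k (Euler.isFinLocFreeOfRank_one_of_invertible hB) hL
    push_cast at hd
    refine ⟨by omega, fun he => ?_⟩
    haveI := hiso (by omega)
    exact ⟨asIso ((f ≫ φ) ≫ (Euler.tF L).map g)⟩

end GrothLib.CurveMult
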