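import Groth.Agent.Lib.LocFreeDual20.ExtGlobal
import Groth.Agent.Lib.LocalHilb26.ModAux
import Groth.Agent.Lib.CurveMult.HiggsPair
import Groth.Agent.Lib.CurveRR.Dual2
import Groth.Agent.Lib.CurveRR.Main
import Groth.Agent.Lib.Euler.Slope3

/-!
# Splitting of extensions of bundles from slope inequalities, by Serre duality
-/

set_option linter.style.haveILetI false
set_option backward.isDefEq.respectTransparency false

universe u

open CategoryTheory CategoryTheory.Limits AlgebraicGeometry CategoryTheory.Abelian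
open GrothLib.CurveRR (RegCurve oD isInvertible_oD isCoh_oD)
open GrothLib.LocFreeHom GrothLib.LocFreeDual20 GrothLib.OX

noncomputable section

namespace GrothLib.CurveMult

attribute [local instance] LocFreeHom.hasSheafHom

section bidual

variable {X : Scheme.{u}}

/-- The map to the bidual. -/
def bidualMap (E : X.Modules) : E ⟶ dual (dual E) := curry (σ E)

/-- The bidual of a map. -/
def bidualFun {A F : X.Modules} (a : A ⟶ F) : dual (dual A) ⟶ dual (dual F) :=
  hMap (hMap a (Coh.structureModule X)) (Coh.structureModule X)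

theorem bidualMap_natural {A F : X.Modules} (a : A ⟶ F) : bidualMap A ≫ bidualFun a = a ≫ bidualMap F := by
  refine hom_ext ?_
  rw [bidualFun, uncurry_comp_hMap, uncurry_comp, bidualMap, bidualMap, uncurry_curry, uncurry_curry, wh,
    tMap_left, tMap_right]
  exact σ_dinatural a

theorem bidualFun_sum {ι : Type*} [Fintype ι] {A F : X.Modules} (a : ι → (A ⟶ F)) :
    bidualFun (∑ i, a i) = ∑ i, bidualFun (a i) := by
  simp only [bidualFun, hMap_sum]

theorem bidualFun_comp {A B F : X.Modules} (a : A ⟶ B) (b : B ⟶ F) :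
    bidualFun (a ≫ b) = bidualFun a ≫ bidualFun b := by
  simp only [bidualFun, hMap_comp]

theorem bidualFun_id (A : X.Modules) : bidualFun (𝟙 A) = 𝟙 _ := by
  simp only [bidualFun, hMap_id]

theorem isIso_bidualMap_structure : IsIso (bidualMap (Coh.structureModule X)) := by
  let O := Coh.structureModule X
  obtain ⟨d⟩ := nonempty_iHom_unit_iso (X := X) O
  haveI := isEquivalence_T_unit d
  haveI := isIso_ev_of_unit d O
  haveI := isIso_ev_of_unit (Iso.refl O) O
  have hσ : IsIso (σ O) := by rw [σ]; infer_instance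
  have h : IsIso (uncurry (bidualMap O)) := by rw [bidualMap, uncurry_curry]; exact hσ
  haveI : IsIso ((LocFreeHom.T (dual O)).map (bidualMap O)) := IsIso.of_isIso_comp_right _ (ev (dual O) O)
  exact isIso_of_reflects_iso _ (LocFreeHom.T (dual O))

theorem isIso_bidualMap_freeMod (n : ℕ) : IsIso (bidualMap (FlatMod.freeMod X n)) := by
  let O := Coh.structureModule X
  let ι := fun i => Sigma.ι (fun _ : Fin n => O) i
  haveI := isIso_bidualMap_structure (X := X)
  refine ⟨∑ i, bidualFun (freeProj X n i) ≫ inv (bidualMap O) ≫ ι i, ?_, ?_⟩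
  · rw [Preadditive.comp_sum]
    refine (Finset.sum_congr rfl (g := fun i => freeProj X n i ≫ ι i) fun i _ => ?_).trans (freeProj_total X n)
    rw [← Category.assoc, bidualMap_natural, Category.assoc, IsIso.hom_inv_id_assoc]
  · rw [Preadditive.sum_comp]
    refine (Finset.sum_congr rfl (g := fun i => bidualFun (freeProj X n i) ≫ bidualFun (ι i)) fun i _ => ?_).trans ?_
    · rw [Category.assoc, Category.assoc, ← bidualMap_natural, IsIso.inv_hom_id_assoc]
    · simp only [← bidualFun_comp]
      rw [← bidualFun_sum, freeProj_total, bidualFun_id]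

theorem isIso_restrict_bidualMap_iff {U : Scheme.{u}} (j : U ⟶ X) [IsOpenImmersion j] {A F : X.Modules} (a : A ⟶ F)
    (h : IsIso ((Scheme.Modules.restrictFunctor j).map a)) :
    IsIso ((Scheme.Modules.restrictFunctor j).map (bidualMap A)) ↔
      IsIso ((Scheme.Modules.restrictFunctor j).map (bidualMap F)) := by
  have h2 : IsIso ((Scheme.Modules.restrictFunctor j).map (bidualFun a)) :=
    isIso_restrict_hMap j _ (isIso_restrict_hMap j a h _) _
  have e := congrArg (Scheme.Modules.restrictFunctor j).map (bidualMap_natural a)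
  rw [Functor.map_comp, Functor.map_comp] at e
  constructor <;> intro hh
  · exact IsIso.of_isIso_fac_left e.symm
  · exact IsIso.of_isIso_fac_right e

/-- A finite locally free module is reflexive. -/
theorem isIso_bidualMap {E : X.Modules} (hE : FlatMod.IsFinLocFree E) : IsIso (bidualMap E) := by
  refine (OX.isIso_iff _).2 fun x => ?_
  obtain ⟨U, n, hxU, ⟨e⟩⟩ := hE x
  let R := Scheme.Modules.restrictFunctor U.ι
  let e' : R.obj (FlatMod.freeMod X n) ≅ FlatMod.freeMod (U : Scheme.{u}) n :=
    (Scheme.Modules.restrictFunctorIsoPullback U.ι).app _ ≪≫ pullFreeModIso U.ι n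
  let c : R.obj E ≅ R.obj (FlatMod.freeMod X n) := e ≪≫ e'.symm
  let a₂ : (CxOX.extZero U.ι).obj (R.obj E) ⟶ FlatMod.freeMod X n :=
    (CxOX.extZero U.ι).map c.hom ≫ epsZ U.ι _
  have h₁ : IsIso (R.map (epsZ U.ι E)) := isIso_restrict_epsZ U.ι E
  have h₂ : IsIso (R.map a₂) := by
    have := isIso_restrict_epsZ U.ι (FlatMod.freeMod X n)
    simp only [a₂, Functor.map_comp]
    infer_instance
  have hfree : IsIso (R.map (bidualMap (FlatMod.freeMod X n))) := by
    have := isIso_bidualMap_freeMod (X := X) n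
    infer_instance
  have hE' := (isIso_restrict_bidualMap_iff U.ι _ h₁).1 ((isIso_restrict_bidualMap_iff U.ι _ h₂).2 hfree)
  exact isIso_stalk_of_restrict U.ι _ hE' ⟨x, hxU⟩

end bidual

variable (k : Type u) [Field k] {X : Scheme.{u}} [IsIntegral X] [RegCurve X]
  [X.Over (Spec (CommRingCat.of k))] [IsProper (X ↘ Spec (CommRingCat.of k))]

include k in
/-- Serre duality: sheaf homs have no first cohomology when nothing maps backwards into the canonical twist. -/
theorem subsingleton_H1_iHom {C : _root_.FunFld.Divisor k X.functionField}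
    (hK : _root_.FunFld.IsFunctionField k X.functionField) (hC : _root_.FunFld.IsCanonical k X.functionField C)
    {Q G : X.Modules} (hQ : FlatMod.IsFinLocFree Q) {n : ℕ}
    (hN : FlatMod.IsFinLocFreeOfRank n (iHom Q G))
    (h : ∀ f : G ⟶ (Euler.tF (oD k C)).obj Q, f = 0) : Subsingleton (Coh.HH X (iHom Q G) 1) := by
  refine not_nontrivial_iff_subsingleton.1 fun hn => ?_
  obtain ⟨φ, hφ⟩ := CurveRR.exists_nonzero_hom_of_H1 hK hC hN hn
  refine hφ ?_
  haveI := isIso_θ hQ G
  haveI := isIso_θ (isFinLocFree_iHom hQ (FinCov.isFinLocFree_of_rank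
    (Euler.isFinLocFreeOfRank_one_of_invertible (Euler.isInvertible_structure (X := X))))) (oD k C)
  haveI := isIso_bidualMap hQ
  let ψ : (LocFreeHom.T (dual Q)).obj G ⟶ oD k C := (br (dual Q) G).hom ≫ θ Q G ≫ φ
  let c : iHom (dual Q) (oD k C) ≅ (Euler.tF (oD k C)).obj Q :=
    (asIso (θ (dual Q) (oD k C))).symm ≪≫ (LocFreeHom.T (oD k C)).mapIso (asIso (bidualMap Q)).symm ≪≫ br (oD k C) Q
  have h0 : curry ψ = 0 := by
    have := h (curry ψ ≫ c.hom)
    rwa [← cancel_mono c.hom, zero_comp]
  have h1 : ψ = 0 := by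
    rw [← uncurry_curry ψ, h0]
    show (LocFreeHom.T (dual Q)).map 0 ≫ _ = 0
    rw [Functor.map_zero, zero_comp]
  rw [← cancel_epi (θ Q G), ← cancel_epi (br (dual Q) G).hom, comp_zero, comp_zero]
  exact h1

include k in
/-- An extension splits when nothing maps backwards into the canonical twist of the quotient. -/
theorem exists_section_of_hom_eq_zero {C : _root_.FunFld.Divisor k X.functionField}
    (hK : _root_.FunFld.IsFunctionField k X.functionField) (hC : _root_.FunFld.IsCanonical k X.functionField C)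
    {S : ShortComplex X.Modules} (hS : S.ShortExact) (hQ : FlatMod.IsFinLocFree S.X₃) (hG : FlatMod.IsFinLocFree S.X₁)
    (h : ∀ f : S.X₁ ⟶ (Euler.tF (oD k C)).obj S.X₃, f = 0) :
    ∃ s : S.X₃ ⟶ S.X₂, s ≫ S.g = 𝟙 S.X₃ := by
  haveI := Euler.isNoetherian_of_proper (X := X) k
  haveI : EnoughInjectives X.Modules := SheafCoh.enoughInjectives_sheafOfModules X.ringCatSheaf
  haveI : HasExt.{u} X.Modules := hasExt_of_enoughInjectives _
  have hN := isFinLocFree_iHom hQ hG
  have hNc := Euler.isCoh_of_isFinLocFree hN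
  have hN' := Euler.isFinLocFreeOfRank_of_mono CurveRR.pid_stalk (𝟙 (iHom S.X₃ S.X₁)) hNc hN
  haveI := subsingleton_H1_iHom k hK hC hQ hN' h
  obtain ⟨e⟩ := nonempty_ext_addEquiv_HH hQ S.X₁ 1
  exact LocalHilb26.exists_section_of_subsingleton_ext hS e.toEquiv.subsingleton

include k in
/-- A subbundle of larger slope splits off, up to the degree of the canonical class. -/
theorem exists_section_of_slope_lt {C : _root_.FunFld.Divisor k X.functionField}
    (hK : _root_.FunFld.IsFunctionField k X.functionField) (hC : _root_.FunFld.IsCanonical k X.functionField C)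
    {S : ShortComplex X.Modules} (hS : S.ShortExact) (hQ : FlatMod.IsFinLocFree S.X₃) {a : ℕ}
    (hG : FlatMod.IsFinLocFreeOfRank a S.X₁) (hGss : Euler.SubLe k S.X₁ (Curv2.deg k X S.X₁ a) a)
    (hlt : ∀ (G' : X.Modules) (r' : ℕ) (i : G' ⟶ S.X₃), Mono i → 0 < r' → FlatMod.IsFinLocFreeOfRank r' G' →
      (Curv2.deg k X G' r' + r' * C.deg) * (a : ℤ) < Curv2.deg k X S.X₁ a * (r' : ℤ)) :
    ∃ s : S.X₃ ⟶ S.X₂, s ≫ S.g = 𝟙 S.X₃ := by
  haveI := Euler.isNoetherian_of_proper (X := X) k
  have hω := isInvertible_oD k C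
  have hQ' := Euler.isFinLocFreeOfRank_of_mono CurveRR.pid_stalk (𝟙 S.X₃) (Euler.isCoh_of_isFinLocFree hQ) hQ
  refine exists_section_of_hom_eq_zero k hK hC hS hQ (FinCov.isFinLocFree_of_rank hG) fun f => ?_
  refine Euler.hom_eq_zero_of_slope_lt k CurveRR.pid_stalk hG
    (FinCov.isFinLocFree_of_rank (isFinLocFreeOfRank_tF hQ' hω)) hGss (fun G r' i hi hr' hG' => ?_) f
  obtain ⟨G', i', hi', hG'', hd'⟩ := exists_untwist k hω hG' i hi
  have h1 := hlt G' r' i' hi' hr' hG''
  rw [hd', CurveRR.deg_oD] at h1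
  linarith

include k in
/-- Indecomposable bundles on a curve of genus one are semistable. -/
theorem subLe_of_indecomposable_genus_one (h0 : Module.finrank k (Coh.HH X (Coh.structureModule X) 0) = 1)
    (hg : Curv2.genus k X = 1) {E : X.Modules} {r : ℕ} (hr : 0 < r) (hE : FlatMod.IsFinLocFreeOfRank r E)
    (hind : ∀ (E₁ E₂ : X.Modules), Nonempty (E ≅ E₁ ⊞ E₂) → IsZero E₁ ∨ IsZero E₂) :
    Euler.SubLe k E (Curv2.deg k X E r) r := by
  haveI := Euler.isNoetherian_of_proper (X := X) k
  have hd : topologicalKrullDim X ≤ 1 := RegCurve.dim.le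
  have hK := CurveRR.isFunctionField k h0
  obtain ⟨C, hC⟩ := FunFld.exists_isCanonical hK
  have hCd := CurveRR.deg_canonical k hK hC
  rw [← CurveRR.genus_eq k h0, hg] at hCd
  obtain ⟨E₁, r₁, j, hj, hr₁, hE₁, hmax⟩ := Euler.exists_max_slope k hd hr hE
  haveI := hj
  have hE₁c := Euler.isCoh_of_isFinLocFree (FinCov.isFinLocFree_of_rank hE₁)
  have hEc := Euler.isCoh_of_isFinLocFree (FinCov.isFinLocFree_of_rank hE)
  have hle : Euler.SubLe k E (Curv2.deg k X E₁ r₁) r₁ := fun G r' i hi hr' hG => (hmax G r' i hi hr' hG).1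
  have hQ := Euler.isFinLocFreeOfRank_cokernel_of_subLe k hd CurveRR.pid_stalk hr₁ j hE₁c hE hle
    (by rw [Euler.grank_of_locFree hE₁, Euler.deg_eq_degree k hE₁])
  have hS := Euler.cokernel_shortExact j
  have hE₁ss : Euler.SubLe k E₁ (Curv2.deg k X E₁ r₁) r₁ := fun G r' i hi hr' hG =>
    (hmax G r' (i ≫ j) (mono_comp i j) hr' hG).1
  obtain ⟨s, hs⟩ := exists_section_of_slope_lt k hK hC (S := ShortComplex.mk j (cokernel.π j) (cokernel.condition j))
    hS (FinCov.isFinLocFree_of_rank hQ) hE₁ hE₁ss (fun G' r' i hi hr' hG' => by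
      haveI := hi
      have := Euler.quotient_slope_lt k hd CurveRR.pid_stalk hr₁ hE hE₁ j hmax i hr' hG'
      rw [hCd]
      simpa using this)
  let sp := ShortComplex.Splitting.ofExactOfSection (ShortComplex.mk j (cokernel.π j) (cokernel.condition j))
    hS.exact s hs hj
  rcases hind E₁ (cokernel j) ⟨sp.isoBinaryBiproduct⟩ with h | h
  · exfalso
    have h00 : FlatMod.IsFinLocFreeOfRank 0 E₁ := fun y =>
      ⟨⊤, trivial, ⟨((Scheme.Modules.restrictFunctor (⊤ : X.Opens).ι).map_isZero h).iso (Euler.isZero_freeMod_zero _)⟩⟩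
    have h01 := (Euler.grank_of_locFree hE₁).symm.trans (Euler.grank_of_locFree h00)
    omega
  · have hQc := QCoh.isCoh_cokernel j hE₁c hEc
    have hgr : Euler.grank E = Euler.grank E₁ + Euler.grank (cokernel j) := Euler.grank_additive hS hEc
    have hQ0 : Euler.grank (cokernel j) = 0 := by
      have h00 : FlatMod.IsFinLocFreeOfRank 0 (cokernel j) := fun y =>
        ⟨⊤, trivial, ⟨((Scheme.Modules.restrictFunctor (⊤ : X.Opens).ι).map_isZero h).iso (Euler.isZero_freeMod_zero _)⟩⟩
      exact Euler.grank_of_locFree h00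
    haveI : Epi j := Preadditive.epi_of_isZero_cokernel j h
    haveI : IsIso j := isIso_of_mono_of_epi j
    rw [Euler.grank_of_locFree hE, Euler.grank_of_locFree hE₁, hQ0] at hgr
    obtain rfl : r = r₁ := hgr
    rw [← Euler.deg_of_iso k (asIso j) r]
    exact hle

end GrothLib.CurveMult
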