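import Groth.Agent.Lib.CurveMult.H1Bound
import Groth.Agent.Lib.CurveMult.Point
import Groth.Agent.Lib.CurveRR.Setup
import Groth.Agent.Lib.Snapper.TopDecomp
import Groth.Agent.Lib.Snapper.PushEuler
import Groth.Agent.Lib.BlowUp.UFD
import Groth.Agent.Lib.RegUFD.Basic
import Groth.Agent.Lib.Snapper.Positive
import Groth.Agent.Lib.Nakai.Integral
import Groth.Agent.Lib.Ample.Functorial
import Groth.Agent.Lib.IdealModSec.Basic
import Groth.Agent.Lib.Ample.Generation

/-!
# Lowering the number of sections of a non-special module by general points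
-/

universe u

set_option backward.isDefEq.respectTransparency false
set_option linter.all false

open CategoryTheory CategoryTheory.Limits AlgebraicGeometry TopologicalSpace Opposite
open GrothLib.QCoh (stalkLin)
open GrothLib.Euler (tF)

noncomputable section

namespace GrothLib.CurveMult

variable {X : Scheme.{u}} [IsIntegral X] (k : Type u) [Field k] [IsAlgClosed k]
  [X.Over (Spec (CommRingCat.of k))] [IsProper (X ↘ Spec (CommRingCat.of k))]

include k in
/-- Regular closed points are dense. -/
theorem exists_regular_mem (hdim : topologicalKrullDim X = 1) {W : X.Opens} (hW : genericPoint X ∈ W) :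
    ∃ x ∈ W, x ≠ genericPoint X ∧ IsClosed ({x} : Set X) ∧ IsRegularLocalRing (X.presheaf.stalk x) := by
  haveI := Euler.isNoetherian_of_proper (X := X) k
  let q := X ↘ Spec (CommRingCat.of k)
  haveI : JacobsonSpace X := LocallyOfFiniteType.jacobsonSpace q
  have hη := Scheme.Hom.genericPoint_mem_smoothLocus_of_perfectField q
  obtain ⟨x, hx, hxc⟩ := nonempty_inter_closedPoints (Z := ((q.smoothLocus ⊓ W : X.Opens) : Set X))
    ⟨_, hη, hW⟩ (q.smoothLocus ⊓ W).2.isLocallyClosed
  refine ⟨x, hx.2, fun h => CurvePoints.genericPoint_not_isClosed hdim (h ▸ hxc), hxc, ?_⟩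
  let U := q.smoothLocus
  haveI : Smooth (U.ι ≫ q) := by
    rw [← Scheme.Hom.smoothLocus_eq_top_iff, ← Scheme.Hom.preimage_smoothLocus_eq]
    exact eq_top_iff.2 fun y _ => y.2
  have hy : IsClosed ({(⟨x, hx.1⟩ : U)} : Set U) := by
    have : IsClosed (Subtype.val ⁻¹' ({x} : Set X) : Set U) := IsClosed.preimage continuous_subtype_val hxc
    convert this using 1
    ext y
    exact Subtype.ext_iff
  haveI hr := GrpSchField.isRegularLocalRing_stalk_of_smooth (U.ι ≫ q) hy
  exact IsRegularLocalRing.of_ringEquiv ((U.stalkIso ⟨x, hx.1⟩).commRingCatIsoToRingEquiv)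

include k in
/-- A non-special module with a section has an invertible submodule with one section less, still non-special. -/
theorem exists_drop (hdim : topologicalKrullDim X = 1) {L : X.Modules} (hL : PicF.IsInvertible L)
    (h1 : Subsingleton (Coh.HH X L 1)) (h0 : 0 < Module.finrank k (Coh.HH X L 0)) :
    ∃ L' : X.Modules, PicF.IsInvertible L' ∧ Subsingleton (Coh.HH X L' 1) ∧
      Module.finrank k (Coh.HH X L' 0) + 1 = Module.finrank k (Coh.HH X L 0) := by
  haveI := Euler.isNoetherian_of_proper (X := X) k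
  haveI : Nontrivial (Coh.HH X L 0) := Module.nontrivial_of_finrank_pos (R := k) h0
  obtain ⟨z, hz⟩ := exists_ne (0 : Coh.HH X L 0)
  let s := FinCov.homOfSection (ProjCoh.H0top L z)
  have hsval : s.app ⊤ (FinCov.one X ⊤) = ProjCoh.H0top L z :=
    (FinCov.homOfSection_one _ ⊤).trans (InvExt.mres_self L _)
  have hs0 : s ≠ 0 := fun h => hz ((ProjCoh.H0top L).injective (by rw [← hsval, h, map_zero]; rfl))
  obtain ⟨c, ⟨e⟩⟩ := Ample.exists_cocycle hL
  obtain ⟨a, ha⟩ := c.exists_hom_eq (s ≫ e.hom)
  have hne : (c.locus a : Set X).Nonempty := by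
    by_contra hne
    have ha0 : a = 0 := Subtype.ext (funext fun i =>
      Nakai.eq_zero_of_locus_eq_bot c a (Opens.ext (Set.not_nonempty_iff_eq_empty.1 hne)) i)
    refine hz ((ProjCoh.H0top L).injective ?_)
    rw [map_zero, ← hsval]
    have h1 : (s ≫ e.hom).app ⊤ (FinCov.one X ⊤) = 0 := by
      rw [← ha, ha0]
      have h2 := c.hom_app_one (0 : c.sect 1 ⊤) ⊤
      rw [map_zero] at h2
      exact h2
    have h3 := congrArg (e.inv.app ⊤) h1
    rw [map_zero] at h3
    rw [← h3]
    exact (congrArg (fun φ : L ⟶ L => φ.app ⊤ (s.app ⊤ (FinCov.one X ⊤))) e.hom_inv_id).symm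
  have hgl : c.locus a = CohB1.genLocus L s := by
    rw [← c.genLocus_hom a, ha, Ample.genLocus_comp_iso e s]
  obtain ⟨x, hxW, hxη, hxc, hreg⟩ := exists_regular_mem k hdim (genericPoint_mem hne)
  rw [hgl] at hxW
  haveI := hreg
  let I := Scheme.IdealSheafData.vanishingIdeal (⟨closure ({x} : Set X), isClosed_closure⟩ : Closeds X)
  haveI : IsIntegral I.subscheme := Snapper.isIntegral_pt x
  have hrange : Set.range I.subschemeι = {x} := by rw [Snapper.range_pt, hxc.closure_eq]
  have hgen : ∀ v : I.subscheme, I.subschemeι v = x := fun v => Set.eq_of_mem_singleton (hrange ▸ ⟨v, rfl⟩)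
  have hsupp : (I.support : Set X) = {x} := by rw [← Scheme.IdealSheafData.range_subschemeι, hrange]
  -- the ideal of the point is invertible
  have hIinv : PicF.IsInvertible (ClSub.idealMod I) := by
    refine IdealModSec.isInvertible_of_isEffCartier fun y => ?_
    by_cases hy : y = x
    · subst hy
      haveI : UniqueFactorizationMonoid (X.presheaf.stalk y) := RegUFD.ufd_of_isRegularLocalRing _
      obtain ⟨U, hyU, hU⟩ := BlowUp.exists_cartierOn_of_ufd I (fun v _ => by
        rw [hgen v]; exact CurvePoints.ringKrullDim_stalk hdim.le hxη) y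
      exact ⟨U, hyU, hU⟩
    · obtain ⟨U, hyU, hU⟩ := BlowUp.exists_affine_mem_le (W := (⟨{x}ᶜ, hxc.isOpen_compl⟩ : X.Opens)) hy
      refine ⟨U, hyU, 1, Submonoid.one_mem _, ?_⟩
      rw [Ideal.span_singleton_one]
      refine eq_top_iff.2 fun r _ => ?_
      show r ∈ PrimeSpectrum.vanishingIdeal (U.2.fromSpec ⁻¹' _)
      rw [PrimeSpectrum.mem_vanishingIdeal]
      intro v hv
      have h2 : U.2.fromSpec v ∈ U.1 := by rw [← SetLike.mem_coe, ← U.2.range_fromSpec]; exact ⟨v, rfl⟩
      exact absurd (show U.2.fromSpec v ∈ ({x} : Set X) from hxc.closure_eq ▸ hv) (hU h2)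
  -- the short exact sequence
  haveI := Euler.epi_toSubscheme I
  let S := ShortComplex.mk (ClSub.idealModι I) (ClSub.toSubscheme I) (kernel.condition _)
  haveI : Mono S.f := inferInstanceAs (Mono (kernel.ι (ClSub.toSubscheme I)))
  haveI : Epi S.g := Euler.epi_toSubscheme I
  have hS : S.ShortExact := { exact := ShortComplex.exact_of_f_is_kernel _ (kernelIsKernel _) }
  have hlf := FinCov.isFinLocFree_of_rank (Euler.isFinLocFreeOfRank_one' hL)
  have hT := OX.tensor_map_shortExact (OX.flat_of_isFinLocFree hlf) hS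
  have hO : Coh.IsCoh (Coh.structureModule X) := Euler.isCoh_of_isInvertible Euler.isInvertible_structure
  have hQ : Coh.IsCoh (ClSub.quotMod I) := QCoh.pushUnit_isCoh I.subschemeι
  have hsuppQ : CohB1.support (ClSub.quotMod I) ⊆ {x} := by
    rw [← hrange]; exact QCoh.support_pushforward_subset_range I.subschemeι _
  have hclQ : ∀ y ∈ CohB1.support (ClSub.quotMod I), IsClosed ({y} : Set X) := fun y hy => (hsuppQ hy : y = x) ▸ hxc
  -- one-dimensional skyscraper
  have hQ1 : Curv2.euler k X (ClSub.quotMod I) = 1 := by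
    letI : I.subscheme.Over (Spec (CommRingCat.of k)) := ⟨I.subschemeι ≫ X ↘ Spec (CommRingCat.of k)⟩
    haveI : IsProper (I.subscheme ↘ Spec (CommRingCat.of k)) :=
      inferInstanceAs (IsProper (I.subschemeι ≫ X ↘ Spec (CommRingCat.of k)))
    haveI : Subsingleton I.subscheme := ⟨fun v w => I.subschemeι.isClosedEmbedding.injective ((hgen v).trans (hgen w).symm)⟩
    have hOq : Coh.IsCoh (Coh.structureModule I.subscheme) := Euler.isCoh_of_isInvertible Euler.isInvertible_structure
    haveI := hOq.1
    show Curv2.euler k X ((Scheme.Modules.pushforward I.subschemeι).obj (Coh.structureModule I.subscheme)) = 1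
    rw [Snapper.euler_pushforward I.subschemeι rfl (Coh.structureModule I.subscheme),
      Euler.euler_eq_of_finite_support k _ (Set.toFinite _) (fun v _ => by
        rw [show ({v} : Set I.subscheme) = Set.univ from Set.eq_univ_of_forall fun w => Subsingleton.elim w v]
        exact isClosed_univ),
      CurveRR.finrank_H0_structure_eq_one k, Nat.cast_one]
  -- tensor with `L`
  let L' := (tF L).obj (ClSub.idealMod I)
  have hL' : PicF.IsInvertible L' := Ample.isInvertible_tensorMod hIinv hL
  have hQL : Coh.IsCoh ((tF L).obj (ClSub.quotMod I)) := Euler.isCoh_tF hQ hlf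
  let eL : (tF L).obj (Coh.structureModule X) ≅ L := OX.tensorUnitLeftIso L
  have hadd := Euler.euler_additive k hT (Euler.isCoh_tF (QCoh.isCoh_kernel (ClSub.toSubscheme I) hO hQ) hlf)
    (Euler.isCoh_tF hO hlf) hQL
  simp only [ShortComplex.map_X₁, ShortComplex.map_X₂, ShortComplex.map_X₃, S] at hadd
  have e3 := Euler.euler_tF_of_finite_support k (Euler.isFinLocFreeOfRank_one' hL) hQ
    ((Set.finite_singleton x).subset hsuppQ) hclQ
  rw [hQ1, Nat.cast_one, one_mul] at e3
  rw [Euler.euler_of_iso k eL, e3] at hadd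
  -- the map on sections is not zero
  let π : L ⟶ (tF L).obj (ClSub.quotMod I) := eL.inv ≫ (tF L).map (ClSub.toSubscheme I)
  haveI : Epi ((tF L).map (ClSub.toSubscheme I)) := hT.epi_g
  haveI : Epi π := epi_comp _ _
  have hsuppQL : CohB1.support ((tF L).obj (ClSub.quotMod I)) ⊆ {x} :=
    (Euler.support_tF_subset (Euler.isFinLocFreeOfRank_one' hL)).trans hsuppQ
  have hclQL : ∀ y ∈ CohB1.support ((tF L).obj (ClSub.quotMod I)), IsClosed ({y} : Set X) :=
    fun y hy => (hsuppQL hy : y = x) ▸ hxc
  have hQL0 : Module.finrank k (Coh.HH X ((tF L).obj (ClSub.quotMod I)) 0) = 1 := by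
    have := Euler.euler_eq_of_finite_support k _ ((Set.finite_singleton x).subset hsuppQL) hclQL
    rw [e3] at this
    exact_mod_cast this.symm
  have himg : Cohom.hhMap k π 0 z ≠ 0 := by
    intro h
    have h1 : π.app ⊤ (ProjCoh.H0top L z) = 0 := by
      have h2 : ProjCoh.H0top ((tF L).obj (ClSub.quotMod I)) (Cohom.hhMap k π 0 z) = π.app ⊤ (ProjCoh.H0top L z) :=
        ProjCoh.H0top_map _ z
      rw [← h2, h, map_zero]
    have hzero : ∀ v : L.presheaf.stalk x, stalkLin π x v = 0 := by
      intro v
      obtain ⟨w, rfl⟩ := (Snapper.stalk_bijective_of_mem_genLocus s hxW).2 v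
      obtain ⟨U, hU, r, rfl⟩ := TopCat.Presheaf.exists_germ_eq (Coh.structureModule X).presheaf w
      rw [QCoh.stalkLin_germ, QCoh.stalkLin_germ]
      have h2 : r = (show Γ(X, U) from r) • InvExt.mres (Coh.structureModule X) (le_top : U ≤ ⊤) (FinCov.one X ⊤) := by
        show r = (show Γ(X, U) from r) * (X.presheaf.map (homOfLE (le_top : U ≤ ⊤)).op).hom 1
        rw [map_one, mul_one]
      rw [h2, Ample.app_smul, Ample.app_smul, Ample.app_mres, Ample.app_mres, hsval, h1]
      rw [show InvExt.mres ((tF L).obj (ClSub.quotMod I)) (le_top : U ≤ ⊤) 0 = 0 from map_zero _, smul_zero, map_zero]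
    haveI : Subsingleton (Coh.HH X ((tF L).obj (ClSub.quotMod I)) 0) := subsingleton_of_forall_eq 0 fun w =>
      (ProjCoh.H0top _).injective ((Euler.bijective_germs _ ((Set.finite_singleton x).subset hsuppQL) hclQL).1
        (funext fun y => by
          obtain ⟨y, hy⟩ := y
          obtain rfl : y = x := hsuppQL hy
          haveI : Subsingleton (((tF L).obj (ClSub.quotMod I)).presheaf.stalk y) :=
            subsingleton_of_forall_eq 0 fun v => by
              obtain ⟨v', rfl⟩ := QCoh.stalkLin_surjective π y v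
              exact hzero v'
          exact Subsingleton.elim _ _))
    rw [Module.finrank_zero_of_subsingleton] at hQL0
    omega
  have hsurj : Function.Surjective (Cohom.hhMap k π 0) := by
    intro w
    obtain ⟨a, ha⟩ := exists_smul_eq_of_finrank_eq_one hQL0 himg w
    exact ⟨a • z, by rw [map_smul, ha]⟩
  let T : ShortComplex X.Modules := ShortComplex.mk ((tF L).map (ClSub.idealModι I) ≫ eL.hom) π (by
    simp only [π, Category.assoc, Iso.hom_inv_id_assoc]
    exact (S.map (tF L)).zero)
  have hTT : T.ShortExact := ShortComplex.shortExact_of_iso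
    (ShortComplex.isoMk (S₁ := S.map (tF L)) (S₂ := T) (Iso.refl _) eL (Iso.refl _) (by simp [T, S]) (by simp [T, π, S])) hT
  have hL'1 : Subsingleton (Coh.HH X L' 1) := subsingleton_of_forall_eq 0 fun w => by
    obtain ⟨y, rfl⟩ := (Cohom.exact₁ (A := k) hTT 0 w).1 (@Subsingleton.elim _ h1 _ _)
    obtain ⟨y', rfl⟩ := hsurj y
    exact (Cohom.exact₃ (A := k) hTT 0 _).2 ⟨y', rfl⟩
  refine ⟨L', hL', hL'1, ?_⟩
  haveI := (Euler.isCoh_of_isInvertible hL).1
  haveI := (Euler.isCoh_of_isInvertible hL').1
  have e1 := Euler.euler_eq_sub k hdim.le L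
  have e2 := Euler.euler_eq_sub k hdim.le L'
  rw [Module.finrank_zero_of_subsingleton (R := k) (M := Coh.HH X L 1)] at e1
  rw [Module.finrank_zero_of_subsingleton (R := k) (M := Coh.HH X L' 1)] at e2
  change Curv2.euler k X L = Curv2.euler k X L' + 1 at hadd
  omega

end GrothLib.CurveMult
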