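import Groth.Agent.Lib.CurveMult.GenusZero
import Groth.Agent.Lib.CurveMult.H1Bound
import Groth.Agent.Lib.CurveMult.Drop
import Groth.Agent.Lib.CurveMult.PointQuot
import Groth.Agent.Lib.CurveMult.DegHom
import Groth.Agent.Lib.HodgeIndex.IdealMul
import Groth.Agent.Lib.HodgeIndex.IdealLe
import Groth.Agent.Lib.ArSurf29.Inter
import Groth.Agent.Lib.Nagata6.Comp
import Groth.Agent.Lib.Euler.Divisor

/-!
# Multiples of a regular rational point on an integral curve
-/

set_option linter.style.haveILetI false
set_option backward.isDefEq.respectTransparency false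

universe u

open CategoryTheory CategoryTheory.Limits AlgebraicGeometry TopologicalSpace Opposite

noncomputable section

namespace GrothLib.CurveMult

variable {X : Scheme.{u}} (k : Type u) [Field k] [X.Over (Spec (CommRingCat.of k))]
  [IsIntegral X] [IsProper (X ↘ Spec (CommRingCat.of k))]

include k in
/-- A regular closed point of a curve is a Cartier divisor. -/
theorem isEffCartierIdeal_point (hdim : topologicalKrullDim X = 1) {x : X} (hxc : IsClosed ({x} : Set X))
    (hreg : IsRegularLocalRing (X.presheaf.stalk x)) :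
    _root_.BlowUp.IsEffCartierIdeal (Scheme.IdealSheafData.vanishingIdeal (⟨{x}, hxc⟩ : Closeds X)) := by
  haveI := Euler.isNoetherian_of_proper (X := X) k
  have hxη : x ≠ genericPoint X := (CurvePoints.isClosed_singleton_iff hdim).1 hxc
  let I := Scheme.IdealSheafData.vanishingIdeal (⟨closure ({x} : Set X), isClosed_closure⟩ : Closeds X)
  have hI : Scheme.IdealSheafData.vanishingIdeal (⟨{x}, hxc⟩ : Closeds X) = I := by
    simp only [I, hxc.closure_eq]
  rw [hI]
  haveI := hreg
  haveI : IsIntegral I.subscheme := Snapper.isIntegral_pt x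
  have hrange : Set.range I.subschemeι = {x} := by rw [Snapper.range_pt, hxc.closure_eq]
  have hgen : ∀ v : I.subscheme, I.subschemeι v = x := fun v => Set.eq_of_mem_singleton (hrange ▸ ⟨v, rfl⟩)
  intro y
  by_cases hy : y = x
  · subst hy
    haveI : UniqueFactorizationMonoid (X.presheaf.stalk y) := RegUFD.ufd_of_isRegularLocalRing _
    obtain ⟨U, hyU, hU⟩ := BlowUp.exists_cartierOn_of_ufd I (fun v _ => by
      rw [hgen v]; exact CurvePoints.ringKrullDim_stalk hdim.le hxη) y
    exact ⟨U, hyU, hU⟩
  · obtain ⟨U, hyU, hU⟩ := BlowUp.exists_affine_mem_le (W := (⟨{x}ᶜ, hxc.isOpen_compl⟩ : X.Opens)) hy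
    refine ⟨U, hyU, 1, Submonoid.one_mem _, ?_⟩
    rw [Ideal.span_singleton_one]
    refine eq_top_iff.2 fun r _ => ?_
    show r ∈ PrimeSpectrum.vanishingIdeal (U.2.fromSpec ⁻¹' _)
    rw [PrimeSpectrum.mem_vanishingIdeal]
    intro v hv
    have h2 : U.2.fromSpec v ∈ U.1 := by rw [← SetLike.mem_coe, ← U.2.range_fromSpec]; exact ⟨v, rfl⟩
    exact absurd (show U.2.fromSpec v ∈ ({x} : Set X) from hxc.closure_eq ▸ hv) (hU h2)

omit [IsIntegral X] [IsProper (X ↘ Spec (CommRingCat.of k))] in
include k in
/-- The structure module of a rational point has one section. -/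
theorem finrank_H0_quotMod_rational {x : X} (hxc : IsClosed ({x} : Set X))
    (hrat : Function.Surjective (Curv2.resMap k X x)) :
    Module.finrank k (Coh.HH X (ClSub.quotMod (Scheme.IdealSheafData.vanishingIdeal (⟨{x}, hxc⟩ : Closeds X))) 0) = 1 := by
  rw [← ker_fromSpecResidueField hxc, finrank_H0_quotMod_point k hxc]
  letI := Curv2.resAlgebra k X x
  exact ((LinearEquiv.ofBijective (Algebra.linearMap k (X.residueField x))
    ⟨(Curv2.resMap k X x).injective, hrat⟩).finrank_eq.symm.trans (Module.finrank_self k))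

include k in
/-- The degree of the ideal of a Cartier divisor. -/
theorem deg_idealMod (hd : topologicalKrullDim X ≤ 1) {D : X.IdealSheafData}
    (hD : _root_.BlowUp.IsEffCartierIdeal D) :
    Curv2.deg k X (ClSub.idealMod D) 1 = - (Module.finrank k (Coh.HH X (ClSub.quotMod D) 0) : ℤ) := by
  haveI := Euler.isNoetherian_of_proper (X := X) k
  obtain ⟨hfin, hcl⟩ := Euler.divisor_finite_closed k hd hD
  haveI := Euler.epi_toSubscheme D
  let S := ShortComplex.mk (ClSub.idealModι D) (ClSub.toSubscheme D) (kernel.condition _)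
  haveI : Mono S.f := inferInstanceAs (Mono (kernel.ι (ClSub.toSubscheme D)))
  haveI : Epi S.g := Euler.epi_toSubscheme D
  have hS : S.ShortExact := { exact := ShortComplex.exact_of_f_is_kernel _ (kernelIsKernel _) }
  have hI : Coh.IsCoh (ClSub.idealMod D) :=
    Euler.isCoh_of_isInvertible (IdealModSec.isInvertible_of_isEffCartier hD)
  have hQ : Coh.IsCoh (ClSub.quotMod D) := QCoh.pushUnit_isCoh D.subschemeι
  have hsupp : CohB1.support (ClSub.quotMod D) ⊆ (D.support : Set X) := by
    rw [← D.range_subschemeι]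
    exact QCoh.support_pushforward_subset_range D.subschemeι _
  have h2 := Euler.euler_additive k hS hI (Euler.isCoh_of_isInvertible Euler.isInvertible_structure) hQ
  have e4 := Euler.euler_eq_of_finite_support k (ClSub.quotMod D) (hfin.subset hsupp) (fun x hx => hcl x (hsupp hx))
  change Curv2.euler k X (Coh.structureModule X) = Curv2.euler k X (ClSub.idealMod D) + _ at h2
  rw [Curv2.deg]
  push_cast
  linear_combination -h2 + (-(e4))

include k in
/-- The degree of the ideal of a multiple of a Cartier divisor. -/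
theorem deg_idealMod_pow (hd : topologicalKrullDim X ≤ 1) {D : X.IdealSheafData}
    (hD : _root_.BlowUp.IsEffCartierIdeal D) : ∀ n : ℕ,
    Curv2.deg k X (ClSub.idealMod (D ^ n)) 1 = n * Curv2.deg k X (ClSub.idealMod D) 1
  | 0 => by
    have h : PicF.IsInvertible (ClSub.idealMod (⊤ : X.IdealSheafData)) :=
      IdealModSec.isInvertible_of_isEffCartier GrothLib.BlowUp.isEffCartierIdeal_top
    obtain ⟨e⟩ := (Cube.clsMod_eq_one_iff h).1 (HodgeIndex.cls_idealMod_top h)
    rw [pow_zero, Scheme.IdealSheafData.one_eq_top, Euler.deg_of_iso k e, Curv2.deg]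
    simp
  | n + 1 => by
    have hn := Nagata6.isEffCartierIdeal_pow hD n
    have h1 : PicF.IsInvertible (ClSub.idealMod (D ^ n * D)) :=
      IdealModSec.isInvertible_of_isEffCartier (GrothLib.BlowUp.isEffCartierIdeal_mul hn hD)
    have hn' := IdealModSec.isInvertible_of_isEffCartier hn
    have hD' := IdealModSec.isInvertible_of_isEffCartier hD
    obtain ⟨e⟩ := (Cube.clsMod_eq_iff h1 (Ample.isInvertible_tensorMod hn' hD')).1
      ((HodgeIndex.cls_idealMod_mul h1 hn' hD').trans (Cube.clsMod_tensorMod hn' hD').symm)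
    rw [pow_succ, Euler.deg_of_iso k e, deg_tensorMod k hd hn' hD', deg_idealMod_pow hd hD n]
    push_cast
    ring

include k in
/-- On a curve of arithmetic genus one: multiples of a regular rational point. -/
theorem genus_one_multiple_point (hdim : topologicalKrullDim X = 1)
    (hpa : Curv2.euler k X (Coh.structureModule X) = 0) {p : X} (hp : IsClosed ({p} : Set X))
    (hrat : Function.Surjective (Curv2.resMap k X p)) (hreg : IsRegularLocalRing (X.presheaf.stalk p))
    (n : ℕ) (L : X.Modules)
    (hL : ClSub.IsInverseOf L (ClSub.idealMod ((Scheme.IdealSheafData.vanishingIdeal ⟨{p}, hp⟩) ^ n))) :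
    Module.finrank k (Coh.HH X (Coh.structureModule X) 0) = 1 ∧
      Module.finrank k (Coh.HH X (Coh.structureModule X) 1) = 1 ∧
      (n = 1 → Module.finrank k (Coh.HH X L 0) = 1) ∧
      (2 ≤ n → Module.finrank k (Coh.HH X L 0) = n) ∧
      (1 ≤ n → Subsingleton (Coh.HH X L 1)) ∧
      (2 ≤ n → Curv2.IsGloballyGenerated L) := by
  haveI := Euler.isNoetherian_of_proper (X := X) k
  have hd := hdim.le
  have hI := isEffCartierIdeal_point k hdim hp hreg
  have hq := finrank_H0_quotMod_rational k hp hrat
  have h0 : Module.finrank k (Coh.HH X (Coh.structureModule X) 0) = 1 :=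
    Nat.dvd_one.1 (hq ▸ finrank_H0_structure_dvd k _)
  have hes := Euler.euler_structure (X := X) k hd
  rw [hpa, h0] at hes
  have hg : Curv2.genus k X = 1 := by omega
  have hn := IdealModSec.isInvertible_of_isEffCartier (Nagata6.isEffCartierIdeal_pow hI n)
  have hLi : PicF.IsInvertible L := ArSurf29.isInvertible_of_isInverseOf (Nagata6.isEffCartierIdeal_pow hI n) hL
  have hdeg : Curv2.deg k X L 1 = n := by
    obtain ⟨e⟩ := hL
    have h1 := deg_tensorMod k hd hLi hn
    rw [Euler.deg_of_iso k e, deg_idealMod_pow k hd hI n, deg_idealMod k hd hI, hq, Curv2.deg] at h1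
    push_cast at h1
    omega
  have hchi : Curv2.euler k X L = n := by
    rw [Curv2.deg, hpa] at hdeg
    simpa using hdeg
  have hLc := Euler.isCoh_of_isInvertible hLi
  haveI := hLc.1
  have hLe := Euler.euler_eq_sub k hd L
  have h1 : 1 ≤ n → Subsingleton (Coh.HH X L 1) := fun hn1 => by
    rcases subsingleton_or_nontrivial (Coh.HH X L 1) with h | h
    · exact h
    exfalso
    have hb := finrank_H0_le_genus k hd (𝟙 L) hLi hLc h
    haveI := Euler.finiteDimensional_HH k hLc 1
    have hpos : 0 < Module.finrank k (Coh.HH X L 1) := Module.finrank_pos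
    omega
  have h2 : 1 ≤ n → Module.finrank k (Coh.HH X L 0) = n := fun hn1 => by
    haveI := h1 hn1
    rw [Module.finrank_zero_of_subsingleton (M := Coh.HH X L 1)] at hLe
    omega
  refine ⟨h0, hg, fun h => (h2 (by omega)).trans h, fun h => h2 (by omega), h1, fun h => ?_⟩
  exact isGloballyGenerated_of_deg_ge k hd hLi (by rw [hg, hchi]; omega)

end GrothLib.CurveMult
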