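import Groth.Agent.Lib.HypSurf.IdealSeq
import Groth.Agent.Lib.CMReg.Sequences
import Groth.Agent.Lib.ProjFormula.Iso
import Groth.Agent.Lib.ProjCohom.Corollaries
import Groth.Agent.Lib.Snapper.PushEuler
import Groth.Agent.Lib.Chow.Prod
import Groth.Agent.Lib.RelProjK.Local

/-!
# The cohomology of a plane curve and of its twists
-/

set_option linter.style.haveILetI false
set_option backward.isDefEq.respectTransparency false

universe u

open CategoryTheory CategoryTheory.Limits AlgebraicGeometry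
open GrothLib.Cohom (hhMap hhDelta)

noncomputable section

namespace GrothLib.CurveMult.PlaneCohom

variable {k : Type u} [Field k]

theorem finrank_X₃_zero {P : Scheme.{u}} [P.Over (Spec (CommRingCat.of k))] {S : ShortComplex P.Modules}
    (hS : S.ShortExact) (h1 : Subsingleton (Coh.HH P S.X₁ 1)) (h0 : Subsingleton (Coh.HH P S.X₁ 0)) :
    Module.finrank k (Coh.HH P S.X₃ 0) = Module.finrank k (Coh.HH P S.X₂ 0) := by
  refine (LinearEquiv.ofBijective (hhMap k S.g 0) ⟨(injective_iff_map_eq_zero _).2 fun x hx => ?_, fun y =>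
    (Cohom.exact₃ (A := k) hS 0 y).1 (Subsingleton.elim _ _)⟩).finrank_eq.symm
  obtain ⟨y, rfl⟩ := (Cohom.exact₂ (A := k) hS 0 x).1 hx
  rw [Subsingleton.elim y 0, map_zero]

theorem finrank_X₃_one {P : Scheme.{u}} [P.Over (Spec (CommRingCat.of k))] {S : ShortComplex P.Modules}
    (hS : S.ShortExact) (h1 : Subsingleton (Coh.HH P S.X₂ 1)) (h2 : Subsingleton (Coh.HH P S.X₂ 2)) :
    Module.finrank k (Coh.HH P S.X₃ 1) = Module.finrank k (Coh.HH P S.X₁ 2) := by
  refine (LinearEquiv.ofBijective (hhDelta k hS 1) ⟨(injective_iff_map_eq_zero _).2 fun x hx => ?_, fun y =>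
    (Cohom.exact₁ (A := k) hS 1 y).1 (Subsingleton.elim _ _)⟩).finrank_eq
  obtain ⟨y, rfl⟩ := (Cohom.exact₃ (A := k) hS 1 x).1 hx
  rw [Subsingleton.elim y 0, map_zero]

theorem subsingleton_of_iso {P : Scheme.{u}} [P.Over (Spec (CommRingCat.of k))] {A B : P.Modules} (e : A ≅ B)
    (q : ℕ) (h : Subsingleton (Coh.HH P B q)) : Subsingleton (Coh.HH P A q) :=
  (Euler.hhEquiv (A := k) e q).toEquiv.subsingleton

theorem finrank_top (a : ℤ) (j : ℕ) (ha : a = -((3 : ℤ) + j)) :
    Module.finrank k (Coh.HH (CohB1.ProjSpace 2 k) (Twist.twistProjSpace 2 k a) 2) = (2 + j).choose j := by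
  obtain ⟨e⟩ := ProjCohom.nonempty_HH_top (n := 2) (R := k) j
  rw [ha, show -((3 : ℤ) + j) = -(((2 : ℕ) : ℤ) + 1 + j) by push_cast; ring, e.finrank_eq, ProjCohom.finrank_forms]

variable {d : ℕ} (G : LefPen.Form 2 k d)
  [((LefPen.hypIdeal G).subscheme).Over (Spec (CommRingCat.of k))]
  (hinst : (LefPen.hypIdeal G).subscheme ↘ (Spec (CommRingCat.of k)) =
    (LefPen.hypIdeal G).subschemeι ≫ CohB1.ProjSpace.toSpec 2 k)

include hinst

/-- The twists of a plane curve: `h⁰` and `h¹` from those of the plane. -/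
theorem exists_twist_data (hG : G ≠ 0) (t : ℤ) :
    (t - d < 0 →
      Module.finrank k (Coh.HH (LefPen.hypIdeal G).subscheme
        ((Scheme.Modules.pullback (LefPen.hypIdeal G).subschemeι).obj (Twist.twistProjSpace 2 k t)) 0) =
        Module.finrank k (Coh.HH (CohB1.ProjSpace 2 k) (Twist.twistProjSpace 2 k t) 0)) ∧
    (-3 < t →
      Module.finrank k (Coh.HH (LefPen.hypIdeal G).subscheme
        ((Scheme.Modules.pullback (LefPen.hypIdeal G).subschemeι).obj (Twist.twistProjSpace 2 k t)) 1) =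
        Module.finrank k (Coh.HH (CohB1.ProjSpace 2 k) (Twist.twistProjSpace 2 k (t - d)) 2)) := by
  let P := CohB1.ProjSpace 2 k
  let j := (LefPen.hypIdeal G).subschemeι
  obtain ⟨ι, w, hS⟩ := HypSurf.exists_idealSeq G hG
  have hS' := CMReg.ft_shortExact (n := 2) (k := k) hS t
  let O := Twist.twistProjSpace 2 k t
  obtain ⟨e1⟩ := GrTilde.nonempty_twist_tensor_twist (𝒜 := CohB1.polyGrading 2 k) CMReg.h1 (-(d : ℤ)) t
  let e1' : CohB1.tensorMod (Twist.twistProjSpace 2 k (-(d : ℤ))) O ≅ Twist.twistProjSpace 2 k (t - d) :=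
    e1 ≪≫ eqToIso (by rw [show -(d : ℤ) + t = t - d by ring]; rfl)
  let e2 : CohB1.tensorMod (Coh.structureModule P) O ≅ O := OX.tensorUnitLeftIso O
  let M := (Scheme.Modules.pullback j).obj O
  haveI := ProjFormula.isIso_projHom j (Euler.isFinLocFree_of_isInvertible (CMReg.isInvertible_twist (n := 2) (k := k) t))
    (Coh.structureModule (LefPen.hypIdeal G).subscheme)
  let e3 : CohB1.tensorMod ((Scheme.Modules.pushforward j).obj (Coh.structureModule (LefPen.hypIdeal G).subscheme)) O ≅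
      (Scheme.Modules.pushforward j).obj M :=
    GrTilde.tensorModComm _ _ ≪≫ asIso (ProjFormula.projHom j O (Coh.structureModule (LefPen.hypIdeal G).subscheme)) ≪≫
      (Scheme.Modules.pushforward j).mapIso (GrTilde.tensorModComm _ _ ≪≫ OX.tensorUnitLeftIso M)
  have hMinv : PicF.IsInvertible M := RelProjK.isInvertible_pullback j (CMReg.isInvertible_twist (n := 2) (k := k) t)
  haveI : M.IsQuasicoherent := InvExt.isQuasicoherent_of_isInvertible hMinv
  have push : ∀ q, Module.finrank k (Coh.HH (LefPen.hypIdeal G).subscheme M q) =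
      Module.finrank k (Coh.HH P (CohB1.tensorMod ((Scheme.Modules.pushforward j).obj (Coh.structureModule (LefPen.hypIdeal G).subscheme)) O) q) :=
    fun q => by
      obtain ⟨e⟩ := Snapper.nonempty_HH_linearEquiv_pushforward (A := k) j hinst.symm M q
      exact e.finrank_eq.trans (Euler.hhEquiv (A := k) e3 q).finrank_eq.symm
  have hvan : ∀ (s : ℤ) (q : ℕ), ¬ (q = 0 ∧ 0 ≤ s) → ¬ (q = 2 ∧ s ≤ -3) →
      Subsingleton (Coh.HH P (Twist.twistProjSpace 2 k s) q) := fun s q h h' =>
    ProjCohom.subsingleton_HH (n := 2) (R := k) (d := s) (q := q) h (fun h'' => h' ⟨h''.1, by omega⟩)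
  refine ⟨fun ht => ?_, fun ht => ?_⟩
  · refine (push 0).trans ((finrank_X₃_zero hS' ?_ ?_).trans (Euler.hhEquiv (A := k) e2 0).finrank_eq)
    · exact subsingleton_of_iso (k := k) e1' 1 (hvan _ 1 (by omega) (by omega))
    · exact subsingleton_of_iso (k := k) e1' 0 (hvan _ 0 (by omega) (by omega))
  · refine (push 1).trans ((finrank_X₃_one hS' ?_ ?_).trans (Euler.hhEquiv (A := k) e1' 2).finrank_eq)
    · exact subsingleton_of_iso (k := k) e2 1 (hvan _ 1 (by omega) (by omega))
    · exact subsingleton_of_iso (k := k) e2 2 (hvan _ 2 (by omega) (by omega))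

/-- A plane curve has constant functions and genus `(d-1)(d-2)/2`. -/
theorem finrank_structure (hd : 1 ≤ d) (hG : G ≠ 0) :
    Module.finrank k (Coh.HH (LefPen.hypIdeal G).subscheme (Coh.structureModule (LefPen.hypIdeal G).subscheme) 0) = 1 ∧
      Module.finrank k (Coh.HH (LefPen.hypIdeal G).subscheme (Coh.structureModule (LefPen.hypIdeal G).subscheme) 1) =
        (d - 1) * (d - 2) / 2 := by
  obtain ⟨h0, h1⟩ := exists_twist_data G hinst hG 0
  obtain ⟨e0⟩ := GrTilde.nonempty_structureModule_iso_twist_zero (CohB1.polyGrading 2 k)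
  let j := (LefPen.hypIdeal G).subschemeι
  let e : Coh.structureModule (LefPen.hypIdeal G).subscheme ≅ (Scheme.Modules.pullback j).obj (Twist.twistProjSpace 2 k 0) :=
    (OX.pullUnitIso j).symm ≪≫ (Scheme.Modules.pullback j).mapIso e0
  rw [(Euler.hhEquiv (A := k) e 0).finrank_eq, (Euler.hhEquiv (A := k) e 1).finrank_eq, h0 (by omega), h1 (by omega)]
  refine ⟨?_, ?_⟩
  · obtain ⟨e'⟩ := ProjCohom.nonempty_HH_zero (n := 2) (R := k) 0
    refine e'.finrank_eq.trans ?_
    rw [ProjCohom.finrank_forms]; rfl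
  · rcases Nat.lt_or_ge d 3 with h3 | h3
    · haveI := ProjCohom.subsingleton_HH (n := 2) (R := k) (d := 0 - (d : ℤ)) (q := 2) (by omega) (by push_cast; omega)
      rw [Module.finrank_zero_of_subsingleton]
      interval_cases d <;> rfl
    · obtain ⟨m, rfl⟩ : ∃ m, d = 3 + m := ⟨d - 3, by omega⟩
      rw [finrank_top _ m (by push_cast; ring), ← Nat.choose_symm_add, Nat.choose_two_right]
      rw [show 3 + m - 1 = 2 + m by omega, show 3 + m - 2 = 2 + m - 1 by omega]

/-- From degree four on the hyperplane system is special. -/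
theorem nontrivial_H1_one (hd : 4 ≤ d) (hG : G ≠ 0) :
    Nontrivial (Coh.HH (LefPen.hypIdeal G).subscheme
      ((Scheme.Modules.pullback (LefPen.hypIdeal G).subschemeι).obj (Twist.twistProjSpace 2 k 1)) 1) := by
  obtain ⟨m, hm⟩ : ∃ m, d = 4 + m := ⟨d - 4, by omega⟩
  obtain ⟨-, h1⟩ := exists_twist_data G hinst hG 1
  refine Module.nontrivial_of_finrank_pos (R := k) ?_
  rw [h1 (by omega), finrank_top _ m (by subst hm; push_cast; ring)]
  exact Nat.choose_pos (by omega)

/-- The lines cut a three-dimensional system. -/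
theorem finrank_H0_one (hd : 2 ≤ d) (hG : G ≠ 0) :
    Module.finrank k (Coh.HH (LefPen.hypIdeal G).subscheme
      ((Scheme.Modules.pullback (LefPen.hypIdeal G).subschemeι).obj (Twist.twistProjSpace 2 k 1)) 0) = 3 ∧
    Module.finrank k (Coh.HH (LefPen.hypIdeal G).subscheme
      ((Scheme.Modules.pullback (LefPen.hypIdeal G).subschemeι).obj (Twist.twistProjSpace 2 k 1)) 1) = (d - 2).choose 2 := by
  obtain ⟨h0, h1⟩ := exists_twist_data G hinst hG 1
  refine ⟨?_, ?_⟩
  · obtain ⟨e'⟩ := ProjCohom.nonempty_HH_zero (n := 2) (R := k) 1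
    rw [h0 (by omega)]
    refine e'.finrank_eq.trans ?_
    rw [ProjCohom.finrank_forms]; rfl
  · rw [h1 (by omega)]
    rcases Nat.lt_or_ge d 4 with h4 | h4
    · haveI := ProjCohom.subsingleton_HH (n := 2) (R := k) (d := 1 - (d : ℤ)) (q := 2) (by omega) (by push_cast; omega)
      rw [Module.finrank_zero_of_subsingleton, Nat.choose_eq_zero_of_lt (by omega)]
    · obtain ⟨m, rfl⟩ : ∃ m, d = 4 + m := ⟨d - 4, by omega⟩
      rw [finrank_top _ m (by push_cast; ring), show 4 + m - 2 = 2 + m by omega, Nat.choose_symm_add]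

end GrothLib.CurveMult.PlaneCohom
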