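import Groth.Agent.Lib.CurveMult.Hurwitz
import Groth.Agent.Lib.DVRDom.Extend
import Mathlib.AlgebraicGeometry.Birational.RationalMap

/-!
# Morphisms of curves from maps of function fields

A `k`-embedding of function fields is induced by a unique morphism from a regular curve to a proper
one, an isomorphism when the embedding is bijective.
-/

set_option autoImplicit false
set_option linter.style.haveILetI false
set_option linter.unusedSectionVars false

universe u

open CategoryTheory CategoryTheory.Limits AlgebraicGeometry IsLocalRing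

noncomputable section

namespace GrothLib.CurveMult.FFHom

open GrothLib GrothLib.CurveRR

variable {X Y : Scheme.{u}}

instance isDominant_fromSpecStalk_genericPoint [IsIntegral X] : IsDominant (X.fromSpecStalk (genericPoint X)) :=
  ⟨Dense.mono (by
    rintro z rfl
    exact ⟨closedPoint _, Scheme.fromSpecStalk_closedPoint⟩)
    (dense_iff_closure_eq.2 (genericPoint_spec X).def)⟩

/-- Morphisms to a separated scheme agreeing at the generic point agree. -/
theorem hom_ext [IsIntegral X] {S : Scheme.{u}} (q : Y ⟶ S) [IsSeparated q] {f g : X ⟶ Y}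
    (hfg : f ≫ q = g ≫ q)
    (h : X.fromSpecStalk (genericPoint X) ≫ f = X.fromSpecStalk (genericPoint X) ≫ g) : f = g :=
  ext_of_isDominant_of_isSeparated q hfg (X.fromSpecStalk (genericPoint X)) h

variable [IsIntegral X] [IsIntegral Y]

theorem fromSpecStalk_comp_eq {f : X ⟶ Y} (e : f (genericPoint X) = genericPoint Y) :
    X.fromSpecStalk (genericPoint X) ≫ f =
      Spec.map (CommRingCat.ofHom (Hurwitz.ψ e)) ≫ Y.fromSpecStalk (genericPoint Y) := by
  rw [← Scheme.SpecMap_stalkMap_fromSpecStalk,
    ← Scheme.SpecMap_stalkSpecializes_fromSpecStalk (specializes_of_eq e), ← Category.assoc, ← Spec.map_comp]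
  rfl

theorem eq_of_fromSpecStalk_comp {f : X ⟶ Y} {φ : Y.functionField →+* X.functionField}
    (h : X.fromSpecStalk (genericPoint X) ≫ f =
      Spec.map (CommRingCat.ofHom φ) ≫ Y.fromSpecStalk (genericPoint Y)) :
    ∃ e : f (genericPoint X) = genericPoint Y, Hurwitz.ψ e = φ := by
  have hF : IsField Y.functionField := Field.toIsField _
  haveI : Subsingleton ↥(Spec Y.functionField) := inferInstanceAs (Subsingleton (PrimeSpectrum Y.functionField))
  have h1 := congrArg (fun j => j (closedPoint X.functionField)) h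
  simp only [Scheme.Hom.comp_apply, Scheme.fromSpecStalk_closedPoint] at h1
  rw [Subsingleton.elim ((Spec.map (CommRingCat.ofHom φ)) (closedPoint X.functionField)) (closedPoint _),
    Scheme.fromSpecStalk_closedPoint] at h1
  refine ⟨h1, ?_⟩
  have h2 := (fromSpecStalk_comp_eq h1).symm.trans h
  exact congrArg CommRingCat.Hom.hom (Spec.map_injective ((cancel_mono _).1 h2))

variable (k : Type u) [Field k] [RegCurve X] [X.Over (Spec (CommRingCat.of k))] [Y.Over (Spec (CommRingCat.of k))]

/-- A `k`-map of function fields comes from a morphism. -/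
theorem exists_hom [IsLocallyNoetherian X] [IsProper (Y ↘ Spec (CommRingCat.of k))]
    (φ : Y.functionField →+* X.functionField)
    (hφ : ∀ c : k, φ (algebraMap k Y.functionField c) = algebraMap k X.functionField c) :
    ∃ f : X ⟶ Y, f ≫ (Y ↘ Spec (CommRingCat.of k)) = X ↘ Spec (CommRingCat.of k) ∧
      ∃ e : f (genericPoint X) = genericPoint Y, Hurwitz.ψ e = φ := by
  let sX := X ↘ Spec (CommRingCat.of k)
  let sY := Y ↘ Spec (CommRingCat.of k)
  let i : Spec (X.presheaf.stalk (genericPoint X)) ⟶ Y :=
    Spec.map (CommRingCat.ofHom φ) ≫ Y.fromSpecStalk (genericPoint Y)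
  have hi : i ≫ sY = X.fromSpecStalk (genericPoint X) ≫ sX := by
    show (Spec.map _ ≫ _) ≫ _ = _
    rw [Category.assoc, fromSpecStalk_over k, fromSpecStalk_over k, ← Spec.map_comp]
    congr 1
    exact CommRingCat.hom_ext (RingHom.ext fun c => hφ c)
  let g := Scheme.PartialMap.ofFromSpecStalk sX sY i hi
  haveI : IsLocallyNoetherian (pullback sY sX) :=
    LocallyOfFiniteType.isLocallyNoetherian (pullback.snd sY sX)
  obtain ⟨U, hVU, s', h1, h2, h3⟩ := DVRDom.exists_extension_section (pullback.snd sY sX)
    (pullback.snd sY sX).isClosedMap g.domain g.dense_domain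
    (pullback.lift g.hom g.domain.ι (Scheme.PartialMap.ofFromSpecStalk_comp sX sY i hi))
    (pullback.lift_snd _ _ _)
  have hU : U = ⊤ := by
    refine eq_top_iff.2 fun z _ => ?_
    by_cases hz : z = genericPoint X
    · rw [hz]; exact hVU (Scheme.PartialMap.mem_domain_ofFromSpecStalk sX sY i hi)
    · haveI := CurveRR.dvrStalk (⟨z, hz⟩ : CP X)
      exact h3 z inferInstance inferInstance
  subst hU
  let f : X ⟶ Y := X.topIso.inv ≫ s' ≫ pullback.fst sY sX
  have hf : f ≫ sY = sX := by
    simp only [f, Category.assoc, pullback.condition]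
    rw [← Category.assoc s', h1]
    simp
  refine ⟨f, hf, eq_of_fromSpecStalk_comp ?_⟩
  have hres : g.domain.ι ≫ f = g.hom := by
    have h4 : g.domain.ι ≫ X.topIso.inv = X.homOfLE hVU := by
      rw [Iso.comp_inv_eq]; simp
    simp only [f]
    rw [← Category.assoc, h4, ← Category.assoc, h2, pullback.lift_fst]
  have hm : genericPoint X ∈ g.domain := Scheme.PartialMap.mem_domain_ofFromSpecStalk sX sY i hi
  have h5 : g.domain.fromSpecStalkOfMem (genericPoint X) hm ≫ g.hom = i :=
    Scheme.PartialMap.fromSpecStalkOfMem_ofFromSpecStalk sX sY i hi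
  show X.fromSpecStalk (genericPoint X) ≫ f = i
  rw [← h5, ← hres]
  erw [← Category.assoc (g.domain.fromSpecStalkOfMem (genericPoint X) hm) g.domain.ι f]
  rw [Scheme.Opens.fromSpecStalkOfMem_ι]

/-- Curves with `k`-isomorphic function fields are isomorphic. -/
theorem exists_iso [RegCurve Y] [IsProper (X ↘ Spec (CommRingCat.of k))] [IsProper (Y ↘ Spec (CommRingCat.of k))]
    (φ : Y.functionField ≃+* X.functionField)
    (hφ : ∀ c : k, φ (algebraMap k Y.functionField c) = algebraMap k X.functionField c) :
    ∃ f : X ≅ Y, f.hom ≫ (Y ↘ Spec (CommRingCat.of k)) = X ↘ Spec (CommRingCat.of k) ∧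
      ∃ e : f.hom (genericPoint X) = genericPoint Y, Hurwitz.ψ e = φ.toRingHom := by
  haveI : IsLocallyNoetherian X := LocallyOfFiniteType.isLocallyNoetherian (X ↘ Spec (CommRingCat.of k))
  haveI : IsLocallyNoetherian Y := LocallyOfFiniteType.isLocallyNoetherian (Y ↘ Spec (CommRingCat.of k))
  obtain ⟨f, hf, e, he⟩ := exists_hom k (X := X) (Y := Y) φ.toRingHom hφ
  obtain ⟨g, hg, e', he'⟩ := exists_hom k (X := Y) (Y := X) φ.symm.toRingHom
    fun c => φ.injective (by simp [hφ])
  have hcomp : ∀ {A B : Scheme.{u}} [IsIntegral A] [IsIntegral B] {a : A ⟶ B} {b : B ⟶ A}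
      (ea : a (genericPoint A) = genericPoint B) (eb : b (genericPoint B) = genericPoint A)
      (χ : A.functionField ≃+* B.functionField), Hurwitz.ψ eb = χ.toRingHom → Hurwitz.ψ ea = χ.symm.toRingHom →
      A.fromSpecStalk (genericPoint A) ≫ a ≫ b = A.fromSpecStalk (genericPoint A) := by
    intro A B _ _ a b ea eb χ hb ha
    rw [← Category.assoc, fromSpecStalk_comp_eq ea, Category.assoc, fromSpecStalk_comp_eq eb, ← Category.assoc,
      ← Spec.map_comp, hb, ha, show CommRingCat.ofHom χ.toRingHom ≫ CommRingCat.ofHom χ.symm.toRingHom = 𝟙 _ from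
        CommRingCat.hom_ext (RingHom.ext fun z => χ.symm_apply_apply z), Spec.map_id]
    exact Category.id_comp _
  refine ⟨⟨f, g, hom_ext (X ↘ Spec (CommRingCat.of k)) (by rw [Category.assoc, hg, hf, Category.id_comp]) ?_,
    hom_ext (Y ↘ Spec (CommRingCat.of k)) (by rw [Category.assoc, hf, hg, Category.id_comp]) ?_⟩, hf, e, he⟩
  · rw [Category.comp_id]
    exact hcomp e e' φ.symm he' (by rw [he, RingEquiv.symm_symm])
  · rw [Category.comp_id]
    exact hcomp e' e φ he he'

end GrothLib.CurveMult.FFHom
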