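import Groth.Agent.Lib.CurveMult.TwoSections
import Groth.Agent.Lib.CurveMult.ProjSmooth
import Groth.Agent.Lib.CurveRR.Main
import Groth.Agent.Lib.FunFld.Conseq
import Groth.Agent.Lib.VA.Vals

/-!
# A degree one bundle with two sections on the projective line
-/

set_option linter.style.haveILetI false
set_option backward.isDefEq.respectTransparency false

universe u

open CategoryTheory CategoryTheory.Limits AlgebraicGeometry TopologicalSpace Opposite
open HomogeneousLocalization MvPolynomial
open GrothLib.CurveRR (oD)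

noncomputable section

namespace GrothLib.CurveMult

variable (k : Type u) [Field k]

/-- The affine chart of the projective line is generated by the coordinate. -/
theorem away_mem_adjoin (z : Away (CohB1.polyGrading 1 k) (X 0 : MvPolynomial (Fin 2) k)) :
    z ∈ Subring.closure (Set.range (fun a : k => fromZeroRingHom (CohB1.polyGrading 1 k)
        (Submonoid.powers (X 0 : MvPolynomial (Fin 2) k)) (algebraMap k (CohB1.polyGrading 1 k 0) a)) ∪
      {Away.mk (CohB1.polyGrading 1 k) (isHomogeneous_X k (0 : Fin 2)) 1 (X 1)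
        (by simpa using isHomogeneous_X k (1 : Fin 2))}) := by
  obtain ⟨m, p, hp, rfl⟩ := Away.mk_surjective _ (isHomogeneous_X k (0 : Fin 2)) z
  set t := Away.mk (CohB1.polyGrading 1 k) (isHomogeneous_X k (0 : Fin 2)) 1 (X 1)
        (by simpa using isHomogeneous_X k (1 : Fin 2))
  set S := Subring.closure (Set.range (fun a : k => fromZeroRingHom (CohB1.polyGrading 1 k)
        (Submonoid.powers (X 0 : MvPolynomial (Fin 2) k)) (algebraMap k (CohB1.polyGrading 1 k 0) a)) ∪ {t})
  let cst : k → Away (CohB1.polyGrading 1 k) (X 0 : MvPolynomial (Fin 2) k) := fun a =>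
    fromZeroRingHom (CohB1.polyGrading 1 k) _ (algebraMap k (CohB1.polyGrading 1 k 0) a)
  let L := Localization.Away (X 0 : MvPolynomial (Fin 2) k)
  have hkey : ∀ q : MvPolynomial (Fin 2) k, q.IsHomogeneous m →
      ∃ w : Away (CohB1.polyGrading 1 k) (X 0 : MvPolynomial (Fin 2) k), w ∈ S ∧
      w.val * algebraMap (MvPolynomial (Fin 2) k) L (X 0 ^ m) = algebraMap (MvPolynomial (Fin 2) k) L q := by
    intro q hq
    rw [← MvPolynomial.support_sum_monomial_coeff q]
    refine Finset.sum_induction (fun d => monomial d (q.coeff d))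
      (fun q => ∃ w : Away (CohB1.polyGrading 1 k) (X 0 : MvPolynomial (Fin 2) k), w ∈ S ∧
        w.val * algebraMap (MvPolynomial (Fin 2) k) L (X 0 ^ m) = algebraMap (MvPolynomial (Fin 2) k) L q)
      ?_ ⟨0, S.zero_mem, by simp⟩ fun d hd => ?_
    · rintro a b ⟨w, hw, hw'⟩ ⟨w', hw2, hw2'⟩
      refine ⟨w + w', S.add_mem hw hw2, ?_⟩
      rw [HomogeneousLocalization.val_add, add_mul, hw', hw2', map_add]
    · have hm : d 0 + d 1 = m := by
        have := hq (MvPolynomial.mem_support_iff.1 hd)
        rw [Finsupp.weight_apply, Finsupp.sum_fintype _ _ (by simp), Fin.sum_univ_two] at this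
        simpa using this
      refine ⟨cst (q.coeff d) * t ^ d 1, S.mul_mem (Subring.subset_closure (Or.inl ⟨_, rfl⟩))
        (S.pow_mem (Subring.subset_closure (Or.inr rfl)) _), ?_⟩
      have ht : t.val * algebraMap (MvPolynomial (Fin 2) k) L (X 0) = algebraMap (MvPolynomial (Fin 2) k) L (X 1) := by
        rw [Away.val_mk, Localization.mk_eq_mk', IsLocalization.mk'_eq_mul_mk'_one, mul_assoc]
        simp [L]
      have hc : (cst (q.coeff d)).val = algebraMap (MvPolynomial (Fin 2) k) L (C (q.coeff d)) := by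
        rw [← Localization.mk_one_eq_algebraMap]
        rfl
      rw [HomogeneousLocalization.val_mul, HomogeneousLocalization.val_pow, hc, mul_assoc,
        ← hm, map_pow, pow_add, mul_comm (algebraMap (MvPolynomial (Fin 2) k) L (X 0) ^ d 0), ← mul_assoc (_ ^ d 1), ← mul_pow, ht,
        ← map_pow, ← map_pow, ← map_mul, ← map_mul]
      congr 1
      rw [MvPolynomial.monomial_eq, Finsupp.prod_fintype _ _ (by simp), Fin.prod_univ_two]
      ring
  obtain ⟨w, hw, hw'⟩ := hkey p (by simpa using hp)
  convert hw using 1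
  refine HomogeneousLocalization.val_injective _ ?_
  refine (IsUnit.mul_left_inj ((IsLocalization.Away.algebraMap_isUnit (S := L) (X 0 : MvPolynomial (Fin 2) k)).pow m)).1 ?_
  rw [← map_pow, hw', Away.val_mk, Localization.mk_eq_mk']
  exact (IsLocalization.mk'_spec L p (⟨(X 0 : MvPolynomial (Fin 2) k) ^ m, ⟨m, rfl⟩⟩ : Submonoid.powers (X 0 : MvPolynomial (Fin 2) k)))

attribute [local instance] CurveRR.functionFieldAlgebra

/-- The projective line carries a line bundle of degree one with two sections. -/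
theorem exists_bundle_P1 : letI : (CohB1.ProjSpace 1 k).Over (Spec (CommRingCat.of k)) := ⟨CohB1.ProjSpace.toSpec 1 k⟩
    ∃ L : (CohB1.ProjSpace 1 k).Modules, PicF.IsInvertible L ∧ Curv2.deg k (CohB1.ProjSpace 1 k) L 1 = 1 ∧
      2 ≤ Module.finrank k (Coh.HH (CohB1.ProjSpace 1 k) L 0) := by
  let P := CohB1.ProjSpace 1 k
  let f : P ⟶ Spec (CommRingCat.of k) := CohB1.ProjSpace.toSpec 1 k
  letI : P.Over (Spec (CommRingCat.of k)) := ⟨f⟩
  haveI : IsIntegral P := ProjDim.isIntegral_proj k 1
  haveI : IsProper (P ↘ Spec (CommRingCat.of k)) := Chow.isProper_toSpec 1 k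
  haveI : Smooth (P ↘ Spec (CommRingCat.of k)) := smooth_toSpec 1 k
  have hdim : topologicalKrullDim P = 1 := by exact_mod_cast Groth.Agent.S10829.result k 1
  haveI : CurveRR.RegCurve P := CurveRR.regCurve_of_smooth (P ↘ Spec (CommRingCat.of k)) hdim
  let 𝒜 := CohB1.polyGrading 1 k
  have hX : (X 0 : MvPolynomial (Fin 2) k) ∈ 𝒜 1 := isHomogeneous_X k 0
  let U : P.Opens := Proj.basicOpen 𝒜 (X 0)
  haveI hiso : IsIso (Proj.awayToSection 𝒜 (X 0 : MvPolynomial (Fin 2) k)) :=
    (inferInstance : IsIso (Proj.basicOpenIsoAway 𝒜 _ hX one_pos).hom)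
  haveI : Nonempty U := by
    haveI : Nontrivial (Away 𝒜 (X 0 : MvPolynomial (Fin 2) k)) := (GrothLib.ProjSp.retr 1 k).domain_nontrivial
    exact ⟨⟨Proj.awayι 𝒜 _ hX one_pos (Classical.arbitrary _),
      (SetLike.ext_iff.1 (Proj.opensRange_awayι 𝒜 _ hX one_pos) _).1 (Set.mem_range_self _)⟩⟩
  have hη : genericPoint P ∈ U := ((genericPoint_spec P).mem_open_set_iff U.2).2 (by
    obtain ⟨⟨x, hx⟩⟩ := ‹Nonempty U›
    exact ⟨x, trivial, hx⟩)
  haveI := functionField_isFractionRing_of_isAffineOpen P U (Proj.isAffineOpen_basicOpen 𝒜 _ hX one_pos)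
  let g : Away 𝒜 (X 0 : MvPolynomial (Fin 2) k) →+* P.functionField :=
    (P.presheaf.germ U _ hη).hom.comp (Proj.awayToSection 𝒜 (X 0)).hom
  have hX1 : (X 1 : MvPolynomial (Fin 2) k) ∈ 𝒜 (1 • 1) := isHomogeneous_X k 1
  let t : P.functionField := g (Away.mk 𝒜 hX 1 (X 1) hX1)
  have hgen : ∀ z, g z ∈ IntermediateField.adjoin k ({t} : Set P.functionField) := by
    intro z
    have hz := away_mem_adjoin k z
    refine (Subring.closure_le (t := (IntermediateField.adjoin k ({t} : Set P.functionField)).toSubfield.toSubring.comap g)).2 ?_ hz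
    rintro w (⟨a, rfl⟩ | rfl)
    · show g _ ∈ IntermediateField.adjoin k ({t} : Set P.functionField)
      convert (IntermediateField.adjoin k ({t} : Set P.functionField)).algebraMap_mem a using 1
      show P.presheaf.germ U _ hη _ = P.presheaf.germ ⊤ _ trivial (Coh.toGlobal f a)
      refine (congrArg (P.presheaf.germ U _ hη).hom (VA.constSec_res 𝒜 hX one_pos _).symm).trans ?_
      refine (P.presheaf.germ_res_apply (homOfLE le_top) _ hη _).trans ?_
      congr 1
      show (Proj.toSpecZero 𝒜).appTop _ = (Proj.toSpecZero 𝒜 ≫ Spec.map _).appTop _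
      rw [Scheme.Hom.comp_appTop, CommRingCat.comp_apply]
      congr 1
      exact ConcreteCategory.congr_hom (Scheme.ΓSpecIso_inv_naturality (CommRingCat.ofHom (algebraMap k (𝒜 0)))) a
    · exact IntermediateField.mem_adjoin_simple_self k t
  have htop : IntermediateField.adjoin k ({t} : Set P.functionField) = ⊤ := by
    refine eq_top_iff.2 fun y _ => ?_
    obtain ⟨a, b, -, rfl⟩ := IsFractionRing.div_surjective (A := Γ(P, U)) y
    have hall : ∀ r : Γ(P, U), algebraMap Γ(P, U) P.functionField r ∈
        IntermediateField.adjoin k ({t} : Set P.functionField) := fun r => by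
      obtain ⟨w, hw⟩ := (ConcreteCategory.bijective_of_isIso (Proj.awayToSection 𝒜 (X 0 : MvPolynomial (Fin 2) k))).2 r
      rw [← hw]
      exact hgen w
    exact div_mem (hall a) (hall b)
  have hfg := CurveRR.isFG k (X := P)
  have htr : Transcendental k t := by
    intro halg
    obtain ⟨Q⟩ := FunFld.IsFG.exists_place hfg
    obtain ⟨x, hx⟩ := Q.2.2 (WithZero.exp 1)
    have hx0 : x ≠ 0 := by rintro rfl; rw [map_zero] at hx; exact WithZero.zero_ne_coe hx
    haveI := IntermediateField.isAlgebraic_adjoin_simple halg.isIntegral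
    have hxalg : IsAlgebraic k x := by
      have := Algebra.IsAlgebraic.isAlgebraic (R := k) (⟨x, htop ▸ IntermediateField.mem_top⟩ : IntermediateField.adjoin k ({t} : Set P.functionField))
      exact this.algHom (IntermediateField.val _)
    have h1 := FunFld.val_eq_one_of_isAlgebraic Q hxalg hx0
    rw [hx, ← WithZero.exp_zero] at h1
    exact one_ne_zero (WithZero.exp_injective h1)
  have hdeg : (FunFld.poleDiv (k := k) t).deg = 1 := by
    rw [hfg.deg_poleDiv htr, htop, IntermediateField.finrank_top]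
    rfl
  let D := FunFld.poleDiv (k := k) t
  have ht0 : t ≠ 0 := fun h => htr (h ▸ isAlgebraic_zero)
  have hDp : ∀ Q, 0 ≤ Q.ord t + D Q ∧ 0 ≤ D Q := fun Q => by
    simp only [D, hfg.poleDiv_apply]
    omega
  have h1L : (1 : P.functionField) ∈ FunFld.L D := fun Q => by
    rw [map_one, ← WithZero.exp_zero, WithZero.exp_le_exp]; exact (hDp Q).2
  have htL : t ∈ FunFld.L D := (FunFld.mem_L_iff_ord ht0).2 fun Q => (hDp Q).1
  refine ⟨oD k D, CurveRR.isInvertible_oD k D, (CurveRR.deg_oD (k := k) D).trans hdeg, ?_⟩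
  rw [(CurveRR.H0equiv k D).finrank_eq]
  haveI : FiniteDimensional k (Coh.HH P (oD k D) 0) := Euler.finiteDimensional_HH k (CurveRR.isCoh_oD k D) 0
  haveI : FiniteDimensional k (FunFld.L D) := (CurveRR.H0equiv k D).finiteDimensional
  have hli : LinearIndependent k ![(⟨1, h1L⟩ : FunFld.L D), ⟨t, htL⟩] := by
    refine LinearIndependent.of_comp (FunFld.L D).subtype ?_
    have e : (FunFld.L D).subtype ∘ ![(⟨1, h1L⟩ : FunFld.L D), ⟨t, htL⟩] =
        fun i : Fin 2 => t ^ (i : ℕ) := by
      funext i; fin_cases i <;> simp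
    rw [e]
    exact (FunFld.linearIndependent_pow_of_transcendental htr).comp _ Fin.val_injective
  simpa using hli.fintype_card_le_finrank

end GrothLib.CurveMult
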