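import Groth.Agent.Lib.CurveMult.EtaleEuler
import Groth.Agent.Lib.CurveMult.GenusZero
import Groth.Agent.Lib.CurveMult.ProjSmooth
import Groth.Agent.Lib.CurveMult.P1Bundle
import Groth.Agent.Lib.CurveMult.DegBound
import Groth.Agent.Lib.CurveRR.Setup
import Groth.Agent.Lib.CurveRR.Main
import Groth.Agent.Lib.FunFld.Conseq
import Groth.Agent.Lib.EtFibre.Basic
import Groth.Agent.Lib.Japanese.IntegralSpec
import Groth.Agent.S10829
import Groth.Agent.S10994

/-!
# A finite étale cover with constants as global functions of a curve of genus zero is trivial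
-/

set_option linter.style.haveILetI false
set_option backward.isDefEq.respectTransparency false

universe u

open CategoryTheory CategoryTheory.Limits AlgebraicGeometry TopologicalSpace

noncomputable section

namespace GrothLib.CurveMult

variable (k : Type u) [Field k]

include k in
/-- A finite étale morphism with constant global functions to a curve without `H¹` is an isomorphism. -/
theorem isIso_of_finite_etale_of_euler {X Y : Scheme.{u}} [X.Over (Spec (CommRingCat.of k))]
    [Y.Over (Spec (CommRingCat.of k))] [IsProper (Y ↘ Spec (CommRingCat.of k))] [ConnectedSpace Y] [Nonempty X]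
    (hd : topologicalKrullDim Y ≤ 1) (f : X ⟶ Y) [IsFinite f] [Etale f]
    (hf : f ≫ Y ↘ Spec (CommRingCat.of k) = X ↘ Spec (CommRingCat.of k))
    (hY : 1 ≤ Curv2.euler k Y (Coh.structureModule Y))
    (hX : Module.finrank k (Coh.HH X (Coh.structureModule X) 0) ≤ 1) : IsIso f := by
  obtain ⟨x⟩ := ‹Nonempty X›
  have hdeg : ∀ y, f.finrank y = f.finrank (f x) := fun y =>
    (Scheme.Hom.isLocallyConstant_finrank (f := f)).apply_eq_of_preconnectedSpace y (f x)
  have hχ := euler_structure_of_finite_etale k hd f hf hdeg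
  haveI : IsProper (X ↘ Spec (CommRingCat.of k)) := hf ▸ inferInstance
  have := Euler.isNoetherian_of_proper (X := X) k
  haveI : (Coh.structureModule X).IsQuasicoherent :=
    (Euler.isCoh_of_isInvertible Euler.isInvertible_structure).1
  have hdX : topologicalKrullDim X ≤ 1 := le_trans
    (EtFibre.topologicalKrullDim_le_of_injOn f.continuous fun _ _ h he =>
      Japanese.eq_of_specializes_of_isIntegralHom f h he) hd
  have h1 := Euler.euler_eq_sub k hdX (Coh.structureModule X)
  have h2 : 1 ≤ f.finrank (f x) := Scheme.Hom.one_le_finrank_map (f := f) x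
  have h3 : (f.finrank (f x) : ℤ) ≤ 1 := by
    have h4 : (f.finrank (f x) : ℤ) * 1 ≤ f.finrank (f x) * Curv2.euler k Y (Coh.structureModule Y) :=
      mul_le_mul_of_nonneg_left hY (Int.natCast_nonneg _)
    have h5 : (Module.finrank k (Coh.HH X (Coh.structureModule X) 0) : ℤ) ≤ 1 := by exact_mod_cast hX
    have h6 : (0 : ℤ) ≤ Module.finrank k (Coh.HH X (Coh.structureModule X) 1) := Int.natCast_nonneg _
    omega
  refine (Scheme.Hom.isIso_iff_finrank_eq (f := f)).2 (funext fun y => ?_)
  rw [hdeg y]
  show _ = 1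
  omega

/-- A regular curve with a bundle of degree one having two sections has genus zero. -/
theorem finrank_H1_eq_zero_of_two_sections {X : Scheme.{u}} [IsIntegral X] [CurveRR.RegCurve X]
    [X.Over (Spec (CommRingCat.of k))] [IsProper (X ↘ Spec (CommRingCat.of k))] {L : X.Modules}
    (hL : PicF.IsInvertible L) (hdeg : Curv2.deg k X L 1 = 1) (h2 : 2 ≤ Module.finrank k (Coh.HH X L 0)) :
    Module.finrank k (Coh.HH X (Coh.structureModule X) 0) = 1 ∧ Curv2.genus k X = 0 := by
  haveI : Nontrivial (Coh.HH X L 0) := Module.nontrivial_of_finrank_pos (R := k) (by omega)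
  have h0 := finrank_H0_structure_eq_one_of_deg_one k CurveRR.RegCurve.dim.le hL inferInstance hdeg
  refine ⟨h0, ?_⟩
  have hF := CurveRR.isFunctionField k h0
  have hfg : FunFld.IsFG k X.functionField := hF.1
  rw [CurveRR.genus_eq k h0]
  obtain ⟨D, ⟨e⟩⟩ := CurveRR.exists_iso_oD k hL
  rw [(Euler.hhEquiv (A := k) e 0).finrank_eq, CurveRR.finrank_H0_oD] at h2
  rw [Euler.deg_of_iso k e, CurveRR.deg_oD] at hdeg
  obtain ⟨x, hx0, -, hE⟩ := hfg.exists_of_ell_pos (D := D) (by omega)
  let E := D + _root_.FunFld.div k x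
  have hE0 : 0 ≤ E := hE
  have hEd : E.deg = 1 := by rw [FunFld.deg_add, hfg.deg_div, add_zero, hdeg]
  have hlE : 2 ≤ _root_.FunFld.ell E := by rw [hfg.ell_add_div D hx0]; exact h2
  obtain ⟨P, hP, hPd⟩ : ∃ P, E = Finsupp.single P 1 ∧ P.deg = 1 := by
    classical
    have hne : E ≠ 0 := fun h => by
      rw [h] at hlE
      have := FunFld.ell_zero hF
      omega
    obtain ⟨P, hP⟩ := Finsupp.ne_iff.1 hne
    simp only [Finsupp.coe_zero, Pi.zero_apply] at hP
    have hPpos : 0 < P.deg := hfg.deg_pos P
    have hE' : 0 ≤ E - Finsupp.single P 1 := fun Q => by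
      rcases eq_or_ne P Q with rfl | hQ
      · have := hE0 P
        simp only [Finsupp.coe_zero, Pi.zero_apply] at this ⊢
        rw [Finsupp.sub_apply, Finsupp.single_eq_same]; omega
      · rw [Finsupp.sub_apply, Finsupp.single_eq_of_ne' hQ, sub_zero]; exact hE0 Q
    have hnn : (0 : ℤ) ≤ (E - Finsupp.single P 1).deg := by
      rw [FunFld.deg_eq_degHom]
      exact Finset.sum_nonneg fun Q _ => mul_nonneg (hE' Q) (Int.natCast_nonneg _)
    have hs : (E - Finsupp.single P 1).deg = 1 - (P.deg : ℤ) := by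
      rw [FunFld.deg_sub, FunFld.deg_single, hEd]; ring
    refine ⟨P, ?_, by omega⟩
    rw [← sub_eq_zero]
    by_contra hne'
    obtain ⟨Q, hQ⟩ := Finsupp.ne_iff.1 hne'
    simp only [Finsupp.coe_zero, Pi.zero_apply] at hQ
    have h1 : 0 < (E - Finsupp.single P (1 : ℤ) : _root_.FunFld.Divisor k X.functionField) Q := lt_of_le_of_ne (hE' Q) (Ne.symm hQ)
    have h4 : (0 : ℤ) < Q.deg := by exact_mod_cast hfg.deg_pos Q
    have : (0 : ℤ) < (E - Finsupp.single P 1).deg := by
      rw [FunFld.deg_eq_degHom]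
      exact Finset.sum_pos' (fun R _ => mul_nonneg (hE' R) (Int.natCast_nonneg _))
        ⟨Q, Finsupp.mem_support_iff.2 hQ, mul_pos h1 h4⟩
    omega
  rw [hP] at hlE
  obtain ⟨z, hz, hzQ⟩ := FunFld.exists_simple_pole_of_ell hF hlE
  exact ((Groth.Agent.S10994.result k X.functionField hF).2 ⟨z, FunFld.adjoin_eq_top_of_simple_pole hfg hPd hz hzQ⟩).1

include k in
/-- The projective line is simply connected. -/
theorem isIso_of_finite_etale_P1 {X : Scheme.{u}} (f : X ⟶ CohB1.ProjSpace 1 k) [IsFinite f] [Etale f]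
    [GeometricallyConnected (f ≫ CohB1.ProjSpace.toSpec 1 k)] : IsIso f := by
  let P := CohB1.ProjSpace 1 k
  letI : P.Over (Spec (CommRingCat.of k)) := ⟨CohB1.ProjSpace.toSpec 1 k⟩
  haveI : IsProper (P ↘ Spec (CommRingCat.of k)) := Chow.isProper_toSpec 1 k
  haveI : Smooth (P ↘ Spec (CommRingCat.of k)) := smooth_toSpec 1 k
  haveI : IsIntegral P := ProjDim.isIntegral_proj k 1
  have hdim : topologicalKrullDim P = 1 := by exact_mod_cast Groth.Agent.S10829.result k 1
  haveI : CurveRR.RegCurve P := CurveRR.regCurve_of_smooth (P ↘ Spec (CommRingCat.of k)) hdim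
  obtain ⟨L, hL, hdeg, h2⟩ := exists_bundle_P1 k
  obtain ⟨h0, hg⟩ := finrank_H1_eq_zero_of_two_sections k hL hdeg h2
  letI : X.Over (Spec (CommRingCat.of k)) := ⟨f ≫ CohB1.ProjSpace.toSpec 1 k⟩
  let K := AlgebraicClosure k
  let φ : k →+* K := algebraMap k K
  let q := X ↘ Spec (CommRingCat.of k)
  haveI : GeometricallyConnected q := ‹GeometricallyConnected (f ≫ CohB1.ProjSpace.toSpec 1 k)›
  haveI : IsProper q := inferInstanceAs (IsProper (f ≫ P ↘ Spec (CommRingCat.of k)))
  haveI : Smooth q := inferInstanceAs (Smooth (f ≫ P ↘ Spec (CommRingCat.of k)))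
  let X' := pullback q (Spec.map (CommRingCat.ofHom φ))
  let g : X' ⟶ X := pullback.fst _ _
  letI : X'.Over (Spec (CommRingCat.of K)) := ⟨pullback.snd q (Spec.map (CommRingCat.ofHom φ))⟩
  haveI : GeometricallyConnected (pullback.snd q (Spec.map (CommRingCat.ofHom φ))) :=
    MorphismProperty.pullback_snd _ _ inferInstance
  haveI : ConnectedSpace (Spec (CommRingCat.of K)) := inferInstance
  haveI : Smooth (X' ↘ Spec (CommRingCat.of K)) :=
    inferInstanceAs (Smooth (pullback.snd q (Spec.map (CommRingCat.ofHom φ))))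
  haveI : IsProper (X' ↘ Spec (CommRingCat.of K)) :=
    inferInstanceAs (IsProper (pullback.snd q (Spec.map (CommRingCat.ofHom φ))))
  haveI : ConnectedSpace X' :=
    GeometricallyConnected.connectedSpace_of_subsingleton (pullback.snd q (Spec.map (CommRingCat.ofHom φ)))
  haveI := Euler.isIntegral_of_smooth_connected K (X' ↘ Spec (CommRingCat.of K))
  haveI : Nonempty X := ⟨g (Classical.arbitrary X')⟩
  have := Euler.isNoetherian_of_proper (X := X) k
  haveI : (Coh.structureModule X).IsQuasicoherent :=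
    (Euler.isCoh_of_isInvertible Euler.isInvertible_structure).1
  refine isIso_of_finite_etale_of_euler k hdim.le f rfl ?_ ?_
  · haveI : (Coh.structureModule P).IsQuasicoherent := by
      have := Euler.isNoetherian_of_proper (X := P) k
      exact (Euler.isCoh_of_isInvertible Euler.isInvertible_structure).1
    rw [Euler.euler_eq_sub k hdim.le, h0]
    have hg' : Module.finrank k (Coh.HH P (Coh.structureModule P) 1) = 0 := hg
    rw [hg']
    norm_num
  · rw [← finrank_HH_baseChange φ g (IsPullback.of_hasPullback q (Spec.map (CommRingCat.ofHom φ)))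
      (Coh.structureModule X) 0, (Euler.hhEquiv (A := K) (OX.pullUnitIso g) 0).finrank_eq,
      CurveRR.finrank_H0_structure_eq_one K]

end GrothLib.CurveMult
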