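import Groth.Agent.Lib.CurveMult.HyperFF
import Groth.Agent.Lib.FunFld.WeierstrassDiv

/-!
# Equations of quadratic extensions of the rational function field
-/

set_option linter.style.haveILetI false

universe u

open IntermediateField Polynomial WithZero
open _root_.FunFld (Place Divisor ell)

noncomputable section

namespace GrothLib.CurveMult.HyperEq

variable {k K : Type u} [Field k] [Field K] [Algebra k K]

/-- The functions whose poles are bounded by `n` times the poles of `x`. -/
def Bd (x : K) (n : ℕ) (z : K) : Prop := ∀ P : Place k K, P.1 z ≤ (max 1 (P.1 x)) ^ n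

theorem exp_poleDiv (h : FunFld.IsFG k K) {x : K} (hx : Transcendental k x) (n : ℕ) (P : Place k K) :
    exp ((n • FunFld.poleDiv (k := k) x) P) = (max 1 (P.1 x)) ^ n := by
  have hx0 : x ≠ 0 := by rintro rfl; exact hx isAlgebraic_zero
  rw [Finsupp.smul_apply, h.poleDiv_apply, exp_nsmul, FunFld.val_eq P hx0, ← exp_zero]
  congr 1
  rcases le_total (P.ord x) 0 with h' | h'
  · rw [max_eq_right (exp_le_exp.2 (show (0 : ℤ) ≤ -P.ord x by omega))]
    congr 1
    omega
  · rw [max_eq_left (exp_le_exp.2 (show -P.ord x ≤ (0 : ℤ) by omega))]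
    congr 1
    omega

theorem mem_L_iff (h : FunFld.IsFG k K) {x : K} (hx : Transcendental k x) (n : ℕ) (z : K) :
    z ∈ _root_.FunFld.L (n • FunFld.poleDiv (k := k) x) ↔ Bd (k := k) x n z :=
  forall_congr' fun P => by rw [exp_poleDiv h hx]

theorem one_le_max (x : K) (n : ℕ) (P : Place k K) : 1 ≤ (max 1 (P.1 x)) ^ n :=
  one_le_pow₀ (le_max_left _ _)

theorem bd_aeval {x : K} {n : ℕ} (p : k[X]) (hp : p.natDegree ≤ n) : Bd (k := k) x n (aeval x p) := fun P => by
  rcases le_or_gt (P.1 x) 1 with hle | hgt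
  · exact (val_aeval_le_one hle p).trans (one_le_max x n P)
  · by_cases hp0 : p = 0
    · rw [hp0, map_zero, map_zero]; exact zero_le
    rw [val_aeval_of_one_lt hgt _ p rfl hp0, max_eq_right hgt.le]
    exact pow_le_pow_right₀ hgt.le hp

theorem bd_mul {x : K} {n m : ℕ} {z w : K} (hz : Bd (k := k) x n z) (hw : Bd (k := k) x m w) :
    Bd (k := k) x (n + m) (z * w) := fun P => by
  rw [map_mul, pow_add]
  exact mul_le_mul' (hz P) (hw P)

theorem bd_add {x : K} {n : ℕ} {z w : K} (hz : Bd (k := k) x n z) (hw : Bd (k := k) x n w) :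
    Bd (k := k) x n (z + w) := fun P => (P.1.map_add z w).trans (max_le (hz P) (hw P))

theorem bd_neg {x : K} {n : ℕ} {z : K} (hz : Bd (k := k) x n z) : Bd (k := k) x n (-z) := fun P => by
  rw [Valuation.map_neg]; exact hz P

theorem bd_mono {x : K} {n m : ℕ} {z : K} (hz : Bd (k := k) x n z) (hnm : n ≤ m) : Bd (k := k) x m z :=
  fun P => (hz P).trans (pow_le_pow_right₀ (le_max_left _ _) hnm)

/-- A rational function of `x` with poles bounded by those of `x ^ n` is a polynomial of degree at most `n`. -/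
theorem exists_poly (h : FunFld.IsFG k K) {x : K} (hxt : Transcendental k x) {n : ℕ} {z : K}
    (hz : Bd (k := k) x n z) (hzE : z ∈ adjoin k ({x} : Set K)) :
    ∃ p : k[X], p.natDegree ≤ n ∧ aeval x p = z := by
  obtain ⟨p₀, q₀, hpq⟩ := (mem_adjoin_simple_iff k _).1 hzE
  by_cases hz0 : z = 0
  · exact ⟨0, by simp, by rw [hz0, map_zero]⟩
  obtain ⟨p, q, hcop, hq0, hzeq⟩ : ∃ p q : k[X], IsCoprime p q ∧ q ≠ 0 ∧ z = aeval x p / aeval x q := by
    classical
    have hq₀ : q₀ ≠ 0 := fun h => hz0 (by rw [hpq, h, map_zero, div_zero])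
    obtain ⟨p, hp⟩ := EuclideanDomain.gcd_dvd_left p₀ q₀
    obtain ⟨q, hq⟩ := EuclideanDomain.gcd_dvd_right p₀ q₀
    have hg : EuclideanDomain.gcd p₀ q₀ ≠ 0 := fun h => hq₀ ((EuclideanDomain.gcd_eq_zero_iff.1 h).2)
    refine ⟨p, q, ?_, fun h => hq₀ (by rw [hq, h, mul_zero]), ?_⟩
    · refine ⟨EuclideanDomain.gcdA p₀ q₀, EuclideanDomain.gcdB p₀ q₀, mul_left_cancel₀ hg ?_⟩
      have := EuclideanDomain.gcd_eq_gcd_ab p₀ q₀
      linear_combination -this - EuclideanDomain.gcdA p₀ q₀ * hp - EuclideanDomain.gcdB p₀ q₀ * hq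
    · have hgx : aeval x (EuclideanDomain.gcd p₀ q₀) ≠ 0 := fun h => hxt ⟨_, hg, h⟩
      rw [hpq]
      have e1 : aeval x p₀ = aeval x (EuclideanDomain.gcd p₀ q₀) * aeval x p := by rw [← map_mul, ← hp]
      have e2 : aeval x q₀ = aeval x (EuclideanDomain.gcd p₀ q₀) * aeval x q := by rw [← map_mul, ← hq]
      rw [e1, e2, mul_div_mul_left _ _ hgx]
  have hqx : aeval x q ≠ 0 := fun h => hxt ⟨_, hq0, h⟩
  have hqdeg : q.natDegree = 0 := by
    by_contra hd
    obtain ⟨P, hP⟩ := h.exists_zero (hxt.aeval q (by omega) (mem_nonZeroDivisors_of_ne_zero (Polynomial.leadingCoeff_ne_zero.2 hq0)) : Transcendental k (aeval x q))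
    have hlt : P.1 (aeval x q) < 1 := (FunFld.val_lt_one_iff P hqx).2 hP
    have hxle : P.1 x ≤ 1 := by
      by_contra hgt
      push Not at hgt
      rw [val_aeval_of_one_lt hgt _ q rfl hq0] at hlt
      exact absurd (one_lt_pow₀ hgt hd) (not_lt.2 hlt.le)
    have hp1 : P.1 (aeval x p) = 1 := by
      obtain ⟨a, b, hab⟩ := hcop
      refine le_antisymm (val_aeval_le_one hxle p) (not_lt.1 fun hp => ?_)
      have h1 := congrArg (fun t => P.1 (aeval x t)) hab
      simp only [map_add, map_mul, map_one] at h1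
      refine (lt_of_le_of_lt (P.1.map_add _ _) (max_lt ?_ ?_)).ne h1
      · rw [map_mul]; exact lt_of_le_of_lt (mul_le_of_le_one_left zero_le (val_aeval_le_one hxle a)) hp
      · rw [map_mul]; exact lt_of_le_of_lt (mul_le_of_le_one_left zero_le (val_aeval_le_one hxle b)) hlt
    have hy1 := hz P
    rw [hzeq, map_div₀, hp1, max_eq_left hxle, one_pow, div_le_one₀ (zero_lt_iff.2 ((map_ne_zero P.1).2 hqx))] at hy1
    exact not_lt.2 hy1 hlt
  have hc := eq_C_of_natDegree_eq_zero hqdeg
  have hq0' : q.coeff 0 ≠ 0 := fun h => hq0 (by rw [hc, h, C_0])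
  refine ⟨C (q.coeff 0)⁻¹ * p, ?_, ?_⟩
  · refine (natDegree_C_mul_le _ _).trans ?_
    by_contra hd
    obtain ⟨P, hP⟩ := h.exists_pole hxt
    have hx0 : x ≠ 0 := by rintro rfl; exact hxt isAlgebraic_zero
    have hgt : 1 < P.1 x := not_le.1 fun hle => by
      have := (FunFld.val_le_one_iff P hx0).1 hle; omega
    have hp0 : p ≠ 0 := fun h => hz0 (by rw [hzeq, h, map_zero, zero_div])
    have hy1 := hz P
    rw [hzeq, map_div₀, val_aeval_of_one_lt hgt _ p rfl hp0, hc, aeval_C,
      FunFld.val_const P hq0', div_one, max_eq_right hgt.le] at hy1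
    exact not_lt.2 hy1 (pow_lt_pow_right₀ hgt (by omega))
  · rw [hzeq, hc, map_mul, aeval_C, aeval_C, coeff_C_zero, map_inv₀]
    ring

variable (h : _root_.FunFld.IsFunctionField k K) {x : K} (hxt : Transcendental k x)
  (h2 : Module.finrank (adjoin k ({x} : Set K)) K = 2)

include h hxt h2 in
/-- Some function outside `k(x)` has poles bounded by those of `x ^ (g + 1)`. -/
theorem exists_notMem : ∃ y : K, y ∉ adjoin k ({x} : Set K) ∧
    Bd (k := k) x (_root_.FunFld.genus k K + 1) y := by
  classical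
  have hfg : FunFld.IsFG k K := h.1
  by_contra hcon
  push Not at hcon
  let g := _root_.FunFld.genus k K
  let D := (g + 1) • FunFld.poleDiv (k := k) x
  have hdeg : D.deg = 2 * ((g : ℤ) + 1) := by
    rw [FunFld.deg_nsmul, hfg.deg_poleDiv hxt, h2]; push_cast; ring
  have hell := FunFld.ell_eq_of_deg_ge h (D := D) (by rw [hdeg]; omega)
  rw [hdeg] at hell
  have hle : _root_.FunFld.L D ≤ (degreeLT k (g + 2)).map (aeval x).toLinearMap := fun z hz => by
    have hb := (mem_L_iff hfg hxt (g + 1) z).1 hz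
    obtain ⟨p, hp, rfl⟩ := exists_poly hfg hxt hb (not_not.1 fun hzE => hcon z hzE hb)
    refine ⟨p, mem_degreeLT.2 ?_, rfl⟩
    exact degree_le_natDegree.trans_lt (by exact_mod_cast (show p.natDegree < g + 2 by omega))
  haveI : Module.Finite k (degreeLT k (g + 2)) := Module.Finite.equiv (degreeLTEquiv k (g + 2)).symm
  have h1 : Module.finrank k (_root_.FunFld.L D) ≤ g + 2 := by
    refine (Submodule.finrank_mono hle).trans ((Submodule.finrank_map_le _ _).trans ?_)
    rw [(degreeLTEquiv k (g + 2)).finrank_eq, Module.finrank_fin_fun]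
  have h3 : ell D = Module.finrank k (_root_.FunFld.L D) := rfl
  omega

include h hxt h2 in
/-- A function outside `k(x)` has poles of order at least `g + 1` over infinity. -/
theorem genus_lt {y : K} (hy : y ∉ adjoin k ({x} : Set K)) {m : ℕ} (hm : Bd (k := k) x m y) :
    _root_.FunFld.genus k K + 1 ≤ m := by
  classical
  have hfg : FunFld.IsFG k K := h.1
  let g := _root_.FunFld.genus k K
  let N := g + m + 1
  let D := N • FunFld.poleDiv (k := k) x
  have hdeg : D.deg = 2 * (N : ℤ) := by
    rw [FunFld.deg_nsmul, hfg.deg_poleDiv hxt, h2]; push_cast; ring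
  have hell := FunFld.ell_eq_of_deg_ge h (D := D) (by rw [hdeg]; omega)
  rw [hdeg] at hell
  let ev : k[X] →ₗ[k] K := (aeval x).toLinearMap
  let φ : (degreeLT k (N + 1) × degreeLT k (N - m + 1)) →ₗ[k] K :=
    (ev.comp (degreeLT k (N + 1)).subtype).coprod
      ((LinearMap.mulRight k y).comp (ev.comp (degreeLT k (N - m + 1)).subtype))
  have hdlt : ∀ {d : ℕ} (p : degreeLT k (d + 1)), (p : k[X]).natDegree ≤ d := fun {d} p => by
    by_cases hp : (p : k[X]) = 0
    · simp [hp]
    · have := mem_degreeLT.1 p.2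
      rw [degree_eq_natDegree hp] at this
      exact Nat.lt_succ_iff.1 (by exact_mod_cast this)
  have hφ : ∀ v, φ v = aeval x (v.1 : k[X]) + aeval x (v.2 : k[X]) * y := fun v => rfl
  have hmem : ∀ v, φ v ∈ _root_.FunFld.L D := fun v => by
    rw [hφ]
    refine (mem_L_iff hfg hxt N _).2 (bd_add (bd_aeval _ (hdlt v.1)) ?_)
    exact bd_mono (bd_mul (bd_aeval _ (hdlt v.2)) hm) (by omega)
  have hinj : Function.Injective φ := by
    refine (injective_iff_map_eq_zero φ).2 fun v hv => ?_
    rw [hφ] at hv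
    have hv2 : (v.2 : k[X]) = 0 := by
      by_contra hne
      refine hy ?_
      have hq : aeval x (v.2 : k[X]) ≠ 0 := fun h => hxt ⟨_, hne, h⟩
      rw [show y = -aeval x (v.1 : k[X]) / aeval x (v.2 : k[X]) by
        rw [eq_div_iff hq]; linear_combination hv]
      exact (mem_adjoin_simple_iff k _).2 ⟨-(v.1 : k[X]), (v.2 : k[X]), by rw [map_neg]⟩
    have hv1 : (v.1 : k[X]) = 0 := by
      by_contra hne
      rw [hv2, map_zero, zero_mul, add_zero] at hv
      exact hxt ⟨_, hne, hv⟩
    exact Prod.ext (Subtype.ext hv1) (Subtype.ext hv2)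
  haveI := hfg.finite_L D
  haveI : ∀ d, Module.Finite k (degreeLT k d) := fun d => Module.Finite.equiv (degreeLTEquiv k d).symm
  have h1 : Module.finrank k (degreeLT k (N + 1) × degreeLT k (N - m + 1)) ≤ Module.finrank k (_root_.FunFld.L D) :=
    LinearMap.finrank_le_finrank_of_injective (f := φ.codRestrict _ hmem)
      fun a b hab => hinj (congrArg Subtype.val hab)
  rw [Module.finrank_prod, (degreeLTEquiv k (N + 1)).finrank_eq, (degreeLTEquiv k (N - m + 1)).finrank_eq,
    Module.finrank_fin_fun, Module.finrank_fin_fun] at h1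
  have h3 : ell D = Module.finrank k (_root_.FunFld.L D) := rfl
  omega

include h hxt h2 in
/-- A monic quadratic relation of a function outside `k(x)` has large degree. -/
theorem degree_ge {y : K} (hy : y ∉ adjoin k ({x} : Set K)) {b c : k[X]}
    (hrel : y ^ 2 + aeval x b * y + aeval x c = 0) :
    2 * _root_.FunFld.genus k K + 1 ≤ max (2 * b.natDegree) c.natDegree := by
  let g := _root_.FunFld.genus k K
  by_contra hlt
  push Not at hlt
  have hb : b.natDegree ≤ g := by omega
  have hc : c.natDegree ≤ g + g := by omega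
  have hbd : Bd (k := k) x g y := fun P => by
    by_contra hgt
    push Not at hgt
    have hy2 : (max 1 (P.1 x)) ^ (g + g) < P.1 y ^ 2 := by
      rw [pow_add, pow_two]
      exact mul_lt_mul'' hgt hgt zero_le zero_le
    have h1 : P.1 (aeval x b * y) < P.1 y ^ 2 := by
      rw [map_mul, pow_two]
      have hpos : 0 < P.1 y := lt_of_le_of_lt zero_le hgt
      exact mul_lt_mul_of_pos_right ((bd_aeval b hb P).trans_lt hgt) hpos
    have h2 : P.1 (aeval x c) < P.1 y ^ 2 := (bd_aeval c hc P).trans_lt hy2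
    have h3 : P.1 (y ^ 2) = P.1 (-(aeval x b * y + aeval x c)) := by
      congr 1; linear_combination hrel
    rw [map_pow, Valuation.map_neg] at h3
    exact (lt_of_le_of_lt (P.1.map_add _ _) (max_lt h1 h2)).ne h3.symm
  have := genus_lt h hxt h2 hy hbd
  omega

/-- The place pulled back along an automorphism. -/
def comapPlace (σ : K →ₐ[k] K) (hσ : Function.Surjective σ) (P : Place k K) : Place k K :=
  ⟨P.1.comap σ.toRingHom, fun c => by
      show P.1 (σ (algebraMap k K c)) ≤ 1
      rw [σ.commutes]; exact P.2.1 c,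
    fun w => by
      obtain ⟨z, hz⟩ := P.2.2 w
      obtain ⟨z', rfl⟩ := hσ z
      exact ⟨z', hz⟩⟩

include h hxt h2 in
/-- The normal form of the equation of a quadratic extension of `k(x)`. -/
theorem exists_equation : ∃ (y : K) (b c : k[X]), y ∉ adjoin k ({x} : Set K) ∧
    Bd (k := k) x (_root_.FunFld.genus k K + 1) y ∧
    y ^ 2 + aeval x b * y + aeval x c = 0 ∧
    b.natDegree ≤ _root_.FunFld.genus k K + 1 ∧ c.natDegree ≤ 2 * _root_.FunFld.genus k K + 2 := by
  classical
  have hfg : FunFld.IsFG k K := h.1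
  obtain ⟨y, hy, hbd⟩ := exists_notMem h hxt h2
  let E := adjoin k ({x} : Set K)
  haveI : FiniteDimensional E K := Module.finite_of_finrank_pos (by rw [h2]; norm_num)
  have hint : IsIntegral E y := IsIntegral.of_finite E y
  have hdeg : (minpoly E y).natDegree = 2 := by
    have h1 : (minpoly E y).natDegree ≤ 2 := h2 ▸ minpoly.natDegree_le y
    have h3 : 0 < (minpoly E y).natDegree := minpoly.natDegree_pos hint
    have h4 : (minpoly E y).natDegree ≠ 1 := fun h => by
      obtain ⟨e, he⟩ := minpoly.natDegree_eq_one_iff.1 h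
      exact hy (he ▸ e.2)
    omega
  have hmon := minpoly.monic hint
  let μ := minpoly E y
  have hco : μ.coeff 2 = 1 := by rw [← hdeg]; exact hmon
  have hexp : ∀ z : K, aeval z μ = z ^ 2 + (μ.coeff 1 : K) * z + (μ.coeff 0 : K) := fun z => by
    rw [aeval_eq_sum_range, show μ.natDegree = 2 from hdeg, Finset.sum_range_succ, Finset.sum_range_succ,
      Finset.sum_range_one, hco, Algebra.smul_def, Algebra.smul_def, Algebra.smul_def, map_one]
    show (μ.coeff 0 : K) * z ^ 0 + (μ.coeff 1 : K) * z ^ 1 + 1 * z ^ 2 = _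
    ring
  have hy0 : y ^ 2 + (μ.coeff 1 : K) * y + (μ.coeff 0 : K) = 0 := (hexp y).symm.trans (minpoly.aeval E y)
  let y' : K := -(μ.coeff 1 : K) - y
  have hy' : aeval y' μ = 0 := by rw [hexp]; linear_combination hy0
  have htop : E⟮y⟯ = ⊤ := IntermediateField.eq_of_le_of_finrank_eq le_top
    (by rw [IntermediateField.adjoin.finrank hint, hdeg, IntermediateField.finrank_top', h2])
  let σE : K →ₐ[E] K :=
    ((IntermediateField.adjoin.powerBasis hint).lift y' (by
      rw [IntermediateField.adjoin.powerBasis_gen, minpoly_gen]; exact hy')).comp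
      (((IntermediateField.equivOfEq htop).trans IntermediateField.topEquiv).symm.toAlgHom)
  have hσy : σE y = y' := by
    have : (((IntermediateField.equivOfEq htop).trans IntermediateField.topEquiv).symm y : E⟮y⟯) =
        (IntermediateField.adjoin.powerBasis hint).gen := by
      rw [AlgEquiv.symm_apply_eq, IntermediateField.adjoin.powerBasis_gen]
      rfl
    simp only [σE, AlgHom.comp_apply]
    rw [show ((((IntermediateField.equivOfEq htop).trans IntermediateField.topEquiv).symm.toAlgHom) y : E⟮y⟯) =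
      (IntermediateField.adjoin.powerBasis hint).gen from this, PowerBasis.lift_gen]
  let σ : K →ₐ[k] K := σE.restrictScalars k
  have hσs : Function.Surjective σ := by
    exact (LinearMap.injective_iff_surjective (f := σE.toLinearMap)).1 σE.toRingHom.injective
  have hbd' : Bd (k := k) x (_root_.FunFld.genus k K + 1) y' := fun P => by
    have := hbd (comapPlace σ hσs P)
    have hx : σ x = x := σE.commutes ⟨x, mem_adjoin_simple_self k x⟩
    have hP : ∀ z, (comapPlace σ hσs P).1 z = P.1 (σ z) := fun z => rfl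
    rw [hP, hP, hx, show σ y = y' from hσy] at this
    exact this
  obtain ⟨b, hb, hb'⟩ := exists_poly hfg hxt (bd_neg (bd_add hbd hbd')) (by
    show -(y + y') ∈ E
    rw [show -(y + y') = (μ.coeff 1 : K) by simp only [y']; ring]
    exact (μ.coeff 1).2)
  obtain ⟨c, hc, hc'⟩ := exists_poly hfg hxt (bd_mul hbd hbd') (by
    rw [show y * y' = (μ.coeff 0 : K) by simp only [y']; linear_combination -hy0]
    exact (μ.coeff 0).2)
  refine ⟨y, b, c, hy, hbd, ?_, hb, by omega⟩
  rw [hb', hc']
  simp only [y']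
  ring

include h2 in
/-- A function outside `k(x)` generates the field. -/
theorem adjoin_pair_eq_top {y : K} (hy : y ∉ adjoin k ({x} : Set K)) :
    adjoin k ({x, y} : Set K) = ⊤ := by
  let E := adjoin k ({x} : Set K)
  haveI : FiniteDimensional E K := Module.finite_of_finrank_pos (by rw [h2]; norm_num)
  have hint : IsIntegral E y := IsIntegral.of_finite E y
  have h1 : (minpoly E y).natDegree = 2 := by
    have h1 : (minpoly E y).natDegree ≤ 2 := h2 ▸ minpoly.natDegree_le y
    have h3 : 0 < (minpoly E y).natDegree := minpoly.natDegree_pos hint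
    have h4 : (minpoly E y).natDegree ≠ 1 := fun h => by
      obtain ⟨e, he⟩ := minpoly.natDegree_eq_one_iff.1 h
      exact hy (he ▸ e.2)
    omega
  have htop : E⟮y⟯ = ⊤ := IntermediateField.eq_of_le_of_finrank_eq le_top
    (by rw [IntermediateField.adjoin.finrank hint, h1, IntermediateField.finrank_top', h2])
  have := IntermediateField.adjoin_adjoin_left k ({x} : Set K) ({y} : Set K)
  rw [show (adjoin E ({y} : Set K)) = ⊤ from htop, IntermediateField.restrictScalars_top] at this
  rw [this, Set.singleton_union]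

end GrothLib.CurveMult.HyperEq

namespace GrothLib.CurveMult.HyperEq

variable {k K : Type u} [Field k] [Field K] [Algebra k K]

/-- A function without poles outside those of `x` has poles bounded by a power of `x`. -/
theorem exists_bd (h : FunFld.IsFG k K) {x : K} {z : K} (hz : ∀ P : Place k K, P.1 x ≤ 1 → P.1 z ≤ 1) :
    ∃ n : ℕ, ∀ m, n ≤ m → Bd (k := k) x m z := by
  classical
  by_cases hz0 : z = 0
  · exact ⟨0, fun m _ P => by rw [hz0, map_zero]; exact zero_le⟩
  let S := FunFld.poleDiv (k := k) z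
  refine ⟨S.sum fun _ e => e.natAbs, fun m hm P => ?_⟩
  rcases le_or_gt (P.1 x) 1 with hle | hgt
  · exact (hz P hle).trans (one_le_max x m P)
  · rw [max_eq_right hgt.le]
    have h1 : (S P).natAbs ≤ m := by
      refine le_trans ?_ hm
      by_cases hP : P ∈ S.support
      · exact Finset.single_le_sum (fun Q _ => Nat.zero_le (S Q).natAbs) hP
      · rw [Finsupp.notMem_support_iff.1 hP]; simp
    have hx0 : x ≠ 0 := fun h => by rw [h, map_zero] at hgt; exact absurd hgt (not_lt.2 zero_le)
    rw [FunFld.val_eq P hx0, ← exp_zero, exp_lt_exp] at hgt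
    rw [FunFld.val_eq P hz0, FunFld.val_eq P hx0, ← exp_nsmul, exp_le_exp, nsmul_eq_mul]
    have h2 : -P.ord z ≤ S P := by
      show -P.ord z ≤ FunFld.poleDiv (k := k) z P
      rw [h.poleDiv_apply]; omega
    have h3 : (m : ℤ) ≤ (m : ℤ) * -P.ord x := le_mul_of_one_le_right (by omega) (by omega)
    omega

variable (h : _root_.FunFld.IsFunctionField k K) {x : K} (hxt : Transcendental k x)
  (h2 : Module.finrank (adjoin k ({x} : Set K)) K = 2)

include h hxt h2 in
/-- `1, y` is a basis over `k[x]` of the functions regular away from the poles of `x`. -/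
theorem exists_polys {y : K} (hy : y ∉ adjoin k ({x} : Set K))
    (hyb : Bd (k := k) x (_root_.FunFld.genus k K + 1) y) {z : K}
    (hz : ∀ P : Place k K, P.1 x ≤ 1 → P.1 z ≤ 1) :
    ∃ a b : k[X], z = aeval x a + aeval x b * y := by
  classical
  have hfg : FunFld.IsFG k K := h.1
  obtain ⟨n, hn⟩ := exists_bd hfg hz
  let g := _root_.FunFld.genus k K
  let N := n + g + 1
  let D := N • FunFld.poleDiv (k := k) x
  have hdeg : D.deg = 2 * (N : ℤ) := by
    rw [FunFld.deg_nsmul, hfg.deg_poleDiv hxt, h2]; push_cast; ring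
  have hell := FunFld.ell_eq_of_deg_ge h (D := D) (by rw [hdeg]; omega)
  rw [hdeg] at hell
  let ev : k[X] →ₗ[k] K := (aeval x).toLinearMap
  let φ : (degreeLT k (N + 1) × degreeLT k (N - g)) →ₗ[k] K :=
    (ev.comp (degreeLT k (N + 1)).subtype).coprod
      ((LinearMap.mulRight k y).comp (ev.comp (degreeLT k (N - g)).subtype))
  have hdlt : ∀ {d : ℕ}, 0 < d → ∀ (p : degreeLT k d), (p : k[X]).natDegree + 1 ≤ d := fun {d} hd p => by
    by_cases hp : (p : k[X]) = 0
    · simp [hp]; omega
    · have := mem_degreeLT.1 p.2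
      rw [degree_eq_natDegree hp] at this
      exact Nat.succ_le_of_lt (by exact_mod_cast this)
  have hφ : ∀ v, φ v = aeval x (v.1 : k[X]) + aeval x (v.2 : k[X]) * y := fun v => rfl
  have hmem : ∀ v, φ v ∈ _root_.FunFld.L D := fun v => by
    rw [hφ]
    have h1 := hdlt (by omega) v.1
    have h2 := hdlt (by omega) v.2
    refine (mem_L_iff hfg hxt N _).2 (bd_add (bd_aeval _ (by omega)) ?_)
    exact bd_mono (bd_mul (bd_aeval _ le_rfl) hyb) (by omega)
  have hinj : Function.Injective φ := by
    refine (injective_iff_map_eq_zero φ).2 fun v hv => ?_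
    rw [hφ] at hv
    have hv2 : (v.2 : k[X]) = 0 := by
      by_contra hne
      refine hy ?_
      have hq : aeval x (v.2 : k[X]) ≠ 0 := fun h => hxt ⟨_, hne, h⟩
      rw [show y = -aeval x (v.1 : k[X]) / aeval x (v.2 : k[X]) by
        rw [eq_div_iff hq]; linear_combination hv]
      exact (mem_adjoin_simple_iff k _).2 ⟨-(v.1 : k[X]), (v.2 : k[X]), by rw [map_neg]⟩
    have hv1 : (v.1 : k[X]) = 0 := by
      by_contra hne
      rw [hv2, map_zero, zero_mul, add_zero] at hv
      exact hxt ⟨_, hne, hv⟩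
    exact Prod.ext (Subtype.ext hv1) (Subtype.ext hv2)
  haveI := hfg.finite_L D
  haveI : ∀ d, Module.Finite k (degreeLT k d) := fun d => Module.Finite.equiv (degreeLTEquiv k d).symm
  have h3 : ell D = Module.finrank k (_root_.FunFld.L D) := rfl
  have hd : Module.finrank k (degreeLT k (N + 1) × degreeLT k (N - g)) = Module.finrank k (_root_.FunFld.L D) := by
    rw [Module.finrank_prod, (degreeLTEquiv k (N + 1)).finrank_eq, (degreeLTEquiv k (N - g)).finrank_eq,
      Module.finrank_fin_fun, Module.finrank_fin_fun]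
    omega
  obtain ⟨v, hv⟩ := (LinearMap.injective_iff_surjective_of_finrank_eq_finrank (f := φ.codRestrict _ hmem) hd).1
    (fun a b hab => hinj (congrArg Subtype.val hab)) ⟨z, (mem_L_iff hfg hxt N z).2 (hn N (by omega))⟩
  exact ⟨v.1, v.2, (congrArg Subtype.val hv).symm.trans (hφ v)⟩

end GrothLib.CurveMult.HyperEq
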