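import Groth.Agent.Lib.CurveMult.Hyper
import Groth.Agent.Lib.CurveMult.HyperEq
import Groth.Agent.Lib.CurveMult.EtaleIso

/-!
# The affine equation of a double cover of the line
-/

set_option linter.style.haveILetI false
set_option backward.isDefEq.respectTransparency false

universe u

open CategoryTheory CategoryTheory.Limits AlgebraicGeometry TopologicalSpace Opposite
open GrothLib.Ample (res)
open GrothLib.CurveRR

noncomputable section

namespace GrothLib.CurveMult

/-- A geometrically connected smooth proper scheme has only constant functions. -/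
theorem finrank_H0_eq_one_of_geometricallyConnected (k : Type u) [Field k] {C : Scheme.{u}}
    [C.Over (Spec (CommRingCat.of k))] [IsProper (C ↘ Spec (CommRingCat.of k))]
    [Smooth (C ↘ Spec (CommRingCat.of k))] [GeometricallyConnected (C ↘ Spec (CommRingCat.of k))] :
    Module.finrank k (Coh.HH C (Coh.structureModule C) 0) = 1 := by
  let p := C ↘ Spec (CommRingCat.of k)
  let K := AlgebraicClosure k
  let φ : k →+* K := algebraMap k K
  let X' := pullback p (Spec.map (CommRingCat.ofHom φ))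
  let g : X' ⟶ C := pullback.fst _ _
  letI : X'.Over (Spec (CommRingCat.of K)) := ⟨pullback.snd p (Spec.map (CommRingCat.ofHom φ))⟩
  haveI : GeometricallyConnected (pullback.snd p (Spec.map (CommRingCat.ofHom φ))) :=
    MorphismProperty.pullback_snd _ _ inferInstance
  haveI : Smooth (X' ↘ Spec (CommRingCat.of K)) :=
    inferInstanceAs (Smooth (pullback.snd p (Spec.map (CommRingCat.ofHom φ))))
  haveI : IsProper (X' ↘ Spec (CommRingCat.of K)) :=
    inferInstanceAs (IsProper (pullback.snd p (Spec.map (CommRingCat.ofHom φ))))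
  haveI : ConnectedSpace X' :=
    GeometricallyConnected.connectedSpace_of_subsingleton (pullback.snd p (Spec.map (CommRingCat.ofHom φ)))
  haveI := Euler.isIntegral_of_smooth_connected K (X' ↘ Spec (CommRingCat.of K))
  have := Euler.isNoetherian_of_proper (X := C) k
  haveI : (Coh.structureModule C).IsQuasicoherent :=
    (Euler.isCoh_of_isInvertible Euler.isInvertible_structure).1
  rw [← finrank_HH_baseChange φ g (IsPullback.of_hasPullback p (Spec.map (CommRingCat.ofHom φ)))
    (Coh.structureModule C) 0, (Euler.hhEquiv (A := K) (OX.pullUnitIso g) 0).finrank_eq,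
    finrank_H0_structure_eq_one K]

namespace HyperAff

open MvPolynomial

variable (k : Type u) [Field k]

/-- The equation `Y² + q(X) Y - p(X)`. -/
abbrev F (p q : Polynomial k) : MvPolynomial (Fin 2) k :=
  X 1 ^ 2 + Polynomial.aeval (X 0) q * X 1 - Polynomial.aeval (X 0) p

/-- Modulo the equation every polynomial is linear in `Y`. -/
theorem exists_normalForm (p q : Polynomial k) (G : MvPolynomial (Fin 2) k) : ∃ a b : Polynomial k,
    G - (Polynomial.aeval (X 0) a + Polynomial.aeval (X 0) b * X 1) ∈ Ideal.span {F k p q} := by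
  induction G using MvPolynomial.induction_on with
  | C r => exact ⟨Polynomial.C r, 0, by simp⟩
  | add G G' hG hG' =>
    obtain ⟨a, b, h⟩ := hG
    obtain ⟨a', b', h'⟩ := hG'
    refine ⟨a + a', b + b', ?_⟩
    convert add_mem h h' using 1
    rw [map_add, map_add]; ring
  | mul_X G i hG =>
    obtain ⟨a, b, h⟩ := hG
    match i with
    | ⟨0, _⟩ =>
      refine ⟨a * Polynomial.X, b * Polynomial.X, ?_⟩
      rw [show (⟨0, by omega⟩ : Fin 2) = 0 from rfl]
      convert Ideal.mul_mem_right (X 0) _ h using 1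
      rw [map_mul, map_mul, Polynomial.aeval_X]; ring
    | ⟨1, _⟩ =>
      refine ⟨b * p, a - b * q, ?_⟩
      rw [show (⟨1, by omega⟩ : Fin 2) = 1 from rfl]
      convert add_mem (Ideal.mul_mem_right (X 1) _ h)
        (Ideal.mul_mem_left _ (Polynomial.aeval (X 0) b) (Ideal.mem_span_singleton_self (F k p q))) using 1
      rw [map_mul, map_sub, map_mul, F]; ring

/-- A presentation of a ring spanned by `1, y` over `k[x]`. -/
theorem bijective_lift {B : Type u} [CommRing B] (cst : k →+* B) (x y : B) (p q : Polynomial k)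
    (hF : y ^ 2 + q.eval₂ cst x * y - p.eval₂ cst x = 0)
    (hsurj : ∀ z, ∃ a b : Polynomial k, z = a.eval₂ cst x + b.eval₂ cst x * y)
    (hinj : ∀ a b : Polynomial k, a.eval₂ cst x + b.eval₂ cst x * y = 0 → a = 0 ∧ b = 0) :
    ∃ Φ : (MvPolynomial (Fin 2) k ⧸ Ideal.span {F k p q}) →+* B, Function.Bijective Φ ∧
      Φ.comp ((Ideal.Quotient.mk (Ideal.span {F k p q})).comp C) = cst := by
  letI : Algebra k B := cst.toAlgebra
  let ev : MvPolynomial (Fin 2) k →ₐ[k] B := MvPolynomial.aeval ![x, y]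
  have hev : ∀ a : Polynomial k, ev (Polynomial.aeval (X 0) a) = a.eval₂ cst x := fun a => by
    rw [← Polynomial.aeval_algHom_apply, MvPolynomial.aeval_X]; rfl
  have hev1 : ev (X 1) = y := by rw [MvPolynomial.aeval_X]; rfl
  have hev' : ∀ a b : Polynomial k, ev (Polynomial.aeval (X 0) a + Polynomial.aeval (X 0) b * X 1) =
      a.eval₂ cst x + b.eval₂ cst x * y := fun a b => by
    rw [map_add, map_mul, hev, hev, hev1]
  have hker : ∀ G ∈ Ideal.span {F k p q}, ev.toRingHom G = 0 := by
    intro G hG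
    obtain ⟨c, rfl⟩ := Ideal.mem_span_singleton'.1 hG
    show ev (c * F k p q) = 0
    rw [map_mul, F, map_sub, map_add, map_pow, map_mul, hev, hev, hev1, hF, mul_zero]
  refine ⟨Ideal.Quotient.lift _ ev.toRingHom hker, ⟨?_, ?_⟩, RingHom.ext fun c => ev.commutes c⟩
  · refine (injective_iff_map_eq_zero _).2 fun t ht => ?_
    obtain ⟨G, rfl⟩ := Ideal.Quotient.mk_surjective t
    obtain ⟨a, b, h⟩ := exists_normalForm k p q G
    have h1 : ev G = 0 := ht
    have h2 : ev (G - (Polynomial.aeval (X 0) a + Polynomial.aeval (X 0) b * X 1)) = 0 := hker _ h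
    rw [map_sub, h1, zero_sub, neg_eq_zero, hev'] at h2
    obtain ⟨rfl, rfl⟩ := hinj a b h2
    rw [map_zero, zero_mul, add_zero, sub_zero] at h
    exact Ideal.Quotient.eq_zero_iff_mem.2 h
  · intro z
    obtain ⟨a, b, rfl⟩ := hsurj z
    exact ⟨Ideal.Quotient.mk _ (Polynomial.aeval (X 0) a + Polynomial.aeval (X 0) b * X 1), hev' a b⟩

end HyperAff

variable (k : Type u) [Field k] {X : Scheme.{u}} [IsIntegral X] [X.Over (Spec (CommRingCat.of k))]
  [IsProper (X ↘ Spec (CommRingCat.of k))] [CurveRR.RegCurve X]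

omit [IsIntegral X] [X.Over (Spec (CommRingCat.of k))] [IsProper (X ↘ Spec (CommRingCat.of k))] [CurveRR.RegCurve X] in
/-- The ratio of two coordinates is invertible exactly on the intersection of their charts. -/
theorem basicOpen_rat (j l : Fin (1 + 1)) :
    (CohB1.ProjSpace 1 k).basicOpen (SepImm.rat j l) = SepImm.D (k := k) j ⊓ SepImm.D l := by
  let P := CohB1.polyGrading 1 k
  let ι := Proj.awayι P (MvPolynomial.X j) (Ample.ProjMap.X_mem j) one_pos
  have hrange : ι.opensRange = SepImm.D (k := k) j := Proj.opensRange_awayι P _ _ _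
  have hcongr : ι ⁻¹ᵁ (CohB1.ProjSpace 1 k).basicOpen (SepImm.rat j l) = ι ⁻¹ᵁ SepImm.D (k := k) l := by
    have e : (⊤ : (Spec (CommRingCat.of (HomogeneousLocalization.Away P (MvPolynomial.X j)))).Opens) ≤
        ι ⁻¹ᵁ SepImm.D j := by rw [← hrange, Scheme.Hom.preimage_opensRange]
    have h2 : ι ⁻¹ᵁ (CohB1.ProjSpace 1 k).basicOpen (SepImm.rat j l) =
        (Spec (CommRingCat.of (HomogeneousLocalization.Away P (MvPolynomial.X j)))).basicOpen
          ((ι.appLE (SepImm.D j) ⊤ e).hom (SepImm.rat j l)) := by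
      rw [Scheme.basicOpen_appLE, top_inf_eq]; rfl
    have h3 : (ι.appLE (SepImm.D j) ⊤ e).hom (SepImm.rat j l) =
        (Scheme.ΓSpecIso (.of (HomogeneousLocalization.Away P (MvPolynomial.X j)))).inv
          (Ample.ProjMap.ratio j l) :=
      Ample.ProjMap.awayι_appLE_awayToSection P (Ample.ProjMap.X_mem j) one_pos _ e
    rw [h2, h3, basicOpen_eq_of_affine',
      Proj.awayι_preimage_basicOpen (𝒜 := P) (Ample.ProjMap.X_mem j) one_pos (Ample.ProjMap.X_mem l) one_pos]
    refine congrArg PrimeSpectrum.basicOpen ?_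
    rw [Iso.inv_hom_id_apply]
    exact (HomogeneousLocalization.val_injective _ (by simp [Ample.ProjMap.ratio, HomogeneousLocalization.Away.isLocalizationElem]; erw [HomogeneousLocalization.Away.val_mk]; simp))
  have h := congrArg (fun U => ι ''ᵁ U) hcongr
  simp only [Scheme.Hom.image_preimage_eq_opensRange_inf, hrange] at h
  rw [← h, inf_eq_right.2 (Scheme.basicOpen_le _ _)]

include k in
/-- A point outside the preimage of a chart is a pole of the coordinate. -/
theorem one_lt_of_notMem (f : X ⟶ CohB1.ProjSpace 1 k) (hη : genericPoint X ∈ f ⁻¹ᵁ SepImm.D (k := k) 0)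
    (w : CP X) (hw : w.1 ∉ f ⁻¹ᵁ SepImm.D (k := k) 0) :
    1 < (place k w).1 (X.presheaf.germ _ _ hη (SepImm.ψ f 0 (SepImm.rat 0 1))) := by
  have hw1 : w.1 ∈ f ⁻¹ᵁ SepImm.D (k := k) 1 := by
    obtain ⟨i, hi⟩ := Opens.mem_iSup.1 ((Ample.ProjMap.iSup_basicOpen_X 1 k).ge (Opens.mem_top (f w.1)))
    match i with
    | ⟨0, _⟩ => exact absurd hi hw
    | ⟨1, _⟩ => exact hi
  have hη1 : genericPoint X ∈ f ⁻¹ᵁ SepImm.D (k := k) 1 := ProjCoh.genericPoint_mem hw1
  have hu : (place k w).1 (X.presheaf.germ _ _ hη1 (SepImm.ψ f 1 (SepImm.rat 1 0))) < 1 := by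
    rw [show X.presheaf.germ _ (genericPoint X) hη1 (SepImm.ψ f 1 (SepImm.rat 1 0)) = _ from germ_generic hw1 _]
    refine (place_lt_one_iff k).2 ((IsLocalRing.mem_maximalIdeal _).2 fun hu => hw ?_)
    have h1 : w.1 ∈ X.basicOpen (SepImm.ψ f 1 (SepImm.rat 1 0)) := (Scheme.mem_basicOpen _ _ _ hw1).2 hu
    rw [← Scheme.preimage_basicOpen, basicOpen_rat] at h1
    exact h1.2
  let W₂ : (CohB1.ProjSpace 1 k).Opens := SepImm.D 0 ⊓ SepImm.D 1
  have hmul : res (inf_le_left : W₂ ≤ SepImm.D 0) (SepImm.rat 0 1) *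
      res (inf_le_right : W₂ ≤ SepImm.D 1) (SepImm.rat 1 0) = 1 := by
    have h := (Ample.ProjMap.pcoc 1 k).change ⟨0⟩ ⟨1⟩ ⟨0⟩ W₂ inf_le_left inf_le_right inf_le_left
    rw [(Ample.ProjMap.pcoc 1 k).self ⟨0⟩ W₂ inf_le_left] at h
    exact ((congrArg₂ (· * ·) (Ample.ProjMap.g_pcoc (n := 1) (R := k) ⟨0⟩ ⟨1⟩ inf_le_left inf_le_right)
      (Ample.ProjMap.g_pcoc (n := 1) (R := k) ⟨1⟩ ⟨0⟩ inf_le_right inf_le_left)).symm.trans h.symm)
  have hmul' : X.presheaf.germ _ _ hη (SepImm.ψ f 0 (SepImm.rat 0 1)) *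
      X.presheaf.germ _ _ hη1 (SepImm.ψ f 1 (SepImm.rat 1 0)) = 1 := by
    have hη2 : f (genericPoint X) ∈ W₂ := ⟨hη, hη1⟩
    have h := congrArg ((CohB1.ProjSpace 1 k).presheaf.germ W₂ (f (genericPoint X)) hη2 ≫ f.stalkMap (genericPoint X)) hmul
    rw [map_mul, map_one] at h
    have key : ∀ (V : (CohB1.ProjSpace 1 k).Opens) (hle : W₂ ≤ V) (hV : genericPoint X ∈ f ⁻¹ᵁ V) (r : Γ(CohB1.ProjSpace 1 k, V)),
        ((CohB1.ProjSpace 1 k).presheaf.germ W₂ (f (genericPoint X)) hη2 ≫ f.stalkMap (genericPoint X)) (res hle r) =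
          X.presheaf.germ (f ⁻¹ᵁ V) (genericPoint X) hV (f.app V r) := by
      intro V hle hV r
      have h1 := (CohB1.ProjSpace 1 k).presheaf.germ_res_apply (homOfLE hle) (f (genericPoint X)) hη2 r
      exact (congrArg (f.stalkMap (genericPoint X)) h1).trans (congrArg (fun χ => χ.hom r) (f.germ_stalkMap V _ hV))
    rw [key _ _ hη, key _ _ hη1] at h
    exact h
  have h := congrArg (place k w).1 hmul'
  rw [map_mul, map_one] at h
  by_contra hle
  push Not at hle
  exact absurd h (mul_lt_one_of_nonneg_of_lt_one_right hle zero_le hu).ne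

/-- The preimage of a chart under a double cover of the line is given by a hyperelliptic equation. -/
theorem exists_affine_equation (h0 : Module.finrank k (Coh.HH X (Coh.structureModule X) 0) = 1)
    (f : X ⟶ CohB1.ProjSpace 1 k) (hf : f ≫ CohB1.ProjSpace.toSpec 1 k = X ↘ Spec (CommRingCat.of k))
    [IsFinite f] (hd : f.residueDegree (genericPoint X) = 2) :
    ∃ p q : Polynomial k, 2 * Curv2.genus k X + 1 ≤ max p.natDegree (2 * q.natDegree) ∧
      max p.natDegree (2 * q.natDegree) ≤ 2 * Curv2.genus k X + 2 ∧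
      ∃ e : (↑(f ⁻¹ᵁ SepImm.D (k := k) 0) : Scheme.{u}) ≅
          Spec (CommRingCat.of (MvPolynomial (Fin 2) k ⧸ Ideal.span {HyperAff.F k p q})),
        e.hom ≫ Spec.map (CommRingCat.ofHom ((Ideal.Quotient.mk (Ideal.span {HyperAff.F k p q})).comp
          (MvPolynomial.C : k →+* MvPolynomial (Fin 2) k))) =
          (f ⁻¹ᵁ SepImm.D (k := k) 0).ι ≫ (X ↘ Spec (CommRingCat.of k)) := by
  classical
  obtain ⟨-, -, hgen⟩ := HyperP1.isFinite_flat_dominant k f hf (range_nontrivial_of_isFinite k f)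
  have hη : genericPoint X ∈ f ⁻¹ᵁ SepImm.D (k := k) 0 := hgen _ (D_nonempty k 1 0)
  obtain ⟨hxt, hd', -⟩ := HyperP1.generic_data k f hf hgen hη rfl
  rw [hd] at hd'
  let W := f ⁻¹ᵁ SepImm.D (k := k) 0
  have hW : IsAffineOpen W :=
    (Proj.isAffineOpen_basicOpen (CohB1.polyGrading 1 k) _ (MvPolynomial.isHomogeneous_X k 0) one_pos).preimage f
  let gm : Γ(X, W) →+* X.functionField := (X.presheaf.germ W _ hη).hom
  have hgm : Function.Injective gm := germ_injective_of_isIntegral X (genericPoint X) hη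
  let cst : k →+* Γ(X, W) := (res (le_top : W ≤ ⊤)).comp (ProjUP.toGlobal (X ↘ Spec (CommRingCat.of k)))
  have hcst : gm.comp cst = algebraMap k X.functionField := RingHom.ext fun c => HyperP1.germ_const k hη c
  let xB : Γ(X, W) := SepImm.ψ f 0 (SepImm.rat 0 1)
  let x : X.functionField := gm xB
  have hxt : Transcendental k x := hxt
  have hd' : 2 = Module.finrank (IntermediateField.adjoin k ({x} : Set X.functionField)) X.functionField := hd'
  have hev : ∀ a : Polynomial k, gm (a.eval₂ cst xB) = Polynomial.aeval x a := fun a => by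
    rw [Polynomial.hom_eval₂, hcst]; rfl
  have hF := CurveRR.isFunctionField k h0
  obtain ⟨y, b, c, hy, hyb, hrel, hb, hc⟩ := HyperEq.exists_equation hF hxt hd'.symm
  have hlow := HyperEq.degree_ge hF hxt hd'.symm hy hrel
  rw [← CurveRR.genus_eq k h0] at hb hc hlow
  have hle : ∀ (z : CP X), z.1 ∈ W → ∀ r : Γ(X, W), (place k z).1 (gm r) ≤ 1 := fun z hz r => by
    show gm r ∈ (place k z).O
    exact (mem_place_O k).2 ⟨_, (germ_generic hz r).symm⟩
  obtain ⟨yB, hyB⟩ := exists_section_of_regular k hη y fun z hz => by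
    have := hyb (place k z)
    rwa [max_eq_left (hle z hz xB), one_pow] at this
  have hyB : gm yB = y := hyB
  have hsurj : ∀ z, ∃ a a' : Polynomial k, z = a.eval₂ cst xB + a'.eval₂ cst xB * yB := fun z => by
    obtain ⟨a, a', ha⟩ := HyperEq.exists_polys hF hxt hd'.symm hy hyb (z := gm z) fun P hP => by
      obtain ⟨w, rfl⟩ := place_surjective (k := k) P
      refine hle w ?_ z
      by_contra hw
      exact not_lt.2 hP (one_lt_of_notMem k f hη w hw)
    exact ⟨a, a', hgm (by rw [map_add, map_mul, hev, hev, hyB, ha])⟩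
  have hinj : ∀ a a' : Polynomial k, a.eval₂ cst xB + a'.eval₂ cst xB * yB = 0 → a = 0 ∧ a' = 0 := by
    intro a a' h
    have h' := congrArg gm h
    rw [map_add, map_mul, hev, hev, hyB, map_zero] at h'
    have ha' : a' = 0 := by
      by_contra hne
      refine hy ?_
      have hq : Polynomial.aeval x a' ≠ 0 := fun h => hxt ⟨_, hne, h⟩
      rw [show y = -Polynomial.aeval x a / Polynomial.aeval x a' by
        rw [eq_div_iff hq]; linear_combination h']
      exact (IntermediateField.mem_adjoin_simple_iff k _).2 ⟨-a, a', by rw [map_neg]⟩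
    refine ⟨?_, ha'⟩
    by_contra hne
    rw [ha', map_zero, zero_mul, add_zero] at h'
    exact hxt ⟨_, hne, h'⟩
  have hFeq : yB ^ 2 + b.eval₂ cst xB * yB - (-c).eval₂ cst xB = 0 := hgm (by
    rw [map_sub, map_add, map_pow, map_mul, hev, hev, hyB, map_zero, map_neg]
    linear_combination hrel)
  obtain ⟨Φ, hΦ, hΦc⟩ := HyperAff.bijective_lift k cst xB yB (-c) b hFeq hsurj hinj
  haveI : IsIso (CommRingCat.ofHom Φ) := (ConcreteCategory.isIso_iff_bijective _).2 hΦ
  refine ⟨-c, b, by rw [Polynomial.natDegree_neg, max_comm]; exact hlow,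
    by rw [Polynomial.natDegree_neg]; omega,
    hW.isoSpec ≪≫ asIso (Spec.map (CommRingCat.ofHom Φ)), ?_⟩
  rw [Iso.trans_hom, asIso_hom, Category.assoc, ← Spec.map_comp, ← CommRingCat.ofHom_comp, hΦc,
    ← hW.isoSpec_hom_fromSpec, Category.assoc]
  congr 1
  conv_rhs => rw [eq_toSpecΓ k (X ↘ Spec (CommRingCat.of k))]
  rw [← Category.assoc, hW.fromSpec_toSpecΓ, ← Spec.map_comp]
  rfl

end GrothLib.CurveMult
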