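import Groth.Agent.Lib.CurveMult.VeryAmpleDiv
import Groth.Agent.Lib.FunFld.Conseq

/-!
# A very ample divisor is not special on a double cover of the line
-/

set_option linter.style.haveILetI false
set_option backward.isDefEq.respectTransparency false

universe u

open CategoryTheory CategoryTheory.Limits AlgebraicGeometry TopologicalSpace Opposite WithZero
open _root_.FunFld (Place Divisor ell L)
open GrothLib.CurveRR
open GrothLib.Ample (Cocycle res)

noncomputable section

namespace GrothLib.FunFld.DoubleLine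

open _root_.FunFld

variable {k K : Type*} [Field k] [Field K] [Algebra k K]

theorem mul_mem_L_add_poleDiv (h : IsFG k K) {x : K} {D : Divisor k K} {a : K} (ha : a ∈ L (D - poleDiv x)) :
    x * a ∈ L D := fun P => by
  have h2 : P.1 x ≤ exp (poleDiv (k := k) x P) := by
    rcases eq_or_ne x 0 with rfl | hx
    · simp
    · rw [h.poleDiv_apply, val_eq P hx, exp_le_exp]; omega
  have h3 := mul_le_mul' h2 (ha P)
  rw [Finsupp.sub_apply, ← exp_add, add_sub_cancel] at h3
  rwa [map_mul]

/-- A finite-dimensional subspace stable under a transcendental element vanishes. -/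
theorem eq_bot_of_mul_mem {x : K} (hx : Transcendental k x) (V : Submodule k K) [FiniteDimensional k V]
    (hV : ∀ a ∈ V, x * a ∈ V) : V = ⊥ := by
  refine (Submodule.eq_bot_iff _).2 fun v hv => ?_
  by_contra hv0
  have hli : LinearIndependent k fun n : ℕ => (⟨x ^ n * v, by
      induction n with
      | zero => simpa using hv
      | succ n ih => rw [pow_succ', mul_assoc]; exact hV _ ih⟩ : V) := by
    refine LinearIndependent.of_comp V.subtype ?_
    have h1 : LinearIndependent k fun n : ℕ => x ^ n := by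
      rw [transcendental_iff_injective] at hx
      have h2 := (Polynomial.basisMonomials k).linearIndependent.map' (Polynomial.aeval x).toLinearMap
        (LinearMap.ker_eq_bot.2 hx)
      simpa [Function.comp_def] using h2
    exact h1.map' (LinearMap.mulRight k v) (LinearMap.ker_eq_bot.2 (mul_left_injective₀ hv0))
  haveI : Finite ℕ := hli.finite
  exact not_finite ℕ

/-- Special systems on a double cover of the line come from the line. -/
theorem ratio_mem (h : IsFunctionField k K) {C : Divisor k K} (hC : IsCanonical k K C) {x : K}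
    (hx : Transcendental k x) (hd : (poleDiv (k := k) x).deg = 2) :
    ∀ (n : ℕ) (D : Divisor k K), ell D = n → 0 < ell (C - D) →
      ∃ f : K, ∀ a ∈ L D, ∃ b ∈ IntermediateField.adjoin k ({x} : Set K), a = b * f := by
  intro n
  induction n using Nat.strong_induction_on with
  | _ n ih =>
  intro D hn hs
  have hfg : IsFG k K := h.1
  haveI := hfg.finite_L D
  obtain ⟨E, hE⟩ : ∃ E, E = poleDiv (k := k) x := ⟨_, rfl⟩
  rcases Nat.lt_or_ge n 2 with hn1 | hn2
  · obtain ⟨f, hf⟩ : ∃ f : K, L D ≤ Submodule.span k {f} := by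
      by_cases h0 : L D = ⊥
      · exact ⟨0, h0 ▸ bot_le⟩
      · obtain ⟨f, hfL, hf0⟩ := Submodule.exists_mem_ne_zero_of_ne_bot h0
        refine ⟨f, (Submodule.eq_of_le_of_finrank_le ((Submodule.span_singleton_le_iff_mem _ _).2 hfL) ?_).ge⟩
        rw [finrank_span_singleton hf0]
        have : Module.finrank k (L D) = ell D := rfl
        omega
    refine ⟨f, fun a ha => ?_⟩
    obtain ⟨c, rfl⟩ := Submodule.mem_span_singleton.1 (hf ha)
    exact ⟨algebraMap k K c, IntermediateField.algebraMap_mem _ c, Algebra.smul_def c f⟩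
  -- the pencil trick
  haveI := hfg.finite_L (D - E)
  haveI := hfg.finite_L (D + E)
  haveI := hfg.finite_L (C - D)
  haveI := hfg.finite_L (C - D - E)
  have hE0 : ∀ A : Divisor k K, A - E ≤ A := fun A => sub_le_self _ fun P => by
    rw [hE, hfg.poleDiv_apply]; simp
  have hstrict : ∀ A : Divisor k K, 0 < ell A → ell (A - E) < ell A := fun A hA => by
    haveI := hfg.finite_L A
    refine Submodule.finrank_lt_finrank_of_lt (lt_of_le_of_ne (L_mono (hE0 A)) fun he => ?_)
    have h0 := eq_bot_of_mul_mem hx (L A) fun a ha => by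
      rw [← he, hE] at ha
      exact mul_mem_L_add_poleDiv hfg ha
    rw [ell, h0, finrank_bot] at hA
    omega
  have hlt := hstrict (C - D) hs
  have hR1 := riemann_roch' h hC D
  have hR2 := riemann_roch' h hC (D + E)
  rw [deg_add, sub_add_eq_sub_sub] at hR2
  have hdE : E.deg = 2 := by rw [hE, hd]
  have hup : ell (D + E) ≤ ell D + 1 := by omega
  -- `L D + x L D ⊆ L (D + E)`
  let μ : L D × L D →ₗ[k] L (D + E) :=
    LinearMap.codRestrict _ ((L D).subtype.coprod ((LinearMap.mulLeft k x).comp (L D).subtype)) fun p => by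
      refine Submodule.add_mem _ (L_mono (fun P => ?_) p.1.2) ?_
      · rw [Finsupp.add_apply, hE, hfg.poleDiv_apply]; omega
      · show x * (p.2 : K) ∈ L (D + E)
        rw [hE]
        refine mul_mem_L_add_poleDiv hfg ?_
        rw [add_sub_cancel_right]
        exact p.2.2
  let ρ : LinearMap.ker μ →ₗ[k] L (D - E) :=
    LinearMap.codRestrict _ ((L D).subtype.comp ((LinearMap.snd k (L D) (L D)).comp (LinearMap.ker μ).subtype))
      fun p => fun P => by
        have h0 : (p.1.1 : K) + x * (p.1.2 : K) = 0 := congrArg Subtype.val (LinearMap.mem_ker.1 p.2)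
        show P.1 (p.1.2 : K) ≤ exp ((D - E) P)
        rw [Finsupp.sub_apply, show E P = poleDiv (k := k) x P from congrArg (fun A : Divisor k K => A P) hE,
          hfg.poleDiv_apply]
        rcases eq_or_ne (p.1.2 : K) 0 with hz | hz
        · rw [hz, map_zero]; exact zero_le'
        have hx0 : x ≠ 0 := fun h' => hx (h' ▸ isAlgebraic_zero)
        rw [val_eq P hz, exp_le_exp]
        have h1 := p.1.2.2 P
        rw [val_eq P hz, exp_le_exp] at h1
        have h2 := p.1.1.2 P
        rw [eq_neg_of_add_eq_zero_left h0, Valuation.map_neg, map_mul, val_eq P hz, val_eq P hx0, ← exp_add, exp_le_exp] at h2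
        omega
  have hρ : Function.Injective ρ := by
    intro p q hpq
    have h2 : (p.1.2 : K) = q.1.2 := congrArg (fun r : L (D - E) => (r : K)) hpq
    have hp : (p.1.1 : K) + x * (p.1.2 : K) = 0 := congrArg Subtype.val (LinearMap.mem_ker.1 p.2)
    have hq : (q.1.1 : K) + x * (q.1.2 : K) = 0 := congrArg Subtype.val (LinearMap.mem_ker.1 q.2)
    refine Subtype.ext (Prod.ext (Subtype.ext ?_) (Subtype.ext h2))
    rw [eq_neg_of_add_eq_zero_left hp, eq_neg_of_add_eq_zero_left hq, h2]
  have hker := LinearMap.finrank_le_finrank_of_injective hρ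
  have hrn := μ.finrank_range_add_finrank_ker
  rw [Module.finrank_prod] at hrn
  have hrange := Submodule.finrank_le (LinearMap.range μ)
  have e1 : Module.finrank k (L D) = ell D := rfl
  have e2 : Module.finrank k (L (D + E)) = ell (D + E) := rfl
  have e3 : Module.finrank k (L (D - E)) = ell (D - E) := rfl
  have hdown := hstrict D (by omega)
  have hl1 : ell (D - E) + 1 = ell D := by omega
  have hs' : 0 < ell (C - (D - E)) := by
    haveI := hfg.finite_L (C - (D - E))
    have : ell (C - D) ≤ ell (C - (D - E)) := Submodule.finrank_mono (L_mono (sub_le_sub_left (hE0 D) C))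
    omega
  obtain ⟨f, hf⟩ := ih (ell (D - E)) (by omega) (D - E) rfl hs'
  refine ⟨f, fun a ha => ?_⟩
  -- `L D = L (D - E) + x L (D - E)`
  let V := L (D - E) ⊔ (L (D - E)).map (LinearMap.mulLeft k x)
  have hVD : V ≤ L D := sup_le (L_mono (hE0 D)) (Submodule.map_le_iff_le_comap.2 fun b hb =>
    mul_mem_L_add_poleDiv hfg (hE ▸ hb))
  haveI : FiniteDimensional k V := Submodule.finiteDimensional_of_le hVD
  have hne : L (D - E) < V := by
    refine lt_of_le_of_ne le_sup_left fun he => ?_
    have h0 := eq_bot_of_mul_mem hx (L (D - E)) fun b hb => by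
      rw [he]; exact Submodule.mem_sup_right ⟨b, hb, rfl⟩
    rw [ell, h0, finrank_bot] at hl1
    omega
  have hVeq : V = L D := Submodule.eq_of_le_of_finrank_le hVD (by
    have := Submodule.finrank_lt_finrank_of_lt hne
    omega)
  rw [← hVeq] at ha
  obtain ⟨a1, ha1, _, ⟨a2, ha2, rfl⟩, rfl⟩ := Submodule.mem_sup.1 ha
  obtain ⟨b1, hb1, rfl⟩ := hf a1 ha1
  obtain ⟨b2, hb2, rfl⟩ := hf a2 ha2
  exact ⟨b1 + x * b2, add_mem hb1 (mul_mem (IntermediateField.mem_adjoin_simple_self k x) hb2), by
    show b1 * f + x * (b2 * f) = _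
    ring⟩

end GrothLib.FunFld.DoubleLine

namespace GrothLib.CurveMult

variable (k : Type u) [Field k] {X : Scheme.{u}} [IsIntegral X] [RegCurve X]
  [X.Over (Spec (CommRingCat.of k))] [IsProper (X ↘ Spec (CommRingCat.of k))]

include k in
/-- The complete system of a very ample divisor generates the function field. -/
theorem adjoin_ratios_eq_top {L : X.Modules} (hL : PicF.IsInvertible L) {D : Divisor k X.functionField}
    (eD : L ≅ oD k D) {n : ℕ} (i : X ⟶ CohB1.ProjSpace n k) [IsClosedImmersion i]
    (hi : i ≫ CohB1.ProjSpace.toSpec n k = X ↘ Spec (CommRingCat.of k))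
    (t : (Scheme.Modules.pullback i).obj (Twist.twistProjSpace n k 1) ≅ L) :
    IntermediateField.adjoin k {q : X.functionField | ∃ a ∈ _root_.FunFld.L D, ∃ b ∈ _root_.FunFld.L D, q = a / b} = ⊤ := by
  classical
  obtain ⟨c, ⟨e⟩⟩ := Ample.exists_cocycle hL
  let e0 := t ≪≫ e
  obtain ⟨hs, hmap⟩ := Ample.ProjMap.eq_map_dataOfSections i c e0
  rw [hi] at hmap
  let s := Ample.ProjMap.pullCoord i
  let a := Ample.ProjMap.sec c e0 s
  let Dt := Ample.ProjMap.dataOfSections c e0 s hs (X ↘ Spec (CommRingCat.of k))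
  let P := CohB1.polyGrading n k
  have hpre : ∀ l, i ⁻¹ᵁ Proj.basicOpen P (MvPolynomial.X l) = c.locus (a l) := fun l => by
    conv_lhs => rw [hmap]
    exact Dt.map_preimage l
  haveI : IsClosedImmersion Dt.map := by rw [← hmap]; infer_instance
  have hDp : ∀ l, IsAffineOpen (Proj.basicOpen P (MvPolynomial.X l)) := fun l =>
    Proj.isAffineOpen_basicOpen P _ (Ample.ProjMap.X_mem l) one_pos
  have haff : ∀ l, IsAffineOpen (c.locus (a l)) := fun l => hpre l ▸ (hDp l).preimage i
  have hgen : ∀ (j : Fin (n + 1)) (b : Γ(X, c.locus (a j))), b ∈ Subring.closure (Set.range (locHom k (c.locus (a j))) ∪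
      {g | ∃ l, g • c.sectRes (le_top : c.locus (a j) ≤ ⊤) (a j) = c.sectRes le_top (a l)}) := by
    intro j b
    have hle : c.locus (a j) ≤ Dt.map ⁻¹ᵁ Proj.basicOpen P (MvPolynomial.X j) := (Dt.map_preimage j).ge
    have hsur : Function.Surjective (Dt.map.appLE (Proj.basicOpen P (MvPolynomial.X j)) (c.locus (a j)) hle).hom := by
      have key : ∀ (V : X.Opens) (hV : V ≤ Dt.map ⁻¹ᵁ Proj.basicOpen P (MvPolynomial.X j)),
          V = Dt.map ⁻¹ᵁ Proj.basicOpen P (MvPolynomial.X j) →
          Function.Surjective (Dt.map.appLE (Proj.basicOpen P (MvPolynomial.X j)) V hV).hom := by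
        rintro _ hV rfl
        rw [← Scheme.Hom.app_eq_appLE]
        exact Dt.map.app_surjective _ (hDp j)
      exact key _ hle (Dt.map_preimage j).symm
    obtain ⟨w, rfl⟩ := hsur b
    exact appLE_mem_closure k c e0 s hs j hle w
  have hcov : ∀ z : X, ∃ j, z ∈ c.locus (a j) := fun z => Opens.mem_iSup.1 (hs.ge (Opens.mem_top z))
  let ε : c.twist 1 ≅ oD k D := e.symm ≪≫ eD
  let η := genericPoint X
  let h : Fin (n + 1) → X.functionField := fun l => oval k (V := ⊤) (ε.hom.app ⊤ (a l)) trivial
  have hmem : ∀ l, h l ∈ _root_.FunFld.L D := fun l R => by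
    obtain ⟨z, rfl⟩ := place_surjective (k := k) R
    exact oval_bound (V := ⊤) (ε.hom.app ⊤ (a l)) z trivial
  have hratio : ∀ (j l : Fin (n + 1)) (f : Γ(X, c.locus (a j))) (hj : η ∈ c.locus (a j)),
      f • c.sectRes (le_top : c.locus (a j) ≤ ⊤) (a j) = c.sectRes le_top (a l) →
      X.presheaf.germ _ η hj f * h j = h l := by
    intro j l f hj hf
    have hn : ∀ m, ε.hom.app (c.locus (a j)) (c.sectRes le_top (a m)) =
        (oD k D).presheaf.map (homOfLE (le_top : c.locus (a j) ≤ ⊤)).op (ε.hom.app ⊤ (a m)) := fun m =>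
      PresheafOfModules.naturality_apply ε.hom.val (homOfLE (le_top : c.locus (a j) ≤ ⊤)).op (a m)
    have h1 := congrArg (fun r : c.sect 1 (c.locus (a j)) => oval k (ε.hom.app (c.locus (a j)) r) hj) hf
    simp only at h1
    rw [hn l, oval_map] at h1
    refine Eq.trans ?_ h1
    rw [show ε.hom.app (c.locus (a j)) (f • c.sectRes le_top (a j)) =
      f • ε.hom.app (c.locus (a j)) (c.sectRes le_top (a j)) from Scheme.Modules.Hom.app_smul _ _ _,
      oval_smul, hn j, oval_map]
  let F := IntermediateField.adjoin k {q : X.functionField | ∃ a ∈ _root_.FunFld.L D, ∃ b ∈ _root_.FunFld.L D, q = a / b}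
  obtain ⟨j, hj⟩ := hcov η
  have hh0 : h j ≠ 0 := by
    intro h0
    have hsz : ε.hom.app ⊤ (a j) = 0 := oval_ext fun hV => by
      show h j = _
      rw [h0]; rfl
    have haz : (a j : c.sect 1 ⊤) = 0 := by
      have := congrArg (ε.inv.app ⊤) hsz
      rw [map_zero] at this
      exact (congrArg (fun φ : c.twist 1 ⟶ c.twist 1 => φ.app ⊤ (a j)) ε.hom_inv_id).symm.trans this
    have h1 := (c.bijective_hom_app (a j) (le_refl (c.locus (a j)))).1
    have h2 : (1 : Γ(X, c.locus (a j))) = 0 := h1 (by
      have hz : c.sectRes (le_top : c.locus (a j) ≤ ⊤) (a j) = 0 := by rw [haz, map_zero]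
      refine (c.hom_app_apply (a j) _ _).trans (Eq.trans ?_ (c.hom_app_apply (a j) _ _).symm)
      rw [hz, smul_zero, smul_zero])
    have h3 := congrArg (X.presheaf.germ (c.locus (a j)) η hj) h2
    rw [map_one, map_zero] at h3
    exact one_ne_zero (α := X.functionField) h3
  have hsec : ∀ b : Γ(X, c.locus (a j)), X.presheaf.germ _ η hj b ∈ F := by
    intro b
    refine (Subring.closure_le (t := F.toSubfield.toSubring.comap (X.presheaf.germ (c.locus (a j)) η hj).hom)).2
      ?_ (hgen j b)
    rintro g (⟨r, rfl⟩ | ⟨l, hl⟩)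
    · show X.presheaf.germ _ η hj _ ∈ F
      rw [show X.presheaf.germ _ η hj (locHom k (c.locus (a j)) r) = algebraMap k X.functionField r from
        (TopCat.Presheaf.germ_res_apply _ _ _ _ _).trans (germ_toGlobal k r)]
      exact IntermediateField.algebraMap_mem _ r
    · show X.presheaf.germ _ η hj g ∈ F
      refine IntermediateField.subset_adjoin k _ ⟨h l, hmem l, h j, hmem j, ?_⟩
      rw [← hratio j l g hj hl, mul_div_assoc, div_self hh0, mul_one]
  rw [eq_top_iff]
  intro z _
  haveI : Nonempty (c.locus (a j)) := ⟨⟨η, hj⟩⟩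
  haveI := functionField_isFractionRing_of_isAffineOpen X (c.locus (a j)) (haff j)
  obtain ⟨p, q, hq, rfl⟩ := IsFractionRing.div_surjective (A := Γ(X, c.locus (a j))) z
  exact div_mem (hsec p) (hsec q)

include k in
/-- A very ample special divisor does not exist on a double cover of the line. -/
theorem not_special_of_closedImmersion (h0 : Module.finrank k (Coh.HH X (Coh.structureModule X) 0) = 1)
    {n : ℕ} (i : X ⟶ CohB1.ProjSpace n k) [IsClosedImmersion i]
    (hi : i ≫ CohB1.ProjSpace.toSpec n k = X ↘ Spec (CommRingCat.of k))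
    (hL : PicF.IsInvertible ((Scheme.Modules.pullback i).obj (Twist.twistProjSpace n k 1)))
    (hs : Nontrivial (Coh.HH X ((Scheme.Modules.pullback i).obj (Twist.twistProjSpace n k 1)) 1))
    {x : X.functionField} (hx : Transcendental k x)
    (h2 : Module.finrank (IntermediateField.adjoin k ({x} : Set X.functionField)) X.functionField = 2) : False := by
  have hK := isFunctionField k h0
  have hfg : GrothLib.FunFld.IsFG k X.functionField := hK.1
  obtain ⟨C, hC⟩ := GrothLib.FunFld.exists_isCanonical hK
  obtain ⟨D, ⟨eD⟩⟩ := exists_iso_oD k hL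
  haveI := Euler.isNoetherian_of_proper (X := X) k
  haveI := Euler.finiteDimensional_HH k (Euler.isCoh_of_isInvertible hL) 1
  have hCD : 0 < ell (C - D) := by
    rw [← finrank_H1_oD k hK hC D, ← (Euler.hhEquiv (A := k) eD 1).finrank_eq]
    exact Module.finrank_pos (h := hs)
  obtain ⟨f, hf⟩ := GrothLib.FunFld.DoubleLine.ratio_mem hK hC hx
    (by rw [hfg.deg_poleDiv hx, h2]; rfl) (ell D) D rfl hCD
  have htop := adjoin_ratios_eq_top k hL eD i hi (Iso.refl _)
  have hle : IntermediateField.adjoin k {q : X.functionField | ∃ a ∈ _root_.FunFld.L D, ∃ b ∈ _root_.FunFld.L D, q = a / b} ≤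
      IntermediateField.adjoin k ({x} : Set X.functionField) := by
    refine IntermediateField.adjoin_le_iff.2 ?_
    rintro q ⟨a, ha, b, hb, rfl⟩
    obtain ⟨a', ha', rfl⟩ := hf a ha
    obtain ⟨b', hb', rfl⟩ := hf b hb
    rcases eq_or_ne f 0 with rfl | hf0
    · simp only [mul_zero, div_zero]; exact zero_mem _
    · rw [mul_div_mul_right _ _ hf0]; exact div_mem ha' hb'
  rw [htop, top_le_iff] at hle
  rw [hle] at h2
  rw [IntermediateField.finrank_top] at h2
  omega

end GrothLib.CurveMult
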