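import Groth.Agent.Lib.CurveMult.PlaneCohom
import Groth.Agent.Lib.CurveMult.VeryAmpleLine
import Groth.Agent.Lib.CurveMult.HyperAff
import Groth.Agent.Lib.CurveMult.GenEtale
import Groth.Agent.Lib.CurveMult.HyperSep
import Groth.Agent.Lib.AlgSp.Dim

/-!
# Smooth plane curves of degree at least four have no double cover of the line
-/

set_option linter.style.haveILetI false
set_option backward.isDefEq.respectTransparency false

universe u

open CategoryTheory CategoryTheory.Limits AlgebraicGeometry TopologicalSpace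
open GrothLib.CurveRR

noncomputable section

namespace GrothLib.CurveMult

variable {k : Type u} [Field k] {d : ℕ} (G : LefPen.Form 2 k d)
  [((LefPen.hypIdeal G).subscheme).Over (Spec (CommRingCat.of k))]
  (hinst : (LefPen.hypIdeal G).subscheme ↘ (Spec (CommRingCat.of k)) =
    (LefPen.hypIdeal G).subschemeι ≫ CohB1.ProjSpace.toSpec 2 k)

/-- A smooth proper scheme with a finite surjection to a curve is a curve. -/
theorem dim_eq_one_of_finite {X Y : Scheme.{u}} (f : X ⟶ Y) [IsFinite f] [Surjective f]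
    (hY : topologicalKrullDim Y = 1) : topologicalKrullDim X = 1 :=
  le_antisymm ((AlgSp.topologicalKrullDim_le_of_isIntegralHom f).trans hY.le)
    (hY.ge.trans (AlgSp.topologicalKrullDim_le_of_isIntegralHom_surjective f))

include hinst

theorem planeCurve_setup (hd : 1 ≤ d) (hG : G ≠ 0) [Smooth ((LefPen.hypIdeal G).subscheme ↘ (Spec (CommRingCat.of k)))] :
    IsProper ((LefPen.hypIdeal G).subscheme ↘ (Spec (CommRingCat.of k))) ∧ IsIntegral (LefPen.hypIdeal G).subscheme ∧
      Module.finrank k (Coh.HH (LefPen.hypIdeal G).subscheme (Coh.structureModule (LefPen.hypIdeal G).subscheme) 0) = 1 := by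
  have hprop : IsProper ((LefPen.hypIdeal G).subscheme ↘ (Spec (CommRingCat.of k))) := by
    haveI := Chow.isProper_toSpec 2 k
    rw [hinst]; infer_instance
  haveI := hprop
  obtain ⟨h0, -⟩ := PlaneCohom.finrank_structure G hinst hd hG
  haveI := connectedSpace_of_finrank_H0 k h0
  exact ⟨hprop, Euler.isIntegral_of_smooth_connected k ((LefPen.hypIdeal G).subscheme ↘ (Spec (CommRingCat.of k))), h0⟩

/-- No double cover of the projective line. -/
theorem not_doubleCover_planeCurve (hd : 4 ≤ d) (hG : G ≠ 0)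
    [Smooth ((LefPen.hypIdeal G).subscheme ↘ (Spec (CommRingCat.of k)))]
    (φ : (LefPen.hypIdeal G).subscheme ⟶ CohB1.ProjSpace 1 k)
    (hφ : φ ≫ CohB1.ProjSpace.toSpec 1 k = (LefPen.hypIdeal G).subscheme ↘ (Spec (CommRingCat.of k)))
    [IsFinite φ] [Flat φ] (hrank : ∀ y, Scheme.Hom.finrank φ y = 2) : False := by
  obtain ⟨_, _, h0⟩ := planeCurve_setup G hinst (by omega) hG
  haveI : Surjective φ := φ.one_le_finrank_iff_surjective.1 fun y => by
    show 1 ≤ φ.finrank y
    rw [hrank]; norm_num
  have hdim := dim_eq_one_of_finite φ (by exact_mod_cast Groth.Agent.S10829.result k 1)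
  haveI := regCurve_of_smooth ((LefPen.hypIdeal G).subscheme ↘ (Spec (CommRingCat.of k))) hdim
  haveI : IsIntegral (CohB1.ProjSpace 1 k) := ProjDim.isIntegral_proj k 1
  haveI := Chow.isProper_toSpec 1 k
  haveI : IsLocallyNoetherian (CohB1.ProjSpace 1 k) :=
    LocallyOfFiniteType.isLocallyNoetherian (CohB1.ProjSpace.toSpec 1 k)
  obtain ⟨-, -, hgen⟩ := HyperP1.isFinite_flat_dominant k φ hφ (range_nontrivial_of_isFinite k φ)
  have hη : genericPoint (LefPen.hypIdeal G).subscheme ∈ φ ⁻¹ᵁ SepImm.D (k := k) 0 := hgen _ (D_nonempty k 1 0)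
  obtain ⟨hxt, hd', -⟩ := HyperP1.generic_data k φ hφ hgen hη rfl
  have hξ : φ (genericPoint (LefPen.hypIdeal G).subscheme) = genericPoint (CohB1.ProjSpace 1 k) :=
    CurvePoints.map_genericPoint_of_nontrivial (by exact_mod_cast (Groth.Agent.S10829.result k 1).le) φ
      (range_nontrivial_of_isFinite k φ)
  obtain ⟨hfr, -⟩ := generic_finite_flat φ hξ
  rw [← hfr (Classical.arbitrary _), hrank] at hd'
  exact not_special_of_closedImmersion k h0 (LefPen.hypIdeal G).subschemeι hinst.symm
    (RelProjK.isInvertible_pullback _ (CMReg.isInvertible_twist (n := 2) (k := k) 1))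
    (PlaneCohom.nontrivial_H1_one G hinst hd hG) hxt hd'.symm

end GrothLib.CurveMult
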