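import Groth.Agent.Lib.CurveMult.HyperP1
import Groth.Agent.Lib.HypSurf.HypIdeal

/-!
# Maps of curves to projective space given by functions
-/

set_option linter.style.haveILetI false
set_option backward.isDefEq.respectTransparency false

universe u

open CategoryTheory CategoryTheory.Limits AlgebraicGeometry TopologicalSpace Opposite
open GrothLib.Ample (res)
open GrothLib.CurveRR

noncomputable section

namespace GrothLib.CurveMult.PnMap

variable (k : Type u) [Field k] {X : Scheme.{u}} [IsIntegral X] [RegCurve X]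
  [X.Over (Spec (CommRingCat.of k))] [IsProper (X ↘ Spec (CommRingCat.of k))]

/-- The morphism given by nonzero functions. -/
theorem exists_hom {n : ℕ} (v : Fin (n + 1) → X.functionField) (hv : ∀ i, v i ≠ 0) :
    ∃ (f : X ⟶ CohB1.ProjSpace n k) (hη : ∀ i, genericPoint X ∈ f ⁻¹ᵁ SepImm.D (k := k) i),
      f ≫ CohB1.ProjSpace.toSpec n k = X ↘ Spec (CommRingCat.of k) ∧
      (∀ i (z : CP X), z.1 ∈ f ⁻¹ᵁ SepImm.D (k := k) i ↔ ∀ l, (place k z).1 (v l / v i) ≤ 1) ∧
      ∀ i l, X.presheaf.germ _ _ (hη i) (SepImm.ψ f i (SepImm.rat i l)) = v l / v i := by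
  classical
  have hfin : ∀ i, {z : CP X | ∃ l, 1 < (place k z).1 (v l / v i)}.Finite := by
    intro i
    refine (Set.finite_iUnion fun l => finite_bad k 0 (v l / v i)).subset fun z ⟨l, hl⟩ => ?_
    refine Set.mem_iUnion.2 ⟨l, Or.inr fun h0 => not_le.2 hl ?_⟩
    have hne : v l / v i ≠ 0 := div_ne_zero (hv l) (hv i)
    exact (GrothLib.FunFld.val_le_one_iff (place k z) hne).2 h0.ge
  choose U hU using fun i => exists_open_avoiding (hfin i)
  have hηU : ∀ i, genericPoint X ∈ U i := fun i => (hU i _).2 fun z _ => z.2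
  have hzU : ∀ i (z : CP X), z.1 ∈ U i ↔ ∀ l, (place k z).1 (v l / v i) ≤ 1 := by
    intro i z
    rw [hU]
    refine ⟨fun h l => not_lt.1 fun hlt => h z ⟨l, hlt⟩ rfl, fun h w hw he => ?_⟩
    obtain ⟨l, hl⟩ := hw
    rw [Subtype.ext he] at hl
    exact not_le.2 hl (h l)
  choose φ hφ using fun i l => exists_section_of_regular k (hηU i) (v l / v i) fun z hz => (hzU i z).1 hz l
  have hcover : ⨆ i, U i = ⊤ := eq_top_iff.2 fun y _ => by
    by_cases hy : y = genericPoint X
    · exact Opens.mem_iSup.2 ⟨0, hy ▸ hηU 0⟩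
    obtain ⟨i, -, hi⟩ := Finset.exists_max_image (Finset.univ : Finset (Fin (n + 1)))
      (fun l => (place k (⟨y, hy⟩ : CP X)).1 (v l)) ⟨0, Finset.mem_univ _⟩
    refine Opens.mem_iSup.2 ⟨i, (hzU i ⟨y, hy⟩).2 fun l => ?_⟩
    rw [map_div₀, div_le_one₀ (zero_lt_iff.2 ((map_ne_zero _).2 (hv i)))]
    exact hi l (Finset.mem_univ _)
  have hinj : ∀ {W : X.Opens} (hW : genericPoint X ∈ W), Function.Injective (X.presheaf.germ W _ hW) := fun hW => by
    exact germ_injective_of_isIntegral X (genericPoint X) hW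
  let Dt : Ample.ProjMap.Data n (X ↘ Spec (CommRingCat.of k)) :=
    { U := U
      φ := φ
      cover := hcover
      self := fun i => hinj (hηU i) (by rw [hφ, map_one, div_self (hv i)])
      change := fun i j l W hi hj => by
        by_cases hW : genericPoint X ∈ W
        · refine hinj hW ?_
          have hr : ∀ (a : Fin (n + 1)) (ha : W ≤ U a) (b : Fin (n + 1)),
              X.presheaf.germ W _ hW (res ha (φ a b)) = v b / v a :=
            fun a ha b => (X.presheaf.germ_res_apply _ _ _ _).trans (hφ a b)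
          rw [map_mul, hr, hr, hr]
          field_simp [hv i, hv j]
        · exact TopCat.Presheaf.section_ext X.sheaf W _ _ fun y hy => (hW (ProjCoh.genericPoint_mem hy)).elim
      basicOpen_eq := fun i j => by
        refine Opens.ext (Set.ext fun y => ?_)
        by_cases hy : y = genericPoint X
        · subst hy
          refine iff_of_true ?_ ⟨hηU i, hηU j⟩
          rw [SetLike.mem_coe, Scheme.mem_basicOpen _ _ _ (hηU i), hφ]
          exact (div_ne_zero (hv j) (hv i)).isUnit
        let z : CP X := ⟨y, hy⟩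
        show y ∈ X.basicOpen (φ i j) ↔ y ∈ U i ⊓ U j
        by_cases hyi : y ∈ U i
        swap
        · exact iff_of_false (fun h => hyi (X.basicOpen_le _ h)) fun h => hyi h.1
        have hle := (hzU i z).1 hyi
        have hkey : y ∈ X.basicOpen (φ i j) ↔ ¬ (place k z).1 (v j / v i) < 1 := by
          rw [← hφ i j, germ_generic hyi, place_lt_one_iff, IsLocalRing.mem_maximalIdeal, mem_nonunits_iff, not_not,
            Scheme.mem_basicOpen _ _ _ hyi]
        rw [hkey]
        have hpos : 0 < (place k z).1 (v i) := zero_lt_iff.2 ((map_ne_zero _).2 (hv i))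
        have hposj : 0 < (place k z).1 (v j) := zero_lt_iff.2 ((map_ne_zero _).2 (hv j))
        constructor
        · intro h
          refine ⟨hyi, (hzU j z).2 fun l => ?_⟩
          rw [map_div₀, div_le_one₀ hposj]
          rw [map_div₀, not_lt, one_le_div₀ hpos] at h
          have := hle l
          rw [map_div₀, div_le_one₀ hpos] at this
          exact this.trans h
        · intro h hlt
          have h2 := (hzU j z).1 h.2 i
          rw [map_div₀, div_le_one₀ hposj] at h2
          rw [map_div₀, div_lt_one₀ hpos] at hlt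
          exact not_lt.2 h2 hlt }
  have hη : ∀ i, genericPoint X ∈ Dt.map ⁻¹ᵁ SepImm.D (k := k) i := fun i => by rw [Dt.map_preimage]; exact hηU i
  refine ⟨Dt.map, hη, Dt.map_toSpec, fun i z => ?_, fun i l => ?_⟩
  · rw [Dt.map_preimage]; exact hzU i z
  · have h1 := Dt.map_appLE_ratio i l (W := Dt.map ⁻¹ᵁ SepImm.D (k := k) i) (Dt.map_preimage i).le le_rfl
    have h2 : SepImm.ψ Dt.map i (SepImm.rat i l) =
        res (show Dt.map ⁻¹ᵁ SepImm.D (k := k) i ≤ U i from (Dt.map_preimage i).le) (φ i l) := by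
      rw [SepImm.ψ, Scheme.Hom.app_eq_appLE]
      exact h1
    rw [h2]
    exact (X.presheaf.germ_res_apply _ _ _ _).trans (hφ i l)

omit [IsIntegral X] [RegCurve X] [X.Over (Spec (CommRingCat.of k))] [IsProper (X ↘ Spec (CommRingCat.of k))] in
/-- The ratio of two coordinates is invertible exactly on the intersection of their charts. -/
theorem basicOpen_rat {n : ℕ} (j l : Fin (n + 1)) :
    (CohB1.ProjSpace n k).basicOpen (SepImm.rat j l) = SepImm.D (k := k) j ⊓ SepImm.D l := by
  let P := CohB1.polyGrading n k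
  let ι := Proj.awayι P (MvPolynomial.X j) (Ample.ProjMap.X_mem j) one_pos
  have hrange : ι.opensRange = SepImm.D (k := k) j := Proj.opensRange_awayι P _ _ _
  have hcongr : ι ⁻¹ᵁ (CohB1.ProjSpace n k).basicOpen (SepImm.rat j l) = ι ⁻¹ᵁ SepImm.D (k := k) l := by
    have e : (⊤ : (Spec (CommRingCat.of (HomogeneousLocalization.Away P (MvPolynomial.X j)))).Opens) ≤
        ι ⁻¹ᵁ SepImm.D j := by rw [← hrange, Scheme.Hom.preimage_opensRange]
    have h2 : ι ⁻¹ᵁ (CohB1.ProjSpace n k).basicOpen (SepImm.rat j l) =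
        (Spec (CommRingCat.of (HomogeneousLocalization.Away P (MvPolynomial.X j)))).basicOpen
          ((ι.appLE (SepImm.D j) ⊤ e).hom (SepImm.rat j l)) := by
      rw [Scheme.basicOpen_appLE, top_inf_eq]; rfl
    have h3 : (ι.appLE (SepImm.D j) ⊤ e).hom (SepImm.rat j l) =
        (Scheme.ΓSpecIso (.of (HomogeneousLocalization.Away P (MvPolynomial.X j)))).inv
          (Ample.ProjMap.ratio j l) :=
      Ample.ProjMap.awayι_appLE_awayToSection P (Ample.ProjMap.X_mem j) one_pos _ e
    rw [h2, h3, basicOpen_eq_of_affine',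
      Proj.awayι_preimage_basicOpen (𝒜 := P) (Ample.ProjMap.X_mem j) one_pos (Ample.ProjMap.X_mem l) one_pos]
    refine congrArg PrimeSpectrum.basicOpen ?_
    rw [Iso.inv_hom_id_apply]
    exact (HomogeneousLocalization.val_injective _ (by simp [Ample.ProjMap.ratio, HomogeneousLocalization.Away.isLocalizationElem]; erw [HomogeneousLocalization.Away.val_mk]; simp))
  have h := congrArg (fun U => ι ''ᵁ U) hcongr
  simp only [Scheme.Hom.image_preimage_eq_opensRange_inf, hrange] at h
  rw [← h, inf_eq_right.2 (Scheme.basicOpen_le _ _)]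

omit [IsIntegral X] [RegCurve X] [X.Over (Spec (CommRingCat.of k))] [IsProper (X ↘ Spec (CommRingCat.of k))] in
/-- Polynomials in the coordinates as functions on a chart. -/
def χ {n : ℕ} (i : Fin (n + 1)) : MvPolynomial (Fin (n + 1)) k →+* Γ(CohB1.ProjSpace n k, SepImm.D i) :=
  (Proj.awayToSection (CohB1.polyGrading n k) (MvPolynomial.X i)).hom.comp
    (MvPolynomial.eval₂Hom (Ample.ProjMap.cst (MvPolynomial.X i)) (Ample.ProjMap.ratio i))

omit [IsIntegral X] [RegCurve X] [X.Over (Spec (CommRingCat.of k))] [IsProper (X ↘ Spec (CommRingCat.of k))] in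
theorem χ_apply {n : ℕ} (i : Fin (n + 1)) (G : MvPolynomial (Fin (n + 1)) k) :
    χ k i G = (Proj.awayToSection (CohB1.polyGrading n k) (MvPolynomial.X i)).hom
      (MvPolynomial.eval₂Hom (Ample.ProjMap.cst (MvPolynomial.X i)) (Ample.ProjMap.ratio i) G) := rfl

omit [IsIntegral X] [RegCurve X] [X.Over (Spec (CommRingCat.of k))] [IsProper (X ↘ Spec (CommRingCat.of k))] in
theorem χ_surjective {n : ℕ} (i : Fin (n + 1)) : Function.Surjective (χ k i) := by
  intro w
  obtain ⟨w₀, rfl⟩ : ∃ w₀, Proj.awayToSection (CohB1.polyGrading n k) (MvPolynomial.X i) w₀ = w :=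
    Proj.basicOpenIsoAway_hom (CohB1.polyGrading n k) _ (Ample.ProjMap.X_mem i) one_pos ▸
      (ConcreteCategory.bijective_of_isIso
        (Proj.basicOpenIsoAway (CohB1.polyGrading n k) _ (Ample.ProjMap.X_mem i) one_pos).hom).2 w
  obtain ⟨g, rfl⟩ := Ample.ProjMap.exists_eval_ratio i w₀
  exact ⟨g, rfl⟩

omit [IsIntegral X] [RegCurve X] [X.Over (Spec (CommRingCat.of k))] [IsProper (X ↘ Spec (CommRingCat.of k))] in
theorem χ_self {n : ℕ} (i : Fin (n + 1)) : χ k i (MvPolynomial.X i) = 1 := by
  rw [χ_apply, MvPolynomial.eval₂Hom_X', SepImm.ratio_self]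
  exact map_one _

omit [IsIntegral X] [RegCurve X] [X.Over (Spec (CommRingCat.of k))] [IsProper (X ↘ Spec (CommRingCat.of k))] in
/-- Dehomogenization is evaluation at the ratios. -/
theorem χ_form {n d : ℕ} (i : Fin (n + 1)) (G : LefPen.Form n k d) : χ k i G.1 = LefPen.dehom G i := by
  refine congrArg (Proj.awayToSection (CohB1.polyGrading n k) (MvPolynomial.X i)).hom
    (HomogeneousLocalization.val_injective _ ?_)
  let V : HomogeneousLocalization.Away (CohB1.polyGrading n k) (MvPolynomial.X i) →+*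
      Localization.Away (MvPolynomial.X i : MvPolynomial (Fin (n + 1)) k) := algebraMap _ _
  let F : MvPolynomial (Fin (n + 1)) k →+* Localization.Away (MvPolynomial.X i : MvPolynomial (Fin (n + 1)) k) :=
    V.comp (MvPolynomial.eval₂Hom (Ample.ProjMap.cst (MvPolynomial.X i)) (Ample.ProjMap.ratio i))
  have hF : ∀ l, algebraMap _ _ (MvPolynomial.X l) =
      algebraMap _ (Localization.Away (MvPolynomial.X i : MvPolynomial (Fin (n + 1)) k)) (MvPolynomial.X i) *
        F (MvPolynomial.X l) := fun l => by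
    simp only [F, V, RingHom.comp_apply, MvPolynomial.eval₂Hom_X']
    rw [mul_comm]
    exact (Ample.ProjMap.ratio_val i l).symm
  have h := Ample.ProjMap.map_eq_pow_mul F (algebraMap _ _) _ (fun r => by
    simp only [F, V, RingHom.comp_apply, MvPolynomial.eval₂Hom_C]
    exact (Ample.ProjMap.cst_val _ r).symm) hF d G.1 G.2
  show F G.1 = _
  rw [HomogeneousLocalization.Away.val_mk, Localization.mk_eq_mk', IsLocalization.eq_mk'_iff_mul_eq, map_pow, mul_comm]
  exact h.symm

/-- The pullback of a polynomial is its value at the functions. -/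
theorem germ_ψ_χ {n : ℕ} (f : X ⟶ CohB1.ProjSpace n k)
    (hf : f ≫ CohB1.ProjSpace.toSpec n k = X ↘ Spec (CommRingCat.of k)) (i : Fin (n + 1))
    (hη : genericPoint X ∈ f ⁻¹ᵁ SepImm.D (k := k) i) (w : Fin (n + 1) → X.functionField)
    (hw : ∀ l, X.presheaf.germ _ _ hη (SepImm.ψ f i (SepImm.rat i l)) = w l) (G : MvPolynomial (Fin (n + 1)) k) :
    X.presheaf.germ _ _ hη (SepImm.ψ f i (χ k i G)) = MvPolynomial.aeval w G := by
  have : ((X.presheaf.germ (f ⁻¹ᵁ SepImm.D (k := k) i) _ hη).hom.comp (SepImm.ψ f i)).comp (χ k i) =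
      (MvPolynomial.aeval w : MvPolynomial (Fin (n + 1)) k →ₐ[k] X.functionField).toRingHom := by
    refine MvPolynomial.ringHom_ext (fun r => ?_) fun l => ?_
    · show X.presheaf.germ _ _ hη (SepImm.ψ f i (χ k i (MvPolynomial.C r))) = MvPolynomial.aeval w (MvPolynomial.C r)
      rw [χ_apply, MvPolynomial.eval₂Hom_C, MvPolynomial.aeval_C]
      erw [SepImm.awayToSection_cst, SepImm.ψ_cD f hf, HyperP1.germ_const]
    · show X.presheaf.germ _ _ hη (SepImm.ψ f i (χ k i (MvPolynomial.X l))) = MvPolynomial.aeval w (MvPolynomial.X l)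
      rw [χ_apply, MvPolynomial.eval₂Hom_X', MvPolynomial.aeval_X]
      exact hw l
  exact RingHom.congr_fun this G

end GrothLib.CurveMult.PnMap
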