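import Groth.Agent.Lib.CurveMult.HyperEq
import Groth.Agent.S10998

/-!
# Weierstrass coordinates on a function field of genus one
-/

set_option linter.style.haveILetI false

universe u

open IntermediateField Polynomial WithZero
open _root_.FunFld (Place Divisor ell)

noncomputable section

namespace GrothLib.CurveMult.WeierFF

variable {k K : Type u} [Field k] [Field K] [Algebra k K]
  (hK : _root_.FunFld.IsFunctionField k K) (hg : _root_.FunFld.genus k K = 1) {P₀ : Place k K} (hP : P₀.deg = 1)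

/-- Functions regular away from `P₀` with the pole orders of Weierstrass coordinates. -/
def IsCoords (P₀ : Place k K) (x y : K) : Prop :=
  P₀.1 x = exp 2 ∧ P₀.1 y = exp 3 ∧ ∀ Q : Place k K, Q ≠ P₀ → Q.1 x ≤ 1 ∧ Q.1 y ≤ 1

include hK hg hP in
/-- Weierstrass coordinates and their equation. -/
theorem exists_coords : ∃ (x y : K) (a₁ a₂ a₃ a₄ a₆ : k), IsCoords P₀ x y ∧
    y ^ 2 + algebraMap k K a₁ * x * y + algebraMap k K a₃ * y =
      x ^ 3 + algebraMap k K a₂ * x ^ 2 + algebraMap k K a₄ * x + algebraMap k K a₆ := by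
  obtain ⟨x, y, hx, hy, hxo, hyo, -, f, g, hf, hg3, hrel⟩ := Groth.Agent.S10998.result k K hK hg P₀ hP
  have hx0 : x ≠ 0 := fun h => by rw [h] at hxo; simp [_root_.FunFld.Place.ord] at hxo
  have hy0 : y ≠ 0 := fun h => by rw [h] at hyo; simp [_root_.FunFld.Place.ord] at hyo
  let c := g.coeff 3
  have hc : c ≠ 0 := by
    show g.coeff 3 ≠ 0
    rw [← hg3]
    exact Polynomial.leadingCoeff_ne_zero.2 fun h => by simp [h] at hg3
  have hxQ := ((FunFld.mem_L_single_iff hx0 (by norm_num)).1 hx).2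
  have hyQ := ((FunFld.mem_L_single_iff hy0 (by norm_num)).1 hy).2
  have hsc : ∀ (Q : Place k K) (a : k), a ≠ 0 → ∀ z, Q.1 (algebraMap k K a * z) = Q.1 z := fun Q a ha z => by
    rw [map_mul, FunFld.val_const Q ha, one_mul]
  refine ⟨algebraMap k K (-c⁻¹) * x, algebraMap k K (c ^ 2)⁻¹ * y, -f.coeff 1 / c, -g.coeff 2 / c ^ 2,
    f.coeff 0 / c ^ 2, g.coeff 1 / c ^ 3, -g.coeff 0 / c ^ 4, ⟨?_, ?_, fun Q hQ => ⟨?_, ?_⟩⟩, ?_⟩
  · rw [hsc P₀ _ (by simp [hc]), FunFld.val_eq P₀ hx0, hxo]; norm_num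
  · rw [hsc P₀ _ (by simp [hc]), FunFld.val_eq P₀ hy0, hyo]; norm_num
  · rw [hsc Q _ (by simp [hc])]; exact (FunFld.val_le_one_iff Q hx0).2 (hxQ Q hQ)
  · rw [hsc Q _ (by simp [hc])]; exact (FunFld.val_le_one_iff Q hy0).2 (hyQ Q hQ)
  have hc' : algebraMap k K c ≠ 0 := (_root_.map_ne_zero _).2 hc
  have ef : aeval x f = algebraMap k K (f.coeff 0) + algebraMap k K (f.coeff 1) * x := by
    conv_lhs => rw [eq_X_add_C_of_natDegree_le_one hf]
    rw [map_add, map_mul, aeval_C, aeval_C, aeval_X]; ring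
  have eg : aeval x g = algebraMap k K (g.coeff 0) + algebraMap k K (g.coeff 1) * x +
      algebraMap k K (g.coeff 2) * x ^ 2 + algebraMap k K c * x ^ 3 := by
    rw [aeval_eq_sum_range, hg3]
    simp [Finset.sum_range_succ, Algebra.smul_def, c]
  rw [ef, eg] at hrel
  simp only [map_div₀, map_neg, map_pow, map_inv₀]
  field_simp
  linear_combination hrel

include hK hg hP in
/-- A monomial basis for the functions with poles only at `P₀`. -/
theorem mem_span_monomials {x y : K} (hxy : IsCoords P₀ x y) :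
    ∀ (m : ℕ), ∀ z ∈ _root_.FunFld.L (Finsupp.single P₀ (m : ℤ) : Divisor k K),
      z ∈ Submodule.span k {w : K | ∃ i e : ℕ, i ≤ 2 ∧ 2 * i + 3 * e ≤ m ∧ w = x ^ i * y ^ e} := by
  classical
  have hfg : FunFld.IsFG k K := hK.1
  have hell : ∀ n : ℕ, 1 ≤ n → ell (Finsupp.single P₀ (n : ℤ) : Divisor k K) = n := fun n hn => by
    have := FunFld.ell_eq_deg_of_genus_one hK hg (D := Finsupp.single P₀ (n : ℤ))
      (by rw [FunFld.deg_single, hP]; simp; omega)
    rw [FunFld.deg_single, hP] at this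
    omega
  have hmono : ∀ i e : ℕ, P₀.1 (x ^ i * y ^ e) = exp ((2 * i + 3 * e : ℕ) : ℤ) := fun i e => by
    rw [map_mul, map_pow, map_pow, hxy.1, hxy.2.1, ← exp_nsmul, ← exp_nsmul, ← exp_add]
    congr 1
    simp only [nsmul_eq_mul]; push_cast; ring
  have hmem : ∀ i e m : ℕ, 2 * i + 3 * e ≤ m →
      x ^ i * y ^ e ∈ _root_.FunFld.L (Finsupp.single P₀ (m : ℤ) : Divisor k K) := fun i e m hm Q => by
    by_cases hQ : Q = P₀
    · rw [hQ, hmono, Finsupp.single_eq_same, exp_le_exp]; exact_mod_cast hm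
    · rw [Finsupp.single_eq_of_ne hQ, exp_zero, map_mul, map_pow, map_pow]
      exact mul_le_one' (pow_le_one₀ zero_le (hxy.2.2 Q hQ).1) (pow_le_one₀ zero_le (hxy.2.2 Q hQ).2)
  have hconst : ∀ n : ℕ, n ≤ 1 → ∀ z ∈ _root_.FunFld.L (Finsupp.single P₀ (n : ℤ) : Divisor k K),
      z ∈ Submodule.span k ({1} : Set K) := fun n hn z hz => by
    have h1 : ell (Finsupp.single P₀ (n : ℤ) : Divisor k K) = 1 := by
      rcases Nat.le_one_iff_eq_zero_or_eq_one.1 hn with rfl | rfl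
      · simpa using FunFld.ell_zero hK
      · exact hell 1 le_rfl
    have hone : (1 : K) ∈ _root_.FunFld.L (Finsupp.single P₀ (n : ℤ) : Divisor k K) := by
      simpa using hmem 0 0 n (by omega)
    obtain ⟨a, ha⟩ := (finrank_eq_one_iff_of_nonzero' (⟨1, hone⟩ : _root_.FunFld.L _)
      (fun h => one_ne_zero (congrArg Subtype.val h))).1 h1 ⟨z, hz⟩
    exact Submodule.mem_span_singleton.2 ⟨a, congrArg Subtype.val ha⟩
  intro m
  induction m with
  | zero =>
    intro z hz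
    refine Submodule.span_mono ?_ (hconst 0 (by omega) z hz)
    rintro _ rfl
    exact ⟨0, 0, by omega, by omega, by simp⟩
  | succ m ih =>
    intro z hz
    rcases Nat.eq_zero_or_pos m with rfl | hm
    · refine Submodule.span_mono ?_ (hconst 1 le_rfl z hz)
      rintro _ rfl
      exact ⟨0, 0, by omega, by omega, by simp⟩
    obtain ⟨i, e, hi, hie⟩ : ∃ i e : ℕ, i ≤ 2 ∧ 2 * i + 3 * e = m + 1 := by
      rcases (by omega : (m + 1) % 3 = 0 ∨ (m + 1) % 3 = 1 ∨ (m + 1) % 3 = 2) with h | h | h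
      · exact ⟨0, (m + 1) / 3, by omega, by omega⟩
      · exact ⟨2, (m + 1) / 3 - 1, by omega, by omega⟩
      · exact ⟨1, (m + 1) / 3, by omega, by omega⟩
    let L0 := _root_.FunFld.L (Finsupp.single P₀ (m : ℤ) : Divisor k K)
    let L1 := _root_.FunFld.L (Finsupp.single P₀ ((m + 1 : ℕ) : ℤ) : Divisor k K)
    haveI := hfg.finite_L (Finsupp.single P₀ (m : ℤ) : Divisor k K)
    haveI := hfg.finite_L (Finsupp.single P₀ ((m + 1 : ℕ) : ℤ) : Divisor k K)
    have hle : L0 ⊔ k ∙ (x ^ i * y ^ e) ≤ L1 := sup_le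
      (FunFld.L_mono (Finsupp.single_mono (by push_cast; omega)))
      ((Submodule.span_singleton_le_iff_mem _ _).2 (hmem i e (m + 1) hie.le))
    have hnot : x ^ i * y ^ e ∉ L0 := fun h => by
      have := h P₀
      rw [hmono, Finsupp.single_eq_same, exp_le_exp] at this
      omega
    have hlt : L0 < L0 ⊔ k ∙ (x ^ i * y ^ e) :=
      lt_of_le_of_ne le_sup_left fun h => hnot (h ▸ Submodule.mem_sup_right (Submodule.mem_span_singleton_self _))
    haveI : FiniteDimensional k (L0 ⊔ k ∙ (x ^ i * y ^ e) : Submodule k K) := Submodule.finiteDimensional_of_le hle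
    have h0 : Module.finrank k L0 = m := hell m hm
    have h1 : Module.finrank k L1 = m + 1 := hell (m + 1) (by omega)
    have heq : L0 ⊔ k ∙ (x ^ i * y ^ e) = L1 :=
      Submodule.eq_of_le_of_finrank_le hle (by have := Submodule.finrank_lt_finrank_of_lt hlt; omega)
    refine (sup_le ?_ ?_ : L0 ⊔ k ∙ (x ^ i * y ^ e) ≤ _) (heq.ge hz)
    · intro w hw
      refine Submodule.span_mono ?_ (ih w hw)
      rintro _ ⟨i', e', hi', hle', rfl⟩
      exact ⟨i', e', hi', by omega, rfl⟩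
    · exact (Submodule.span_singleton_le_iff_mem _ _).2 (Submodule.subset_span ⟨i, e, hi, hie.le, rfl⟩)

/-- `1, x, x²` are independent over `k[y]`. -/
theorem eq_zero_of_poly_rel {x y : K} (hxy : IsCoords P₀ x y) {a b c : k[X]}
    (h : aeval y a + aeval y b * x + aeval y c * x ^ 2 = 0) : a = 0 ∧ b = 0 ∧ c = 0 := by
  have hy : 1 < P₀.1 y := by rw [hxy.2.1, ← exp_zero, exp_lt_exp]; norm_num
  have hv : ∀ (i : ℕ) (p : k[X]), p ≠ 0 →
      P₀.1 (aeval y p * x ^ i) = exp ((2 * i + 3 * p.natDegree : ℕ) : ℤ) := fun i p hp => by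
    rw [map_mul, map_pow, val_aeval_of_one_lt hy _ p rfl hp, hxy.1, hxy.2.1, ← exp_nsmul, ← exp_nsmul, ← exp_add]
    congr 1
    simp only [nsmul_eq_mul]; push_cast; ring
  let T : Fin 3 → K := ![aeval y a * x ^ 0, aeval y b * x ^ 1, aeval y c * x ^ 2]
  let p : Fin 3 → k[X] := ![a, b, c]
  have hT : ∀ i, T i = aeval y (p i) * x ^ (i : ℕ) := by intro i; fin_cases i <;> rfl
  by_contra hne
  obtain ⟨j, hj⟩ : ∃ j, p j ≠ 0 := by
    by_contra hall
    push Not at hall
    exact hne ⟨hall 0, hall 1, hall 2⟩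
  have hTne : P₀.1 (T j) ≠ 0 := by rw [hT, hv _ _ hj]; exact exp_ne_zero
  obtain ⟨l, -, hl⟩ := Finset.exists_max_image (Finset.univ : Finset (Fin 3)) (fun i => P₀.1 (T i)) ⟨0, Finset.mem_univ _⟩
  have hlne : p l ≠ 0 := fun h0 => by
    have h' := hl j (Finset.mem_univ _)
    have hz : P₀.1 (T l) = 0 := by rw [hT, h0, map_zero, zero_mul, map_zero]
    rw [hz, le_zero_iff] at h'
    exact hTne h'
  have hstrict : ∀ i ∈ (Finset.univ : Finset (Fin 3)).erase l, P₀.1 (T i) < P₀.1 (T l) := fun i hi => by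
    refine lt_of_le_of_ne (hl i (Finset.mem_univ _)) fun he => ?_
    by_cases hi0 : p i = 0
    · rw [hT i, hi0, map_zero, zero_mul, map_zero, hT l, hv _ _ hlne] at he
      exact exp_ne_zero he.symm
    · rw [hT i, hT l, hv _ _ hi0, hv _ _ hlne, exp_inj] at he
      have h1 := Finset.ne_of_mem_erase hi
      have := i.2
      have := l.2
      exact h1 (Fin.ext (by omega))
  have hsum : ∑ i, T i = 0 := by
    rw [Fin.sum_univ_three]
    simpa [T] using h
  rw [← Finset.add_sum_erase _ _ (Finset.mem_univ l)] at hsum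
  have hlt : P₀.1 (∑ i ∈ Finset.univ.erase l, T i) < P₀.1 (T l) :=
    P₀.1.map_sum_lt (by rw [hT, hv _ _ hlne]; exact exp_ne_zero) hstrict
  have := congrArg P₀.1 hsum
  rw [P₀.1.map_add_eq_of_lt_left hlt, map_zero, hT, hv _ _ hlne] at this
  exact exp_ne_zero this

/-- `1, x, x²` are independent over `k(y)`. -/
theorem eq_zero_of_rel {x y : K} (hxy : IsCoords P₀ x y) (hy : Transcendental k y) {a b c : K}
    (ha : a ∈ adjoin k ({y} : Set K)) (hb : b ∈ adjoin k ({y} : Set K)) (hc : c ∈ adjoin k ({y} : Set K))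
    (h : a + b * x + c * x ^ 2 = 0) : a = 0 ∧ b = 0 ∧ c = 0 := by
  classical
  have hrep : ∀ z ∈ adjoin k ({y} : Set K), ∃ p q : k[X], q ≠ 0 ∧ z = aeval y p / aeval y q := fun z hz => by
    obtain ⟨p, q, hpq⟩ := (mem_adjoin_simple_iff k _).1 hz
    by_cases hq : q = 0
    · exact ⟨0, 1, one_ne_zero, by rw [hpq, hq]; simp⟩
    · exact ⟨p, q, hq, hpq⟩
  obtain ⟨pa, qa, hqa, rfl⟩ := hrep a ha
  obtain ⟨pb, qb, hqb, rfl⟩ := hrep b hb
  obtain ⟨pc, qc, hqc, rfl⟩ := hrep c hc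
  have ne : ∀ q : k[X], q ≠ 0 → aeval y q ≠ 0 := fun q hq h => hy ⟨q, hq, h⟩
  have h1 := ne _ hqa
  have h2 := ne _ hqb
  have h3 := ne _ hqc
  obtain ⟨e1, e2, e3⟩ := eq_zero_of_poly_rel hxy (a := pa * qb * qc) (b := pb * qa * qc) (c := pc * qa * qb) (by
    simp only [map_mul]
    field_simp at h
    linear_combination h)
  have z : ∀ p q r : k[X], q ≠ 0 → r ≠ 0 → p * q * r = 0 → p = 0 := fun p q r hq hr h => by
    simpa [hq, hr] using h
  refine ⟨?_, ?_, ?_⟩
  · rw [z _ _ _ hqb hqc e1]; simp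
  · rw [z _ _ _ hqa hqc e2]; simp
  · rw [z _ _ _ hqa hqb e3]; simp

end GrothLib.CurveMult.WeierFF
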