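import Groth.Agent.Lib.CurveMult.Hyper
import Groth.Agent.Lib.CurveMult.PnMap
import Groth.Agent.Lib.CurveMult.WeierFF
import Groth.Agent.Lib.HypSurf.HypIdeal
import Groth.Agent.Lib.CurveMult.GenusZero

/-!
# Elliptic curves as plane cubics
-/

set_option linter.style.haveILetI false
set_option backward.isDefEq.respectTransparency false

universe u

open CategoryTheory CategoryTheory.Limits AlgebraicGeometry TopologicalSpace Opposite
open GrothLib.Ample (res)
open GrothLib.CurveRR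

noncomputable section

namespace GrothLib.CurveMult.WeierEmb

open MvPolynomial

variable {k : Type u} [Field k]

/-- The Weierstrass cubic. -/
def cubic (a₁ a₂ a₃ a₄ a₆ : k) : MvPolynomial (Fin (2 + 1)) k :=
  X 1 ^ 2 * X 2 + C a₁ * X 0 * X 1 * X 2 + C a₃ * X 1 * X 2 ^ 2 - X 0 ^ 3 - C a₂ * X 0 ^ 2 * X 2 -
    C a₄ * X 0 * X 2 ^ 2 - C a₆ * X 2 ^ 3

theorem cubic_mem (a₁ a₂ a₃ a₄ a₆ : k) : cubic a₁ a₂ a₃ a₄ a₆ ∈ CohB1.polyGrading 2 k 3 := by
  refine (MvPolynomial.mem_homogeneousSubmodule 3 _).2 ?_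
  have hX := fun i : Fin (2 + 1) => MvPolynomial.isHomogeneous_X k i
  have hC := fun a : k => MvPolynomial.isHomogeneous_C (Fin (2 + 1)) a
  exact (((((((hX 1).pow 2).mul (hX 2)).add ((((hC a₁).mul (hX 0)).mul (hX 1)).mul (hX 2))).add
    (((hC a₃).mul (hX 1)).mul ((hX 2).pow 2))).sub ((hX 0).pow 3)).sub (((hC a₂).mul ((hX 0).pow 2)).mul (hX 2))).sub
    (((hC a₄).mul (hX 0)).mul ((hX 2).pow 2)) |>.sub ((hC a₆).mul ((hX 2).pow 3))

/-- Reduction modulo a relation which is monic of degree three in `X 0`, on a chart. -/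
theorem normalForm (i j : Fin (2 + 1)) (hij : ∀ l : Fin (2 + 1), l = 0 ∨ l = i ∨ l = j)
    (J : Ideal (MvPolynomial (Fin (2 + 1)) k)) (hi : X i - 1 ∈ J) {a₀ b₀ c₀ : Polynomial k}
    (hrel : X 0 ^ 3 - (Polynomial.aeval (X j) a₀ + Polynomial.aeval (X j) b₀ * X 0 +
      Polynomial.aeval (X j) c₀ * X 0 ^ 2) ∈ J) (G : MvPolynomial (Fin (2 + 1)) k) :
    ∃ a b c : Polynomial k, G - (Polynomial.aeval (X j) a + Polynomial.aeval (X j) b * X 0 +
      Polynomial.aeval (X j) c * X 0 ^ 2) ∈ J := by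
  induction G using MvPolynomial.induction_on with
  | C r => exact ⟨Polynomial.C r, 0, 0, by simp⟩
  | add G G' hG hG' =>
    obtain ⟨a, b, c, h⟩ := hG
    obtain ⟨a', b', c', h'⟩ := hG'
    refine ⟨a + a', b + b', c + c', ?_⟩
    convert add_mem h h' using 1
    rw [map_add, map_add, map_add]; ring
  | mul_X G l hG =>
    obtain ⟨a, b, c, h⟩ := hG
    rcases hij l with rfl | rfl | rfl
    · refine ⟨c * a₀, a + c * b₀, b + c * c₀, ?_⟩
      convert add_mem (J.mul_mem_right (X 0) h) (J.mul_mem_left (Polynomial.aeval (X j) c) hrel) using 1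
      rw [map_mul, map_add, map_mul, map_add, map_mul]; ring
    · refine ⟨a, b, c, ?_⟩
      convert add_mem (J.mul_mem_right (X l) h) (J.mul_mem_left
        (Polynomial.aeval (X j) a + Polynomial.aeval (X j) b * X 0 + Polynomial.aeval (X j) c * X 0 ^ 2) hi) using 1
      ring
    · refine ⟨a * Polynomial.X, b * Polynomial.X, c * Polynomial.X, ?_⟩
      convert J.mul_mem_right (X l) h using 1
      rw [map_mul, map_mul, map_mul, Polynomial.aeval_X]; ring

variable (k) {E : Scheme.{u}} [IsIntegral E] [RegCurve E] [E.Over (Spec (CommRingCat.of k))]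
  [IsProper (E ↘ Spec (CommRingCat.of k))]

/-- Weierstrass coordinates on a curve of genus one give a plane cubic. -/
theorem exists_iso_cubic_of_coords (h0 : Module.finrank k (Coh.HH E (Coh.structureModule E) 0) = 1)
    (hg : Curv2.genus k E = 1) {z₀ : CP E} (hP₀ : (place k z₀).deg = 1) {x y : E.functionField}
    {a₁ a₂ a₃ a₄ a₆ : k} (hxy : WeierFF.IsCoords (place k z₀) x y)
    (hrel : y ^ 2 + algebraMap k E.functionField a₁ * x * y + algebraMap k E.functionField a₃ * y =
      x ^ 3 + algebraMap k E.functionField a₂ * x ^ 2 + algebraMap k E.functionField a₄ * x +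
        algebraMap k E.functionField a₆) :
    ∃ e : E ≅ (LefPen.hypIdeal (⟨cubic a₁ a₂ a₃ a₄ a₆, cubic_mem a₁ a₂ a₃ a₄ a₆⟩ : LefPen.Form 2 k 3)).subscheme,
      e.hom ≫ (LefPen.hypIdeal (⟨cubic a₁ a₂ a₃ a₄ a₆, cubic_mem a₁ a₂ a₃ a₄ a₆⟩ : LefPen.Form 2 k 3)).subschemeι ≫
        CohB1.ProjSpace.toSpec 2 k = E ↘ Spec (CommRingCat.of k) := by
  classical
  have hF := CurveRR.isFunctionField k h0
  have hgK : _root_.FunFld.genus k E.functionField = 1 := by rw [← CurveRR.genus_eq k h0]; exact hg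
  let W : LefPen.Form 2 k 3 := ⟨cubic a₁ a₂ a₃ a₄ a₆, cubic_mem a₁ a₂ a₃ a₄ a₆⟩
  let P0 := place k z₀
  have hx1 : P0.1 x = WithZero.exp 2 := hxy.1
  have hy1 : P0.1 y = WithZero.exp 3 := hxy.2.1
  have hx0 : x ≠ 0 := fun h => by rw [h, map_zero] at hx1; exact WithZero.exp_ne_zero hx1.symm
  have hy0 : y ≠ 0 := fun h => by rw [h, map_zero] at hy1; exact WithZero.exp_ne_zero hy1.symm
  have hyt : Transcendental k y := fun halg => by
    have := GrothLib.FunFld.val_eq_one_of_isAlgebraic P0 halg hy0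
    rw [hy1, ← WithZero.exp_zero, WithZero.exp_inj] at this
    norm_num at this
  have hyt' : Transcendental k (1 / y) := fun halg => hyt (by
    rw [one_div] at halg; simpa using halg.inv)
  let v : Fin (2 + 1) → E.functionField := ![x, y, 1]
  have hv : ∀ i, v i ≠ 0 := by intro i; fin_cases i <;> simp [v, hx0, hy0]
  obtain ⟨f, hη, hf, hmem, hgerm⟩ := PnMap.exists_hom k v hv
  let w : Fin (2 + 1) → Fin (2 + 1) → E.functionField := fun i l => v l / v i
  have hval : ∀ i G, E.presheaf.germ _ _ (hη i) (SepImm.ψ f i (PnMap.χ k i G)) = aeval (w i) G :=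
    fun i G => PnMap.germ_ψ_χ k f hf i (hη i) (w i) (hgerm i) G
  have hgm : ∀ i, Function.Injective (E.presheaf.germ (f ⁻¹ᵁ SepImm.D (k := k) i) _ (hη i)) :=
    fun i => germ_injective_of_isIntegral E (genericPoint E) (hη i)
  have hz2 : ∀ z : CP E, z ≠ z₀ → z.1 ∈ f ⁻¹ᵁ SepImm.D (k := k) 2 := fun z hz => by
    have hne : place k z ≠ P0 := fun h => hz (place_injective h)
    rw [hmem]
    intro l
    obtain ⟨hxl, hyl⟩ := hxy.2.2 _ hne
    fin_cases l <;> simp [v, hxl, hyl]
  have hz1 : z₀.1 ∈ f ⁻¹ᵁ SepImm.D (k := k) 1 := by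
    rw [hmem]
    intro l
    show P0.1 _ ≤ 1
    fin_cases l
    · simp only [v, map_div₀]; simp [hx1, hy1]; rw [div_le_one₀ (WithZero.exp_pos)]; exact WithZero.exp_le_exp.2 (by norm_num)
    · simp [v, hy0]
    · simp only [v, map_div₀]; simp [hy1]
      rw [← WithZero.exp_neg, ← WithZero.exp_zero, WithZero.exp_le_exp]; norm_num
  have hnot2 : z₀.1 ∉ f ⁻¹ᵁ SepImm.D (k := k) 2 := fun h => by
    have h1 := (hmem 2 z₀).1 h 0
    simp [v] at h1
    rw [show (place k z₀).1 x = WithZero.exp 2 from hx1, ← WithZero.exp_zero, WithZero.exp_le_exp] at h1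
    omega
  -- finiteness
  haveI := Chow.isProper_toSpec 2 k
  haveI : IsFinite f := by
    refine Groth.Agent.S0219.result k E (CohB1.ProjSpace 2 k) (E ↘ Spec (CommRingCat.of k))
      (CohB1.ProjSpace.toSpec 2 k) f hf RegCurve.dim.le fun Z hZ _ => ?_
    have hZu : Z = Set.univ := by
      rw [irreducibleComponents_eq_singleton] at hZ
      exact hZ
    rw [hZu, Set.image_univ]
    refine ⟨f (genericPoint E), ⟨_, rfl⟩, f z₀.1, ⟨_, rfl⟩, fun he => hnot2 ?_⟩
    show f z₀.1 ∈ SepImm.D (k := k) 2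
    rw [← he]; exact hη 2
  -- normal forms on the two charts
  have hform : ∀ i, aeval (w i) W.1 = 0 := fun i => by
    have hvi := hv i
    have e : ∀ l, w i l = v l / v i := fun l => rfl
    simp only [W, cubic, map_sub, map_add, map_mul, map_pow, aeval_X, aeval_C, e]
    field_simp
    simp [v]
    linear_combination hrel
  have hnf : ∀ (i j : Fin (2 + 1)), i = 1 ∧ j = 2 ∨ i = 2 ∧ j = 1 → ∀ G, ∃ a b c : Polynomial k,
      G - (Polynomial.aeval (X j) a + Polynomial.aeval (X j) b * X 0 + Polynomial.aeval (X j) c * X 0 ^ 2) ∈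
        Ideal.span {W.1, X i - 1} := by
    intro i j hij G
    let J : Ideal (MvPolynomial (Fin (2 + 1)) k) := Ideal.span {W.1, X i - 1}
    have hWJ : Ideal.Quotient.mk J W.1 = 0 :=
      Ideal.Quotient.eq_zero_iff_mem.2 (Ideal.subset_span (Set.mem_insert _ _))
    have hiJ : X i - 1 ∈ J := Ideal.subset_span (Set.mem_insert_of_mem _ rfl)
    have h1 : Ideal.Quotient.mk J (X i) = 1 := by
      rw [← map_one (Ideal.Quotient.mk J)]; exact Ideal.Quotient.eq.2 hiJ
    simp only [W, cubic, map_sub, map_add, map_mul, map_pow] at hWJ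
    rcases hij with ⟨rfl, rfl⟩ | ⟨rfl, rfl⟩
    · refine normalForm 1 2 (by decide) J hiJ (a₀ := Polynomial.X + Polynomial.C a₃ * Polynomial.X ^ 2 -
        Polynomial.C a₆ * Polynomial.X ^ 3) (b₀ := Polynomial.C a₁ * Polynomial.X - Polynomial.C a₄ * Polynomial.X ^ 2)
        (c₀ := -(Polynomial.C a₂ * Polynomial.X)) (Ideal.Quotient.eq_zero_iff_mem.1 ?_) G
      simp only [map_sub, map_add, map_mul, map_pow, map_neg, Polynomial.aeval_X, Polynomial.aeval_C,
        MvPolynomial.algebraMap_eq]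
      rw [h1] at hWJ
      linear_combination -hWJ
    · refine normalForm 2 1 (by decide) J hiJ (a₀ := Polynomial.X ^ 2 + Polynomial.C a₃ * Polynomial.X -
        Polynomial.C a₆) (b₀ := Polynomial.C a₁ * Polynomial.X - Polynomial.C a₄)
        (c₀ := -Polynomial.C a₂) (Ideal.Quotient.eq_zero_iff_mem.1 ?_) G
      simp only [map_sub, map_add, map_mul, map_pow, map_neg, Polynomial.aeval_X, Polynomial.aeval_C,
        MvPolynomial.algebraMap_eq]
      rw [h1] at hWJ
      linear_combination -hWJ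
  have hy_mem : y ∈ IntermediateField.adjoin k ({y} : Set E.functionField) := IntermediateField.mem_adjoin_simple_self k y
  have hpoly : ∀ a : Polynomial k, Polynomial.aeval (1 / y) a ∈ IntermediateField.adjoin k ({y} : Set E.functionField) := by
    intro a
    induction a using Polynomial.induction_on' with
    | add p q hp hq => rw [map_add]; exact add_mem hp hq
    | monomial n r =>
      rw [Polynomial.aeval_monomial]
      exact mul_mem (IntermediateField.algebraMap_mem _ r) (pow_mem (div_mem (one_mem _) hy_mem) n)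
  have hindep : ∀ (i j : Fin (2 + 1)), i = 1 ∧ j = 2 ∨ i = 2 ∧ j = 1 → ∀ a b c : Polynomial k,
      aeval (w i) (Polynomial.aeval (X j : MvPolynomial (Fin (2 + 1)) k) a + Polynomial.aeval (X j : MvPolynomial (Fin (2 + 1)) k) b * X 0 + Polynomial.aeval (X j : MvPolynomial (Fin (2 + 1)) k) c * X 0 ^ 2) = 0 →
        a = 0 ∧ b = 0 ∧ c = 0 := by
    intro i j hij a b c h
    have hev : ∀ p : Polynomial k, aeval (w i) (Polynomial.aeval (X j) p) = Polynomial.aeval (w i j) p := fun p => by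
      rw [← Polynomial.aeval_algHom_apply (aeval (w i)) (X j) p, aeval_X]
    rw [map_add, map_add, map_mul, map_mul, map_pow, aeval_X, hev, hev, hev] at h
    rcases hij with ⟨rfl, rfl⟩ | ⟨rfl, rfl⟩
    · rw [show w 1 2 = 1 / y by simp [w, v], show w 1 0 = x / y by simp [w, v]] at h
      have h' := WeierFF.eq_zero_of_rel hxy hyt (a := Polynomial.aeval (1 / y) a)
        (b := Polynomial.aeval (1 / y) b / y) (c := Polynomial.aeval (1 / y) c / y ^ 2)
        (hpoly a) (div_mem (hpoly b) hy_mem) (div_mem (hpoly c) (pow_mem hy_mem 2))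
        (by rw [← h]; field_simp)
      have z : ∀ p : Polynomial k, Polynomial.aeval (1 / y) p = 0 → p = 0 := fun p hp => by
        by_contra hne
        exact hyt' ⟨p, hne, hp⟩
      exact ⟨z a h'.1, z b ((div_eq_zero_iff.1 h'.2.1).resolve_right hy0),
        z c ((div_eq_zero_iff.1 h'.2.2).resolve_right (pow_ne_zero 2 hy0))⟩
    · rw [show w 2 1 = y by simp [w, v], show w 2 0 = x by simp [w, v]] at h
      exact WeierFF.eq_zero_of_poly_rel hxy h
  have hker : ∀ i, i = 1 ∨ i = 2 → RingHom.ker (SepImm.ψ f i) = Ideal.span {LefPen.dehom W i} := by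
    intro i hi
    obtain ⟨j, hij⟩ : ∃ j : Fin (2 + 1), i = 1 ∧ j = 2 ∨ i = 2 ∧ j = 1 := by
      rcases hi with rfl | rfl
      · exact ⟨2, Or.inl ⟨rfl, rfl⟩⟩
      · exact ⟨1, Or.inr ⟨rfl, rfl⟩⟩
    refine le_antisymm (fun z hz => ?_) ((Ideal.span_singleton_le_iff_mem _).2 (RingHom.mem_ker.2 ?_))
    · obtain ⟨G, rfl⟩ := PnMap.χ_surjective k i z
      obtain ⟨a, b, c, h⟩ := hnf i j hij G
      have hJ : (Ideal.span {W.1, X i - 1} : Ideal _) ≤ (Ideal.span {LefPen.dehom W i}).comap (PnMap.χ k i) := by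
        refine Ideal.span_le.2 (Set.insert_subset_iff.2 ⟨?_, Set.singleton_subset_iff.2 ?_⟩)
        · rw [SetLike.mem_coe, Ideal.mem_comap, PnMap.χ_form]; exact Ideal.mem_span_singleton_self _
        · rw [SetLike.mem_coe, Ideal.mem_comap, map_sub, PnMap.χ_self, map_one, sub_self]; exact zero_mem _
      have hJ0 : ∀ H ∈ (Ideal.span {W.1, X i - 1} : Ideal _), aeval (w i) H = 0 := by
        intro H hH
        obtain ⟨p, q, rfl⟩ := Ideal.mem_span_pair.1 hH
        rw [map_add, map_mul, map_mul, hform i, map_sub, map_one, aeval_X,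
          show w i i = 1 from div_self (hv i)]
        ring
      have h0 : aeval (w i) G = 0 := by
        rw [← hval, RingHom.mem_ker.1 hz, map_zero]
      have h1 := hJ0 _ h
      rw [map_sub, h0, zero_sub, neg_eq_zero] at h1
      obtain ⟨rfl, rfl, rfl⟩ := hindep i j hij a b c h1
      simp only [map_zero, zero_mul, add_zero, sub_zero] at h
      exact hJ h
    · refine hgm i ?_
      rw [map_zero, ← PnMap.χ_form, hval, hform]
  -- surjectivity
  have hle : ∀ i (z : CP E), z.1 ∈ f ⁻¹ᵁ SepImm.D (k := k) i → ∀ r, (place k z).1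
      (E.presheaf.germ _ _ (hη i) r) ≤ 1 := fun i z hz r => by
    show E.presheaf.germ _ _ (hη i) r ∈ (place k z).O
    exact (mem_place_O k).2 ⟨_, (germ_generic hz r).symm⟩
  have hspan : ∀ u : E.functionField, (∀ Q, Q ≠ P0 → Q.1 u ≤ 1) → ∀ m : ℕ, P0.1 u ≤ WithZero.exp (m : ℤ) →
      u ∈ Submodule.span k {t | ∃ a e : ℕ, a ≤ 2 ∧ 2 * a + 3 * e ≤ m ∧ t = x ^ a * y ^ e} := fun u hu m hm => by
    refine WeierFF.mem_span_monomials hF hgK hP₀ hxy m u fun Q => ?_
    by_cases hQ : Q = P0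
    · rw [hQ, Finsupp.single_eq_same]; exact hm
    · rw [Finsupp.single_eq_of_ne hQ, WithZero.exp_zero]; exact hu Q hQ
  have hsurj : ∀ i, i = 1 ∨ i = 2 → Function.Surjective (SepImm.ψ f i) := by
    intro i hi r
    suffices ∃ G, aeval (w i) G = E.presheaf.germ _ _ (hη i) r by
      obtain ⟨G, hG⟩ := this
      exact ⟨PnMap.χ k i G, hgm i ((hval i G).trans hG)⟩
    let u := E.presheaf.germ _ _ (hη i) r
    show ∃ G, aeval (w i) G = u
    rcases hi with rfl | rfl
    · let n := ((GrothLib.FunFld.poleDiv (k := k) u).sum fun _ e => e.natAbs)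
      have hreg : ∀ Q, Q ≠ P0 → Q.1 (u * y ^ n) ≤ 1 := by
        intro Q hQ
        obtain ⟨z, rfl⟩ := place_surjective (k := k) Q
        obtain ⟨hxl, hyl⟩ := hxy.2.2 _ hQ
        rw [map_mul, map_pow]
        by_cases hy1' : (place k z).1 y = 1
        · rw [hy1', one_pow, mul_one]
          refine hle 1 z ?_ r
          rw [hmem]
          intro l
          rw [map_div₀]
          have : (place k z).1 (v 1) = 1 := hy1'
          rw [this, div_one]
          fin_cases l <;> simp [v, hxl, hyl]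
        · by_cases hu0 : u = 0
          · rw [hu0, map_zero, zero_mul]; exact zero_le
          have hlt : (place k z).1 y < 1 := lt_of_le_of_ne hyl hy1'
          rw [GrothLib.FunFld.val_eq _ hy0, ← WithZero.exp_zero, WithZero.exp_lt_exp] at hlt
          rw [GrothLib.FunFld.val_eq _ hy0, GrothLib.FunFld.val_eq _ hu0, ← WithZero.exp_nsmul, ← WithZero.exp_add,
            ← WithZero.exp_zero, WithZero.exp_le_exp, nsmul_eq_mul]
          have h1 : -(place k z).ord u ≤ GrothLib.FunFld.poleDiv (k := k) u (place k z) := by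
            rw [(show GrothLib.FunFld.IsFG k E.functionField from hF.1).poleDiv_apply]; omega
          have h2 : (GrothLib.FunFld.poleDiv (k := k) u (place k z)).natAbs ≤ n := by
            by_cases hP : place k z ∈ (GrothLib.FunFld.poleDiv (k := k) u).support
            · exact Finset.single_le_sum
                (fun Q _ => Nat.zero_le (GrothLib.FunFld.poleDiv (k := k) u Q).natAbs) hP
            · rw [Finsupp.notMem_support_iff.1 hP]; simp
          have h3 : (n : ℤ) ≤ (n : ℤ) * (place k z).ord y := le_mul_of_one_le_right (by omega) (by omega)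
          rw [mul_neg]
          omega
      have hP0u : P0.1 (u * y ^ n) ≤ WithZero.exp ((3 * n : ℕ) : ℤ) := by
        rw [map_mul, map_pow, hy1, ← WithZero.exp_nsmul]
        refine (mul_le_of_le_one_left zero_le (hle 1 z₀ hz1 r)).trans_eq ?_
        congr 1; simp only [nsmul_eq_mul]; push_cast; ring
      have h : u * y ^ n ∈ (LinearMap.range (aeval (w 1)).toLinearMap).map (LinearMap.mulRight k (y ^ n)) := by
        refine Submodule.span_le.2 ?_ (hspan _ hreg _ hP0u)
        rintro _ ⟨a, e, ha, hae, rfl⟩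
        refine ⟨aeval (w 1) (X 0 ^ a * X 2 ^ (n - a - e)), ⟨_, rfl⟩, ?_⟩
        show aeval (w 1) (X 0 ^ a * X 2 ^ (n - a - e)) * y ^ n = x ^ a * y ^ e
        rw [map_mul, map_pow, map_pow, aeval_X, aeval_X, show w 1 0 = x / y by simp [w, v],
          show w 1 2 = 1 / y by simp [w, v], div_pow, div_pow, one_pow]
        obtain ⟨d, hd⟩ := Nat.exists_eq_add_of_le (show a + e ≤ n by omega)
        rw [hd, show a + e + d - a - e = d by omega, pow_add, pow_add]
        field_simp
      obtain ⟨s, ⟨G, hG⟩, hs⟩ := h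
      exact ⟨G, hG.trans (mul_right_cancel₀ (pow_ne_zero n hy0) hs)⟩
    · have hreg : ∀ Q, Q ≠ P0 → Q.1 u ≤ 1 := fun Q hQ => by
        obtain ⟨z, rfl⟩ := place_surjective (k := k) Q
        exact hle 2 z (hz2 z fun h => hQ (by rw [h])) r
      have hP0u : P0.1 u ≤ WithZero.exp (((-P0.ord u).toNat : ℕ) : ℤ) := by
        by_cases hu0 : u = 0
        · rw [hu0, map_zero]; exact zero_le
        rw [GrothLib.FunFld.val_eq _ hu0, WithZero.exp_le_exp]
        exact Int.self_le_toNat _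
      have h : u ∈ LinearMap.range (aeval (w 2) : MvPolynomial (Fin (2 + 1)) k →ₐ[k] E.functionField).toLinearMap := by
        refine Submodule.span_le.2 ?_ (hspan _ hreg _ hP0u)
        rintro _ ⟨a, e, ha, hae, rfl⟩
        refine ⟨X 0 ^ a * X 1 ^ e, ?_⟩
        show aeval (w 2) (X 0 ^ a * X 1 ^ e) = x ^ a * y ^ e
        rw [map_mul, map_pow, map_pow, aeval_X, aeval_X, show w 2 0 = x by simp [w, v],
          show w 2 1 = y by simp [w, v]]
      exact h
  -- the cover
  let V₀ : (CohB1.ProjSpace 2 k).Opens := (CohB1.ProjSpace 2 k).basicOpen (LefPen.dehom W 0)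
  have hV0 : IsAffineOpen V₀ := (HypSurf.isAffineOpen_chart 0).basicOpen _
  have hV0le : V₀ ≤ LefPen.chart 2 k 0 := Scheme.basicOpen_le _ _
  let U : Fin 3 → (CohB1.ProjSpace 2 k).affineOpens :=
    ![⟨SepImm.D 1, HypSurf.isAffineOpen_chart 1⟩, ⟨SepImm.D 2, HypSurf.isAffineOpen_chart 2⟩, ⟨V₀, hV0⟩]
  have hU : ⨆ i, (U i).1 = ⊤ := eq_top_iff.2 fun p _ => by
    by_cases h1 : p ∈ SepImm.D (k := k) (n := 2) 1
    · exact Opens.mem_iSup.2 ⟨0, h1⟩
    by_cases h2 : p ∈ SepImm.D (k := k) (n := 2) 2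
    · exact Opens.mem_iSup.2 ⟨1, h2⟩
    have h0 : p ∈ SepImm.D (k := k) (n := 2) 0 := by
      obtain ⟨i, hi⟩ := Opens.mem_iSup.1 ((Ample.ProjMap.iSup_basicOpen_X 2 k).ge (Opens.mem_top p))
      fin_cases i
      · exact hi
      · exact absurd hi h1
      · exact absurd hi h2
    refine Opens.mem_iSup.2 ⟨2, ?_⟩
    show p ∈ (CohB1.ProjSpace 2 k).basicOpen (LefPen.dehom W 0)
    rw [Scheme.mem_basicOpen _ _ _ h0, ← PnMap.χ_form]
    let g : MvPolynomial (Fin (2 + 1)) k →+* (CohB1.ProjSpace 2 k).presheaf.stalk p :=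
      ((CohB1.ProjSpace 2 k).presheaf.germ (SepImm.D 0) p h0).hom.comp (PnMap.χ k 0)
    show IsUnit (g W.1)
    have hm : ∀ l : Fin (2 + 1), l = 1 ∨ l = 2 → g (X l) ∈ IsLocalRing.maximalIdeal _ := fun l hl => by
      rw [IsLocalRing.mem_maximalIdeal, mem_nonunits_iff]
      show ¬ IsUnit ((CohB1.ProjSpace 2 k).presheaf.germ (SepImm.D 0) p h0 (PnMap.χ k 0 (X l)))
      rw [PnMap.χ_apply, MvPolynomial.eval₂Hom_X']
      intro hu
      have h' : p ∈ (CohB1.ProjSpace 2 k).basicOpen (SepImm.rat (k := k) (0 : Fin (2 + 1)) l) :=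
        (Scheme.mem_basicOpen _ _ _ h0).2 hu
      rw [PnMap.basicOpen_rat] at h'
      rcases hl with rfl | rfl
      · exact h1 h'.2
      · exact h2 h'.2
    have hX0 : g (X 0) = 1 := by
      show (CohB1.ProjSpace 2 k).presheaf.germ (SepImm.D 0) p h0 (PnMap.χ k 0 (X 0)) = 1
      rw [PnMap.χ_self]; exact map_one _
    refine isUnit_of_mul_isUnit_right (x := (-1 : (CohB1.ProjSpace 2 k).presheaf.stalk p)) ?_
    have he : (-1) * g W.1 = 1 - g (X 2) * (g (X 1) ^ 2 + g (C a₁) * g (X 1) + g (C a₃) * g (X 1) * g (X 2) -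
        g (C a₂) - g (C a₄) * g (X 2) - g (C a₆) * g (X 2) ^ 2) := by
      simp only [W, cubic, map_sub, map_add, map_mul, map_pow, hX0]
      ring
    rw [he]
    exact IsLocalRing.isUnit_one_sub_self_of_mem_nonunits _
      (Ideal.mul_mem_right _ (IsLocalRing.maximalIdeal _) (hm 2 (Or.inr rfl)))
  have hψ0 : SepImm.ψ f 0 (LefPen.dehom W 0) = 0 := hgm 0 (by rw [← PnMap.χ_form, hval, hform, map_zero])
  have hempty : f ⁻¹ᵁ V₀ = ⊥ := by
    show f ⁻¹ᵁ (CohB1.ProjSpace 2 k).basicOpen (LefPen.dehom W 0) = ⊥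
    rw [Scheme.preimage_basicOpen, show (f.app (LefPen.chart 2 k 0)) (LefPen.dehom W 0) = 0 from hψ0,
      Scheme.basicOpen_zero]
  haveI hci : IsClosedImmersion f := by
    refine (IsZariskiLocalAtTarget.iff_of_iSup_eq_top (P := @IsClosedImmersion) (fun i => (U i).1) hU).2 fun i => ?_
    haveI : IsAffine (U i).1 := (U i).2
    haveI : IsAffine (f ⁻¹ᵁ (U i).1) := (U i).2.preimage f
    refine IsClosedImmersion.of_surjective_of_isAffine _ ?_
    rw [morphismRestrict_appTop]
    have hs : Function.Surjective (f.app (U i).1).hom := by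
      fin_cases i
      · exact hsurj 1 (Or.inl rfl)
      · exact hsurj 2 (Or.inr rfl)
      · intro r
        refine ⟨0, TopCat.Presheaf.section_ext E.sheaf _ _ _ fun z hz => ?_⟩
        have hz' : z ∈ f ⁻¹ᵁ V₀ := hz
        rw [hempty] at hz'
        exact hz'.elim
    have key : ∀ (V : (CohB1.ProjSpace 2 k).Opens), V = (U i).1 → Function.Surjective (f.app V).hom := by
      rintro _ rfl; exact hs
    exact (ConcreteCategory.bijective_of_isIso
      (E.presheaf.map (eqToHom (image_morphismRestrict_preimage f (U i).1 ⊤)).op)).2.comp (key _ (U i).1.ι_image_top)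
  have hI : f.ker = LefPen.hypIdeal W := by
    refine Scheme.IdealSheafData.ext_of_iSup_eq_top U hU fun i => ?_
    rw [Scheme.Hom.ker_apply]
    fin_cases i
    · have h : RingHom.ker (SepImm.ψ f 1) =
          (LefPen.hypIdeal W).ideal ⟨LefPen.chart 2 k 1, HypSurf.isAffineOpen_chart 1⟩ := by
        rw [HypSurf.hypIdeal_ideal_eq W ⟨LefPen.chart 2 k 1, HypSurf.isAffineOpen_chart 1⟩ 1 le_rfl, Ample.res_self]
        exact hker 1 (Or.inl rfl)
      exact h
    · have h : RingHom.ker (SepImm.ψ f 2) =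
          (LefPen.hypIdeal W).ideal ⟨LefPen.chart 2 k 2, HypSurf.isAffineOpen_chart 2⟩ := by
        rw [HypSurf.hypIdeal_ideal_eq W ⟨LefPen.chart 2 k 2, HypSurf.isAffineOpen_chart 2⟩ 2 le_rfl, Ample.res_self]
        exact hker 2 (Or.inr rfl)
      exact h
    · rw [HypSurf.hypIdeal_ideal_eq W _ 0 hV0le]
      have hu : IsUnit (res hV0le (LefPen.dehom W 0)) :=
        RingedSpace.isUnit_res_basicOpen (CohB1.ProjSpace 2 k).toLocallyRingedSpace.toRingedSpace (LefPen.dehom W 0)
      erw [Ideal.span_singleton_eq_top.2 hu]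
      refine Ideal.eq_top_iff_one _ |>.2 (RingHom.mem_ker.2 ?_)
      refine TopCat.Presheaf.section_ext E.sheaf _ _ _ fun z hz => ?_
      have hz' : z ∈ f ⁻¹ᵁ V₀ := hz
      rw [hempty] at hz'
      exact hz'.elim
  show ∃ e : E ≅ (LefPen.hypIdeal W).subscheme,
    e.hom ≫ (LefPen.hypIdeal W).subschemeι ≫ CohB1.ProjSpace.toSpec 2 k = E ↘ Spec (CommRingCat.of k)
  rw [← hI]
  refine ⟨asIso f.toImage, ?_⟩
  rw [asIso_hom]
  exact (Category.assoc _ _ _).symm.trans ((congrArg (· ≫ _) f.toImage_imageι).trans hf)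

/-- A curve of genus one with a rational point is a plane Weierstrass cubic. -/
theorem exists_iso_cubic (h0 : Module.finrank k (Coh.HH E (Coh.structureModule E) 0) = 1)
    (hg : Curv2.genus k E = 1) (o : Spec (CommRingCat.of k) ⟶ E)
    (ho : o ≫ (E ↘ Spec (CommRingCat.of k)) = 𝟙 _) :
    ∃ (a₁ a₂ a₃ a₄ a₆ : k),
      ∃ e : E ≅ (LefPen.hypIdeal (⟨cubic a₁ a₂ a₃ a₄ a₆, cubic_mem a₁ a₂ a₃ a₄ a₆⟩ : LefPen.Form 2 k 3)).subscheme,
        e.hom ≫ (LefPen.hypIdeal (⟨cubic a₁ a₂ a₃ a₄ a₆, cubic_mem a₁ a₂ a₃ a₄ a₆⟩ : LefPen.Form 2 k 3)).subschemeι ≫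
          CohB1.ProjSpace.toSpec 2 k = E ↘ Spec (CommRingCat.of k) := by
  have hF := CurveRR.isFunctionField k h0
  obtain ⟨P₀, hP₀⟩ := exists_place_deg_one k o ho
  obtain ⟨z₀, rfl⟩ := place_surjective (k := k) P₀
  have hgK : _root_.FunFld.genus k E.functionField = 1 := by rw [← CurveRR.genus_eq k h0]; exact hg
  obtain ⟨x, y, a₁, a₂, a₃, a₄, a₆, hxy, hrel⟩ := WeierFF.exists_coords hF hgK hP₀
  exact ⟨a₁, a₂, a₃, a₄, a₆, exists_iso_cubic_of_coords k h0 hg hP₀ hxy hrel⟩

end GrothLib.CurveMult.WeierEmb
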