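import Groth.Agent.Lib.CurveRR.Tensor
import Groth.Agent.Lib.CurveRR.FiniteField
import Groth.Agent.Lib.FunFld.Schmidt

/-!
# Isomorphic sheaves of divisors have linearly equivalent divisors
(the part of `CurveRR/PicClass` that can be imported together with `CurveRR/Tensor`)
-/

set_option autoImplicit false
set_option linter.style.haveILetI false

universe u

open CategoryTheory AlgebraicGeometry TopologicalSpace WithZero
open _root_.FunFld (Place Divisor)
open GrothLib.CurveRR

namespace GrothLib.CurveMult.DivIso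

variable (k : Type u) [Field k] {X : Scheme.{u}} [IsIntegral X] [RegCurve X]
  [X.Over (Spec (CommRingCat.of k))] [IsProper (X ↘ Spec (CommRingCat.of k))]

/-- A morphism of divisor modules is the multiplication by a rational function. -/
theorem exists_factor {D E : Divisor k X.functionField} (φ : oD k D ⟶ oD k E) :
    ∃ f : X.functionField, ∀ (V : X.Opens) (s : Γ(oD k D, V)) (hV : genericPoint X ∈ V),
      oval k (φ.app V s) hV = f * oval k s hV := by
  obtain ⟨V₀, g, hη, hg0, hg⟩ := exists_gen k D (genericPoint X)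
  set e₀ := mkSec k D V₀ g fun x hx => (hg x hx).le
  refine ⟨oval k (φ.app V₀ e₀) hη / g, fun V s hV => ?_⟩
  have hW : genericPoint X ∈ V ⊓ V₀ := ⟨hV, hη⟩
  obtain ⟨a, ha⟩ := (isGen_mkSec k D V₀ g hg0 hg (V ⊓ V₀) inf_le_right).2
    ((oD k D).presheaf.map (homOfLE inf_le_left).op s)
  have h1 : X.presheaf.germ _ _ hW a * g = oval k s hV := by
    have := congrArg (fun t => oval k t hW) ha
    dsimp only at this
    rw [oval_smul] at this
    exact this
  have h2 : X.presheaf.germ _ _ hW a * oval k (φ.app V₀ e₀) hη = oval k (φ.app V s) hV := by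
    have := congrArg (fun t => oval k (φ.app (V ⊓ V₀) t) hW) ha
    dsimp only at this
    rw [Scheme.Modules.Hom.app_smul, oval_smul] at this
    have hn : ∀ {U : X.Opens} (i : V ⊓ V₀ ⟶ U) (t : Γ(oD k D, U)),
        oval k (φ.app (V ⊓ V₀) ((oD k D).presheaf.map i.op t)) hW = oval k (φ.app U t) (i.le hW) := by
      intro U i t
      rw [← oval_map i (φ.app U t) hW]
      exact congrArg (fun z => oval k z hW) (ConcreteCategory.congr_hom (φ.mapPresheaf.naturality i.op) t)
    rw [hn, hn] at this
    exact this
  rw [← h2, ← h1]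
  field_simp

theorem le_of_factor {D E : Divisor k X.functionField} {φ : oD k D ⟶ oD k E} {f : X.functionField}
    (hf : ∀ (V : X.Opens) (s : Γ(oD k D, V)) (hV : genericPoint X ∈ V), oval k (φ.app V s) hV = f * oval k s hV)
    (x : CP X) : (place k x).1 f * exp (D (place k x)) ≤ exp (E (place k x)) := by
  obtain ⟨g, hg0, hg⟩ := FunFld.exists_val_eq (place k x) (D (place k x))
  obtain ⟨V, hxV, hV⟩ := exists_local_sec D x g hg.le
  have h := oval_bound (φ.app V (mkSec k D V g hV)) x hxV
  rw [hf, oval_mkSec, map_mul] at h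
  calc (place k x).1 f * exp (D (place k x)) = (place k x).1 f * (place k x).1 g := by rw [← hg]
    _ ≤ _ := h

/-- Isomorphic divisor modules come from linearly equivalent divisors. -/
theorem sub_mem_of_iso {D E : Divisor k X.functionField} (e : oD k D ≅ oD k E) :
    D - E ∈ _root_.FunFld.prinDivs k X.functionField := by
  obtain ⟨f, hf⟩ := exists_factor k e.hom
  obtain ⟨f', hf'⟩ := exists_factor k e.inv
  obtain ⟨V₀, g, hη, hg0, hg⟩ := exists_gen k D (genericPoint X)
  have hff : f' * f = 1 := by
    set e₀ := mkSec k D V₀ g fun x hx => (hg x hx).le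
    have h1 : e.inv.app V₀ (e.hom.app V₀ e₀) = e₀ :=
      ConcreteCategory.congr_hom (congrArg (fun φ : oD k D ⟶ oD k D => φ.app V₀) e.hom_inv_id) e₀
    have h2 := congrArg (fun t => oval k t hη) h1
    dsimp only at h2
    rw [hf', hf, oval_mkSec, ← mul_assoc] at h2
    exact mul_right_cancel₀ hg0 (h2.trans (one_mul g).symm)
  have hf0 : f ≠ 0 := right_ne_zero_of_mul_eq_one hff
  have hf'0 : f' ≠ 0 := left_ne_zero_of_mul_eq_one hff
  refine (FunFld.mem_prinDivs_iff (isFG k) _).2 ⟨f, hf0, Finsupp.ext fun P => ?_⟩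
  obtain ⟨x, rfl⟩ := place_surjective (k := k) P
  rw [(isFG k).div_apply f (place k x), Finsupp.sub_apply]
  have a := le_of_factor k hf x
  have b := le_of_factor k hf' x
  rw [FunFld.val_eq (place k x) hf0, ← exp_add, exp_le_exp] at a
  rw [show f' = f⁻¹ from (eq_inv_of_mul_eq_one_left hff), map_inv₀, FunFld.val_eq (place k x) hf0,
    ← exp_neg, ← exp_add, exp_le_exp] at b
  linarith


end GrothLib.CurveMult.DivIso
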