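import Groth.Agent.Lib.CurveMult.TwoSections
import Groth.Agent.Lib.CurveMult.SepRat
import Groth.Agent.Lib.CurveMult.PointQuot
import Groth.Agent.Lib.CurveRR.Tensor
import Groth.Agent.Lib.CurveMult.DivIso
import Groth.Agent.Lib.Ref1.Rank
import Groth.Agent.Lib.Ref1.Connected

/-!
# Linearly equivalent rational points on normal curves
-/

set_option linter.style.haveILetI false
set_option backward.isDefEq.respectTransparency false

universe u

open CategoryTheory CategoryTheory.Limits AlgebraicGeometry TopologicalSpace Opposite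
open GrothLib.CurveRR (place oD)

noncomputable section

namespace GrothLib.CurveMult

variable {X : Scheme.{u}}

/-- A normal curve has discrete valuation rings at its closed points. -/
theorem regCurve_of_normal [IsIntegral X] [IsLocallyNoetherian X] (hX : Pi1.IsNormalScheme X)
    (hd : topologicalKrullDim X = 1) : CurveRR.RegCurve X :=
  ⟨hd, fun _ hx => Ref1.isDiscreteValuationRing_of_dim_one hX (CurvePoints.ringKrullDim_stalk hd.le hx)⟩

variable (k : Type u) [Field k] [X.Over (Spec (CommRingCat.of k))]

include k in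
/-- Two rational points with the same image are equal. -/
theorem section_ext_point (x y : Spec (CommRingCat.of k) ⟶ X)
    (hx : x ≫ (X ↘ Spec (CommRingCat.of k)) = 𝟙 _) (hy : y ≫ (X ↘ Spec (CommRingCat.of k)) = 𝟙 _)
    (h : x (IsLocalRing.closedPoint k) = y (IsLocalRing.closedPoint k)) : x = y := by
  have ex := Scheme.descResidueField_stalkClosedPointTo_fromSpecResidueField k X x
  have ey := Scheme.descResidueField_stalkClosedPointTo_fromSpecResidueField k X y
  have hb := bijective_resMap_of_section k y hy (IsLocalRing.closedPoint k)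
  generalize X.descResidueField (Scheme.stalkClosedPointTo x) = φ at ex
  generalize X.descResidueField (Scheme.stalkClosedPointTo y) = ψ at ey
  generalize x (IsLocalRing.closedPoint k) = a at φ ex h
  subst h
  generalize y (IsLocalRing.closedPoint k) = b at φ ψ ex ey hb
  subst ex ey
  have hi : ∀ χ : X.residueField b ⟶ CommRingCat.of k,
      (Spec.map χ ≫ X.fromSpecResidueField b) ≫ (X ↘ Spec (CommRingCat.of k)) = 𝟙 _ →
        ∀ c : k, χ.hom (Curv2.resMap k X b c) = c := by
    intro χ hχ c
    have hc := bijective_resMap_of_section k _ hχ (IsLocalRing.closedPoint k)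
    rw [Category.assoc] at hχ
    obtain ⟨θ, hθ⟩ := Spec.map_surjective (X.fromSpecResidueField b ≫ (X ↘ Spec (CommRingCat.of k)))
    rw [← hθ, ← Spec.map_comp, ← Spec.map_id] at hχ
    have h' := congrArg Scheme.Hom.appTop hθ
    rw [Scheme.Hom.comp_appTop] at h'
    have h2 : θ ≫ (Scheme.ΓSpecIso (X.residueField b)).inv = (Scheme.ΓSpecIso (CommRingCat.of k)).inv ≫
        (X ↘ Spec (CommRingCat.of k)).appTop ≫ (X.fromSpecResidueField b).appTop := by
      rw [Scheme.ΓSpecIso_inv_naturality, h']
    have h3 : θ = (Scheme.ΓSpecIso (CommRingCat.of k)).inv ≫ (X ↘ Spec (CommRingCat.of k)).appTop ≫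
        X.presheaf.germ ⊤ b trivial ≫ X.residue b := by
      rw [← cancel_mono (Scheme.ΓSpecIso (X.residueField b)).inv, h2]
      simp [Scheme.fromSpecResidueField, Scheme.fromSpecStalk_appTop, Scheme.ΓSpecIso_inv_naturality]
    have h4 : θ.hom c = Curv2.resMap k X b c := by rw [h3]; rfl
    rw [← h4]
    exact congr($(Spec.map_injective hχ).hom c)
  congr 2
  ext z
  obtain ⟨c, rfl⟩ := hb.2 z
  exact (hi φ hx c).trans (hi ψ hy c).symm

variable [IsProper (X ↘ Spec (CommRingCat.of k))]

include k in
/-- A normal curve with two linearly equivalent rational points is the projective line. -/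
theorem exists_iso_P1_of_points [ConnectedSpace X] (hN : Pi1.IsNormalScheme X) (hC : topologicalKrullDim X = 1)
    (x y : Spec (CommRingCat.of k) ⟶ X) (hx : x ≫ (X ↘ Spec (CommRingCat.of k)) = 𝟙 _)
    (hy : y ≫ (X ↘ Spec (CommRingCat.of k)) = 𝟙 _) (hxy : x ≠ y)
    (hlin : Nonempty (ClSub.idealMod x.ker ≅ ClSub.idealMod y.ker)) :
    ∃ e : X ≅ CohB1.ProjSpace 1 k, e.hom ≫ CohB1.ProjSpace.toSpec 1 k = X ↘ Spec (CommRingCat.of k) := by
  haveI := Euler.isNoetherian_of_proper (X := X) k
  haveI : IsIntegral X := Ref1.isIntegral_of_connected fun a => (hN a).1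
  haveI := regCurve_of_normal hN hC
  haveI : Subsingleton ↥(Spec (CommRingCat.of k)) := inferInstanceAs (Subsingleton (PrimeSpectrum k))
  let o : ↥(Spec (CommRingCat.of k)) := IsLocalRing.closedPoint k
  have key : ∀ s : Spec (CommRingCat.of k) ⟶ X, s ≫ (X ↘ Spec (CommRingCat.of k)) = 𝟙 _ →
      ∃ P : CurveRR.CP X, P.1 = s o ∧ (place k P).deg = 1 ∧
        Nonempty (ClSub.idealMod s.ker ≅ oD k (-(Finsupp.single (place k P) 1 : FunFld.Divisor k X.functionField))) := by
    intro s hs
    haveI : IsClosedImmersion (s ≫ (X ↘ Spec (CommRingCat.of k))) := by rw [hs]; infer_instance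
    haveI : IsClosedImmersion s := .of_comp s (X ↘ Spec (CommRingCat.of k))
    have hcl : IsClosed ({s o} : Set X) := by
      have := s.isClosedEmbedding.isClosedMap _ (isClosed_discrete {o})
      rwa [Set.image_singleton] at this
    have hne : s o ≠ genericPoint X := fun h => CurvePoints.genericPoint_not_isClosed hC (h ▸ hcl)
    refine ⟨⟨s o, hne⟩, rfl, ?_, ?_⟩
    · letI := (GrothLib.AffDom.toRes (X ↘ Spec (CommRingCat.of k)) (s o)).toAlgebra
      rw [CurveRR.deg_place k ⟨s o, hne⟩, Zeta.residueDegree_eq_finrank]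
      have hb := bijective_resMap_of_section k s hs o
      have e : k ≃ₗ[k] (X.residueField (s o) : Type u) := LinearEquiv.ofBijective (Algebra.linearMap k _) (by
        show Function.Bijective (GrothLib.AffDom.toRes (X ↘ Spec (CommRingCat.of k)) (s o))
        rw [CurveRR.toRes_eq]
        exact hb)
      rw [← e.finrank_eq, Module.finrank_self]
    · obtain ⟨e⟩ := CurveRR.nonempty_idealMod_point_iso k ⟨s o, hne⟩ hcl
      have hk : s.ker = Scheme.IdealSheafData.vanishingIdeal (⟨{s o}, hcl⟩ : Closeds X) := by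
        rw [SchImage.ker_eq_vanishingIdeal]
        congr 1
        refine Closeds.ext ?_
        change closure (Set.range s) = {s o}
        rw [Set.range_eq_singleton fun a => congrArg s (Subsingleton.elim a o), hcl.closure_eq]
      exact ⟨eqToIso (congrArg ClSub.idealMod hk) ≪≫ e⟩
  obtain ⟨P, hP, hPd, ⟨eP⟩⟩ := key x hx
  obtain ⟨Q, hQ, -, ⟨eQ⟩⟩ := key y hy
  obtain ⟨l⟩ := hlin
  have hm := DivIso.sub_mem_of_iso k (eP.symm ≪≫ l ≪≫ eQ)
  obtain ⟨f, hf0, hf⟩ := (FunFld.mem_prinDivs_iff (CurveRR.isFG k) _).1 hm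
  have hne : place k P ≠ place k Q := fun h => hxy (section_ext_point k x y hx hy (by
    rw [← hP, ← hQ, CurveRR.place_injective h]))
  have hord : ∀ R, R.ord f = (-(Finsupp.single (place k P) 1) - -(Finsupp.single (place k Q) 1) : FunFld.Divisor k X.functionField) R := by
    intro R
    rw [← hf, (CurveRR.isFG k).div_apply f R]
  let D : FunFld.Divisor k X.functionField := Finsupp.single (place k P) 1
  have hfD : f ∈ FunFld.L D := by
    rw [FunFld.mem_L_iff_ord hf0]
    intro R
    rw [hord, Finsupp.sub_apply, Finsupp.neg_apply, Finsupp.neg_apply]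
    have : 0 ≤ (Finsupp.single (place k Q) (1 : ℤ)) R := (Finsupp.single_nonneg.2 zero_le_one : (0 : FunFld.Divisor k X.functionField) ≤ _) R
    simp only [D]
    omega
  have hf00 : f ∉ FunFld.L (0 : FunFld.Divisor k X.functionField) := by
    rw [FunFld.mem_L_iff_ord hf0]
    intro h
    have := h (place k P)
    rw [hord, Finsupp.sub_apply, Finsupp.neg_apply, Finsupp.neg_apply, Finsupp.single_eq_same,
      Finsupp.single_eq_of_ne hne] at this
    simp at this
  have hle : FunFld.L (0 : FunFld.Divisor k X.functionField) ≤ FunFld.L D :=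
    FunFld.L_mono (Finsupp.single_nonneg.2 zero_le_one)
  have hdeg : Curv2.deg k X (oD k D) 1 = 1 := by
    rw [CurveRR.deg_oD (k := k) D, FunFld.Divisor.deg, Finsupp.sum_single_index (by simp), hPd]
    norm_num
  haveI : FiniteDimensional k (Coh.HH X (oD k D) 0) := Euler.finiteDimensional_HH k (CurveRR.isCoh_oD k D) 0
  haveI : FiniteDimensional k (FunFld.L D) := (CurveRR.H0equiv k D).finiteDimensional
  have hlt : Module.finrank k (FunFld.L (0 : FunFld.Divisor k X.functionField)) < Module.finrank k (FunFld.L D) :=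
    Submodule.finrank_lt_finrank_of_lt (lt_of_le_of_ne hle fun h => hf00 (h ▸ hfD))
  obtain ⟨e0⟩ := CurveRR.nonempty_iso_oD_zero k (X := X)
  haveI : Nontrivial (Coh.HH X (oD k D) 0) := Module.nontrivial_of_finrank_pos (R := k) (by
    rw [(CurveRR.H0equiv k D).finrank_eq]; omega)
  have h0 := finrank_H0_structure_eq_one_of_deg_one k hC.le (CurveRR.isInvertible_oD k D) inferInstance hdeg
  rw [(Euler.hhEquiv (A := k) e0 0).finrank_eq, (CurveRR.H0equiv k _).finrank_eq] at h0
  refine exists_iso_P1_of_two_sections k hC (CurveRR.isInvertible_oD k D) hdeg ?_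
  rw [(CurveRR.H0equiv k D).finrank_eq]
  omega

end GrothLib.CurveMult
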