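import Groth.Agent.Lib.Euler.AmpleCurve
import Groth.Agent.Lib.Euler.CurveVanish
import Groth.Agent.Lib.Euler.Section

/-!
# Sections of twists on an integral curve: growth when the first twist has the maximal number of sections
-/

set_option linter.style.haveILetI false
set_option backward.isDefEq.respectTransparency false

universe u

open CategoryTheory CategoryTheory.Limits AlgebraicGeometry TopologicalSpace Opposite
open GrothLib.InvExt (mres)
open GrothLib.Ample (Cocycle res app_mres)
open GrothLib.QCoh (stalkLin)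

noncomputable section

namespace GrothLib.CurveMult

variable {X : Scheme.{u}} (c : Cocycle X)

/-- Product with a section of the first twist. -/
def mulFun (a : c.sect 1 ⊤) {n : ℕ} {V : X.Opens} (b : c.sect n V) : c.sect (n + 1) V :=
  ⟨fun i => b.1 i * res (inf_le_inf_right (c.D i) (le_top : V ≤ ⊤)) (a.1 i), fun i j W hi hj => by
    simp only [map_mul, GrothLib.Ample.res_res]
    rw [c.sect_spec b i j hi hj, c.sect_spec a i j (hi.trans (inf_le_inf_right _ le_top))
      (hj.trans (inf_le_inf_right _ le_top))]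
    ring⟩

/-- Multiplication by a section of the first twist. -/
def T (a : c.sect 1 ⊤) (n : ℕ) : c.twist n ⟶ c.twist (n + 1) :=
  ⟨{
    app := fun V => ModuleCat.ofHom
      (X := ((c.twist n).val.obj V : Type u))
      (Y := ((c.twist (n + 1)).val.obj V : Type u))
      { toFun := fun (b : c.sect n V.unop) => mulFun c a b
        map_add' := fun (b b' : c.sect n V.unop) => c.sect_ext fun i => add_mul _ _ _
        map_smul' := fun (r : Γ(X, V.unop)) (b : c.sect n V.unop) => c.sect_ext fun i => mul_assoc _ _ _ }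
    naturality := fun {V W} f => by
      ext (b : c.sect n V.unop)
      refine c.sect_ext fun i => ?_
      show res _ (b.1 i) * _ = res _ (b.1 i * _)
      rw [map_mul, GrothLib.Ample.res_res] }⟩

theorem T_app (a : c.sect 1 ⊤) (n : ℕ) {V : X.Opens} (b : c.sect n V) :
    (show c.sect (n + 1) V from (T c a n).app V b) = mulFun c a b := rfl

theorem T_comm (a b : c.sect 1 ⊤) (n : ℕ) : T c a n ≫ T c b (n + 1) = T c b n ≫ T c a (n + 1) := by
  refine Scheme.Modules.hom_ext _ _ fun V => ?_
  ext (t : c.sect n V)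
  exact c.sect_ext fun i => mul_right_comm _ _ _

theorem T_app_bijective (a : c.sect 1 ⊤) (n : ℕ) {V : X.Opens} (hV : V ≤ c.locus a) :
    Function.Bijective ((T c a n).app V) := by
  have hu : ∀ i, IsUnit (res (inf_le_inf_right (c.D i) (le_top : V ≤ ⊤)) (a.1 i)) := fun i => by
    have h : V ⊓ c.D i ≤ X.basicOpen (a.1 i) := by
      rw [← c.locus_inf_D a i]
      exact le_inf ((inf_le_left : V ⊓ c.D i ≤ V).trans hV) inf_le_right
    have e : res (inf_le_inf_right (c.D i) (le_top : V ≤ ⊤)) (a.1 i) =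
        res h (res (c.basicOpen_le_D a i) (a.1 i)) := (GrothLib.Ample.res_res _ _ _).symm
    rw [e]
    exact (RingedSpace.isUnit_res_basicOpen X.toRingedSpace (a.1 i)).map _
  refine ⟨fun (b : c.sect n V) (b' : c.sect n V) e => c.sect_ext fun i => (hu i).mul_right_cancel
    (congrArg (fun t : c.sect (n + 1) V => t.1 i) e), fun (t : c.sect (n + 1) V) => ?_⟩
  refine ⟨(⟨fun i => t.1 i * ↑(hu i).unit⁻¹, fun i j W hi hj => ?_⟩ : c.sect n V), c.sect_ext fun i => ?_⟩
  · refine ((hu i).map (res hi)).mul_right_cancel ?_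
    have e1 : res hi (↑(hu i).unit⁻¹ : Γ(X, V ⊓ c.D i)) * res hi (res (inf_le_inf_right (c.D i) (le_top : V ≤ ⊤)) (a.1 i)) = 1 := by
      rw [← map_mul, IsUnit.val_inv_mul, map_one]
    have e2 : res hj (↑(hu j).unit⁻¹ : Γ(X, V ⊓ c.D j)) * res hj (res (inf_le_inf_right (c.D j) (le_top : V ≤ ⊤)) (a.1 j)) = 1 := by
      rw [← map_mul, IsUnit.val_inv_mul, map_one]
    rw [map_mul, map_mul, mul_assoc, e1, mul_one, c.sect_spec t i j hi hj]
    have e3 := c.sect_spec a i j (hi.trans (inf_le_inf_right _ le_top)) (hj.trans (inf_le_inf_right _ le_top))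
    simp only [GrothLib.Ample.res_res] at e2 ⊢
    rw [e3, pow_succ, pow_one]
    linear_combination (-(res hj (t.1 j)) * c.G i j (hi.trans inf_le_right) (hj.trans inf_le_right) ^ n *
      c.G i j (hi.trans inf_le_right) (hj.trans inf_le_right)) * e2
  · show t.1 i * _ * _ = t.1 i
    rw [mul_assoc, IsUnit.val_inv_mul, mul_one]

variable [IsIntegral X]

theorem genericPoint_mem {U : X.Opens} (h : (U : Set X).Nonempty) : genericPoint X ∈ U := by
  refine ((genericPoint_spec X).mem_open_set_iff U.2).2 ?_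
  simpa using h

theorem T_app_injective {a : c.sect 1 ⊤} (ha : a ≠ 0) (n : ℕ) (V : X.Opens) :
    Function.Injective ((T c a n).app V) := by
  intro (b : c.sect n V) (b' : c.sect n V) e
  refine c.sect_ext fun i => ?_
  by_cases hne : Nonempty (V ⊓ c.D i : X.Opens)
  · haveI := hne
    obtain ⟨⟨p, hp⟩⟩ := hne
    refine mul_right_cancel₀ ?_ (congrArg (fun t : c.sect (n + 1) V => t.1 i) e)
    intro h0
    have h2 := congrArg X.basicOpen h0
    rw [GrothLib.Ample.res, Scheme.basicOpen_res, Scheme.basicOpen_zero, ← c.locus_inf_D a i] at h2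
    exact (h2.le ⟨genericPoint_mem ⟨p, hp⟩, genericPoint_mem ((GrothLib.Euler.locus_nonempty_of_ne_zero c ha)),
      genericPoint_mem ⟨p, hp.2⟩⟩ : genericPoint X ∈ (⊥ : X.Opens))
  · exact GrothLib.Ample.eq_of_cover (fun k : PEmpty.{1} => k.elim) (fun k => k.elim)
      (fun x hx => (hne ⟨⟨x, hx⟩⟩).elim) (fun k => k.elim)

theorem mono_T {a : c.sect 1 ⊤} (ha : a ≠ 0) (n : ℕ) : Mono (T c a n) :=
  QCoh.mono_of_app_injective _ (T_app_injective c ha n)

/-- The sequence of multiplication by a section. -/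
abbrev seq (a : c.sect 1 ⊤) (n : ℕ) : ShortComplex X.Modules :=
  ShortComplex.mk (T c a n) (cokernel.π _) (cokernel.condition _)

theorem seq_shortExact {a : c.sect 1 ⊤} (ha : a ≠ 0) (n : ℕ) : (seq c a n).ShortExact :=
  { exact := ShortComplex.exact_of_g_is_cokernel _ (cokernelIsCokernel (T c a n))
    mono_f := mono_T c ha n }

variable (k : Type u) [Field k] [X.Over (Spec (CommRingCat.of k))] [IsProper (X ↘ Spec (CommRingCat.of k))]

include k in
theorem seq_data (hd : topologicalKrullDim X ≤ 1) {a : c.sect 1 ⊤} (ha : a ≠ 0) (n : ℕ) :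
    Coh.IsCoh (cokernel (T c a n)) ∧ (CohB1.support (cokernel (T c a n))).Finite ∧
      (∀ x ∈ CohB1.support (cokernel (T c a n)), IsClosed ({x} : Set X)) ∧
      CohB1.support (cokernel (T c a n)) ⊆ (c.locus a : Set X)ᶜ := by
  haveI := GrothLib.Euler.isNoetherian_of_proper (X := X) k
  have hsub : CohB1.support (cokernel (T c a n)) ⊆ (c.locus a : Set X)ᶜ := fun x hx hxl =>
    QCoh.notMem_support_cokernel_of_surjective (T c a n)
      (GrothLib.Euler.stalkLin_bijective_of_app_bijective _ hxl fun W hW => T_app_bijective c a n hW).2 hx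
  have hQ := QCoh.isCoh_cokernel (T c a n) (GrothLib.Euler.isCoh_of_isInvertible (c.isInvertible_twist n))
    (GrothLib.Euler.isCoh_of_isInvertible (c.isInvertible_twist (n + 1)))
  obtain ⟨h1, h2⟩ := GrothLib.Euler.finite_support_of_notMem_genericPoint k hd hQ fun h =>
    hsub h (genericPoint_mem (GrothLib.Euler.locus_nonempty_of_ne_zero c ha))
  exact ⟨hQ, h1, h2, hsub⟩

include k in
theorem finrank_coker (hd : topologicalKrullDim X ≤ 1) {a : c.sect 1 ⊤} (ha : a ≠ 0) (n : ℕ) :
    (Module.finrank k (Coh.HH X (cokernel (T c a n)) 0) : ℤ) = Curv2.deg k X (c.twist 1) 1 := by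
  obtain ⟨hQ, h1, h2, -⟩ := seq_data c k hd ha n
  have hn : ∀ m, Coh.IsCoh (c.twist m) := fun m => GrothLib.Euler.isCoh_of_isInvertible (c.isInvertible_twist m)
  haveI := GrothLib.Euler.isNoetherian_of_proper (X := X) k
  have h := GrothLib.Euler.euler_additive k (seq_shortExact c ha n) (hn n) (hn (n + 1)) hQ
  rw [GrothLib.Euler.euler_eq_of_finite_support k (seq c a n).X₃ h1 h2] at h
  have e1 := GrothLib.Euler.deg_twist k c hd n
  have e2 := GrothLib.Euler.deg_twist k c hd (n + 1)
  simp only [Curv2.deg] at e1 e2 ⊢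
  push_cast at e1 e2 ⊢
  linarith

include k in
/-- If the first multiplication is surjective on sections of the cokernel, there is a section without zeros
among the zeros of the given one. -/
theorem exists_gen_at_zeros (hd : topologicalKrullDim X ≤ 1) {u : c.sect 1 ⊤} (hu : u ≠ 0)
    (hs : Function.Surjective (Cohom.hhMap k (seq c u 0).g 0)) :
    ∃ v : c.sect 1 ⊤, c.locus u ⊔ c.locus v = ⊤ := by
  classical
  obtain ⟨-, -, -, hsub⟩ := seq_data c k hd hu 0
  have hZ : ∀ x, x ∉ c.locus u → IsClosed ({x} : Set X) := fun x hx => CurvePoints.isClosed_singleton hd fun h =>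
    hx (h ▸ genericPoint_mem (GrothLib.Euler.locus_nonempty_of_ne_zero c hu))
  have hZfin : ((c.locus u : Set X)ᶜ).Finite := by
    haveI := GrothLib.Euler.isNoetherian_of_proper (X := X) k
    exact CurvePoints.finite_of_isClosed hd (c.locus u).2.isClosed_compl
      fun h => h (genericPoint_mem (GrothLib.Euler.locus_nonempty_of_ne_zero c hu))
  let Z : Set X := (c.locus u : Set X)ᶜ
  choose i hi using fun x : Z => c.exists_mem x.1
  have hcl : ∀ x : Z, IsClosed (Z \ {x.1}) := fun x => by
    rw [← Set.biUnion_of_singleton (Z \ {x.1})]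
    exact (hZfin.sdiff).isClosed_biUnion fun y hy => hZ y hy.1
  let W : Option Z → X.Opens := fun o => o.elim (c.locus u) fun x => c.D (i x) ⊓ ⟨_, (hcl x).isOpen_compl⟩
  have hWD : ∀ x : Z, W (some x) ≤ c.D (i x) := fun x => inf_le_left
  let Q := cokernel (T c u 0)
  let π : c.twist (0 + 1) ⟶ Q := cokernel.π _
  have hkill : ∀ (T' : X.Opens), T' ≤ c.locus u → ∀ t : Γ(Q, T'), t = 0 := fun T' hT' t =>
    QCoh.section_eq_zero_of_germ Q _ fun y hy => by
      have : Subsingleton (Q.presheaf.stalk y) :=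
        QCoh.stalk_subsingleton_of_notMem fun h => hsub h (hT' hy)
      exact Subsingleton.elim _ _
  let sf : ∀ o, Γ(Q, W o) := fun
    | none => 0
    | some x => π.app (W (some x)) (c.base (0 + 1) (i x) (hWD x))
  have hov : ∀ o o' : Option Z, o ≠ o' → W o ⊓ W o' ≤ c.locus u := by
    rintro (_ | x) (_ | y) hne z hz
    · exact (hne rfl).elim
    · exact hz.1
    · exact hz.2
    · by_contra hzl
      have h1 : z = x.1 := by_contra fun h => hz.1.2 ⟨hzl, h⟩
      have h2 : z = y.1 := by_contra fun h => hz.2.2 ⟨hzl, h⟩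
      exact hne (congrArg some (Subtype.ext (h1.symm.trans h2)))
  have hcov : (⊤ : X.Opens) ≤ ⨆ o, W o := fun z _ => by
    by_cases hz : z ∈ c.locus u
    · exact Opens.mem_iSup.2 ⟨none, hz⟩
    · exact Opens.mem_iSup.2 ⟨some ⟨z, hz⟩, hi ⟨z, hz⟩, fun h => h.2 rfl⟩
  obtain ⟨q, hq, -⟩ := TopCat.Sheaf.existsUnique_gluing' ⟨Q.presheaf, Q.isSheaf⟩ W ⊤
    (fun o => homOfLE le_top) hcov sf (fun o o' => by
      by_cases h : o = o'
      · subst h; rfl
      · exact (hkill _ (hov o o' h) _).trans (hkill _ (hov o o' h) _).symm)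
  obtain ⟨z, hz⟩ := hs ((ProjCoh.H0top Q).symm q)
  let v : c.sect 1 ⊤ := ProjCoh.H0top (c.twist (0 + 1)) z
  have hv : π.app ⊤ v = q := by
    have h := congrArg (ProjCoh.H0top Q) hz
    rw [AddEquiv.apply_symm_apply] at h
    exact ((ProjCoh.H0top_map _ z).symm.trans h : _)
  refine ⟨v, eq_top_iff.2 fun x _ => ?_⟩
  by_cases hxu : x ∈ c.locus u
  · exact Or.inl hxu
  let x' : Z := ⟨x, hxu⟩
  let V := W (some x')
  have hxV : x ∈ V := ⟨hi x', fun h => h.2 rfl⟩
  let d : Γ(c.twist (0 + 1), V) := mres (c.twist (0 + 1)) (le_top : V ≤ ⊤) v - (show Γ(c.twist (0 + 1), V) from c.base (0 + 1) (i x') (hWD x'))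
  have hd0 : π.app V d = 0 := by
    rw [map_sub, app_mres, hv, sub_eq_zero]
    exact hq (some x')
  obtain ⟨(r : c.sect 0 V), hr⟩ := Cohom.sections_exact (QCoh.toAbFun_map_shortExact _ (seq_shortExact c hu 0)) V d hd0
  have hr' : mulFun c u r = c.sectRes (le_top : V ≤ ⊤) v - c.base (0 + 1) (i x') (hWD x') := hr
  have h3 := congrArg (fun t : c.sect 1 V => t.1 (i x')) hr'
  simp only [mulFun, AddSubgroup.coe_sub, Pi.sub_apply, Cocycle.base_self, Cocycle.sectRes_apply] at h3
  refine Or.inr (Opens.mem_iSup.2 ⟨i x', ?_⟩)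
  have hx1 : x ∈ (V ⊓ c.D (i x') : X.Opens) := ⟨hxV, hi x'⟩
  have hx2 : x ∉ X.basicOpen (u.1 (i x')) := fun h => hxu (Opens.mem_iSup.2 ⟨i x', h⟩)
  by_contra hxv
  have e1 : res (inf_le_inf_right (c.D (i x')) (le_top : V ≤ ⊤)) (v.1 (i x')) -
      r.1 (i x') * res (inf_le_inf_right (c.D (i x')) (le_top : V ≤ ⊤)) (u.1 (i x')) = 1 := by
    rw [h3]; ring
  have hm : ∀ w : Γ(X, ⊤ ⊓ c.D (i x')), x ∉ X.basicOpen w →
      X.presheaf.germ _ x hx1 (res (inf_le_inf_right (c.D (i x')) (le_top : V ≤ ⊤)) w) ∈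
        IsLocalRing.maximalIdeal (X.presheaf.stalk x) := fun w hw => by
    rw [IsLocalRing.mem_maximalIdeal, mem_nonunits_iff, ← Scheme.mem_basicOpen X _ x hx1, GrothLib.Ample.res,
      Scheme.basicOpen_res]
    exact fun h => hw h.2
  suffices h1 : (1 : X.presheaf.stalk x) ∈ IsLocalRing.maximalIdeal (X.presheaf.stalk x) from
    (IsLocalRing.maximalIdeal.isMaximal _).ne_top ((Ideal.eq_top_iff_one _).2 h1)
  rw [← map_one (X.presheaf.germ _ x hx1).hom, ← e1, map_sub, map_mul]
  exact sub_mem (hm _ hxv) (Ideal.mul_mem_left _ _ (hm _ hx2))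

include k in
/-- Multiples of the complementary section fill the cokernel of the next multiplication. -/
theorem surjective_succ (hd : topologicalKrullDim X ≤ 1) {u v : c.sect 1 ⊤} (hu : u ≠ 0)
    (huv : c.locus u ⊔ c.locus v = ⊤) (n : ℕ) (ih : Function.Surjective (Cohom.hhMap k (seq c u n).g 0)) :
    Function.Surjective fun b => Cohom.hhMap k (seq c u (n + 1)).g 0 (Cohom.hhMap k (T c v (n + 1)) 0 b) := by
  obtain ⟨hQ, h1, h2, hsub⟩ := seq_data c k hd hu (n + 1)
  let φ : cokernel (T c u n) ⟶ cokernel (T c u (n + 1)) :=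
    cokernel.map _ _ (T c v n) (T c v (n + 1)) (T_comm c u v n)
  have hφ : T c v (n + 1) ≫ cokernel.π (T c u (n + 1)) = cokernel.π (T c u n) ≫ φ := by
    simp [φ, cokernel.map]
  have hsurj : ∀ x : X, Function.Surjective (stalkLin φ x) := fun x y => by
    by_cases hx : x ∈ c.locus u
    · have : Subsingleton ((cokernel (T c u (n + 1))).presheaf.stalk x) :=
        QCoh.stalk_subsingleton_of_notMem fun h => hsub h hx
      exact ⟨0, Subsingleton.elim _ _⟩
    · have hxv : x ∈ c.locus v := by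
        have : x ∈ c.locus u ⊔ c.locus v := huv ▸ Opens.mem_top x
        exact this.resolve_left hx
      obtain ⟨b, rfl⟩ := QCoh.stalkLin_surjective (cokernel.π (T c u (n + 1))) x y
      obtain ⟨b', rfl⟩ := (GrothLib.Euler.stalkLin_bijective_of_app_bijective (T c v (n + 1)) hxv
        fun W hW => T_app_bijective c v (n + 1) hW).2 b
      exact ⟨stalkLin (cokernel.π (T c u n)) x b', by rw [← QCoh.stalkLin_comp, ← QCoh.stalkLin_comp, hφ]⟩
  haveI : Epi φ := (OX.epi_iff φ).2 fun x => (ModuleCat.epi_iff_surjective _).2 (hsurj x)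
  have hK : Subsingleton (Coh.HH X (kernel φ) 1) := by
    obtain ⟨-, g1, g2, -⟩ := seq_data c k hd hu n
    have hsubK := QCoh.support_subset_of_mono (kernel.ι φ)
    exact GrothLib.Euler.subsingleton_HH_of_finite_support _ (g1.subset hsubK) (fun x hx => g2 x (hsubK hx)) 1 le_rfl
  have hT : (ShortComplex.mk (kernel.ι φ) φ (kernel.condition φ)).ShortExact :=
    { exact := ShortComplex.exact_of_f_is_kernel _ (kernelIsKernel φ) }
  intro y
  obtain ⟨y0, rfl⟩ := (Cohom.exact₃ (A := k) hT 0 y).1 (Subsingleton.elim (α := Coh.HH X (kernel φ) 1) _ _)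
  obtain ⟨b, rfl⟩ := ih y0
  refine ⟨b, ?_⟩
  show Cohom.hhMap k (cokernel.π (T c u (n + 1))) 0 _ = Cohom.hhMap k φ 0 (Cohom.hhMap k (cokernel.π (T c u n)) 0 b)
  rw [← GrothLib.Euler.hhMap_comp, ← GrothLib.Euler.hhMap_comp, hφ]

include k in
/-- The growth of sections. -/
theorem surjective_all (hd : topologicalKrullDim X ≤ 1) {u v : c.sect 1 ⊤} (hu : u ≠ 0)
    (huv : c.locus u ⊔ c.locus v = ⊤) (hs : Function.Surjective (Cohom.hhMap k (seq c u 0).g 0)) :
    ∀ n, Function.Surjective (Cohom.hhMap k (seq c u n).g 0) := by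
  intro n
  induction n with
  | zero => exact hs
  | succ n ih =>
    intro y
    obtain ⟨b, hb⟩ := surjective_succ c k hd hu huv n ih y
    exact ⟨_, hb⟩

include k in
/-- The main bound. -/
theorem finrank_H0_twist (hd : topologicalKrullDim X ≤ 1) {u : c.sect 1 ⊤} (hu : u ≠ 0)
    (hs : Function.Surjective (Cohom.hhMap k (seq c u 0).g 0)) :
    ∀ n, (Module.finrank k (Coh.HH X (c.twist n) 0) : ℤ) =
      Module.finrank k (Coh.HH X (c.twist 0) 0) + n * Curv2.deg k X (c.twist 1) 1 := by
  obtain ⟨v, huv⟩ := exists_gen_at_zeros c k hd hu hs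
  haveI := GrothLib.Euler.isNoetherian_of_proper (X := X) k
  intro n
  induction n with
  | zero => simp
  | succ n ih =>
    haveI := GrothLib.Euler.finiteDimensional_HH k
      (GrothLib.Euler.isCoh_of_isInvertible (c.isInvertible_twist (n + 1))) 0
    have hsn := seq_shortExact c hu n
    have h1 := GrothLib.Euler.finrank_eq_add_of_exact (Cohom.exact₂ (A := k) hsn 0)
    haveI := hsn.mono_f
    rw [LinearMap.finrank_range_of_inj (GrothLib.Euler.hhMap_zero_injective (A := k) hsn), LinearMap.range_eq_top.2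
      (surjective_all c k hd hu huv hs n), finrank_top] at h1
    have h2 := finrank_coker c k hd hu n
    push_cast
    rw [h1]
    push_cast
    linarith

end GrothLib.CurveMult
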