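import Groth.Agent.Lib.CurveMult.OmegaApp
import Groth.Agent.Lib.CurveMult.IdealDiv

/-!
# Linear stability of the canonical system
-/

set_option autoImplicit false
set_option linter.style.haveILetI false
set_option linter.unusedSectionVars false

universe u

open CategoryTheory AlgebraicGeometry WithZero
open _root_.FunFld (Place Divisor ell)

noncomputable section

namespace GrothLib.CurveMult.LinStable

open GrothLib GrothLib.CurveRR

variable (k : Type u) [Field k] {X : Scheme.{u}} [IsIntegral X] [RegCurve X]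
  [X.Over (Spec (CommRingCat.of k))] [IsProper (X ↘ Spec (CommRingCat.of k))]

theorem mono_mulFn {D E : Divisor k X.functionField} {f : X.functionField} (hf : f ≠ 0)
    (h : ∀ x : CP X, exp (D (place k x)) * (place k x).1 f ≤ exp (E (place k x))) :
    Mono (DivIso.mulFn k f h) :=
  ⟨fun a b hab => Scheme.Modules.hom_ext _ _ fun V => by
    ext s
    refine oval_ext fun hV => mul_left_cancel₀ hf ?_
    exact congrArg (fun t => oval k t hV)
      (ConcreteCategory.congr_hom (congrArg (fun φ => Scheme.Modules.Hom.app φ V) hab) s)⟩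

theorem ne_zero_of_mono {D E : Divisor k X.functionField} (φ : oD k D ⟶ oD k E) [Mono φ] {f : X.functionField}
    (hf : ∀ (V : X.Opens) (s : Γ(oD k D, V)) (hV : genericPoint X ∈ V),
      oval k (φ.app V s) hV = f * oval k s hV) : f ≠ 0 := by
  rintro rfl
  have h0 : φ = 0 := by
    refine Scheme.Modules.hom_ext _ _ fun V => ?_
    ext s
    refine oval_ext fun hV => ?_
    rw [hf, zero_mul]
    exact (ProjCoh.val_zero hV).symm.trans (congrArg (ProjCoh.val · hV) (map_zero _).symm)
  have h1 : 𝟙 (oD k D) = 0 := (cancel_mono φ).1 (by rw [h0, Limits.comp_zero, Limits.comp_zero])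
  obtain ⟨V₀, g, hη, hg0, hg⟩ := exists_gen k D (genericPoint X)
  have h2 := congrArg (fun t => oval k t hη)
    (ConcreteCategory.congr_hom (congrArg (fun ψ => Scheme.Modules.Hom.app ψ V₀) h1)
      (mkSec k D V₀ g fun x hx => (hg x hx).le))
  refine hg0 ((oval_mkSec _ _ hη).symm.trans (h2.trans ?_))
  exact (congrArg (ProjCoh.val · hη) (map_zero _)).trans (ProjCoh.val_zero hη)

variable [IsAlgClosed k]

/-- A proper invertible submodule of the canonical sheaf is strictly below the canonical divisor. -/
theorem exists_below {Ω M : X.Modules} {C : Divisor k X.functionField} (eC : Ω ≅ oD k C)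
    (hM : PicF.IsInvertible M) (ι : M ⟶ Ω) [Mono ι] (hι : ¬ IsIso ι) :
    ∃ D : Divisor k X.functionField, Nonempty (M ≅ oD k D) ∧ D.deg < C.deg ∧ 0 < ell (C - D) := by
  classical
  obtain ⟨D, ⟨eD⟩⟩ := exists_iso_oD k hM
  let φ : oD k D ⟶ oD k C := eD.inv ≫ ι ≫ eC.hom
  obtain ⟨f, hf⟩ := DivIso.exists_factor k φ
  have hf0 := ne_zero_of_mono k φ hf
  have hfg := isFG k (X := X)
  have hle : D - _root_.FunFld.div k f ≤ C := fun P => by
    obtain ⟨x, rfl⟩ := place_surjective (k := k) P
    have a := DivIso.le_of_factor k hf x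
    rw [FunFld.val_eq (place k x) hf0, ← exp_add, exp_le_exp] at a
    rw [Finsupp.sub_apply, hfg.div_apply f (place k x)]
    linarith
  refine ⟨D, ⟨eD⟩, ?_, ?_⟩
  · by_contra hlt
    have hd := FunFld.deg_mono hle
    rw [FunFld.deg_sub, hfg.deg_div, sub_zero] at hd
    have heq : D - _root_.FunFld.div k f = C := by
      by_contra hne
      obtain ⟨P, hP⟩ := FunFld.exists_single_le (sub_nonneg.2 hle) (sub_ne_zero.2 (Ne.symm hne))
      have h3 := FunFld.deg_mono hP
      rw [FunFld.deg_sub, FunFld.deg_sub, hfg.deg_div, FunFld.deg_single, deg_place_eq_one k P] at h3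
      push_cast at h3
      omega
    have h2 : ∀ x : CP X, exp (C (place k x)) * (place k x).1 f⁻¹ ≤ exp (D (place k x)) := fun x => by
      rw [map_inv₀, FunFld.val_eq (place k x) hf0, ← exp_neg, ← exp_add, exp_le_exp, ← heq, Finsupp.sub_apply,
        hfg.div_apply f (place k x)]
      linarith
    haveI : IsIso φ := by
      refine ⟨DivIso.mulFn k f⁻¹ h2, ?_, ?_⟩ <;> refine Scheme.Modules.hom_ext _ _ fun V => ?_ <;> ext s <;>
        refine oval_ext fun hV => ?_
      · show f⁻¹ * oval k (φ.app V s) hV = oval k s hV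
        rw [hf, inv_mul_cancel_left₀ hf0]
      · show oval k (φ.app V ((DivIso.mulFn k f⁻¹ h2).app V s)) hV = oval k s hV
        rw [hf, show oval k ((DivIso.mulFn k f⁻¹ h2).app V s) hV = f⁻¹ * oval k s hV from rfl,
          mul_inv_cancel_left₀ hf0]
    refine hι ?_
    have : IsIso (eD.hom ≫ φ ≫ eC.inv) := inferInstance
    simpa [φ] using this
  · haveI := hfg.finite_L (C - (D - _root_.FunFld.div k f))
    have h1 : ell (C - (D - _root_.FunFld.div k f)) = ell (C - D) := by
      rw [show C - (D - _root_.FunFld.div k f) = C - D + _root_.FunFld.div k f by abel, hfg.ell_add_div _ hf0]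
    rw [← h1]
    have h0 := finrank_H0_structure_eq_one k (X := X)
    have := Submodule.finrank_mono (FunFld.L_mono (sub_nonneg.2 hle))
    exact lt_of_lt_of_le (by rw [← _root_.FunFld.ell, FunFld.ell_zero (isFunctionField k h0)]; norm_num) this

end GrothLib.CurveMult.LinStable
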