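import Groth.Agent.Lib.CurveMult.VeryAmpleDiv

/-!
# The complete system of a separating divisor embeds into the projective space of its dimension
-/

set_option autoImplicit false
set_option linter.style.haveILetI false
set_option backward.isDefEq.respectTransparency false

universe u

open CategoryTheory CategoryTheory.Limits AlgebraicGeometry TopologicalSpace Opposite
open _root_.FunFld (Place Divisor ell)
open GrothLib.CurveRR
open GrothLib.Ample (Cocycle res)

noncomputable section

namespace GrothLib.CurveMult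

variable (k : Type u) [Field k] [IsAlgClosed k] {X : Scheme.{u}} [IsIntegral X] [RegCurve X]
  [X.Over (Spec (CommRingCat.of k))] [IsProper (X ↘ Spec (CommRingCat.of k))]

include k in
theorem exists_closedImmersion_of_ell_eq {D : Divisor k X.functionField} (hD : 0 < D.deg) {N : ℕ}
    (hN : ell D = N + 1)
    (h : ∀ P Q : Place k X.functionField, ell (D - Finsupp.single P 1 - Finsupp.single Q 1) + 2 ≤ ell D) :
    ∃ i : X ⟶ CohB1.ProjSpace N k, IsClosedImmersion i ∧
      i ≫ CohB1.ProjSpace.toSpec N k = X ↘ Spec (CommRingCat.of k) := by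
  haveI := Euler.isNoetherian_of_proper (X := X) k
  obtain ⟨c, ⟨e⟩⟩ := Ample.exists_cocycle (isInvertible_oD k D)
  haveI := Euler.finiteDimensional_HH k (Euler.isCoh_of_isInvertible (c.isInvertible_twist 1)) 0
  have hb : ∀ Z : X.IdealSheafData, topologicalKrullDim (Z.support : Set X) ≤ 0 →
      Module.finrank k (Coh.HH X (ClSub.quotMod Z) 0) ≤ 2 →
      Module.finrank k (Coh.HH X (CohB1.tensorMod (ClSub.idealMod Z) (c.twist 1)) 0) +
        Module.finrank k (Coh.HH X (ClSub.quotMod Z) 0) ≤ Module.finrank k (Coh.HH X (c.twist 1) 0) := by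
    intro Z hZ hlen
    obtain ⟨E, hE0, hEd, ⟨eZ⟩⟩ := exists_effective_iso k Z hZ
    obtain ⟨t⟩ := nonempty_tensor_iso k eZ e.symm
    rw [(Euler.hhEquiv (A := k) t 0).finrank_eq, (Euler.hhEquiv (A := k) e.symm 0).finrank_eq, finrank_H0_oD,
      finrank_H0_oD, neg_add_eq_sub]
    have hd2 : E.deg ≤ 2 := by rw [hEd]; exact_mod_cast hlen
    rcases effective_cases k hE0 hd2 with rfl | ⟨P, rfl⟩ | ⟨P, Q, rfl⟩
    · rw [sub_zero]
      have : (0 : Divisor k X.functionField).deg = 0 := by simp [FunFld.deg_eq_degHom]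
      omega
    · rw [FunFld.deg_single, deg_place_eq_one k P] at hEd
      have h1 := h P P
      have h2 := ell_le_ell_sub_succ k (D - Finsupp.single P 1) P
      omega
    · rw [FunFld.deg_add, FunFld.deg_single, FunFld.deg_single, deg_place_eq_one k P, deg_place_eq_one k Q] at hEd
      rw [← sub_sub]
      have h1 := h P Q
      omega
  have hN' : Module.finrank k (Coh.HH X (c.twist 1) 0) = N + 1 := by
    rw [(Euler.hhEquiv (A := k) e.symm 0).finrank_eq, finrank_H0_oD, hN]
  let bas := Module.finBasisOfFinrankEq k (Coh.HH X (c.twist 1) 0) hN'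
  let a : Fin (N + 1) → c.sect 1 ⊤ := fun l => ProjCoh.H0top (c.twist 1) (bas l)
  have hpos : 0 < Curv2.deg k X (c.twist 1) 1 := by rw [Euler.deg_of_iso k e.symm 1, deg_oD]; exact hD
  obtain ⟨hcov, hsep⟩ := separating_of_bound k RegCurve.dim.le c hb bas bas.span_eq a fun _ => rfl
  have haff := isAffineOpen_locus_of_cover k RegCurve.dim.le c hpos a hcov
  obtain ⟨i, hi, hik, -⟩ := exists_closedImmersion_of_separating k c (Iso.refl (c.twist 1)) a hcov haff
    fun j => hsep j (haff j)
  exact ⟨i, hi, hik⟩

end GrothLib.CurveMult
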