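import Groth.Agent.Lib.CurveMult.CliffApp
import Groth.Agent.Lib.CurveMult.LinStable
import Groth.Agent.Lib.CurveMult.PlaneEmb

/-!
# Projections of the canonical curve
-/

set_option autoImplicit false
set_option linter.style.haveILetI false
set_option linter.unusedSectionVars false

universe u

open CategoryTheory AlgebraicGeometry Opposite
open _root_.FunFld (Place Divisor ell)

noncomputable section

namespace GrothLib.CurveMult.CanonProj

open GrothLib GrothLib.CurveRR

variable (k : Type u) [Field k] [IsAlgClosed k] {X : Scheme.{u}} [IsIntegral X] [RegCurve X]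
  [X.Over (Spec (CommRingCat.of k))] [IsProper (X ↘ Spec (CommRingCat.of k))]
  {C : Divisor k X.functionField}

theorem app_sum {L M : X.Modules} (ι : M ⟶ L) {n : ℕ} (c : Fin n → k) (v : Fin n → LinSer.Sect X M) :
    (ι.val.app (op ⊤)).hom (∑ i, (Coh.toGlobal (X ↘ Spec (CommRingCat.of k)) (c i)) • v i) =
      ∑ i, (Coh.toGlobal (X ↘ Spec (CommRingCat.of k)) (c i)) • (ι.val.app (op ⊤)).hom (v i) := by
  rw [map_sum]
  exact Finset.sum_congr rfl fun i _ => map_smul _ _ _

/-- Independent sections of a submodule stay within its space of sections, and span it in the equality case. -/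
theorem sections_le {L M : X.Modules} (hinv : PicF.IsInvertible M) (ι : M ⟶ L) {m : ℕ}
    {w : Fin m → LinSer.Sect X L} (hw : LinSer.LinIndep k X L w) {v : Fin m → LinSer.Sect X M}
    (hv : ∀ j, (ι.val.app (op ⊤)).hom (v j) = w j) :
    m ≤ Module.finrank k (Coh.HH X M 0) ∧ (m = Module.finrank k (Coh.HH X M 0) → ∀ s : LinSer.Sect X M,
      ∃ c : Fin m → k, (ι.val.app (op ⊤)).hom s = ∑ j, (Coh.toGlobal (X ↘ Spec (CommRingCat.of k)) (c j)) • w j) := by
  haveI := Euler.isNoetherian_of_proper (X := X) k
  haveI := Euler.finiteDimensional_HH k (Euler.isCoh_of_isInvertible hinv) 0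
  have key : ∀ c : Fin m → k, ProjCoh.H0top M (∑ j, c j • (ProjCoh.H0top M).symm (v j)) =
      ∑ j, (Coh.toGlobal (X ↘ Spec (CommRingCat.of k)) (c j)) • v j := fun c => by
    rw [map_sum]
    refine Finset.sum_congr rfl fun j _ => ?_
    rw [ProjCoh.H0top_smul, AddEquiv.apply_symm_apply]
    rfl
  have hz : LinearIndependent k fun j => (ProjCoh.H0top M).symm (v j) := by
    rw [Fintype.linearIndependent_iff]
    intro c hc
    refine congrFun (hw c ?_)
    have h1 := congrArg (fun z => (ι.val.app (op ⊤)).hom (ProjCoh.H0top M z)) hc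
    simp only [key, app_sum, hv, map_zero] at h1
    exact h1.trans (map_zero _)
  have hle := hz.fintype_card_le_finrank
  rw [Fintype.card_fin] at hle
  refine ⟨hle, fun heq s => ?_⟩
  have hspan := hz.span_eq_top_of_card_eq_finrank' (by rw [Fintype.card_fin, heq])
  obtain ⟨c, hc⟩ := (Submodule.mem_span_range_iff_exists_fun k).1
    (hspan ▸ Submodule.mem_top : (ProjCoh.H0top M).symm s ∈ _)
  refine ⟨c, ?_⟩
  have h1 := congrArg (fun z => (ι.val.app (op ⊤)).hom (ProjCoh.H0top M z)) hc
  simp only [key, app_sum, hv, AddEquiv.apply_symm_apply] at h1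
  exact h1.symm

/-- The divisor of a submodule of the canonical module. -/
theorem exists_divisor {Ω M : X.Modules} (eC : Ω ≅ oD k C) (hM : PicF.IsInvertible M) (ι : M ⟶ Ω) [Mono ι] :
    ∃ D : Divisor k X.functionField, Nonempty (M ≅ oD k D) ∧
      (D.deg = C.deg ∨ (D.deg < C.deg ∧ 0 < ell (C - D))) := by
  by_cases hι : IsIso ι
  · exact ⟨C, ⟨asIso ι ≪≫ eC⟩, Or.inl rfl⟩
  · obtain ⟨D, hD, hlt, hpos⟩ := LinStable.exists_below k eC hM ι hι
    exact ⟨D, hD, Or.inr ⟨hlt, hpos⟩⟩

/-- No pencil of degree two bounds the Clifford index from below by one. -/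
theorem bound_one (hC : _root_.FunFld.IsCanonical k X.functionField C)
    (hnh : ∀ E : Divisor k X.functionField, E.deg = 2 → ell E ≤ 1) : FunFld.CliffIdx.Bound k C 1 := by
  intro A h1 h2
  have h0 := finrank_H0_structure_eq_one k (X := X)
  have hK := isFunctionField k h0
  have hcl := CurveRR.FF.clifford hK hC (D := A) (by omega) (by omega)
  push_cast
  by_contra hlt
  have hRR := FunFld.riemann_roch' hK hC A
  obtain ⟨E, hE, hlE⟩ := FunFld.exists_g12_of_clifford_eq hK hC (ell A - 1) A (by omega) (by omega) (by omega)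
    (by omega)
  have := hnh E hE
  omega

/-- Without pencils of degree two or three and off the plane quintics the Clifford index is at least two. -/
theorem bound_two [CharZero k] (hC : _root_.FunFld.IsCanonical k X.functionField C)
    (hnh : ∀ E : Divisor k X.functionField, E.deg = 2 → ell E ≤ 1)
    (hnt : ∀ E : Divisor k X.functionField, E.deg = 3 → ell E ≤ 1)
    (hpl : _root_.FunFld.genus k X.functionField = 6 → ∀ i : X ⟶ CohB1.ProjSpace 2 k, IsClosedImmersion i →
      i ≫ CohB1.ProjSpace.toSpec 2 k ≠ X ↘ Spec (CommRingCat.of k)) :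
    FunFld.CliffIdx.Bound k C 2 := by
  intro A h1 h2
  have h0 := finrank_H0_structure_eq_one k (X := X)
  have hK := isFunctionField k h0
  have hb := bound_one k hC hnh
  have hb1 := hb A h1 h2
  push_cast at hb1 ⊢
  by_contra hlt
  obtain ⟨D₀, r₀, hr₀, hd₀, hl₀, hc₀, hg₀⟩ := FunFld.CliffIdx.exists_low hK hC (c := 1)
    ⟨A, h1, h2, by push_cast; omega⟩
  obtain ⟨D, r, hr1, hr2, hd, hl, hcd⟩ :=
    FunFld.CliffIdx.exists_low_one hK hC hb r₀ D₀ hr₀ (by simpa using hd₀) hl₀ hc₀ hg₀
  interval_cases r
  · have := hnt D (by rw [hd]; rfl)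
    omega
  · rcases FunFld.CliffIdx.pencil_or_separated hK hb (D := D) (by rw [hd]; rfl) hl hcd with
      ⟨E, hdE, hlE⟩ | ⟨hsep, hgenus⟩
    · have := hnt E (by rw [hdE]; rfl)
      omega
    · rw [hd] at hgenus
      obtain ⟨i, hi, hik⟩ := exists_closedImmersion_of_ell_eq k (D := D) (by rw [hd]; norm_num) (N := 2) hl hsep
      exact hpl (by omega) i hi hik

/-- On a trigonal curve only the pencil and its residual compute the Clifford index. -/
theorem two_mul_ell_le_deg_of_trigonal (hC : _root_.FunFld.IsCanonical k X.functionField C)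
    (hnh : ∀ E : Divisor k X.functionField, E.deg = 2 → ell E ≤ 1)
    (hg : 5 ≤ _root_.FunFld.genus k X.functionField)
    {E : Divisor k X.functionField} (hdE : E.deg = 3) (hlE : 2 ≤ ell E)
    {A : Divisor k X.functionField} (h1 : 3 ≤ ell A) (h2 : 3 ≤ ell (C - A)) : 2 * (ell A : ℤ) ≤ A.deg := by
  classical
  have h0 := finrank_H0_structure_eq_one k (X := X)
  have hK := isFunctionField k h0
  have hfg : FunFld.IsFG k X.functionField := hK.1
  obtain ⟨hlC, hdC⟩ := FunFld.ell_canonical hK hC
  have hb := bound_one k hC hnh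
  -- it suffices to treat divisors of degree at most `g - 1`
  suffices low : ∀ B : Divisor k X.functionField, 3 ≤ ell B → 3 ≤ ell (C - B) → ell B ≤ ell (C - B) →
      2 * (ell B : ℤ) ≤ B.deg by
    rcases le_total (ell A) (ell (C - A)) with h | h
    · exact low A h1 h2 h
    · have := low (C - A) h2 (by rwa [sub_sub_cancel]) (by rwa [sub_sub_cancel])
      have hRR := FunFld.riemann_roch' hK hC A
      rw [FunFld.deg_sub, hdC] at this
      omega
  intro B hB1 hB2 hle
  have hbB := hb B (by omega) (by omega)
  by_contra hlt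
  push_cast at hbB
  have hE2 : ell E = 2 := by
    by_contra hne
    have hRR := FunFld.riemann_roch' hK hC E
    have := hb E hlE (by omega)
    push_cast at this
    omega
  have hbpf : ∀ P : Place k X.functionField, ell (E - Finsupp.single P 1) < ell E := fun P => by
    by_contra hge
    have := hnh (E - Finsupp.single P 1) (by
      rw [FunFld.deg_sub, FunFld.deg_single, deg_place_eq_one k P, hdE]; rfl)
    omega
  have htrick := CliffApp.two_mul_ell_le_of_pencil k (H := B) (D := E) hlE hbpf hE2.le
  have hm := FunFld.riemann_roch' hK hC (B - E)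
  have hp := FunFld.riemann_roch' hK hC (B + E)
  have hBR := FunFld.riemann_roch' hK hC B
  rw [FunFld.deg_sub] at hm
  rw [FunFld.deg_add] at hp
  have hminus : ell (B - E) + 2 ≤ ell B := by
    rcases le_or_gt (ell (B - E)) 1 with h | h
    · omega
    have := hb (B - E) h (by omega)
    rw [FunFld.deg_sub] at this
    push_cast at this
    omega
  have := hb (B + E) (by omega) (by omega)
  rw [FunFld.deg_add] at this
  push_cast at this
  omega

end GrothLib.CurveMult.CanonProj
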