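import Groth.Agent.Lib.CurveMult.SpaceCurve
import Groth.Agent.Lib.CurveMult.OmegaField
import Groth.Agent.Lib.Ample.Functorial
import Groth.Agent.Lib.GrTilde.Mul

/-! # A canonical curve of genus four lies on a quadric -/

set_option linter.style.haveILetI false
set_option backward.isDefEq.respectTransparency false

universe u

open CategoryTheory CategoryTheory.Limits AlgebraicGeometry
open _root_.FunFld (Divisor ell)

noncomputable section

namespace GrothLib.CurveMult

open GrothLib GrothLib.CurveRR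

theorem exists_quadric (k : Type u) [Field k] {X : Scheme.{u}} [X.Over (Spec (CommRingCat.of k))]
    [IsProper (X ↘ Spec (CommRingCat.of k))] [Smooth (X ↘ Spec (CommRingCat.of k))]
    [GeometricallyConnected (X ↘ Spec (CommRingCat.of k))]
    (hdim : topologicalKrullDim X = 1) (hg : Curv2.genus k X = 4)
    (i : X ⟶ CohB1.ProjSpace 3 k) [IsClosedImmersion i] (hi : i ≫ CohB1.ProjSpace.toSpec 3 k = X ↘ Spec (CommRingCat.of k))
    (hcan : Nonempty ((Scheme.Modules.pullback i).obj (Twist.twistProjSpace 3 k 1) ≅ Omega.sheaf (X ↘ Spec (CommRingCat.of k)))) :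
    ∃ Q : Γ(Twist.twistProjSpace 3 k 2, ⊤), Q ≠ 0 ∧ OmegaSh.pullSect i (Twist.twistProjSpace 3 k 2) ⊤ Q = 0 := by
  classical
  obtain ⟨hint, h0⟩ := OmegaField.integral_and_h0 k X
  haveI := hint
  haveI := regCurve_of_smooth (X ↘ Spec (CommRingCat.of k)) hdim
  obtain ⟨C, hC, ⟨eC⟩⟩ := OmegaField.exists_iso_canonical k hdim h0
  obtain ⟨ecan⟩ := hcan
  have hK := isFunctionField k h0
  have hgK : _root_.FunFld.genus k X.functionField = 4 := (CurveRR.genus_eq k h0).symm.trans hg
  haveI := Euler.isNoetherian_of_proper (X := X) k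
  let O1 := Twist.twistProjSpace 3 k 1
  let O2 := Twist.twistProjSpace 3 k 2
  let L := (Scheme.Modules.pullback i).obj O2
  have hO1 := CMReg.isInvertible_twist (n := 3) (k := k) 1
  obtain ⟨t⟩ := GrTilde.nonempty_twist_tensor_twist (𝒜 := CohB1.polyGrading 3 k) CMReg.h1 1 1
  obtain ⟨p⟩ := Ample.nonempty_pullback_tensorMod i hO1 hO1
  obtain ⟨eCC⟩ := nonempty_tensor_iso k (ecan ≪≫ eC) (ecan ≪≫ eC)
  let eL : L ≅ oD k (C + C) := (Scheme.Modules.pullback i).mapIso t.symm ≪≫ p ≪≫ eCC
  have hlL : Module.finrank k (Coh.HH X L 0) = 9 := by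
    rw [(Euler.hhEquiv (A := k) eL 0).finrank_eq, finrank_H0_oD]
    obtain ⟨-, hdC⟩ := GrothLib.FunFld.ell_canonical hK hC
    have := GrothLib.FunFld.ell_eq_of_deg_ge hK (D := C + C) (by rw [GrothLib.FunFld.deg_add, hdC, hgK]; norm_num)
    rw [GrothLib.FunFld.deg_add, hdC, hgK] at this
    norm_num at this
    omega
  obtain ⟨e1⟩ := ProjCohom.nonempty_HH_zero (n := 3) (R := k) 2
  have h10 : Module.finrank k (Coh.HH (CohB1.ProjSpace 3 k) O2 0) = 10 := by
    rw [show O2 = Twist.twistProjSpace 3 k ((2 : ℕ) : ℤ) from rfl, e1.finrank_eq, ProjCohom.finrank_forms]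
    rfl
  have hLinv : PicF.IsInvertible L := RelProjK.isInvertible_pullback i (CMReg.isInvertible_twist (n := 3) (k := k) 2)
  haveI : L.IsQuasicoherent := InvExt.isQuasicoherent_of_isInvertible hLinv
  obtain ⟨e⟩ := Snapper.nonempty_HH_linearEquiv_pushforward (A := k) i hi L 0
  haveI := Euler.finiteDimensional_HH k (Euler.isCoh_of_isInvertible hLinv) 0
  let η : O2 ⟶ (Scheme.Modules.pushforward i).obj L := (Scheme.Modules.pullbackPushforwardAdjunction i).unit.app O2
  let T := e.symm.toLinearMap ∘ₗ Cohom.hhMap k η 0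
  have hninj : ¬ Function.Injective T := fun hT => by
    have := LinearMap.finrank_le_finrank_of_injective hT
    omega
  rw [injective_iff_map_eq_zero] at hninj
  push Not at hninj
  obtain ⟨x, hx, hx0⟩ := hninj
  refine ⟨ProjCoh.H0top O2 x, fun h' => hx0 ((ProjCoh.H0top O2).map_eq_zero_iff.1 h'), ?_⟩
  have hx' : Cohom.hhMap k η 0 x = 0 := e.symm.map_eq_zero_iff.1 hx
  exact (ProjCoh.H0top_map ((QCoh.toAbFun _).map η) x).symm.trans ((congrArg (ProjCoh.H0top _) hx').trans (map_zero _))

end GrothLib.CurveMult
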