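import Groth.Agent.Lib.CurveMult.VeryAmpleDiv
import Groth.Agent.Lib.Ample.Twisting

/-!
# Global generation and sheaves of divisors
-/

set_option linter.style.haveILetI false
set_option backward.isDefEq.respectTransparency false

universe u

open CategoryTheory CategoryTheory.Limits AlgebraicGeometry TopologicalSpace Opposite WithZero
open _root_.FunFld (Place Divisor ell)
open GrothLib.CurveRR
open GrothLib.Ample (Cocycle res)

noncomputable section

namespace GrothLib.CurveMult

/-- A sheaf of divisors is globally generated when every point lowers the number of sections. -/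
theorem isGloballyGenerated_of_ell_lt (k : Type u) [Field k] {X : Scheme.{u}} [IsIntegral X] [RegCurve X]
    [X.Over (Spec (CommRingCat.of k))] [IsProper (X ↘ Spec (CommRingCat.of k))] {L : X.Modules}
    (hL : PicF.IsInvertible L) {D : Divisor k X.functionField} (eD : L ≅ oD k D)
    (h : ∀ P : Place k X.functionField, ell (D - Finsupp.single P 1) < ell D) :
    Curv2.IsGloballyGenerated L := by
  classical
  haveI := Euler.isNoetherian_of_proper (X := X) k
  have hfg := isFG k (X := X)
  obtain ⟨c, ⟨e⟩⟩ := Ample.exists_cocycle hL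
  let ε : c.twist 1 ≅ oD k D := e.symm ≪≫ eD
  refine Ample.isGloballyGenerated_of_iso e.symm (c.isGloballyGenerated_of_generated fun x => ?_)
  suffices key : ∀ z : CP X, ∃ B : c.sect 1 ⊤, z.1 ∈ c.locus B by
    by_cases hx : x = genericPoint X
    · obtain ⟨z⟩ := hfg.exists_place
      obtain ⟨z, rfl⟩ := place_surjective (k := k) z
      obtain ⟨B, hB⟩ := key z
      exact ⟨B, hx ▸ ProjCoh.genericPoint_mem hB⟩
    · exact key ⟨x, hx⟩
  intro z
  obtain ⟨f, hf, hf'⟩ : ∃ f, f ∈ _root_.FunFld.L D ∧ f ∉ _root_.FunFld.L (D - Finsupp.single (place k z) 1) := by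
    refine SetLike.not_le_iff_exists.1 fun hle => ?_
    haveI := hfg.finite_L (D - Finsupp.single (place k z) 1)
    have h1 : ell D ≤ ell (D - Finsupp.single (place k z) 1) := Submodule.finrank_mono hle
    have h2 := h (place k z)
    omega
  let B : c.sect 1 ⊤ := ε.inv.app ⊤ (mkSec k D ⊤ f fun w _ => hf (place k w))
  refine ⟨B, by_contra fun hB => hf' fun R => ?_⟩
  rcases eq_or_ne (place k z) R with rfl | hR
  swap
  · rw [Finsupp.sub_apply, Finsupp.single_eq_of_ne' hR, sub_zero]; exact hf R
  rw [Finsupp.sub_apply, Finsupp.single_eq_same, FunFld.le_exp_sub_one_iff]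
  obtain ⟨i, hi⟩ := c.exists_mem z.1
  let W := c.D i
  let g : Γ(X, W) := res (le_inf le_top le_rfl : W ≤ ⊤ ⊓ c.D i) (B.1 i)
  have hg : c.sectRes (le_top : W ≤ ⊤) B = g • c.base 1 i (le_refl W) := by
    refine (c.eq_smul_base i (le_refl W) _).trans (congrArg (· • _) ?_)
    rw [c.sectRes_apply, Ample.res_res]
  have h1 : oval k (ε.hom.app W (c.sectRes (le_top : W ≤ ⊤) B)) (ProjCoh.genericPoint_mem hi) = f := by
    rw [show ε.hom.app W (c.sectRes le_top B) = (oD k D).presheaf.map (homOfLE (le_top : W ≤ ⊤)).op
        (ε.hom.app ⊤ B) from PresheafOfModules.naturality_apply ε.hom.val (homOfLE (le_top : W ≤ ⊤)).op B,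
      oval_map, show ε.hom.app ⊤ B = mkSec k D ⊤ f fun w _ => hf (place k w) from
        ConcreteCategory.congr_hom (congrArg (fun φ : oD k D ⟶ oD k D => φ.app ⊤) ε.inv_hom_id) _]
    exact oval_mkSec _ _ _
  rw [hg, show ε.hom.app W (g • c.base 1 i (le_refl W)) = g • ε.hom.app W (c.base 1 i (le_refl W)) from
    Scheme.Modules.Hom.app_smul _ _ _, oval_smul] at h1
  rw [← h1, map_mul]
  have hlt : (place k z).1 (X.presheaf.germ W _ (ProjCoh.genericPoint_mem hi) g) < 1 := by
    rw [germ_generic hi, place_lt_one_iff, IsLocalRing.mem_maximalIdeal, mem_nonunits_iff,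
      ← X.mem_basicOpen g z.1 hi]
    intro hm
    refine hB ((c.mem_locus_iff B hi).2 ?_)
    rw [show g = res (le_inf le_top le_rfl : W ≤ ⊤ ⊓ c.D i) (B.1 i) from rfl, Scheme.basicOpen_res] at hm
    exact hm.2
  exact (mul_lt_mul_of_pos_right hlt (zero_lt_iff.2 exp_ne_zero) |>.trans_eq (one_mul _)).trans_le' (mul_le_mul'
    le_rfl (oval_bound (ε.hom.app W (c.base 1 i (le_refl W))) z hi))

variable (k : Type u) [Field k] [IsAlgClosed k] {X : Scheme.{u}} [IsIntegral X] [RegCurve X]
  [X.Over (Spec (CommRingCat.of k))] [IsProper (X ↘ Spec (CommRingCat.of k))]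

/-- Global generation of a sheaf of divisors means that every point lowers the number of sections. -/
theorem isGloballyGenerated_iff_ell {L : X.Modules} (hL : PicF.IsInvertible L) {D : Divisor k X.functionField}
    (eD : L ≅ oD k D) :
    Curv2.IsGloballyGenerated L ↔ ∀ P : Place k X.functionField, ell (D - Finsupp.single P 1) + 1 = ell D := by
  classical
  haveI := Euler.isNoetherian_of_proper (X := X) k
  have hfg := isFG k (X := X)
  constructor
  · intro hgg P
    haveI := hfg.finite_L D
    refine le_antisymm ?_ (ell_le_ell_sub_succ k D P)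
    have hle : D - Finsupp.single P 1 ≤ D := sub_le_self _ (Finsupp.single_nonneg.2 zero_le_one)
    refine Submodule.finrank_lt_finrank_of_lt (lt_of_le_of_ne (FunFld.L_mono hle) fun he => ?_)
    obtain ⟨ι, p, hp⟩ := Ample.isGloballyGenerated_of_iso eD hgg
    let σ : ι → Γ(oD k D, ⊤) := fun i => ((oD k D).freeHomEquiv p i).1 (op ⊤)
    have hσ : ∀ i, oval k (V := ⊤) (σ i) trivial ∈ _root_.FunFld.L (D - Finsupp.single P 1) := fun i => by
      rw [he]
      intro R
      obtain ⟨z, rfl⟩ := place_surjective (k := k) R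
      exact oval_bound (V := ⊤) (σ i) z trivial
    let p' : (SheafOfModules.free ι : X.Modules) ⟶ oD k (D - Finsupp.single P 1) :=
      (oD k (D - Finsupp.single P 1)).freeHomEquiv.symm fun i =>
        Ample.globalSection _ (mkSec k _ ⊤ (oval k (V := ⊤) (σ i) trivial) fun z _ => hσ i (place k z))
    have hfac : p' ≫ incl hle = p := (oD k D).freeHomEquiv.injective (funext fun i => by
      have h0 : (oD k (D - Finsupp.single P 1)).freeHomEquiv p' i = Ample.globalSection _
          (mkSec k _ ⊤ (oval k (V := ⊤) (σ i) trivial) fun z _ => hσ i (place k z)) :=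
        congrFun (Equiv.apply_symm_apply _ _) i
      rw [SheafOfModules.freeHomEquiv_comp_apply, h0]
      refine Subtype.ext (funext fun V => ?_)
      refine oval_ext (k := k) (V := V.unop) fun hV => ?_
      have h1 := ((oD k D).freeHomEquiv p i).2 (homOfLE (le_top : V.unop ≤ ⊤)).op
      rw [← h1]
      exact oval_mkSec (k := k) (V := ⊤) _ (fun z _ => hσ i (place k z)) trivial)
    haveI : Epi (incl hle) := epi_of_epi_fac hfac
    haveI : IsIso (incl hle) := isIso_of_mono_of_epi _
    have h := Euler.euler_of_iso k (asIso (incl hle))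
    rw [euler_oD, euler_oD, FunFld.deg_sub, FunFld.deg_single, deg_place_eq_one k P] at h
    omega
  · intro h
    exact isGloballyGenerated_of_ell_lt k hL eD fun P => by have := h P; omega

end GrothLib.CurveMult
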