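import Groth.Agent.Lib.CurveMult.OmegaApp
import Groth.Agent.Lib.CurveMult.GenDiv
import Groth.Agent.Lib.FunFld.CliffordIndex

/-!
# Clifford index of a curve: translation to divisors
-/

set_option autoImplicit false
set_option linter.style.haveILetI false
set_option linter.unusedSectionVars false

universe u

open CategoryTheory AlgebraicGeometry
open _root_.FunFld (Place Divisor ell)

noncomputable section

namespace GrothLib.CurveMult.CliffApp

open GrothLib GrothLib.CurveRR

variable (k : Type u) [Field k] [IsAlgClosed k] {X : Scheme.{u}} [IsIntegral X] [RegCurve X]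
  [X.Over (Spec (CommRingCat.of k))] [IsProper (X ↘ Spec (CommRingCat.of k))]
  {C : Divisor k X.functionField}

theorem finrank_H1_of_iso (hC : _root_.FunFld.IsCanonical k X.functionField C) {L : X.Modules}
    {D : Divisor k X.functionField} (e : L ≅ oD k D) : Module.finrank k (Coh.HH X L 1) = ell (C - D) := by
  rw [(Euler.hhEquiv (A := k) e 1).finrank_eq]
  exact finrank_H1_oD k (isFunctionField k (finrank_H0_structure_eq_one k (X := X))) hC D

theorem bound (hC : _root_.FunFld.IsCanonical k X.functionField C) {c : ℕ}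
    (hmin : ∀ M : X.Modules, PicF.IsInvertible M → 2 ≤ Module.finrank k (Coh.HH X M 0) →
      2 ≤ Module.finrank k (Coh.HH X M 1) → 2 * (Module.finrank k (Coh.HH X M 0) : ℤ) - 2 + c ≤ Curv2.deg k X M 1) :
    FunFld.CliffIdx.Bound k C c := fun A h1 h2 => by
  have := hmin (oD k A) (isInvertible_oD k A) (by rwa [finrank_H0_oD])
    (by rwa [finrank_H1_of_iso k hC (Iso.refl _)])
  rwa [finrank_H0_oD, deg_oD] at this

theorem exists_computing (hC : _root_.FunFld.IsCanonical k X.functionField C) {c : ℕ}
    (hex : ∃ M : X.Modules, PicF.IsInvertible M ∧ 2 ≤ Module.finrank k (Coh.HH X M 0) ∧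
      2 ≤ Module.finrank k (Coh.HH X M 1) ∧
      Curv2.deg k X M 1 = 2 * (Module.finrank k (Coh.HH X M 0) : ℤ) - 2 + c) :
    ∃ D : Divisor k X.functionField, 2 ≤ ell D ∧ 2 ≤ ell (C - D) ∧ D.deg = 2 * (ell D : ℤ) - 2 + c := by
  obtain ⟨M, hM, h1, h2, hd⟩ := hex
  obtain ⟨D, ⟨e⟩⟩ := exists_iso_oD k hM
  rw [OmegaApp.finrank_H0_of_iso k e] at h1 hd
  rw [finrank_H1_of_iso k hC e] at h2
  rw [OmegaApp.deg_of_iso k e] at hd
  exact ⟨D, h1, h2, hd⟩

theorem exists_divisor_left {L N H : X.Modules} {D E : Divisor k X.functionField} (eD : L ≅ oD k D)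
    (eE : H ≅ oD k E) (e : CohB1.tensorMod L N ≅ H) : Nonempty (N ≅ oD k (E - D)) := by
  obtain ⟨t⟩ := nonempty_tensor_iso k (Iso.refl (oD k (-D))) eD
  obtain ⟨t2⟩ := nonempty_tensor_iso k (Iso.refl (oD k (-D))) eE
  let B := DCoh.tensorBi (X := X)
  let t1 : CohB1.tensorMod (oD k (-D)) L ≅ Coh.structureModule X :=
    t ≪≫ eqToIso (by rw [neg_add_cancel]) ≪≫ (nonempty_iso_oD_zero k).some.symm
  exact ⟨(OX.tensorUnitLeftIso N).symm ≪≫ (B.mapIso t1.symm).app N ≪≫
    ((OX.tensorAssocNatIso.app (oD k (-D))).app L).app N ≪≫ (B.obj (oD k (-D))).mapIso e ≪≫ t2 ≪≫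
    eqToIso (by rw [neg_add_eq_sub])⟩

/-- The base point free pencil trick. -/
theorem two_mul_ell_le_of_pencil {H D : Divisor k X.functionField} (hl : 2 ≤ ell D)
    (hbpf : ∀ P : Place k X.functionField, ell (D - Finsupp.single P 1) < ell D) (h2 : ell D ≤ 2) :
    2 * ell H ≤ ell (H + D) + ell (H - D) := by
  classical
  have hfg := isFG k (X := X)
  haveI := hfg.finite_L D
  haveI := hfg.finite_L H
  haveI := hfg.finite_L (H + D)
  haveI := hfg.finite_L (H - D)
  let b : Module.Basis (Fin 2) k (_root_.FunFld.L D) := Module.finBasisOfFinrankEq k _ (le_antisymm h2 hl)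
  let s : Fin 2 → X.functionField := fun i => (b i : X.functionField)
  have hs : ∀ i, s i ≠ 0 := fun i h0 => b.ne_zero i (Subtype.ext h0)
  have hmul : ∀ i (z : X.functionField), z ∈ _root_.FunFld.L H → z * s i ∈ _root_.FunFld.L (H + D) :=
    fun i z hz R => by
      show _root_.GrothLib.FunFld.val R (z * s i) ≤ _
      rw [map_mul, Finsupp.add_apply, WithZero.exp_add]
      exact mul_le_mul' (hz R) ((b i).2 R)
  let μ : _root_.FunFld.L H × _root_.FunFld.L H →ₗ[k] _root_.FunFld.L (H + D) :=
    { toFun := fun p => ⟨(p.1 : X.functionField) * s 0 + (p.2 : X.functionField) * s 1,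
        add_mem (hmul 0 _ p.1.2) (hmul 1 _ p.2.2)⟩
      map_add' := fun p q => Subtype.ext (by
        simp only [Prod.fst_add, Prod.snd_add, Submodule.coe_add]; ring)
      map_smul' := fun c p => Subtype.ext (by
        simp only [Prod.smul_fst, Prod.smul_snd, Submodule.coe_smul, RingHom.id_apply, smul_add, smul_mul_assoc]) }
  have hattain : ∀ R : Place k X.functionField, ∃ i, R.ord (s i) = -D R := fun R => by
    by_contra hall
    push Not at hall
    refine (hbpf R).not_ge ?_
    haveI := hfg.finite_L (D - Finsupp.single R 1)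
    refine Submodule.finrank_mono fun z hz => ?_
    have hb : ∀ i, s i ∈ _root_.FunFld.L (D - Finsupp.single R 1) := fun i => by
      refine (FunFld.mem_L_iff_ord (hs i)).2 fun Q => ?_
      have := (FunFld.mem_L_iff_ord (hs i)).1 (b i).2 Q
      rcases eq_or_ne R Q with rfl | hQ
      · rw [Finsupp.sub_apply, Finsupp.single_eq_same]
        have := hall i
        omega
      · rw [Finsupp.sub_apply, Finsupp.single_eq_of_ne' hQ, sub_zero]; exact this
    have hz' := congrArg (fun a : _root_.FunFld.L D => (a : X.functionField)) (b.sum_repr ⟨z, hz⟩)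
    simp only [Fin.sum_univ_two, Submodule.coe_add, Submodule.coe_smul] at hz'
    rw [← hz']
    exact add_mem (Submodule.smul_mem _ _ (hb 0)) (Submodule.smul_mem _ _ (hb 1))
  have hker : ∀ p, μ p = 0 → (p.2 : X.functionField) / s 0 ∈ _root_.FunFld.L (H - D) := fun p hp => by
    have h1 : (p.1 : X.functionField) * s 0 + (p.2 : X.functionField) * s 1 = 0 := congrArg Subtype.val hp
    rcases eq_or_ne (p.2 : X.functionField) 0 with h0 | h0
    · rw [h0, zero_div]; exact zero_mem _
    have hp1 : (p.1 : X.functionField) ≠ 0 := fun h => by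
      rw [h, zero_mul, zero_add] at h1
      exact mul_ne_zero h0 (hs 1) h1
    refine (FunFld.mem_L_iff_ord (div_ne_zero h0 (hs 0))).2 fun R => ?_
    have hd : R.ord ((p.2 : X.functionField) / s 0) + R.ord (s 0) = R.ord (p.2 : X.functionField) := by
      rw [← FunFld.ord_mul R (div_ne_zero h0 (hs 0)) (hs 0), div_mul_cancel₀ _ (hs 0)]
    have hd' : R.ord ((p.2 : X.functionField) / s 0) + R.ord (s 1) = R.ord (p.1 : X.functionField) := by
      rw [← FunFld.ord_mul R (div_ne_zero h0 (hs 0)) (hs 1),
        show (p.2 : X.functionField) / s 0 * s 1 = algebraMap k X.functionField (-1) * p.1 by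
          rw [map_neg, map_one, neg_one_mul, div_mul_eq_mul_div, div_eq_iff (hs 0)]
          linear_combination h1,
        FunFld.ord_mul R (by simp) hp1]
      simp [_root_.FunFld.Place.ord]
    rw [Finsupp.sub_apply]
    obtain ⟨i, hi⟩ := hattain R
    have a := (FunFld.mem_L_iff_ord hp1).1 p.1.2 R
    have b' := (FunFld.mem_L_iff_ord h0).1 p.2.2 R
    fin_cases i <;> simp only [Fin.isValue, Fin.zero_eta, Fin.mk_one] at hi <;> omega
  let ν₀ : LinearMap.ker μ →ₗ[k] X.functionField :=
    (LinearMap.mulRight k (s 0)⁻¹).comp ((_root_.FunFld.L H).subtype.comp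
      ((LinearMap.snd k _ _).comp (LinearMap.ker μ).subtype))
  let ν := ν₀.codRestrict (_root_.FunFld.L (H - D)) fun p => by
    have := hker p.1 p.2
    rwa [div_eq_mul_inv] at this
  have hν : Function.Injective ν := fun p q hpq => by
    have h2' : (p.1.2 : X.functionField) = q.1.2 :=
      mul_right_cancel₀ (inv_ne_zero (hs 0)) (congrArg Subtype.val hpq)
    have hp : (p.1.1 : X.functionField) * s 0 + (p.1.2 : X.functionField) * s 1 = 0 := congrArg Subtype.val p.2
    have hq : (q.1.1 : X.functionField) * s 0 + (q.1.2 : X.functionField) * s 1 = 0 := congrArg Subtype.val q.2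
    rw [h2', ← hq] at hp
    exact Subtype.ext (Prod.ext (Subtype.ext (mul_right_cancel₀ (hs 0) (add_right_cancel hp))) (Subtype.ext h2'))
  have e1 := μ.finrank_range_add_finrank_ker
  have e2 := LinearMap.finrank_le_finrank_of_injective hν
  have e3 := Submodule.finrank_le (LinearMap.range μ)
  rw [Module.finrank_prod] at e1
  simp only [ell]
  omega

end GrothLib.CurveMult.CliffApp
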