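import Groth.Agent.Lib.CurveMult.SepPointFF
import Groth.Agent.Lib.CurveMult.NormalRat
import Groth.Agent.Lib.CurveMult.FFHom
import Groth.Agent.Lib.CompleteCurve.Main
import Groth.Agent.Lib.CurveRR.FiniteField
import Groth.Agent.Lib.CurveRR.Main
import Groth.Agent.Lib.Dim.Scheme
import Groth.Agent.S6558

/-!
# A closed point of degree at most `2g - 2` with separable residue field
-/

set_option autoImplicit false
set_option linter.style.haveILetI false
set_option backward.isDefEq.respectTransparency false

universe u

open CategoryTheory CategoryTheory.Limits AlgebraicGeometry IsLocalRing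
open GrothLib.CurveRR

noncomputable section

namespace GrothLib.CurveMult

/-- The dimension of an integral scheme of finite type over a field is the transcendence degree of its
function field. -/
theorem exists_dim_eq_trdeg (k : Type u) [Field k] {X : Scheme.{u}} [IsIntegral X]
    [X.Over (Spec (CommRingCat.of k))] [LocallyOfFiniteType (X ↘ Spec (CommRingCat.of k))] :
    ∃ n : ℕ, topologicalKrullDim X = n ∧ Algebra.trdeg k X.functionField = n := by
  obtain ⟨_, ⟨U, hU, rfl⟩, hxU, -⟩ :=
    X.isBasis_affineOpens.exists_subset_of_mem_open (Set.mem_univ (genericPoint X)) isOpen_univ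
  have : Nonempty U := ⟨⟨_, hxU⟩⟩
  obtain ⟨m, hm, hopen⟩ := Dim.exists_nat_dim_open (X ↘ Spec (CommRingCat.of k))
  have hU1 : ringKrullDim Γ(X, U) = (m : WithBot ℕ∞) := by
    rw [← Dim.topologicalKrullDim_affineOpen hU, hopen U ‹_›]
  let ψ : k →+* Γ(X, U) :=
    (X.presheaf.map (homOfLE (le_top : U ≤ ⊤)).op).hom.comp (Coh.toGlobal (X ↘ Spec (CommRingCat.of k)))
  have hψ : ψ.FiniteType :=
    LocallyOfFiniteType.finiteType_appLE (X ↘ Spec (CommRingCat.of k)) (isAffineOpen_top _) hU (le_of_le_of_eq le_top rfl)
      |>.comp (RingHom.FiniteType.of_surjective _ (Scheme.ΓSpecIso (CommRingCat.of k)).commRingCatIsoToRingEquiv.symm.surjective)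
  algebraize [ψ]
  obtain ⟨n, htr, hn⟩ := Dim.exists_nat_trdeg_eq_and_ringKrullDim_eq k Γ(X, U)
  have hn1 : n = m := by rw [hU1] at hn; exact_mod_cast hn.symm
  have : IsScalarTower k Γ(X, U) X.functionField := IsScalarTower.of_algebraMap_eq fun c => by
    exact (TopCat.Presheaf.germ_res_apply X.presheaf _ _ hxU _).symm
  have := functionField_isFractionRing_of_isAffineOpen X U hU
  have : FaithfulSMul k Γ(X, U) := (faithfulSMul_iff_algebraMap_injective k Γ(X, U)).mpr (algebraMap k Γ(X, U)).injective
  have : FaithfulSMul Γ(X, U) X.functionField := (faithfulSMul_iff_algebraMap_injective _ _).mpr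
    (IsFractionRing.injective Γ(X, U) X.functionField)
  have : Algebra.IsAlgebraic Γ(X, U) X.functionField := IsLocalization.isAlgebraic _ (nonZeroDivisors Γ(X, U))
  exact ⟨m, hm, by rw [← trdeg_add_eq k Γ(X, U) (A := ↑X.functionField), htr, trdeg_eq_zero, hn1, add_zero]⟩

variable (k : Type u) [Field k] {X : Scheme.{u}} [IsIntegral X] [RegCurve X]
  [X.Over (Spec (CommRingCat.of k))] [IsProper (X ↘ Spec (CommRingCat.of k))]

attribute [local instance] Curv2.resAlgebra

/-- The residue field of a point is that of its place. -/
theorem nonempty_residueField_algEquiv (x : CP X) :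
    Nonempty (X.residueField x.1 ≃ₐ[k] IsLocalRing.ResidueField (place k x).O) := by
  let P := place k x
  let φ : X.presheaf.stalk x.1 →+* P.O :=
    (algebraMap (X.presheaf.stalk x.1) X.functionField).codRestrict P.O.toSubring
      fun r => (mem_place_O k).2 ⟨r, rfl⟩
  have hφ : Function.Surjective φ := fun z => by
    obtain ⟨r, hr⟩ := (mem_place_O k).1 z.2
    exact ⟨r, Subtype.ext hr⟩
  let ψ : X.presheaf.stalk x.1 →+* IsLocalRing.ResidueField P.O := (residue P.O).comp φ
  have hker : RingHom.ker ψ = maximalIdeal (X.presheaf.stalk x.1) :=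
    Ideal.ext fun r => (FunFld.res_eq_zero_iff P (φ r)).trans (place_lt_one_iff k)
  let e : X.residueField x.1 ≃+* IsLocalRing.ResidueField P.O :=
    (Ideal.quotEquivOfEq hker.symm).trans
      (RingHom.quotientKerEquivOfSurjective (IsLocalRing.residue_surjective.comp hφ))
  refine ⟨AlgEquiv.ofRingEquiv (f := e) fun c => ?_⟩
  show residue P.O (φ (cst k x.1 c)) = residue P.O (algebraMap k P.O c)
  congr 1
  exact Subtype.ext ((algebraMap_cst k x.1 c).trans (FunFld.algebraMap_O_coe P c).symm)

include k in
/-- A smooth curve of genus at least two has a separable place of degree at most `2g - 2`. -/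
theorem exists_separable_place_le [Smooth (X ↘ Spec (CommRingCat.of k))]
    (h0 : Module.finrank k (Coh.HH X (Coh.structureModule X) 0) = 1) (hg : 2 ≤ Curv2.genus k X) :
    ∃ Q : _root_.FunFld.Place k X.functionField, (Q.deg : ℤ) ≤ 2 * (Curv2.genus k X : ℤ) - 2 ∧
      Algebra.IsSeparable k (IsLocalRing.ResidueField Q.O) := by
  classical
  haveI := Euler.isNoetherian_of_proper (X := X) k
  have hK := isFunctionField k h0
  have hfg : FunFld.IsFG k X.functionField := hK.1
  have hG : Curv2.genus k X = _root_.FunFld.genus k X.functionField := CurveRR.genus_eq k h0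
  obtain ⟨C₀, hC₀⟩ := FunFld.exists_isCanonical hK
  have hl := FunFld.ell_canonical hK hC₀
  obtain ⟨w, hw0, -, hC⟩ := hfg.exists_of_ell_pos (D := C₀) (by rw [hl.1]; omega)
  set C := C₀ + _root_.FunFld.div k w with hCdef
  have hCdeg : C.deg = 2 * (Curv2.genus k X : ℤ) - 2 := by
    rw [hCdef, FunFld.deg_add, hfg.deg_div, hl.2, hG, add_zero]
  have hCell : _root_.FunFld.ell C = Curv2.genus k X := by rw [hfg.ell_add_div _ hw0, hl.1, hG]
  by_cases hperf : PerfectField k
  · obtain ⟨P, hP⟩ := FunFld.exists_single_le hC (fun h => by
      rw [h] at hCdeg; simp at hCdeg; omega)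
    refine ⟨P, ?_, ?_⟩
    · have h1 := FunFld.deg_nonneg (sub_nonneg.2 hP)
      rw [FunFld.deg_sub, FunFld.deg_single, one_mul, hCdeg] at h1
      omega
    · have hfin : @Module.Finite k (IsLocalRing.ResidueField P.O) _ _ Algebra.toModule := hfg.finite_residueField P
      haveI := hfin
      haveI : Algebra.IsAlgebraic k (IsLocalRing.ResidueField P.O) := Algebra.IsAlgebraic.of_finite _ _
      exact Algebra.IsAlgebraic.isSeparable_of_perfectField
  haveI : Infinite k := not_finite_iff_infinite.1 fun h => hperf inferInstance
  obtain ⟨p, hpc⟩ : ∃ p : ℕ, CharP k p := CharP.exists k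
  haveI := hpc
  rcases CharP.char_is_prime_or_zero k p with hp | rfl
  swap
  · haveI := CharP.charP_to_charZero k
    exact (hperf inferInstance).elim
  haveI : Fact p.Prime := ⟨hp⟩
  haveI : CharP X.functionField p := charP_of_injective_algebraMap (algebraMap k X.functionField).injective p
  obtain ⟨z, hzt, hz⟩ := InsepTwistGen.exists_separating (k := k) (X := X)
  haveI := hz
  by_cases hex : ∃ x ∈ _root_.FunFld.L C, Transcendental k x ∧
      Algebra.IsSeparable (IntermediateField.adjoin k ({x} : Set X.functionField)) X.functionField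
  · obtain ⟨x, hxC, hxt, hxs⟩ := hex
    obtain ⟨Q, hQ, hQs⟩ := SepPointFF.exists_separable_place hfg hC hxC hxt hxs
    exact ⟨Q, hQ.trans_eq hCdeg, hQs⟩
  exfalso
  set K' := FunFld.powField k X.functionField p
  have hsub : ∀ x ∈ _root_.FunFld.L C, x ∈ K' := fun x hxC => by
    by_cases hxt : Transcendental k x
    · refine (SepPointFF.mem_powField_or_isSeparable p hfg z hxt).resolve_right fun h => hex ⟨x, hxC, hxt, h⟩
    · obtain ⟨c, rfl⟩ := hK.2 x (not_not.1 hxt)
      exact K'.algebraMap_mem c
  have hzp : z ^ p ∈ K' := IntermediateField.subset_adjoin _ _ ⟨z, rfl⟩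
  have hzpt : Transcendental k (z ^ p) := hzt.pow hp.pos
  obtain ⟨hK', hfinK'⟩ := FunFld.isFunctionField_intermediateField hK K' ⟨_, hzp, hzpt⟩
  haveI := hfinK'
  have htrK : Algebra.trdeg k X.functionField = 1 := by
    obtain ⟨n, hn, ht⟩ := exists_dim_eq_trdeg k (X := X)
    rw [RegCurve.dim (X := X)] at hn
    rw [ht, show n = 1 by exact_mod_cast hn.symm, Nat.cast_one]
  have htrK' : Algebra.trdeg k K' = 1 := by
    haveI : FaithfulSMul k K' := (faithfulSMul_iff_algebraMap_injective _ _).2 (algebraMap k K').injective
    haveI : FaithfulSMul K' X.functionField :=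
      (faithfulSMul_iff_algebraMap_injective _ _).2 (algebraMap K' X.functionField).injective
    rw [← Dim.trdeg_eq_of_algebraic (k := k) (A := K') (B := X.functionField), htrK]
  have hfgK' : (⊤ : IntermediateField k K').FG :=
    IntermediateField.fg_top_iff.2 (FunFld.IsFG.essFiniteType hK'.1)
  obtain ⟨Y, _, _, hY, hN, -, e, he⟩ := CompleteCurve.exists_curve hfgK' htrK'
  haveI := hY
  haveI := Euler.isNoetherian_of_proper (X := Y) k
  let ψ : Y.functionField →+* X.functionField := (K'.val : K' →+* X.functionField).comp e.toRingHom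
  have hψ : ∀ c : k, ψ (algebraMap k Y.functionField c) = algebraMap k X.functionField c := fun c => by
    show ((e (algebraMap k Y.functionField c) : K') : X.functionField) = _
    exact congrArg Subtype.val (he c)
  letI : Algebra Y.functionField X.functionField := ψ.toAlgebra
  haveI : IsScalarTower k Y.functionField X.functionField := IsScalarTower.of_algebraMap_eq fun c => (hψ c).symm
  haveI : FiniteDimensional Y.functionField X.functionField :=
    Module.Finite.of_equiv_equiv (A₁ := K') (B₁ := X.functionField) e.symm (RingEquiv.refl _) (by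
      ext a
      show ((e (e.symm a) : K') : X.functionField) = _
      rw [RingEquiv.apply_symm_apply]
      rfl)
  have hdY : topologicalKrullDim Y = 1 := by
    obtain ⟨n, hn, ht⟩ := exists_dim_eq_trdeg k (X := Y)
    haveI : FaithfulSMul k Y.functionField :=
      (faithfulSMul_iff_algebraMap_injective _ _).2 (algebraMap k Y.functionField).injective
    haveI : FaithfulSMul Y.functionField X.functionField :=
      (faithfulSMul_iff_algebraMap_injective _ _).2 (algebraMap Y.functionField X.functionField).injective
    rw [← Dim.trdeg_eq_of_algebraic (k := k) (A := Y.functionField) (B := X.functionField), htrK] at ht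
    rw [hn, show n = 1 by exact_mod_cast ht.symm, Nat.cast_one]
  haveI := regCurve_of_normal hN hdY
  have hregY : ∀ y : Y, IsRegularLocalRing (Y.presheaf.stalk y) := fun y => by
    by_cases hy : y = genericPoint Y
    · subst hy
      letI : Field (Y.presheaf.stalk (genericPoint Y)) := inferInstanceAs (Field Y.functionField)
      infer_instance
    · haveI := RegCurve.dvr y hy
      infer_instance
  obtain ⟨f, hf, eη, hfψ⟩ := FFHom.exists_hom k (X := X) (Y := Y) ψ hψ
  have hregX : ∀ x : X, IsRegularLocalRing (X.presheaf.stalk x) := fun y => by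
    by_cases hy : y = genericPoint X
    · subst hy
      letI : Field (X.presheaf.stalk (genericPoint X)) := inferInstanceAs (Field X.functionField)
      infer_instance
    · haveI := RegCurve.dvr y hy
      infer_instance
  haveI hpi : IsPurelyInseparable Y.functionField X.functionField := by
    haveI : CharP Y.functionField p := (Algebra.charP_iff Y.functionField X.functionField p).mpr inferInstance
    haveI : ExpChar Y.functionField p := ExpChar.prime Fact.out
    rw [isPurelyInseparable_iff_pow_mem _ p]
    refine fun y => ⟨1, e.symm ⟨y ^ p, IntermediateField.subset_adjoin _ _ ⟨y, rfl⟩⟩, ?_⟩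
    show ((e (e.symm _) : K') : X.functionField) = _
    rw [RingEquiv.apply_symm_apply, pow_one]
  obtain ⟨-, h0Y, hgY⟩ := Groth.Agent.S6558.result k p X Y RegCurve.dim hregX hdY hregY f hf eη h0 (by
    show letI := (Hurwitz.ψ eη).toAlgebra; IsPurelyInseparable Y.functionField X.functionField
    rw [hfψ]
    exact hpi)
  have hL := isFunctionField k h0Y (X := Y)
  have hgL : _root_.FunFld.genus k Y.functionField = Curv2.genus k X :=
    (CurveRR.genus_eq k h0Y).symm.trans hgY
  have h2 : 2 ≤ Module.finrank Y.functionField X.functionField := by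
    have hpos : 0 < Module.finrank Y.functionField X.functionField := Module.finrank_pos
    by_contra hlt
    have h1 : Module.finrank Y.functionField X.functionField = 1 := by omega
    obtain ⟨c, hc⟩ := (finrank_eq_one_iff_of_nonzero' (1 : X.functionField) one_ne_zero).1 h1 z
    have hz' : z ∈ K' := by
      rw [← hc, Algebra.smul_def, mul_one]
      exact (e c).2
    exact FunFld.D_ne_zero_of_isSeparable hfg hz (FunFld.D_eq_zero_of_mem_powField p hz')
  haveI := hfg.finite_L C
  let b : Fin (_root_.FunFld.genus k Y.functionField) → _root_.FunFld.L C := fun i =>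
    Module.finBasis k (_root_.FunFld.L C) (Fin.cast (hgL.trans hCell.symm) i)
  let φ : Fin (_root_.FunFld.genus k Y.functionField) → Y.functionField := fun i =>
    e.symm ⟨(b i).1, hsub _ (b i).2⟩
  have hφ : ∀ i, algebraMap Y.functionField X.functionField (φ i) = (b i).1 := fun i => by
    show ((e (e.symm _) : K') : X.functionField) = _
    rw [RingEquiv.apply_symm_apply]
  have hind : LinearIndependent k φ := by
    refine LinearIndependent.of_comp
      (IsScalarTower.toAlgHom k Y.functionField X.functionField).toLinearMap ?_
    have : (⇑(IsScalarTower.toAlgHom k Y.functionField X.functionField).toLinearMap ∘ φ) =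
        ⇑(_root_.FunFld.L C).subtype ∘ b := funext hφ
    rw [this]
    exact ((Module.finBasis k (_root_.FunFld.L C)).linearIndependent.comp _ (Fin.cast_injective _)).map'
      _ (Submodule.ker_subtype _)
  exact SepPointFF.false_of_sections_from_below hL (by omega) h2 (D := C) (by rw [hCdeg, hgL]) φ hind
    fun i => by rw [hφ]; exact (b i).2

include k in
/-- A smooth curve of genus at least two has a closed point of degree at most `2g - 2` with separable residue
field. -/
theorem exists_separable_closedPoint [Smooth (X ↘ Spec (CommRingCat.of k))]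
    (h0 : Module.finrank k (Coh.HH X (Coh.structureModule X) 0) = 1) (hg : 2 ≤ Curv2.genus k X) :
    ∃ x : X, IsClosed ({x} : Set X) ∧ Algebra.IsSeparable k (X.residueField x) ∧
      Module.finrank k (X.residueField x) ≤ 2 * Curv2.genus k X - 2 ∧ FiniteDimensional k (X.residueField x) := by
  obtain ⟨Q, hQ, hQs⟩ := exists_separable_place_le k h0 hg
  obtain ⟨x, rfl⟩ := place_surjective (k := k) Q
  obtain ⟨e⟩ := nonempty_residueField_algEquiv k x
  haveI := hQs
  have hfg : FunFld.IsFG k X.functionField := (isFunctionField k h0).1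
  have hfin : @Module.Finite k (IsLocalRing.ResidueField (place k x).O) _ _ Algebra.toModule :=
    hfg.finite_residueField (place k x)
  haveI := hfin
  refine ⟨x.1, (isClosed_iff_ne_genericPoint k x.1).2 x.2, Algebra.IsSeparable.of_algHom k _ e.toAlgHom, ?_,
    Module.Finite.equiv e.toLinearEquiv.symm⟩
  rw [e.toLinearEquiv.finrank_eq]
  have hdeg : (place k x).deg = Module.finrank k (IsLocalRing.ResidueField (place k x).O) := rfl
  omega

end GrothLib.CurveMult
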