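import Groth.Agent.Lib.CompleteCurve.Main
import Groth.Agent.Lib.CurveMult.FFHom
import Groth.Agent.Lib.CurveMult.SeparablePoint
import Groth.Agent.Lib.CurveMult.NormalRat
import Groth.Agent.Lib.Birat.LqfSep
import Groth.Agent.Lib.Euler.AmpleExists
import Groth.Agent.Lib.Euler.Vanish
import Groth.Agent.Lib.Rigidity.Smooth.Curve
import Groth.Agent.Lib.CotTangent.Scheme

/-!
# The completion of a smooth curve
-/

set_option autoImplicit false
set_option linter.style.haveILetI false
set_option linter.unusedSectionVars false
set_option backward.isDefEq.respectTransparency false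

universe u

open CategoryTheory CategoryTheory.Limits AlgebraicGeometry IsLocalRing TopologicalSpace

noncomputable section

namespace GrothLib.CurveMult.Compactify

open GrothLib GrothLib.CurveRR

variable (k : Type u) [Field k] {X : Scheme.{u}} [X.Over (Spec (CommRingCat.of k))] [IsIntegral X]

theorem fg_functionField [LocallyOfFiniteType (X ↘ Spec (CommRingCat.of k))] :
    (⊤ : IntermediateField k X.functionField).FG := by
  obtain ⟨_, ⟨U, hU, rfl⟩, hxU, -⟩ :=
    X.isBasis_affineOpens.exists_subset_of_mem_open (Set.mem_univ (genericPoint X)) isOpen_univ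
  haveI : Nonempty U := ⟨⟨_, hxU⟩⟩
  let ψ : k →+* Γ(X, U) :=
    (X.presheaf.map (homOfLE (le_top : U ≤ ⊤)).op).hom.comp (Coh.toGlobal (X ↘ Spec (CommRingCat.of k)))
  have hψ : ψ.FiniteType :=
    LocallyOfFiniteType.finiteType_appLE (X ↘ Spec (CommRingCat.of k)) (isAffineOpen_top _) hU (le_of_le_of_eq le_top rfl)
      |>.comp (RingHom.FiniteType.of_surjective _ (Scheme.ΓSpecIso (CommRingCat.of k)).commRingCatIsoToRingEquiv.symm.surjective)
  algebraize [ψ]
  haveI : IsScalarTower k Γ(X, U) X.functionField := IsScalarTower.of_algebraMap_eq fun c => by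
    exact (TopCat.Presheaf.germ_res_apply X.presheaf _ _ hxU _).symm
  haveI := functionField_isFractionRing_of_isAffineOpen X U hU
  haveI : Algebra.EssFiniteType Γ(X, U) X.functionField :=
    Algebra.EssFiniteType.of_isLocalization X.functionField (nonZeroDivisors Γ(X, U))
  haveI : Algebra.EssFiniteType k X.functionField := Algebra.EssFiniteType.comp k Γ(X, U) X.functionField
  exact IntermediateField.fg_top_iff.2 inferInstance

theorem exists_compactification [IsAlgClosed k] [IsSeparated (X ↘ Spec (CommRingCat.of k))]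
    [LocallyOfFiniteType (X ↘ Spec (CommRingCat.of k))] [QuasiCompact (X ↘ Spec (CommRingCat.of k))]
    [RegCurve X] :
    ∃ (Y : Scheme.{u}) (_ : Y.Over (Spec (CommRingCat.of k))) (j : X ⟶ Y), IsOpenImmersion j ∧
      j ≫ (Y ↘ (Spec (CommRingCat.of k))) = X ↘ (Spec (CommRingCat.of k)) ∧ IsIntegral Y ∧
      Smooth (Y ↘ (Spec (CommRingCat.of k))) ∧ topologicalKrullDim Y = 1 ∧
      ∃ (n : ℕ) (i : Y ⟶ CohB1.ProjSpace n k), IsClosedImmersion i ∧
        i ≫ CohB1.ProjSpace.toSpec n k = Y ↘ (Spec (CommRingCat.of k)) := by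
  obtain ⟨n, hn, htr⟩ := exists_dim_eq_trdeg k (X := X)
  have hn1 : n = 1 := by
    have := (RegCurve.dim (X := X)).symm.trans hn
    exact_mod_cast this.symm
  obtain ⟨Y, hYo, hYi, hYp, hYn, -, e, he⟩ := CompleteCurve.exists_curve (fg_functionField k (X := X))
    (by rw [htr, hn1]; norm_num)
  letI := hYo
  haveI := hYi
  haveI := hYp
  haveI : IsLocallyNoetherian Y := LocallyOfFiniteType.isLocallyNoetherian (Y ↘ Spec (CommRingCat.of k))
  haveI : IsLocallyNoetherian X := LocallyOfFiniteType.isLocallyNoetherian (X ↘ Spec (CommRingCat.of k))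
  let φ : Y.functionField ≃+* X.functionField := e
  have hφ : ∀ c : k, φ (algebraMap k Y.functionField c) = algebraMap k X.functionField c := he
  let φa : Y.functionField ≃ₐ[k] X.functionField := AlgEquiv.ofRingEquiv (f := φ) hφ
  have hdY : topologicalKrullDim Y = 1 := by
    obtain ⟨m, hm, hmt⟩ := exists_dim_eq_trdeg k (X := Y)
    have : Algebra.trdeg k Y.functionField = (1 : ℕ) := by rw [φa.trdeg_eq, htr, hn1]
    rw [hmt] at this
    rw [hm, show m = 1 from by exact_mod_cast this]
    rfl
  haveI := regCurve_of_normal hYn hdY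
  have hYreg : ∀ y : Y, IsRegularLocalRing (Y.presheaf.stalk y) := fun y => by
    by_cases hy : y = genericPoint Y
    · subst hy
      exact inferInstanceAs (IsRegularLocalRing Y.functionField)
    · haveI := dvrStalk (⟨y, hy⟩ : CP Y)
      infer_instance
  obtain ⟨j, hj, ej, hψ⟩ := FFHom.exists_hom k (X := X) (Y := Y) φ.toRingHom hφ
  haveI : IsSeparated (j ≫ (Y ↘ Spec (CommRingCat.of k))) := by rw [hj]; infer_instance
  haveI : IsSeparated j := IsSeparated.of_comp j (Y ↘ Spec (CommRingCat.of k))
  haveI : LocallyOfFiniteType (j ≫ (Y ↘ Spec (CommRingCat.of k))) := by rw [hj]; infer_instance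
  haveI : LocallyOfFiniteType j := locallyOfFiniteType_of_comp j (Y ↘ Spec (CommRingCat.of k))
  haveI : CompactSpace X := QuasiCompact.compactSpace_of_compactSpace (X ↘ Spec (CommRingCat.of k))
  haveI : IsNoetherian X := {}
  haveI : QuasiCompact (j ≫ (Y ↘ Spec (CommRingCat.of k))) := by rw [hj]; infer_instance
  haveI : QuasiCompact j := QuasiCompact.of_comp j (Y ↘ Spec (CommRingCat.of k))
  haveI : JacobsonSpace Y := LocallyOfFiniteType.jacobsonSpace (Y ↘ Spec (CommRingCat.of k))
  haveI : LocallyQuasiFinite j := by
    refine LocallyQuasiFinite.of_finite_preimage_singleton j fun y => ?_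
    have hclX : ∀ x : X, x ≠ genericPoint X → IsClosed ({x} : Set X) := fun x hx =>
      CurvePoints.isClosed_singleton (RegCurve.dim (X := X)).le hx
    by_cases hy : y = genericPoint Y
    · refine Set.Subsingleton.finite (s := j ⁻¹' {y}) ?_
      have : ∀ x ∈ j ⁻¹' {y}, x = genericPoint X := fun x hx => by
        by_contra hne
        have h1 : j x ∈ closedPoints Y := j.closePoints_subset_preimage_closedPoints (hclX x hne)
        rw [show j x = genericPoint Y from (show j x = y from hx).trans hy] at h1
        exact CurvePoints.genericPoint_not_isClosed hdY h1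
      exact fun a ha b hb => (this a ha).trans (this b hb).symm
    · refine Euler.finite_of_closed_points ((CurvePoints.isClosed_singleton hdY.le hy).preimage j.continuous)
        fun x hx => hclX x fun hxe => hy ?_
      rw [← show j x = y from hx, hxe, ej]
  have hbij : Function.Bijective (j.stalkMap (genericPoint X)).hom := by
    haveI : IsIso (Y.presheaf.stalkSpecializes (specializes_of_eq ej) ≫ j.stalkMap (genericPoint X)) :=
      (ConcreteCategory.isIso_iff_bijective _).2 (by
        show Function.Bijective (Hurwitz.ψ ej)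
        rw [hψ]; exact φ.bijective)
    haveI : IsIso (Y.presheaf.stalkSpecializes (specializes_of_eq ej)) := by
      refine ⟨Y.presheaf.stalkSpecializes (specializes_of_eq ej.symm), ?_, ?_⟩
      · rw [TopCat.Presheaf.stalkSpecializes_comp, TopCat.Presheaf.stalkSpecializes_refl]
      · rw [TopCat.Presheaf.stalkSpecializes_comp, TopCat.Presheaf.stalkSpecializes_refl]
    haveI : IsIso (j.stalkMap (genericPoint X)) :=
      IsIso.of_isIso_comp_left (Y.presheaf.stalkSpecializes (specializes_of_eq ej)) _
    exact (ConcreteCategory.isIso_iff_bijective _).1 inferInstance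
  haveI := Euler.isNoetherian_of_proper (X := Y) k
  haveI := Birat.isOpenImmersion_of_lqf_birational j ej hbij fun y => (hYn y).2
  exact ⟨Y, hYo, j, inferInstance, hj, hYi, Rigidity.smooth_of_isRegular _ hYreg, hdY,
    Euler.exists_closedImmersion_projSpace k hdY.le⟩

end GrothLib.CurveMult.Compactify
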