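import Groth.Agent.Lib.CurveMult.VeryAmpleLine
import Groth.Agent.Lib.CurveMult.PnMap
import Groth.Agent.Lib.GrTilde.Mul
import Groth.Agent.Lib.RelProjK.Local
import Groth.Agent.Lib.CMReg.ProjSpace

/-!
# The coordinates of an embedded curve as functions
-/

set_option autoImplicit false
set_option linter.style.haveILetI false
set_option backward.isDefEq.respectTransparency false
set_option maxHeartbeats 1600000

universe u

open CategoryTheory CategoryTheory.Limits AlgebraicGeometry TopologicalSpace WithZero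
open GrothLib GrothLib.CurveRR
open _root_.FunFld (Divisor ell)

noncomputable section

namespace GrothLib.CurveMult.CoordFn28

variable (k : Type u) [Field k] {X : Scheme.{u}} [IsIntegral X] [RegCurve X]
  [X.Over (Spec (CommRingCat.of k))] [IsProper (X ↘ Spec (CommRingCat.of k))]

/-- Homogeneous coordinates of a morphism to projective space as rational functions. -/
theorem exists_coords {n : ℕ} (i : X ⟶ CohB1.ProjSpace n k)
    (hi : i ≫ CohB1.ProjSpace.toSpec n k = X ↘ Spec (CommRingCat.of k)) :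
    ∃ (D : Divisor k X.functionField) (h : Fin (n + 1) → X.functionField),
      Nonempty ((Scheme.Modules.pullback i).obj (Twist.twistProjSpace n k 1) ≅ oD k D) ∧
      (∀ l, h l ∈ _root_.FunFld.L D) ∧
      ∀ (j : Fin (n + 1)) (hj : genericPoint X ∈ i ⁻¹ᵁ SepImm.D (k := k) j),
        h j ≠ 0 ∧ ∀ l, X.presheaf.germ _ _ hj (SepImm.ψ i j (SepImm.rat j l)) = h l / h j := by
  classical
  have hL : PicF.IsInvertible ((Scheme.Modules.pullback i).obj (Twist.twistProjSpace n k 1)) :=
    RelProjK.isInvertible_pullback i (CMReg.isInvertible_twist (n := n) (k := k) 1)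
  obtain ⟨D, ⟨eD⟩⟩ := exists_iso_oD k hL
  obtain ⟨c, ⟨e⟩⟩ := Ample.exists_cocycle hL
  obtain ⟨hs, hmap⟩ := Ample.ProjMap.eq_map_dataOfSections i c e
  rw [hi] at hmap
  let s := Ample.ProjMap.pullCoord i
  let a := Ample.ProjMap.sec c e s
  let Dt := Ample.ProjMap.dataOfSections c e s hs (X ↘ Spec (CommRingCat.of k))
  let ε : c.twist 1 ≅ oD k D := e.symm ≪≫ eD
  let η := genericPoint X
  let h : Fin (n + 1) → X.functionField := fun l => oval k (V := ⊤) (ε.hom.app ⊤ (a l)) trivial
  refine ⟨D, h, ⟨eD⟩, fun l R => ?_, fun j hj => ?_⟩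
  · obtain ⟨z, rfl⟩ := place_surjective (k := k) R
    exact oval_bound (V := ⊤) (ε.hom.app ⊤ (a l)) z trivial
  have hpre : Dt.map ⁻¹ᵁ SepImm.D (k := k) j = c.locus (a j) := Dt.map_preimage j
  have hjl : η ∈ c.locus (a j) := by
    rw [← hpre]
    rw [hmap] at hj
    exact hj
  have hn : ∀ m, ε.hom.app (c.locus (a j)) (c.sectRes le_top (a m)) =
      (oD k D).presheaf.map (homOfLE (le_top : c.locus (a j) ≤ ⊤)).op (ε.hom.app ⊤ (a m)) := fun m =>
    PresheafOfModules.naturality_apply ε.hom.val (homOfLE (le_top : c.locus (a j) ≤ ⊤)).op (a m)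
  have hh0 : h j ≠ 0 := by
    intro h0
    have hsz : ε.hom.app ⊤ (a j) = 0 := oval_ext fun hV => by
      show h j = _
      rw [h0]; rfl
    have haz : (a j : c.sect 1 ⊤) = 0 := by
      have := congrArg (ε.inv.app ⊤) hsz
      rw [map_zero] at this
      exact (congrArg (fun φ : c.twist 1 ⟶ c.twist 1 => φ.app ⊤ (a j)) ε.hom_inv_id).symm.trans this
    have h1 := (c.bijective_hom_app (a j) (le_refl (c.locus (a j)))).1
    have h2 : (1 : Γ(X, c.locus (a j))) = 0 := h1 (by
      have hz : c.sectRes (le_top : c.locus (a j) ≤ ⊤) (a j) = 0 := by rw [haz, map_zero]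
      refine (c.hom_app_apply (a j) _ _).trans (Eq.trans ?_ (c.hom_app_apply (a j) _ _).symm)
      rw [hz, smul_zero, smul_zero])
    have h3 := congrArg (X.presheaf.germ (c.locus (a j)) η hjl) h2
    rw [map_one, map_zero] at h3
    exact one_ne_zero (α := X.functionField) h3
  refine ⟨hh0, fun l => ?_⟩
  let f : Γ(X, c.locus (a j)) := Dt.φ j l
  have hf : f • c.sectRes (le_top : c.locus (a j) ≤ ⊤) (a j) = c.sectRes le_top (a l) :=
    (c.exists_ratio (a j) (a l)).choose_spec.1.symm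
  have h1 := congrArg (fun r : c.sect 1 (c.locus (a j)) => oval k (ε.hom.app (c.locus (a j)) r) hjl) hf
  simp only at h1
  rw [hn l, oval_map, show ε.hom.app (c.locus (a j)) (f • c.sectRes le_top (a j)) =
    f • ε.hom.app (c.locus (a j)) (c.sectRes le_top (a j)) from Scheme.Modules.Hom.app_smul _ _ _,
    oval_smul, hn j, oval_map] at h1
  have key : ∀ (g : X ⟶ CohB1.ProjSpace n k) (_ : g = Dt.map) (hg : η ∈ g ⁻¹ᵁ SepImm.D (k := k) j),
      X.presheaf.germ _ _ hg (SepImm.ψ g j (SepImm.rat j l)) = X.presheaf.germ (c.locus (a j)) η hjl (Dt.φ j l) := by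
    rintro _ rfl hg
    have h2 := Dt.map_appLE_ratio j l (W := Dt.map ⁻¹ᵁ SepImm.D (k := k) j) (Dt.map_preimage j).le le_rfl
    have h3 : SepImm.ψ Dt.map j (SepImm.rat j l) =
        Ample.res (show Dt.map ⁻¹ᵁ SepImm.D (k := k) j ≤ Dt.U j from (Dt.map_preimage j).le) (Dt.φ j l) := by
      rw [SepImm.ψ, Scheme.Hom.app_eq_appLE]
      exact h2
    rw [h3]
    exact X.presheaf.germ_res_apply _ _ _ _
  rw [key i hmap hj, eq_div_iff hh0]
  exact h1

omit [X.Over (Spec (CommRingCat.of k))] [IsProper (X ↘ Spec (CommRingCat.of k))] [IsIntegral X] [RegCurve X] in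
/-- Forms in members of `L(D)` lie in `L(d • D)`. -/
theorem aeval_mem_L {K : Type u} [Field K] [Algebra k K] {D : Divisor k K} {n d : ℕ}
    {h : Fin (n + 1) → K} (hh : ∀ l, h l ∈ _root_.FunFld.L D) {G : MvPolynomial (Fin (n + 1)) k}
    (hG : G.IsHomogeneous d) : MvPolynomial.aeval h G ∈ _root_.FunFld.L (d • D) := by
  rw [MvPolynomial.aeval_def, MvPolynomial.eval₂_eq]
  refine Submodule.sum_mem _ fun m hm => ?_
  rw [← Algebra.smul_def]
  refine Submodule.smul_mem _ _ fun P => ?_
  have hdeg : ∑ l ∈ m.support, m l = d := by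
    have := hG (MvPolynomial.mem_support_iff.1 hm)
    rw [Finsupp.weight_apply, Finsupp.sum] at this
    simpa using this
  rw [map_prod]
  calc ∏ l ∈ m.support, P.1 (h l ^ m l) ≤ ∏ l ∈ m.support, exp (D P) ^ m l :=
        Finset.prod_le_prod' fun l _ => by rw [map_pow]; exact pow_le_pow_left₀ zero_le (hh l P) _
    _ = exp ((d • D) P) := by rw [Finset.prod_pow_eq_pow_sum, hdeg, ← exp_nsmul]; rfl

/-- A form vanishing on the coordinates contains the curve. -/
theorem hypIdeal_le_ker {n : ℕ} (i : X ⟶ CohB1.ProjSpace n k) [QuasiCompact i]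
    (hi : i ≫ CohB1.ProjSpace.toSpec n k = X ↘ Spec (CommRingCat.of k))
    (h : Fin (n + 1) → X.functionField)
    (hcoord : ∀ (j : Fin (n + 1)) (hj : genericPoint X ∈ i ⁻¹ᵁ SepImm.D (k := k) j),
      h j ≠ 0 ∧ ∀ l, X.presheaf.germ _ _ hj (SepImm.ψ i j (SepImm.rat j l)) = h l / h j)
    {d : ℕ} (G : LefPen.Form n k d) (hG : MvPolynomial.aeval h G.1 = 0) :
    LefPen.hypIdeal G ≤ i.ker := by
  let U : Fin (n + 1) → (CohB1.ProjSpace n k).affineOpens := fun j =>
    ⟨LefPen.chart n k j, HypSurf.isAffineOpen_chart j⟩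
  refine Scheme.IdealSheafData.le_of_iSup_eq_top U (Ample.ProjMap.iSup_basicOpen_X n k) fun j => ?_
  rw [Scheme.Hom.ker_apply, HypSurf.hypIdeal_ideal_eq G (U j) j le_rfl, Ample.res_self,
    Ideal.span_singleton_le_iff_mem, RingHom.mem_ker]
  show SepImm.ψ i j (LefPen.dehom G j) = 0
  by_cases hj : genericPoint X ∈ i ⁻¹ᵁ SepImm.D (k := k) j
  · refine germ_injective_of_isIntegral X (genericPoint X) hj ?_
    obtain ⟨hj0, hrat⟩ := hcoord j hj
    rw [map_zero, ← PnMap.χ_form, PnMap.germ_ψ_χ k i hi j hj (fun l => h l / h j) hrat G.1]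
    have e : MvPolynomial.aeval (fun l => h l / h j) G.1 = (h j)⁻¹ ^ d * MvPolynomial.aeval h G.1 := by
      rw [show (fun l => h l / h j) = (fun l => (h j)⁻¹ * h l) from funext fun l => div_eq_inv_mul _ _]
      exact Ample.ProjMap.eval₂_mul_of_isHomogeneous (m := d) (a := G.1) _ _ _ G.2
    rw [e, hG, mul_zero]
  · exact TopCat.Presheaf.section_ext X.sheaf _ _ _ fun y hy => (hj (ProjCoh.genericPoint_mem hy)).elim

end GrothLib.CurveMult.CoordFn28
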