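import Groth.Agent.Lib.CurveMult.CoordFn28
import Groth.Agent.Lib.PGL26.Forms
import Groth.Prelude.Def_LinSer
import Groth.Prelude.Def_Omega3

/-!
# Independence of the coordinates of a nondegenerate curve
-/

set_option autoImplicit false
set_option linter.style.haveILetI false
set_option backward.isDefEq.respectTransparency false
set_option maxHeartbeats 1600000

universe u

open CategoryTheory CategoryTheory.Limits AlgebraicGeometry TopologicalSpace WithZero
open GrothLib GrothLib.CurveRR
open _root_.FunFld (Divisor ell)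

noncomputable section

namespace GrothLib.CurveMult.CoordFn28

variable (k : Type u) [Field k] {X : Scheme.{u}} [IsIntegral X] [RegCurve X]
  [X.Over (Spec (CommRingCat.of k))] [IsProper (X ↘ Spec (CommRingCat.of k))]

/-- The zero form. -/
theorem gform_zero {n : ℕ} : PGL26.gform (0 : Fin (n + 1) → k) = 0 := by
  rw [PGL26.gform]
  refine Finset.sum_eq_zero fun j _ => ?_
  show PGL26.gc (n := n) (0 : k) • (show Γ(PGL26.O1 n k, ⊤) from ProjUP.coord n k j) = 0
  rw [PGL26.gc_zero, zero_smul]

/-- The value of a combination of sections. -/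
theorem oval_eq_sum {M : X.Modules} {D : Divisor k X.functionField} (φ : M ⟶ oD k D) {m : ℕ}
    (r : Fin m → Γ(X, ⊤)) (t : Fin m → Γ(M, ⊤)) :
    oval k (V := ⊤) (φ.app ⊤ (∑ l, r l • t l)) trivial =
      ∑ l, X.presheaf.germ ⊤ (genericPoint X) trivial (r l) * oval k (V := ⊤) (φ.app ⊤ (t l)) trivial := by
  have hgen : ∀ F : Finset (Fin m), oval k (V := ⊤) (φ.app ⊤ (∑ l ∈ F, r l • t l)) trivial =
      ∑ l ∈ F, X.presheaf.germ ⊤ (genericPoint X) trivial (r l) * oval k (V := ⊤) (φ.app ⊤ (t l)) trivial := by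
    intro F
    induction F using Finset.induction_on with
    | empty => simp only [Finset.sum_empty, map_zero]; rfl
    | insert a F ha ih =>
      rw [Finset.sum_insert ha, Finset.sum_insert ha, map_add, oval_add, ih,
        Scheme.Modules.Hom.app_smul, oval_smul]
  exact hgen _

omit [X.Over (Spec (CommRingCat.of k))] [IsProper (X ↘ Spec (CommRingCat.of k))] [IsIntegral X] [RegCurve X] in
/-- The pullback of a linear form. -/
theorem pullSect_gform {n : ℕ} (i : X ⟶ CohB1.ProjSpace n k) (co : Fin (n + 1) → k) :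
    OmegaSh.pullSect i (Twist.twistProjSpace n k 1) ⊤ (PGL26.gform co) =
      ∑ l, Ample.res (le_refl ⊤) (ProjUP.toGlobal (i ≫ CohB1.ProjSpace.toSpec n k) (co l)) •
        Ample.ProjMap.pullCoord i l := by
  show ((Scheme.Modules.pullbackPushforwardAdjunction i).unit.app _).app ⊤ (PGL26.gform co) = _
  rw [PGL26.gform, map_sum]
  refine Finset.sum_congr rfl fun l _ => ?_
  refine (Scheme.Modules.Hom.app_smul _ _ _).trans ?_
  refine congrArg (fun r : Γ(X, ⊤) => r • (show Γ((Scheme.Modules.pullback i).obj (Twist.twistProjSpace n k 1), ⊤) from Ample.ProjMap.pullCoord i l)) ?_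
  rw [Ample.res_self]
  rfl

/-- The coordinates of a nondegenerate morphism are independent. -/
theorem exists_coords_indep {n : ℕ} (i : X ⟶ CohB1.ProjSpace n k)
    (hi : i ≫ CohB1.ProjSpace.toSpec n k = X ↘ Spec (CommRingCat.of k))
    (hnd : ∀ s : LinSer.Sect (CohB1.ProjSpace n k) (Twist.twistProjSpace n k 1), s ≠ 0 →
      OmegaSh.pullSect i (Twist.twistProjSpace n k 1) ⊤ s ≠ 0) :
    ∃ (D : Divisor k X.functionField) (h : Fin (n + 1) → X.functionField),
      Nonempty ((Scheme.Modules.pullback i).obj (Twist.twistProjSpace n k 1) ≅ oD k D) ∧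
      (∀ l, h l ∈ _root_.FunFld.L D) ∧ LinearIndependent k h ∧
      ∀ (j : Fin (n + 1)) (hj : genericPoint X ∈ i ⁻¹ᵁ SepImm.D (k := k) j),
        h j ≠ 0 ∧ ∀ l, X.presheaf.germ _ _ hj (SepImm.ψ i j (SepImm.rat j l)) = h l / h j := by
  classical
  have hL : PicF.IsInvertible ((Scheme.Modules.pullback i).obj (Twist.twistProjSpace n k 1)) :=
    RelProjK.isInvertible_pullback i (CMReg.isInvertible_twist (n := n) (k := k) 1)
  obtain ⟨D, ⟨eD⟩⟩ := exists_iso_oD k hL
  obtain ⟨c, ⟨e⟩⟩ := Ample.exists_cocycle hL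
  obtain ⟨hs, hmap⟩ := Ample.ProjMap.eq_map_dataOfSections i c e
  rw [hi] at hmap
  let s := Ample.ProjMap.pullCoord i
  let a := Ample.ProjMap.sec c e s
  let Dt := Ample.ProjMap.dataOfSections c e s hs (X ↘ Spec (CommRingCat.of k))
  let ε : c.twist 1 ≅ oD k D := e.symm ≪≫ eD
  let η := genericPoint X
  let h : Fin (n + 1) → X.functionField := fun l => oval k (V := ⊤) (ε.hom.app ⊤ (a l)) trivial
  refine ⟨D, h, ⟨eD⟩, fun l R => ?_, ?_, fun j hj => ?_⟩
  · obtain ⟨z, rfl⟩ := place_surjective (k := k) R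
    exact oval_bound (V := ⊤) (ε.hom.app ⊤ (a l)) z trivial
  · rw [Fintype.linearIndependent_iff]
    intro co hco
    let S : Γ(Twist.twistProjSpace n k 1, ⊤) := PGL26.gform co
    suffices hS : S = 0 by
      have h2 : co = 0 := PGL26.bijective_gform.1 (hS.trans (gform_zero k).symm)
      exact fun l => congrFun h2 l
    by_contra hne
    refine hnd S hne ?_
    have key : ∀ t : Γ((Scheme.Modules.pullback i).obj (Twist.twistProjSpace n k 1), ⊤),
        oval k (V := ⊤) (eD.hom.app ⊤ t) trivial = 0 → t = 0 := fun t ht => by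
      have hz : eD.hom.app ⊤ t = 0 := oval_ext fun hV => ht
      have := congrArg (eD.inv.app ⊤) hz
      rw [map_zero] at this
      exact (congrArg (fun φ : (Scheme.Modules.pullback i).obj (Twist.twistProjSpace n k 1) ⟶ _ => φ.app ⊤ t)
        eD.hom_inv_id).symm.trans this
    refine key _ (Eq.trans ?_ hco)
    rw [show OmegaSh.pullSect i (Twist.twistProjSpace n k 1) ⊤ S =
      ∑ l, Ample.res (le_refl ⊤) (ProjUP.toGlobal (i ≫ CohB1.ProjSpace.toSpec n k) (co l)) • s l from pullSect_gform k i co]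
    rw [oval_eq_sum k eD.hom]
    refine Finset.sum_congr rfl fun l _ => ?_
    rw [Algebra.smul_def]
    congr 1
    · rw [hi, Ample.res_self]
      exact germ_toGlobal k (co l)
    · show _ = oval k (V := ⊤) (ε.hom.app ⊤ (a l)) trivial
      refine congrArg (fun r => oval k (V := ⊤) (eD.hom.app ⊤ r) trivial) ?_
      exact (congrArg (fun φ : (Scheme.Modules.pullback i).obj (Twist.twistProjSpace n k 1) ⟶ _ => φ.app ⊤ (s l))
        e.hom_inv_id).symm
  have hpre : Dt.map ⁻¹ᵁ SepImm.D (k := k) j = c.locus (a j) := Dt.map_preimage j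
  have hjl : η ∈ c.locus (a j) := by
    rw [← hpre]
    rw [hmap] at hj
    exact hj
  have hn : ∀ m, ε.hom.app (c.locus (a j)) (c.sectRes le_top (a m)) =
      (oD k D).presheaf.map (homOfLE (le_top : c.locus (a j) ≤ ⊤)).op (ε.hom.app ⊤ (a m)) := fun m =>
    PresheafOfModules.naturality_apply ε.hom.val (homOfLE (le_top : c.locus (a j) ≤ ⊤)).op (a m)
  have hh0 : h j ≠ 0 := by
    intro h0
    have hsz : ε.hom.app ⊤ (a j) = 0 := oval_ext fun hV => by
      show h j = _
      rw [h0]; rfl
    have haz : (a j : c.sect 1 ⊤) = 0 := by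
      have := congrArg (ε.inv.app ⊤) hsz
      rw [map_zero] at this
      exact (congrArg (fun φ : c.twist 1 ⟶ c.twist 1 => φ.app ⊤ (a j)) ε.hom_inv_id).symm.trans this
    have h1 := (c.bijective_hom_app (a j) (le_refl (c.locus (a j)))).1
    have h2 : (1 : Γ(X, c.locus (a j))) = 0 := h1 (by
      have hz : c.sectRes (le_top : c.locus (a j) ≤ ⊤) (a j) = 0 := by rw [haz, map_zero]
      refine (c.hom_app_apply (a j) _ _).trans (Eq.trans ?_ (c.hom_app_apply (a j) _ _).symm)
      rw [hz, smul_zero, smul_zero])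
    have h3 := congrArg (X.presheaf.germ (c.locus (a j)) η hjl) h2
    rw [map_one, map_zero] at h3
    exact one_ne_zero (α := X.functionField) h3
  refine ⟨hh0, fun l => ?_⟩
  let f : Γ(X, c.locus (a j)) := Dt.φ j l
  have hf : f • c.sectRes (le_top : c.locus (a j) ≤ ⊤) (a j) = c.sectRes le_top (a l) :=
    (c.exists_ratio (a j) (a l)).choose_spec.1.symm
  have h1 := congrArg (fun r : c.sect 1 (c.locus (a j)) => oval k (ε.hom.app (c.locus (a j)) r) hjl) hf
  simp only at h1
  rw [hn l, oval_map, show ε.hom.app (c.locus (a j)) (f • c.sectRes le_top (a j)) =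
    f • ε.hom.app (c.locus (a j)) (c.sectRes le_top (a j)) from Scheme.Modules.Hom.app_smul _ _ _,
    oval_smul, hn j, oval_map] at h1
  have key : ∀ (g : X ⟶ CohB1.ProjSpace n k) (_ : g = Dt.map) (hg : η ∈ g ⁻¹ᵁ SepImm.D (k := k) j),
      X.presheaf.germ _ _ hg (SepImm.ψ g j (SepImm.rat j l)) = X.presheaf.germ (c.locus (a j)) η hjl (Dt.φ j l) := by
    rintro _ rfl hg
    have h2 := Dt.map_appLE_ratio j l (W := Dt.map ⁻¹ᵁ SepImm.D (k := k) j) (Dt.map_preimage j).le le_rfl
    have h3 : SepImm.ψ Dt.map j (SepImm.rat j l) =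
        Ample.res (show Dt.map ⁻¹ᵁ SepImm.D (k := k) j ≤ Dt.U j from (Dt.map_preimage j).le) (Dt.φ j l) := by
      rw [SepImm.ψ, Scheme.Hom.app_eq_appLE]
      exact h2
    rw [h3]
    exact X.presheaf.germ_res_apply _ _ _ _
  rw [key i hmap hj, eq_div_iff hh0]
  exact h1

end GrothLib.CurveMult.CoordFn28
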