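import Groth.Agent.Lib.CurveMult.SwapCurve
import Groth.Agent.Lib.FunFld.DoubleMatch
import Groth.Agent.Lib.CurveMult.P1Split
import Groth.Agent.S18918

/-!
# Double covers of the line by a curve of genus one
-/

set_option autoImplicit false
set_option linter.style.haveILetI false
set_option linter.unusedSectionVars false
set_option backward.isDefEq.respectTransparency false

universe u

open CategoryTheory CategoryTheory.Limits AlgebraicGeometry IsLocalRing
open IntermediateField (adjoin)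

noncomputable section

namespace GrothLib.CurveMult.DoubleMatchCurve

open GrothLib GrothLib.CurveRR GrothLib.CurveMult.InvolutionCurve
attribute [local instance] P1Split.overP1

variable (k : Type u) [Field k]

theorem genericPoint_mem_D : genericPoint (CohB1.ProjSpace 1 k) ∈ SepImm.D (k := k) (n := 1) 0 := by
  obtain ⟨x, hx⟩ := D_nonempty k 1 0
  exact ((genericPoint_spec _).specializes (show x ∈ (⊤ : (CohB1.ProjSpace 1 k).Opens) from trivial)).mem_open
    (SepImm.D (k := k) (n := 1) 0).2 hx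

/-- The coordinate of the line. -/
def coord : (CohB1.ProjSpace 1 k).functionField :=
  (CohB1.ProjSpace 1 k).presheaf.germ _ _ (genericPoint_mem_D k) (SepImm.rat 0 1)

variable {k} {X : Scheme.{u}} [IsIntegral X] [RegCurve X]
  [X.Over (Spec (CommRingCat.of k))] [IsProper (X ↘ Spec (CommRingCat.of k))]

theorem map_genericPoint (f : X ⟶ CohB1.ProjSpace 1 k)
    (hf : f ≫ CohB1.ProjSpace.toSpec 1 k = X ↘ Spec (CommRingCat.of k)) [IsFinite f] :
    f (genericPoint X) = genericPoint (CohB1.ProjSpace 1 k) := by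
  obtain ⟨-, -, hgen⟩ := HyperP1.isFinite_flat_dominant k f hf (range_nontrivial_of_isFinite k f)
  exact ((specializes_iff_forall_open.2 fun s hs hmem => hgen ⟨s, hs⟩ ⟨_, hmem⟩).antisymm
    ((genericPoint_spec _).specializes trivial)).eq

theorem finrank_adjoin_coord (f : X ⟶ CohB1.ProjSpace 1 k)
    (hf : f ≫ CohB1.ProjSpace.toSpec 1 k = X ↘ Spec (CommRingCat.of k)) [IsFinite f]
    (e : f (genericPoint X) = genericPoint (CohB1.ProjSpace 1 k)) :
    Module.finrank (adjoin k ({Hurwitz.ψ e (coord k)} : Set X.functionField)) X.functionField =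
      f.residueDegree (genericPoint X) := by
  obtain ⟨-, -, hgen⟩ := HyperP1.isFinite_flat_dominant k f hf (range_nontrivial_of_isFinite k f)
  have hη : genericPoint X ∈ f ⁻¹ᵁ SepImm.D (k := k) 0 := hgen _ (D_nonempty k 1 0)
  obtain ⟨-, hd, -⟩ := HyperP1.generic_data k f hf hgen hη rfl
  have h2 : Hurwitz.ψ e (coord k) = X.presheaf.germ _ _ hη (SepImm.ψ f 0 (SepImm.rat 0 1)) :=
    ψ_germ e hη (genericPoint_mem_D k) _
  rw [h2]
  exact hd.symm

theorem adjoin_coord : adjoin k ({coord k} : Set (CohB1.ProjSpace 1 k).functionField) = ⊤ := by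
  let f : CohB1.ProjSpace 1 k ⟶ CohB1.ProjSpace 1 k := 𝟙 _
  have e : f (genericPoint (CohB1.ProjSpace 1 k)) = genericPoint (CohB1.ProjSpace 1 k) := rfl
  have h := finrank_adjoin_coord f (Category.id_comp _) e
  rw [ψ_id] at h
  refine IntermediateField.finrank_eq_one_iff_eq_top.1 (h.trans ?_)
  haveI : LocallyOfFinitePresentation f := inferInstance
  haveI : Flat f := inferInstance
  rw [← (generic_finite_flat f e).1 (genericPoint (CohB1.ProjSpace 1 k))]
  rw [Scheme.Hom.finrank_eq_one_of_isIso]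
  rfl

theorem mem_adjoin_iff (f : X ⟶ CohB1.ProjSpace 1 k)
    (hf : f ≫ CohB1.ProjSpace.toSpec 1 k = X ↘ Spec (CommRingCat.of k))
    (e : f (genericPoint X) = genericPoint (CohB1.ProjSpace 1 k)) (z : X.functionField) :
    z ∈ adjoin k ({Hurwitz.ψ e (coord k)} : Set X.functionField) ↔
      ∃ w : (CohB1.ProjSpace 1 k).functionField, Hurwitz.ψ e w = z := by
  let φ : (CohB1.ProjSpace 1 k).functionField →ₐ[k] X.functionField :=
    { Hurwitz.ψ e with commutes' := fun c => Hurwitz.ψ_algebraMap k e hf c }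
  have h : (adjoin k ({coord k} : Set (CohB1.ProjSpace 1 k).functionField)).map φ =
      adjoin k ({Hurwitz.ψ e (coord k)} : Set X.functionField) := by
    rw [IntermediateField.adjoin_map, Set.image_singleton]
    rfl
  rw [← h, adjoin_coord, ← AlgHom.fieldRange_eq_map]
  exact Iff.rfl

/-- Double covers of the line by a curve of genus one differ by automorphisms. -/
theorem exists_match [IsAlgClosed k] (hreg : ∀ x : X, IsRegularLocalRing (X.presheaf.stalk x))
    (h2 : (2 : k) ≠ 0) (hg : Curv2.genus k X = 1)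
    (f₁ f₂ : X ⟶ CohB1.ProjSpace 1 k) [IsFinite f₁] [IsFinite f₂]
    (hf₁ : f₁ ≫ CohB1.ProjSpace.toSpec 1 k = X ↘ Spec (CommRingCat.of k))
    (hf₂ : f₂ ≫ CohB1.ProjSpace.toSpec 1 k = X ↘ Spec (CommRingCat.of k))
    (hd₁ : FlatMod.IsFinLocFreeOfRank 2 ((Scheme.Modules.pushforward f₁).obj (Coh.structureModule X)))
    (hd₂ : FlatMod.IsFinLocFreeOfRank 2 ((Scheme.Modules.pushforward f₂).obj (Coh.structureModule X))) :
    ∃ (σ : X ≅ X) (τ : CohB1.ProjSpace 1 k ≅ CohB1.ProjSpace 1 k),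
      σ.hom ≫ (X ↘ Spec (CommRingCat.of k)) = X ↘ Spec (CommRingCat.of k) ∧
      τ.hom ≫ CohB1.ProjSpace.toSpec 1 k = CohB1.ProjSpace.toSpec 1 k ∧ σ.hom ≫ f₂ = f₁ ≫ τ.hom := by
  classical
  have h0 := finrank_H0_structure_eq_one k (X := X)
  haveI : Smooth (X ↘ Spec (CommRingCat.of k)) := Rigidity.smooth_of_isRegular _ hreg
  haveI := Chow.isProper_toSpec 1 k
  haveI : IsLocallyNoetherian (CohB1.ProjSpace 1 k) :=
    LocallyOfFiniteType.isLocallyNoetherian (CohB1.ProjSpace.toSpec 1 k)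
  have hdeg : ∀ (f : X ⟶ CohB1.ProjSpace 1 k) [IsFinite f]
      (_ : f ≫ CohB1.ProjSpace.toSpec 1 k = X ↘ Spec (CommRingCat.of k))
      (_ : FlatMod.IsFinLocFreeOfRank 2 ((Scheme.Modules.pushforward f).obj (Coh.structureModule X)))
      (e : f (genericPoint X) = genericPoint (CohB1.ProjSpace 1 k)),
      Module.finrank (adjoin k ({Hurwitz.ψ e (coord k)} : Set X.functionField)) X.functionField = 2 := by
    intro f _ hf hd e
    obtain ⟨-, hfl, -⟩ := HyperP1.isFinite_flat_dominant k f hf (range_nontrivial_of_isFinite k f)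
    haveI := hfl
    haveI : LocallyOfFinitePresentation f := inferInstance
    rw [finrank_adjoin_coord f hf e, ← (generic_finite_flat f e).1 (genericPoint (CohB1.ProjSpace 1 k))]
    exact Groth.Agent.S18918.finrank_eq_of_pushforward f 2 hd _
  have e₁ := map_genericPoint f₁ hf₁
  have e₂ := map_genericPoint f₂ hf₂
  obtain ⟨s, hinv, hs⟩ := FunFld.DoubleMatch.exists_matching h2 (isFunctionField k h0)
    (by rw [← genus_eq k h0, hg]) (fun x hx => isSeparable_of_finrank_two k h0 (by omega) hx)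
    (hdeg f₁ hf₁ hd₁ e₁) (hdeg f₂ hf₂ hd₂ e₂)
  obtain ⟨σ, hσ, hσσ, rfl⟩ := exists_invol s hinv
  have eσ := genericPoint_of_invol hσσ
  have e₂' : (σ ≫ f₂) (genericPoint X) = genericPoint (CohB1.ProjSpace 1 k) := by
    rw [Scheme.Hom.comp_apply, eσ, e₂]
  have hf₂' : (σ ≫ f₂) ≫ CohB1.ProjSpace.toSpec 1 k = X ↘ Spec (CommRingCat.of k) := by
    rw [Category.assoc, hf₂, hσ]
  have hcomp := ψ_comp eσ e₂ e₂'
  rw [funEquiv_apply hσ hσσ] at hs
  have hs' : adjoin k ({Hurwitz.ψ e₂' (coord k)} : Set X.functionField) =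
      adjoin k ({Hurwitz.ψ e₁ (coord k)} : Set X.functionField) := by
    rw [hcomp]; exact hs
  have hmem : ∀ z, (∃ w, Hurwitz.ψ e₂' w = z) ↔ ∃ w, Hurwitz.ψ e₁ w = z := fun z => by
    rw [← mem_adjoin_iff _ hf₂' e₂', ← mem_adjoin_iff _ hf₁ e₁, hs']
  have ha : ∀ w, ∃ w', Hurwitz.ψ e₁ w' = Hurwitz.ψ e₂' w := fun w => (hmem _).1 ⟨w, rfl⟩
  choose a ha using ha
  have hinj := (Hurwitz.ψ e₁).injective
  let φ : (CohB1.ProjSpace 1 k).functionField ≃+* (CohB1.ProjSpace 1 k).functionField :=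
    RingEquiv.ofBijective
      ({ toFun := a
         map_one' := hinj (by rw [ha, map_one, map_one])
         map_mul' := fun x y => hinj (by simp only [ha, map_mul])
         map_zero' := hinj (by rw [ha, map_zero, map_zero])
         map_add' := fun x y => hinj (by simp only [ha, map_add]) } :
        (CohB1.ProjSpace 1 k).functionField →+* (CohB1.ProjSpace 1 k).functionField)
      ⟨fun x y h => (Hurwitz.ψ e₂').injective (by rw [← ha, ← ha, show a x = a y from h]), fun w => by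
        obtain ⟨v, hv⟩ := (hmem (Hurwitz.ψ e₁ w)).2 ⟨w, rfl⟩
        exact ⟨v, hinj ((ha v).trans hv)⟩⟩
  obtain ⟨τ, hτ, eτ, hτψ⟩ := FFHom.exists_iso k (X := CohB1.ProjSpace 1 k) (Y := CohB1.ProjSpace 1 k) φ
    fun c => hinj ((ha _).trans (by
      rw [Hurwitz.ψ_algebraMap k e₁ hf₁, Hurwitz.ψ_algebraMap k e₂' hf₂']))
  refine ⟨⟨σ, σ, hσσ, hσσ⟩, τ, hσ, hτ, ?_⟩
  have e₁' : (f₁ ≫ τ.hom) (genericPoint X) = genericPoint (CohB1.ProjSpace 1 k) := by
    rw [Scheme.Hom.comp_apply, e₁, eτ]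
  refine eq_of_ψ_eq (CohB1.ProjSpace.toSpec 1 k) ?_ e₂' e₁' ?_
  · rw [hf₂', Category.assoc]
    exact ((congrArg (fun t => f₁ ≫ t) hτ).trans hf₁).symm
  · rw [ψ_comp e₁ eτ e₁', hτψ]
    exact RingHom.ext fun w => (ha w).symm

end GrothLib.CurveMult.DoubleMatchCurve
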