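import Groth.Agent.Lib.CurveMult.TwistSplit
import Groth.Agent.Lib.Euler.Slope
import Groth.Agent.Lib.CurveRR.Main
import Groth.Agent.Lib.CurveRR.Stable
import Groth.Agent.Lib.CurveRR.Setup

/-!
# Line subbundles of bundles of rank two
-/

set_option linter.style.haveILetI false
set_option backward.isDefEq.respectTransparency false

universe u

open CategoryTheory CategoryTheory.Limits AlgebraicGeometry TopologicalSpace Opposite
open GrothLib.CurveRR
open _root_.FunFld (Divisor)

noncomputable section

namespace GrothLib.CurveMult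

variable {X : Scheme.{u}} [IsIntegral X]

/-- An invertible module on an integral scheme is not zero. -/
theorem not_isZero_of_invertible {L : X.Modules} (hL : PicF.IsInvertible L) : ¬ IsZero L := fun hz => by
  have h0 : FlatMod.IsFinLocFreeOfRank 0 L := fun y =>
    ⟨⊤, trivial, ⟨((Scheme.Modules.restrictFunctor (⊤ : X.Opens).ι).map_isZero hz).iso (Euler.isZero_freeMod_zero _)⟩⟩
  have := (Euler.grank_of_locFree h0).symm.trans
    (Euler.grank_of_locFree (Euler.isFinLocFreeOfRank_one_of_invertible hL))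
  omega

/-- A nonzero map out of an invertible module into a bundle is injective. -/
theorem mono_of_ne_zero_invertible (k : Type u) [Field k] [X.Over (Spec (CommRingCat.of k))]
    [IsProper (X ↘ Spec (CommRingCat.of k))]
    (hpid : ∀ x : X, IsPrincipalIdealRing (X.presheaf.stalk x)) {L E : X.Modules}
    (hL : PicF.IsInvertible L) (hE : FlatMod.IsFinLocFree E) {s : L ⟶ E} (hs : s ≠ 0) : Mono s := by
  have hL1 := Euler.isFinLocFreeOfRank_one_of_invertible hL
  obtain ⟨A, I, a, p, j, rK, rI, -, -, -, -, -, -, -, hrk, -, hz, hmono⟩ := Euler.exists_image_data k hpid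
    (FinCov.isFinLocFree_of_rank hL1) hE s
  rw [Euler.grank_of_locFree hL1] at hrk
  have : rI ≠ 0 := fun h => hs (hz h)
  exact hmono (by omega)

variable (k : Type u) [Field k] [RegCurve X] [X.Over (Spec (CommRingCat.of k))]
  [IsProper (X ↘ Spec (CommRingCat.of k))]

include k in
/-- A section of a twist gives a nonzero map from the inverse. -/
theorem exists_hom_of_twist_section {E M : X.Modules} (hM : PicF.IsInvertible M)
    (h : Nontrivial (Coh.HH X (CohB1.tensorMod E M) 0)) :
    ∃ (L : X.Modules) (j : L ⟶ E), PicF.IsInvertible L ∧ j ≠ 0 ∧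
      Curv2.deg k X L 1 = - Curv2.deg k X M 1 := by
  obtain ⟨L, hL, hdeg, ⟨e⟩, ⟨e'⟩⟩ := exists_inverse k RegCurve.dim.le hM
  obtain ⟨u, hu⟩ := Euler.exists_ne_zero_section h
  have hs : FinCov.homOfSection u ≠ 0 := fun h => hu (by
    have h1 := FinCov.homOfSection_one u ⊤
    rw [h] at h1
    rw [show (homOfLE (le_top : (⊤ : X.Opens) ≤ ⊤)).op = 𝟙 _ from Subsingleton.elim _ _,
      CategoryTheory.Functor.map_id] at h1
    exact h1.symm)
  let a : L ≅ (Euler.tF L).obj (Coh.structureModule X) :=
    (((OX.tensorBraiding (X := X)).app L).app (Coh.structureModule X) ≪≫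
      ((OX.tensorBraiding (X := X)).app (Coh.structureModule X)).app L ≪≫ OX.tensorUnitLeftIso L).symm
  refine ⟨L, a.hom ≫ (Euler.tF L).map (FinCov.homOfSection u) ≫ (twistInverseIso e).hom.app E, hL, fun h0 => ?_, hdeg⟩
  refine tF_map_ne_zero e' hs ?_
  rw [← cancel_epi a.hom, ← cancel_mono ((twistInverseIso e).hom.app E), comp_zero, zero_comp, Category.assoc]
  exact h0

variable [IsAlgClosed k]

include k in
/-- There are invertible modules of every degree. -/
theorem exists_invertible_of_deg (n : ℤ) :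
    ∃ M : X.Modules, PicF.IsInvertible M ∧ Curv2.deg k X M 1 = n := by
  have hK := CurveRR.isFunctionField k (CurveRR.finrank_H0_structure_eq_one k (X := X))
  obtain ⟨P⟩ := FunFld.IsFG.exists_place hK.1
  refine ⟨oD k (Finsupp.single P n), isInvertible_oD k _, ?_⟩
  rw [deg_oD, FunFld.deg_single, FunFld.IsFG.deg_eq_one hK.1 P, Nat.cast_one, mul_one]

include k in
/-- Line bundles of degree above `2g - 2` have no first cohomology. -/
theorem subsingleton_H1_of_deg_gt {M : X.Modules} (hM : PicF.IsInvertible M)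
    (h : 2 * (Curv2.genus k X : ℤ) - 2 < Curv2.deg k X M 1) : Subsingleton (Coh.HH X M 1) := by
  have h0 := CurveRR.finrank_H0_structure_eq_one k (X := X)
  have hK := CurveRR.isFunctionField k h0
  obtain ⟨K, hKc⟩ := FunFld.exists_isCanonical hK
  have hKd := CurveRR.deg_canonical k hK hKc
  rw [← CurveRR.genus_eq k h0] at hKd
  obtain ⟨D, -, hD, -, hh1⟩ := CurveRR.exists_divisor k h0 hKc hM
  haveI := Euler.isNoetherian_of_proper (X := X) k
  haveI := Euler.finiteDimensional_HH k (Euler.isCoh_of_isInvertible hM) 1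
  exact Module.finrank_zero_iff.1 (hh1.trans
    (FunFld.IsFG.ell_eq_zero_of_deg_neg hK.1 (by rw [FunFld.deg_sub]; omega)))

include k in
/-- Extensions of line bundles with a large difference of degrees split. -/
theorem isSplitEpi_of_deg {S : ShortComplex X.Modules} (hS : S.ShortExact)
    (h₁ : PicF.IsInvertible S.X₁) (h₃ : PicF.IsInvertible S.X₃)
    (h : 2 * (Curv2.genus k X : ℤ) - 2 < Curv2.deg k X S.X₁ 1 - Curv2.deg k X S.X₃ 1) :
    IsSplitEpi S.g := by
  obtain ⟨M, hM, hMd, ⟨e⟩, ⟨e'⟩⟩ := exists_inverse k RegCurve.dim.le h₃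
  refine isSplitEpi_of_H1 k hS e e' (subsingleton_H1_of_deg_gt k (Ample.isInvertible_tensorMod h₁ hM) ?_)
  have h2 : Curv2.deg k X ((Euler.tF M).obj S.X₁) 1 = _ := deg_tensorMod k RegCurve.dim.le h₁ hM
  omega

end GrothLib.CurveMult
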