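import Groth.Agent.Lib.CurveMult.SlopeSplit
import Groth.Agent.Lib.CurveMult.RankTwo
import Groth.Agent.Lib.ParHilb.CurveParHom
import Groth.Agent.Lib.LocFreeHom.IsoNear

/-!
# Rank and degree of duals and sheaf homs of bundles on a curve
-/

set_option linter.style.haveILetI false
set_option backward.isDefEq.respectTransparency false

universe u

open CategoryTheory CategoryTheory.Limits AlgebraicGeometry
open GrothLib.CurveRR (RegCurve oD isInvertible_oD isCoh_oD)
open GrothLib.LocFreeHom GrothLib.LocFreeDual20 GrothLib.OX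
open GrothLib.QCoh (stalkLin)

noncomputable section

namespace GrothLib.CurveMult

attribute [local instance] LocFreeHom.hasSheafHom

section leftExact

variable {X : Scheme.{u}} {A B Q P G : X.Modules}

/-- What dies in `Hom(A, G)` comes from `Hom(Q, G)` for a cokernel `Q`. -/
theorem exists_factor_hMap (i : A ⟶ B) (π : B ⟶ Q) (w : i ≫ π = 0) (hc : IsColimit (CokernelCofork.ofπ π w))
    (t : P ⟶ iHom B G) (h : t ≫ hMap i G = 0) : ∃ t' : P ⟶ iHom Q G, t' ≫ hMap π G = t := by
  let F := (DCoh.tensorBi (X := X)).flip.obj P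
  haveI : F.Additive := Functor.additive_of_iso ((tensorBraiding (X := X)).app P).symm
  have h' := congrArg uncurry h
  rw [uncurry_comp_hMap, show uncurry (0 : P ⟶ iHom A G) = 0 by
    show (LocFreeHom.T A).map 0 ≫ _ = 0
    rw [Functor.map_zero, zero_comp]] at h'
  obtain ⟨l, hl⟩ := CokernelCofork.IsColimit.desc' (CokernelCofork.mapIsColimit (c := CokernelCofork.ofπ π w) hc F)
    (uncurry t) h'
  refine ⟨curry l, LocFreeHom.hom_ext ?_⟩
  rw [uncurry_comp_hMap, uncurry_curry]
  exact hl

theorem mono_hMap_of_epi (π : B ⟶ Q) [Epi π] : Mono (hMap π G) :=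
  Preadditive.mono_of_cancel_zero _ fun {P} t ht => by
    have h' := congrArg uncurry ht
    rw [uncurry_comp_hMap, show uncurry (0 : P ⟶ iHom B G) = 0 by
      show (LocFreeHom.T B).map 0 ≫ _ = 0
      rw [Functor.map_zero, zero_comp]] at h'
    haveI : Epi (wh π P) := inferInstanceAs (Epi (((DCoh.tensorBi (X := X)).flip.obj P).map π))
    have h0 : uncurry t = 0 := by rw [← cancel_epi (wh π P), h', comp_zero]
    refine LocFreeHom.hom_ext (h0.trans ?_)
    show _ = (LocFreeHom.T Q).map 0 ≫ _
    rw [Functor.map_zero, zero_comp]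

theorem hMap_comp_eq_zero (i : A ⟶ B) (π : B ⟶ Q) (w : i ≫ π = 0) : hMap π G ≫ hMap i G = 0 := by
  rw [← hMap_comp, w]
  exact map_zero (hMapHom A Q G)

end leftExact

variable (k : Type u) [Field k] {X : Scheme.{u}} [IsIntegral X] [RegCurve X]
  [X.Over (Spec (CommRingCat.of k))] [IsProper (X ↘ Spec (CommRingCat.of k))]

include k in
theorem hom_eq_zero_of_notMem {M E : X.Modules} (hη : genericPoint X ∉ CohB1.support M)
    (hE : FlatMod.IsFinLocFree E) (h : M ⟶ E) : h = 0 := by
  haveI := Euler.isNoetherian_of_proper (X := X) k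
  haveI : Subsingleton (M.presheaf.stalk (genericPoint X)) := QCoh.stalk_subsingleton_of_notMem hη
  refine Scheme.Modules.hom_ext _ _ fun W => AddCommGrpCat.ext fun s => ?_
  show h.app W s = 0
  by_cases hW : genericPoint X ∈ W
  · refine CurveRR.germ_generic_injective hE hW ?_
    rw [map_zero, ← QCoh.stalkLin_germ h hW s, Subsingleton.elim (M.presheaf.germ W _ hW s) 0, map_zero]
  · exact QCoh.section_eq_zero_of_germ E _ fun z hz => absurd (ProjCoh.genericPoint_mem hz) hW

include k in
/-- Dualising a generically surjective map gives an injective one. -/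
theorem mono_hMap_of_generic {A B : X.Modules} (σ : A ⟶ B) (hA : FlatMod.IsFinLocFree A)
    (hB : FlatMod.IsFinLocFree B) (hη : Function.Surjective (stalkLin σ (genericPoint X))) :
    Mono (hMap σ (Coh.structureModule X)) := by
  haveI := Euler.isNoetherian_of_proper (X := X) k
  let O := Coh.structureModule X
  have hO : FlatMod.IsFinLocFree O :=
    FinCov.isFinLocFree_of_rank (Euler.isFinLocFreeOfRank_one_of_invertible Euler.isInvertible_structure)
  have hD := isFinLocFree_iHom hB hO
  have hKc := QCoh.isCoh_kernel (hMap σ O) (Euler.isCoh_of_isFinLocFree hD)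
    (Euler.isCoh_of_isFinLocFree (isFinLocFree_iHom hA hO))
  have hK := Euler.isFinLocFreeOfRank_of_mono CurveRR.pid_stalk (kernel.ι (hMap σ O)) hKc hD
  refine Preadditive.mono_of_kernel_zero ?_
  obtain ⟨t', ht'⟩ := exists_factor_hMap σ (cokernel.π σ) (cokernel.condition σ) (cokernelIsCokernel σ)
    (kernel.ι (hMap σ O)) (kernel.condition _)
  have h0 : uncurry t' = 0 := hom_eq_zero_of_notMem k
    (fun hm => QCoh.notMem_support_cokernel_of_surjective σ hη (Euler.support_tF_subset hK hm)) hO _
  rw [← ht', show t' = 0 from LocFreeHom.hom_ext (h0.trans (by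
    show _ = (LocFreeHom.T _).map 0 ≫ _
    rw [Functor.map_zero, zero_comp])), zero_comp]

include k in
/-- Every bundle of positive rank has a saturated line subbundle. -/
theorem exists_line_subbundle {E : X.Modules} {r : ℕ} (hr : 0 < r) (hE : FlatMod.IsFinLocFreeOfRank r E) :
    ∃ (L : X.Modules) (i : L ⟶ E), PicF.IsInvertible L ∧ Mono i ∧
      FlatMod.IsFinLocFreeOfRank (r - 1) (cokernel i) := by
  haveI := Euler.isNoetherian_of_proper (X := X) k
  have hFG := CurveRR.isFG k (X := X)
  obtain ⟨P⟩ := FunFld.IsFG.exists_place hFG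
  have hP : 0 < P.deg := FunFld.IsFG.deg_pos hFG P
  let c : ℤ := Curv2.deg k X E r + r * Curv2.euler k X (Coh.structureModule X)
  let D : _root_.FunFld.Divisor k X.functionField := Finsupp.single P (|c| + 1)
  have hN := isInvertible_oD k D
  have hT := isFinLocFreeOfRank_tF hE hN
  have hpos : 0 < Curv2.euler k X ((Euler.tF (oD k D)).obj E) := by
    have h := deg_tF k hE hN
    rw [CurveRR.deg_oD, FunFld.deg_single] at h
    simp only [Curv2.deg] at h
    have h1 : (1 : ℤ) ≤ (r : ℤ) * (P.deg : ℤ) := one_le_mul_of_one_le_of_one_le (by exact_mod_cast hr) (by exact_mod_cast hP)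
    have h2 := le_mul_of_one_le_left (a := (r : ℤ) * (P.deg : ℤ)) (b := |c| + 1) (by positivity) h1
    have h3 := neg_abs_le c
    have h4 : c = Curv2.euler k X E := by simp only [c, Curv2.deg]; ring
    nlinarith
  obtain ⟨L₀, j, hL₀, hj, -⟩ := exists_hom_of_twist_section k hN
    (Euler.nontrivial_H0_of_euler_pos k RegCurve.dim.le (Euler.isCoh_of_isFinLocFree (FinCov.isFinLocFree_of_rank hT)) hpos)
  haveI := mono_of_ne_zero_invertible k CurveRR.pid_stalk hL₀ (FinCov.isFinLocFree_of_rank hE) hj
  obtain ⟨V, u, i, -, hi, -, hV, hC⟩ := ParHilb.exists_saturation_curve k RegCurve.dim.le CurveRR.pid_stalk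
    (Euler.isFinLocFreeOfRank_one_of_invertible hL₀) (FinCov.isFinLocFree_of_rank hE) j
  haveI := hi
  have hEc := Euler.isCoh_of_isFinLocFree (FinCov.isFinLocFree_of_rank hE)
  have hVc := Euler.isCoh_of_isFinLocFree (FinCov.isFinLocFree_of_rank hV)
  have hQc := QCoh.isCoh_cokernel i hVc hEc
  have hg : Euler.grank E = Euler.grank V + Euler.grank (cokernel i) :=
    Euler.grank_additive (Euler.cokernel_shortExact i) hEc
  rw [Euler.grank_of_locFree hE, Euler.grank_of_locFree hV] at hg
  refine ⟨V, i, isInvertible_of_rank_one hV, hi, ?_⟩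
  have h := Euler.isFinLocFreeOfRank_of_mono CurveRR.pid_stalk (𝟙 (cokernel i)) hQc hC
  rwa [show Euler.grank (cokernel i) = r - 1 by omega] at h

include k in
/-- The dual of an invertible module. -/
theorem dual_line {L : X.Modules} (hL : PicF.IsInvertible L) :
    FlatMod.IsFinLocFreeOfRank 1 (dual L) ∧ Euler.degree k (dual L) = - Euler.degree k L := by
  haveI := Euler.isNoetherian_of_proper (X := X) k
  have hL1 := Euler.isFinLocFreeOfRank_one_of_invertible hL
  have hLl := FinCov.isFinLocFree_of_rank hL1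
  have hO1 := Euler.isFinLocFreeOfRank_one_of_invertible (Euler.isInvertible_structure (X := X))
  have hD := isFinLocFree_iHom hLl (FinCov.isFinLocFree_of_rank hO1)
  have hD' := Euler.isFinLocFreeOfRank_of_mono CurveRR.pid_stalk (𝟙 (dual L)) (Euler.isCoh_of_isFinLocFree hD) hD
  obtain ⟨e⟩ := LocFreeHom.nonempty_iHom_self_iso hLl fun x => (hL x).imp fun U hU => ⟨hU.1, hU.2.map fun e => ((Scheme.Modules.restrictFunctorIsoPullback U.ι).app L).symm ≪≫ e⟩
  haveI := isIso_θ hLl L
  have i : (Euler.tF L).obj (dual L) ≅ Coh.structureModule X :=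
    br (dual L) L ≪≫ asIso (θ L L) ≪≫ e.symm
  have hm : Euler.grank (dual L) = 1 := by
    rw [← Euler.grank_of_locFree (isFinLocFreeOfRank_tF hD' hL), Euler.grank_of_iso i, Euler.grank_of_locFree hO1]
  rw [hm] at hD'
  refine ⟨hD', ?_⟩
  have h := deg_tF k hD' hL
  rw [Euler.deg_of_iso k i 1, Euler.deg_structure k, Euler.deg_eq_degree k hD', Euler.deg_eq_degree k hL1] at h
  push_cast at h
  linarith

include k in
theorem dual_bound : ∀ (r : ℕ) (E : X.Modules), FlatMod.IsFinLocFreeOfRank r E →
    Euler.grank (dual E) ≤ r ∧ (Euler.grank (dual E) = r → Euler.degree k (dual E) = - Euler.degree k E) := by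
  haveI := Euler.isNoetherian_of_proper (X := X) k
  have hO : FlatMod.IsFinLocFree (Coh.structureModule X) :=
    FinCov.isFinLocFree_of_rank (Euler.isFinLocFreeOfRank_one_of_invertible Euler.isInvertible_structure)
  intro r
  induction r with
  | zero =>
    intro E hE
    have hz : IsZero (dual E) := by
      refine (IsZero.iff_id_eq_zero _).2 (LocFreeHom.hom_ext ?_)
      have hu : IsZero ((LocFreeHom.T E).obj (dual E)) :=
        ((DCoh.tensorBi (X := X)).flip.obj (dual E)).map_isZero (Euler.isZero_of_rank_zero hE)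
      exact hu.eq_of_src _ _
    have hz0 : FlatMod.IsFinLocFreeOfRank 0 (dual E) := fun y =>
      ⟨⊤, trivial, ⟨((Scheme.Modules.restrictFunctor (⊤ : X.Opens).ι).map_isZero hz).iso (Euler.isZero_freeMod_zero _)⟩⟩
    rw [Euler.grank_of_locFree hz0, Euler.degree_of_isZero k hz,
      Euler.degree_of_isZero k (Euler.isZero_of_rank_zero hE)]
    exact ⟨le_rfl, fun _ => by simp⟩
  | succ r ih =>
    intro E hE
    obtain ⟨L, i, hL, hi, hQ⟩ := exists_line_subbundle k r.succ_pos hE
    haveI := hi
    rw [show r.succ - 1 = r from rfl] at hQ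
    obtain ⟨hQg, hQd⟩ := ih _ hQ
    obtain ⟨hL1, hLd⟩ := dual_line k hL
    have hEl := FinCov.isFinLocFree_of_rank hE
    have hDEl := isFinLocFree_iHom hEl hO
    have hDE := Euler.isCoh_of_isFinLocFree hDEl
    have hDL := Euler.isCoh_of_isFinLocFree (FinCov.isFinLocFree_of_rank hL1)
    let π := cokernel.π i
    let a := hMap i (Coh.structureModule X)
    have hDQ := Euler.isCoh_of_isFinLocFree (isFinLocFree_iHom (FinCov.isFinLocFree_of_rank hQ) hO)
    haveI : Mono (hMap π (Coh.structureModule X)) := mono_hMap_of_epi π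
    have hKc := QCoh.isCoh_kernel a hDE hDL
    have hJc : Coh.IsCoh (Abelian.image a) := QCoh.isCoh_kernel _ hDL (QCoh.isCoh_cokernel a hDE hDL)
    let T := ShortComplex.mk (kernel.ι a) (Abelian.factorThruImage a)
      (by rw [← cancel_mono (Abelian.image.ι a), Category.assoc, Abelian.image.fac, kernel.condition, zero_comp])
    have hT : T.ShortExact :=
      { exact := ShortComplex.exact_of_f_is_kernel _ (KernelFork.IsLimit.ofι' _ _ fun g hg => ⟨kernel.lift a g
          (by rw [← Abelian.image.fac a, ← Category.assoc, hg, zero_comp]), kernel.lift_ι _ _ _⟩) }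
    have hgr : Euler.grank (dual E) = Euler.grank (kernel a) + Euler.grank (Abelian.image a) :=
      Euler.grank_additive (S := T) hT hDE
    have hdd : Euler.degree k (dual E) = Euler.degree k (kernel a) + Euler.degree k (Abelian.image a) :=
      Euler.degree_additive k (S := ShortComplex.mk (kernel.ι a) (Abelian.factorThruImage a) T.zero) hT hKc hDE hJc
    obtain ⟨t, ht⟩ := exists_factor_hMap i π (cokernel.condition i) (cokernelIsCokernel i)
      (kernel.ι a) (kernel.condition a)
    haveI : Mono t := mono_of_mono_fac ht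
    have hgK : Euler.grank (kernel a) ≤ Euler.grank (dual (cokernel i)) := Euler.grank_le_of_mono t hDQ
    have hgJ := Euler.grank_le_of_mono (Abelian.image.ι a) hDL
    rw [Euler.grank_of_locFree hL1] at hgJ
    refine ⟨by omega, fun heq => ?_⟩
    have hQe : Euler.grank (dual (cokernel i)) = r := by omega
    have hgK' : Euler.grank (kernel a) = Euler.grank (dual (cokernel i)) := by omega
    have hdK : Euler.degree k (kernel a) ≤ Euler.degree k (dual (cokernel i)) :=
      (Euler.degree_le_of_mono k RegCurve.dim.le t hKc hDQ hgK').1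
    have hdK' : Euler.degree k (dual (cokernel i)) ≤ Euler.degree k (kernel a) := by
      haveI : Mono (kernel.lift a (hMap π (Coh.structureModule X)) (hMap_comp_eq_zero i π (cokernel.condition i))) :=
        mono_of_mono_fac (kernel.lift_ι a (hMap π (Coh.structureModule X)) (hMap_comp_eq_zero i π (cokernel.condition i)))
      exact (Euler.degree_le_of_mono k RegCurve.dim.le
        (kernel.lift a (hMap π (Coh.structureModule X)) (hMap_comp_eq_zero i π (cokernel.condition i))) hDQ hKc hgK'.symm).1
    have hdJ : Euler.degree k (Abelian.image a) = Euler.degree k (dual L) := by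
      let p := Abelian.factorThruImage a
      let ι := Abelian.image.ι a
      have hJ := Euler.isFinLocFreeOfRank_of_mono CurveRR.pid_stalk ι hJc (FinCov.isFinLocFree_of_rank hL1)
      rw [show Euler.grank (Abelian.image a) = 1 by omega] at hJ
      obtain ⟨hJ1, hJd⟩ := dual_line k (isInvertible_of_rank_one hJ)
      haveI := isIso_bidualMap hEl
      haveI := isIso_bidualMap (FinCov.isFinLocFree_of_rank hQ)
      haveI := isIso_bidualMap (FinCov.isFinLocFree_of_rank (Euler.isFinLocFreeOfRank_one_of_invertible hL))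
      haveI : Mono (hMap p (Coh.structureModule X)) := mono_hMap_of_epi p
      let φ : dual (Abelian.image a) ⟶ E := hMap p (Coh.structureModule X) ≫ inv (bidualMap E)
      have hp : hMap π (Coh.structureModule X) ≫ p = 0 := by
        rw [← cancel_mono (Abelian.image.ι a), Category.assoc, zero_comp, Abelian.image.fac]
        exact hMap_comp_eq_zero i π (cokernel.condition i)
      have hφ : φ ≫ π = 0 := by
        rw [← cancel_mono (bidualMap (cokernel i)), zero_comp, Category.assoc, ← bidualMap_natural,
          Category.assoc, IsIso.inv_hom_id_assoc, bidualFun, ← hMap_comp, hp]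
        exact map_zero (hMapHom _ _ (Coh.structureModule X))
      have hS := Euler.cokernel_shortExact i
      obtain ⟨l, hl⟩ : ∃ l : dual (Abelian.image a) ⟶ L, l ≫ i = φ := ⟨hS.exact.lift φ hφ, hS.exact.lift_f φ hφ⟩
      haveI : Mono l := mono_of_mono_fac hl
      haveI : Mono (hMap ι (Coh.structureModule X)) := mono_hMap_of_generic k ι (FinCov.isFinLocFree_of_rank hJ)
        (FinCov.isFinLocFree_of_rank hL1) (Euler.surjective_generic_of_mono ι hDL
          (by rw [Euler.grank_of_locFree hJ, Euler.grank_of_locFree hL1]))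
      have hLc := Euler.isCoh_of_isInvertible hL
      have hJ1c := Euler.isCoh_of_isFinLocFree (FinCov.isFinLocFree_of_rank hJ1)
      have hgL := Euler.grank_of_locFree (Euler.isFinLocFreeOfRank_one_of_invertible hL)
      have l1 := (Euler.degree_le_of_mono k RegCurve.dim.le l hJ1c hLc
        (by rw [Euler.grank_of_locFree hJ1, hgL])).1
      have l2 : Euler.degree k L ≤ Euler.degree k (dual (Abelian.image a)) := (Euler.degree_le_of_mono k RegCurve.dim.le (bidualMap L ≫ hMap ι (Coh.structureModule X)) hLc hJ1c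
        (by rw [Euler.grank_of_locFree hJ1, hgL])).1
      show Euler.degree k (Abelian.image a) = _
      omega
    have hQd' := hQd hQe
    have hLc := Euler.isCoh_of_isInvertible hL
    have hEc := Euler.isCoh_of_isFinLocFree hEl
    have d1 : Euler.degree k E = Euler.degree k L + Euler.degree k (cokernel i) :=
      (Euler.degree_quotient k _ _ _ (Euler.cokernel_shortExact i) hLc hEc
        (Euler.isCoh_of_isFinLocFree (FinCov.isFinLocFree_of_rank hQ))).1
    omega

include k in
/-- The dual has the same rank and the opposite degree. -/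
theorem dual_data {r : ℕ} {E : X.Modules} (hE : FlatMod.IsFinLocFreeOfRank r E) :
    FlatMod.IsFinLocFreeOfRank r (dual E) ∧ Curv2.deg k X (dual E) r = - Curv2.deg k X E r := by
  haveI := Euler.isNoetherian_of_proper (X := X) k
  have hEl := FinCov.isFinLocFree_of_rank hE
  have hD := isFinLocFree_iHom hEl (FinCov.isFinLocFree_of_rank
    (Euler.isFinLocFreeOfRank_one_of_invertible (Euler.isInvertible_structure (X := X))))
  have hD' := Euler.isFinLocFreeOfRank_of_mono CurveRR.pid_stalk (𝟙 (dual E)) (Euler.isCoh_of_isFinLocFree hD) hD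
  haveI := isIso_bidualMap hEl
  obtain ⟨h1, h2⟩ := dual_bound k r E hE
  obtain ⟨h3, -⟩ := dual_bound k _ (dual E) hD'
  rw [← Euler.grank_of_iso (asIso (bidualMap E)), Euler.grank_of_locFree hE] at h3
  have hm : Euler.grank (dual E) = r := le_antisymm h1 h3
  have h2' := h2 hm
  rw [hm] at hD'
  refine ⟨hD', ?_⟩
  rw [Euler.deg_eq_degree k hD', Euler.deg_eq_degree k hE]
  omega

include k in
/-- Rank and degree of the sheaf of homomorphisms. -/
theorem iHom_data {q g : ℕ} {Q G : X.Modules} (hQ : FlatMod.IsFinLocFreeOfRank q Q)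
    (hG : FlatMod.IsFinLocFreeOfRank g G) :
    FlatMod.IsFinLocFreeOfRank (q * g) (iHom Q G) ∧
      Curv2.deg k X (iHom Q G) (q * g) = q * Curv2.deg k X G g - g * Curv2.deg k X Q q := by
  haveI := Euler.isNoetherian_of_proper (X := X) k
  obtain ⟨hD, hDd⟩ := dual_data k hQ
  have hGl := FinCov.isFinLocFree_of_rank hG
  have hN := isFinLocFree_iHom (FinCov.isFinLocFree_of_rank hQ) hGl
  have hN' := Euler.isFinLocFreeOfRank_of_mono CurveRR.pid_stalk (𝟙 (iHom Q G)) (Euler.isCoh_of_isFinLocFree hN) hN
  haveI := isIso_θ (FinCov.isFinLocFree_of_rank hQ) G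
  let e : (Euler.tF (dual Q)).obj G ≅ iHom Q G := asIso (θ Q G)
  have hm : Euler.grank (iHom Q G) = q * g := by
    rw [← Euler.grank_of_iso e]
    obtain ⟨ψ⟩ := Euler.nonempty_stalk_equiv_pi (M := G) hD (genericPoint X)
    letI : Field (X.presheaf.stalk (genericPoint X)) := CurvePoints.isField_stalk_genericPoint.toField
    haveI := Euler.stalk_finite (Euler.isCoh_of_isFinLocFree hGl) (genericPoint X)
    have hg' := Euler.grank_of_locFree hG
    simp only [Euler.grank] at hg' ⊢
    rw [ψ.finrank_eq, Module.finrank_pi_fintype, Finset.sum_const, Finset.card_univ, Fintype.card_fin,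
      smul_eq_mul, hg']
  rw [hm] at hN'
  refine ⟨hN', ?_⟩
  obtain ⟨U, hU, ⟨φ⟩⟩ := Euler.exists_trivial_genericPoints k hG
  have h := Euler.euler_tF k RegCurve.dim.le hD (Euler.isCoh_of_isFinLocFree hGl) hU φ
  rw [Euler.euler_of_iso k e, hDd] at h
  simp only [Curv2.deg] at h ⊢
  rw [h]
  push_cast
  ring

include k in
/-- The dual of a semistable bundle is semistable. -/
theorem subLe_dual {r : ℕ} {E : X.Modules} (hE : FlatMod.IsFinLocFreeOfRank r E)
    (hss : Euler.SubLe k E (Curv2.deg k X E r) r) :
    Euler.SubLe k (dual E) (- Curv2.deg k X E r) r := by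
  haveI := Euler.isNoetherian_of_proper (X := X) k
  obtain ⟨hD, hDd⟩ := dual_data k hE
  intro G a i hi ha hG
  haveI := hi
  obtain ⟨V, u, ι, hu, hι, -, hV, hC⟩ := ParHilb.exists_saturation_curve k RegCurve.dim.le CurveRR.pid_stalk hG
    (FinCov.isFinLocFree_of_rank hD) i
  haveI := hu
  haveI := hι
  have hGc := Euler.isCoh_of_isFinLocFree (FinCov.isFinLocFree_of_rank hG)
  have hVc := Euler.isCoh_of_isFinLocFree (FinCov.isFinLocFree_of_rank hV)
  have hDc := Euler.isCoh_of_isFinLocFree (FinCov.isFinLocFree_of_rank hD)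
  have hQc := QCoh.isCoh_cokernel ι hVc hDc
  have hQ := Euler.isFinLocFreeOfRank_of_mono CurveRR.pid_stalk (𝟙 (cokernel ι)) hQc hC
  obtain ⟨d1, g1⟩ := Euler.degree_quotient k _ _ _ (Euler.cokernel_shortExact ι) hVc hDc hQc
  rw [Euler.grank_of_locFree hD, Euler.grank_of_locFree hV] at g1
  rw [← Euler.deg_eq_degree k hD, ← Euler.deg_eq_degree k hV, hDd, ← Euler.deg_eq_degree k hQ] at d1
  obtain ⟨hR, hRd⟩ := dual_data k hQ
  haveI := isIso_bidualMap (FinCov.isFinLocFree_of_rank hE)
  haveI : Mono (hMap (cokernel.π ι) (Coh.structureModule X)) := mono_hMap_of_epi _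
  have h := hss.degree (hMap (cokernel.π ι) (Coh.structureModule X) ≫ inv (bidualMap E)) inferInstance hR
  rw [← Euler.deg_eq_degree k hR, hRd] at h
  have hle := (Euler.degree_le_of_mono k RegCurve.dim.le u hGc hVc
    (by rw [Euler.grank_of_locFree hG, Euler.grank_of_locFree hV])).1
  rw [← Euler.deg_eq_degree k hG, ← Euler.deg_eq_degree k hV] at hle
  have hr0 : (0 : ℤ) ≤ r := Int.natCast_nonneg r
  have h5 := mul_le_mul_of_nonneg_right hle hr0
  have h6 : Curv2.deg k X (cokernel ι) (Euler.grank (cokernel ι)) =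
      - Curv2.deg k X E r - Curv2.deg k X V a := by omega
  rw [h6] at h
  have h7 : ((Euler.grank (cokernel ι) : ℕ) : ℤ) = (r : ℤ) - a := by omega
  rw [h7] at h
  linarith

end GrothLib.CurveMult
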