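import Groth.Agent.Lib.CurveMult.GenusOneSemistable
import Groth.Agent.Lib.CurveMult.DualDeg
import Groth.Agent.Lib.CMReg.Free

/-!
# Semistable bundles on a curve of genus one inside sums of a line bundle; slopes in tensor products
-/

set_option linter.style.haveILetI false
set_option backward.isDefEq.respectTransparency false

universe u

open CategoryTheory CategoryTheory.Limits AlgebraicGeometry
open GrothLib.CurveRR (RegCurve)
open GrothLib.LocFreeHom GrothLib.LocFreeDual20 GrothLib.OX
open GrothLib.QCoh (stalkLin)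

noncomputable section

namespace GrothLib.CurveMult

attribute [local instance] LocFreeHom.hasSheafHom

variable (k : Type u) [Field k] {X : Scheme.{u}} [X.Over (Spec (CommRingCat.of k))]
variable [IsIntegral X] [IsProper (X ↘ Spec (CommRingCat.of k))] [RegCurve X]

include k in
/-- A semistable bundle on a curve of genus one embeds into copies of any line bundle of larger degree. -/
theorem exists_mono_into_copies (h0 : Module.finrank k (Coh.HH X (Coh.structureModule X) 0) = 1)
    (hg : Curv2.genus k X = 1) {F L : X.Modules} {r : ℕ} (hr : 0 < r) (hF : FlatMod.IsFinLocFreeOfRank r F)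
    (hss : Euler.SubLe k F (Curv2.deg k X F r) r) (hL : PicF.IsInvertible L)
    (hdeg : Curv2.deg k X F r < (Curv2.deg k X L 1 - 1) * (r : ℤ)) :
    ∃ (M : ℕ), 0 < M ∧ ∃ j : F ⟶ ∐ fun _ : Fin M => L, Mono j := by
  haveI := Euler.isNoetherian_of_proper (X := X) k
  obtain ⟨N, hN, hNd, ⟨e⟩, ⟨e'⟩⟩ := exists_inverse k RegCurve.dim.le hL
  let O := Coh.structureModule X
  let G := (Euler.tF N).obj F
  have hG := isFinLocFreeOfRank_tF hF hN
  have hGd := deg_tF k hF hN
  rw [hNd] at hGd
  have hGss : Euler.SubLe k G (Curv2.deg k X G r) r := fun G' a i hi ha hG' => by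
    obtain ⟨G'', i', hi', hG'', hd'⟩ := exists_untwist k hN hG' i hi
    have h := hss G'' a i' hi' ha hG''
    rw [hd', hNd] at h
    rw [hGd]
    linarith
  obtain ⟨hE, hEd⟩ := dual_data k hG
  have hEss := subLe_dual k hG hGss
  rw [← hEd] at hEss
  have hm0 : (r : ℤ) < Curv2.deg k X (dual G) r := by rw [hEd, hGd]; linarith
  obtain ⟨m, hm⟩ : ∃ m : ℕ, Curv2.deg k X (dual G) r = m := Int.eq_ofNat_of_zero_le (by omega)
  have hEl := FinCov.isFinLocFree_of_rank hE
  have hEc := Euler.isCoh_of_isFinLocFree hEl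
  haveI := hEc.1
  haveI := Euler.finiteDimensional_HH k hEc 0
  haveI : Subsingleton (Coh.HH X (dual G) 1) := by
    refine CurveRR.H1_subsingleton_of_slope k h0 hE fun K rK a ha e hK => ?_
    have h := Euler.SubLe.degree hEss a ha hK
    rw [hg, ← Euler.deg_eq_degree k hE]
    rw [show (rK : ℤ) = r - 1 by omega] at h
    push_cast
    nlinarith
  have hdim : Module.finrank k (Coh.HH X (dual G) 0) = m := by
    have h := hm
    rw [Curv2.deg, Euler.euler_eq_sub k RegCurve.dim.le (dual G), euler_structure_zero' k h0 hg,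
      Module.finrank_zero_of_subsingleton (M := Coh.HH X (dual G) 1)] at h
    simp only [Nat.cast_zero, sub_zero, mul_zero] at h
    exact_mod_cast h
  let bE := Module.finBasisOfFinrankEq k (Coh.HH X (dual G) 0) hdim
  let σ : FlatMod.freeMod X m ⟶ dual G := Sigma.desc fun i => FinCov.homOfSection (ProjCoh.H0top _ (bE i))
  have hsurj : Function.Surjective (Cohom.hhMap k σ 0) := by
    rw [← LinearMap.range_eq_top, ← top_le_iff, ← bE.span_eq, Submodule.span_le]
    rintro _ ⟨i, rfl⟩
    refine ⟨Cohom.hhMap k (Sigma.ι (fun _ : Fin m => O) i) 0 (oneH0 X), ?_⟩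
    rw [← Euler.hhMap_comp]
    simp only [σ, Sigma.ι_desc]
    exact hhMap_homOfSection_oneH0 k (bE i)
  have hfree := K0Sub.isFinLocFreeOfRank_freeMod (X := X) m
  have hfl := FinCov.isFinLocFree_of_rank hfree
  have hfc := Euler.isCoh_of_isFinLocFree hfl
  have hIc : Coh.IsCoh (Abelian.image σ) := QCoh.isCoh_kernel _ hEc (QCoh.isCoh_cokernel σ hfc hEc)
  have hI := Euler.isFinLocFreeOfRank_of_mono CurveRR.pid_stalk (Abelian.image.ι σ) hIc hEl
  have hρ : Euler.grank (Abelian.image σ) = r := by
    have h1 := finrank_H0_mul_le' k h0 hg (show (r : ℤ) ≤ Curv2.deg k X (dual G) r by omega) hEss _ _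
      (Abelian.image.ι σ) inferInstance hI
    haveI := Euler.finiteDimensional_HH k hIc 0
    have h2 : m ≤ Module.finrank k (Coh.HH X (Abelian.image σ) 0) := by
      refine hdim.symm.le.trans ?_
      have hs : Function.Surjective (Cohom.hhMap k (Abelian.image.ι σ) 0) := fun z => by
        obtain ⟨w, rfl⟩ := hsurj z
        exact ⟨Cohom.hhMap k (Abelian.factorThruImage σ) 0 w, by rw [← Euler.hhMap_comp, Abelian.image.fac]⟩
      have := LinearMap.finrank_range_le (Cohom.hhMap k (Abelian.image.ι σ) 0)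
      rwa [LinearMap.range_eq_top.2 hs, finrank_top] at this
    have h3 := Euler.grank_le_of_mono (Abelian.image.ι σ) hEc
    rw [Euler.grank_of_locFree hE] at h3
    rw [hm] at h1 hm0
    have h4 : (m : ℤ) * r ≤ (m : ℤ) * Euler.grank (Abelian.image σ) :=
      le_trans (mul_le_mul_of_nonneg_right (by exact_mod_cast h2) (Int.natCast_nonneg r)) h1
    have h5 := le_of_mul_le_mul_left h4 (by omega)
    omega
  have hη : Function.Surjective (stalkLin σ (genericPoint X)) := fun y => by
    obtain ⟨z, rfl⟩ := Euler.surjective_generic_of_mono (Abelian.image.ι σ) hEc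
      (by rw [hρ, Euler.grank_of_locFree hE]) y
    obtain ⟨w, rfl⟩ := QCoh.stalkLin_surjective (Abelian.factorThruImage σ) (genericPoint X) z
    exact ⟨w, by rw [← QCoh.stalkLin_comp, Abelian.image.fac]⟩
  haveI := mono_hMap_of_generic k σ hfl hEl hη
  haveI := isIso_bidualMap (FinCov.isFinLocFree_of_rank hG)
  obtain ⟨u⟩ := nonempty_iHom_unit_iso (X := X) O
  let c : dual (FlatMod.freeMod X m) ≅ FlatMod.freeMod X m := iHomFreeIso m O ≪≫ Sigma.mapIso fun _ => u
  let j₀ : G ⟶ FlatMod.freeMod X m := bidualMap G ≫ hMap σ O ≫ c.hom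
  haveI := isEquivalence_tF' k hL
  let v : F ≅ (Euler.tF L).obj G := ((twistInverseIso e').app F).symm
  let t : (Euler.tF L).obj (FlatMod.freeMod X m) ≅ ∐ fun _ : Fin m => L :=
    CMReg.tensorSigmaIso (fun _ : Fin m => O) L ≪≫ Sigma.mapIso fun _ => OX.tensorUnitLeftIso L
  haveI : Mono ((Euler.tF L).map j₀) := inferInstance
  exact ⟨m, by omega, v.hom ≫ (Euler.tF L).map j₀ ≫ t.hom, inferInstance⟩

include k in
/-- A jointly injective family of maps bounds the slope. -/
theorem deg_le_of_jointly_mono {E : X.Modules} (hE : FlatMod.IsFinLocFree E) {ν : ℚ}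
    (hν : ∀ (G : X.Modules) (a : ℕ) (i : G ⟶ E), Mono i → FlatMod.IsFinLocFreeOfRank a G →
      (Curv2.deg k X G a : ℚ) ≤ a * ν) :
    ∀ (M : ℕ) (G : X.Modules) (a : ℕ) (φ : Fin M → (G ⟶ E)), FlatMod.IsFinLocFreeOfRank a G →
      (∀ {T : X.Modules} (t : T ⟶ G), (∀ i, t ≫ φ i = 0) → t = 0) → (Curv2.deg k X G a : ℚ) ≤ a * ν := by
  haveI := Euler.isNoetherian_of_proper (X := X) k
  have hEc := Euler.isCoh_of_isFinLocFree hE
  intro M
  induction M with
  | zero =>
    intro G a φ hG hj
    have hz : IsZero G := (IsZero.iff_id_eq_zero G).2 (hj (𝟙 G) fun i => i.elim0)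
    have h00 : FlatMod.IsFinLocFreeOfRank 0 G := fun y =>
      ⟨⊤, trivial, ⟨((Scheme.Modules.restrictFunctor (⊤ : X.Opens).ι).map_isZero hz).iso (Euler.isZero_freeMod_zero _)⟩⟩
    have ha : a = 0 := (Euler.grank_of_locFree hG).symm.trans (Euler.grank_of_locFree h00)
    rw [Euler.deg_eq_degree k hG, Euler.degree_of_isZero k hz, ha]
    simp
  | succ M ih =>
    intro G a φ hG hj
    let f := φ (Fin.last M)
    have hGc := Euler.isCoh_of_isFinLocFree (FinCov.isFinLocFree_of_rank hG)
    let T := ShortComplex.mk (kernel.ι f) (Abelian.factorThruImage f)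
      (by rw [← cancel_mono (Abelian.image.ι f), Category.assoc, Abelian.image.fac, kernel.condition, zero_comp])
    have hT : T.ShortExact :=
      { exact := ShortComplex.exact_of_f_is_kernel _ (KernelFork.IsLimit.ofι' _ _ fun g hg => ⟨kernel.lift f g
          (by rw [← Abelian.image.fac f, ← Category.assoc, hg, zero_comp]), kernel.lift_ι _ _ _⟩) }
    have hKc := QCoh.isCoh_kernel f hGc hEc
    have hJc : Coh.IsCoh (Abelian.image f) := QCoh.isCoh_kernel _ hEc (QCoh.isCoh_cokernel f hGc hEc)
    have hK := Euler.isFinLocFreeOfRank_of_mono CurveRR.pid_stalk (kernel.ι f) hKc (FinCov.isFinLocFree_of_rank hG)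
    have hJ := Euler.isFinLocFreeOfRank_of_mono CurveRR.pid_stalk (Abelian.image.ι f) hJc hE
    have hgr : Euler.grank G = Euler.grank (kernel f) + Euler.grank (Abelian.image f) :=
      Euler.grank_additive (S := T) hT hGc
    have hdd : Euler.degree k G = Euler.degree k (kernel f) + Euler.degree k (Abelian.image f) :=
      Euler.degree_additive k (S := ShortComplex.mk (kernel.ι f) (Abelian.factorThruImage f) T.zero) hT hKc hGc hJc
    rw [Euler.grank_of_locFree hG] at hgr
    rw [← Euler.deg_eq_degree k hG, ← Euler.deg_eq_degree k hK, ← Euler.deg_eq_degree k hJ] at hdd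
    have h1 := ih (kernel f) _ (fun i => kernel.ι f ≫ φ i.castSucc) hK fun t ht => by
      rw [← cancel_mono (kernel.ι f), zero_comp]
      refine hj _ fun i => ?_
      refine Fin.lastCases ?_ (fun i => ?_) i
      · rw [Category.assoc, show kernel.ι f ≫ φ (Fin.last M) = 0 from kernel.condition f, comp_zero]
      · rw [Category.assoc]; exact ht i
    have h2 := hν _ _ (Abelian.image.ι f) inferInstance hJ
    have e1 : (a : ℚ) = Euler.grank (kernel f) + Euler.grank (Abelian.image f) := by exact_mod_cast hgr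
    have e2 : (Curv2.deg k X G a : ℚ) = Curv2.deg k X (kernel f) (Euler.grank (kernel f)) +
        Curv2.deg k X (Abelian.image f) (Euler.grank (Abelian.image f)) := by exact_mod_cast hdd
    rw [e1, e2]
    linarith

include k in
/-- Slopes of submodules of a finite sum of copies. -/
theorem deg_le_of_mono_sigma {E : X.Modules} (hE : FlatMod.IsFinLocFree E) {ν : ℚ}
    (hν : ∀ (G : X.Modules) (a : ℕ) (i : G ⟶ E), Mono i → FlatMod.IsFinLocFreeOfRank a G →
      (Curv2.deg k X G a : ℚ) ≤ a * ν)
    {M : ℕ} {G : X.Modules} {a : ℕ} (hG : FlatMod.IsFinLocFreeOfRank a G) (j : G ⟶ ∐ fun _ : Fin M => E) [Mono j] :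
    (Curv2.deg k X G a : ℚ) ≤ a * ν := by
  let p : Fin M → ((∐ fun _ : Fin M => E) ⟶ E) := fun i => Sigma.desc fun l => if l = i then 𝟙 E else 0
  have htot : ∑ i, p i ≫ Sigma.ι (fun _ : Fin M => E) i = 𝟙 _ := by
    refine Sigma.hom_ext _ _ fun l => ?_
    rw [Preadditive.comp_sum, Finset.sum_eq_single l]
    · simp [p]
    · intro i _ hi
      simp [p, Ne.symm hi]
    · simp
  refine deg_le_of_jointly_mono k hE hν M G a (fun i => j ≫ p i) hG fun t ht => ?_
  rw [← cancel_mono j, zero_comp, ← Category.comp_id (t ≫ j), ← htot, Preadditive.comp_sum]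
  exact Finset.sum_eq_zero fun i _ => by
    rw [← Category.assoc, Category.assoc t j, ht i, zero_comp]

include k in
/-- Slopes of submodules of a line bundle. -/
theorem deg_le_line {L : X.Modules} (hL : PicF.IsInvertible L) (G : X.Modules) (a : ℕ) (i : G ⟶ L) (hi : Mono i)
    (hG : FlatMod.IsFinLocFreeOfRank a G) : (Curv2.deg k X G a : ℚ) ≤ a * (Curv2.deg k X L 1 : ℚ) := by
  haveI := Euler.isNoetherian_of_proper (X := X) k
  have hL1 := Euler.isFinLocFreeOfRank_one_of_invertible hL
  have hss : Euler.SubLe k L (Curv2.deg k X L 1) 1 :=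
    Euler.subLe_of_subLt k RegCurve.dim.le hL1 fun G a i hi ha ha1 _ => absurd ha1 (by omega)
  have h := hss.degree i hi hG
  rw [← Euler.deg_eq_degree k hG, Nat.cast_one, mul_one] at h
  rw [mul_comm]
  exact_mod_cast h

include k in
/-- A submodule of the tensor product of two bundles embedded in copies of line bundles. -/
theorem deg_le_of_mono_tensor {F F' L L' G : X.Modules} (hF' : FlatMod.IsFinLocFree F')
    (hL : PicF.IsInvertible L) (hL' : PicF.IsInvertible L') {M M' : ℕ} (j : F ⟶ ∐ fun _ : Fin M => L) [Mono j]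
    (j' : F' ⟶ ∐ fun _ : Fin M' => L') [Mono j'] {a : ℕ} (hG : FlatMod.IsFinLocFreeOfRank a G)
    (i : G ⟶ CohB1.tensorMod F F') [Mono i] :
    (Curv2.deg k X G a : ℚ) ≤ a * ((Curv2.deg k X L 1 + Curv2.deg k X L' 1 : ℤ) : ℚ) := by
  haveI := Euler.isNoetherian_of_proper (X := X) k
  haveI := isEquivalence_tF' k hL
  have hL1 := Euler.isFinLocFreeOfRank_one_of_invertible hL
  haveI : Mono ((Euler.tF F').map j) :=
    (OX.tensor_map_shortExact (OX.flat_of_isFinLocFree hF') (Euler.cokernel_shortExact j)).mono_f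
  let u : G ⟶ ∐ fun _ : Fin M => (Euler.tF L).obj F' :=
    i ≫ (Euler.tF F').map j ≫ (CMReg.tensorSigmaIso (fun _ : Fin M => L) F' ≪≫
      Sigma.mapIso fun _ => br L F').hom
  haveI : Mono u := inferInstance
  refine deg_le_of_mono_sigma k
    (FinCov.isFinLocFree_of_rank (isFinLocFreeOfRank_tF
      (Euler.isFinLocFreeOfRank_of_mono CurveRR.pid_stalk (𝟙 F') (Euler.isCoh_of_isFinLocFree hF') hF') hL))
    (fun G' a' i' hi' hG' => ?_) hG u
  haveI := hi'
  have hL'L : PicF.IsInvertible ((Euler.tF L).obj L') := isInvertible_of_rank_one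
    (isFinLocFreeOfRank_tF (Euler.isFinLocFreeOfRank_one_of_invertible hL') hL)
  let u' : G' ⟶ ∐ fun _ : Fin M' => (Euler.tF L).obj L' :=
    i' ≫ (Euler.tF L).map j' ≫ (CMReg.tensorSigmaIso (fun _ : Fin M' => L') L).hom
  haveI : Mono u' := inferInstance
  have h := deg_le_of_mono_sigma k (FinCov.isFinLocFree_of_rank (Euler.isFinLocFreeOfRank_one_of_invertible hL'L))
    (deg_le_line k hL'L) hG' u'
  rw [deg_tF k (Euler.isFinLocFreeOfRank_one_of_invertible hL') hL] at h
  push_cast at h ⊢
  linarith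

end GrothLib.CurveMult
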