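import Groth.Agent.Lib.Euler.Scalar
import Groth.Agent.Lib.HomSh.Coherent
import Groth.Agent.Lib.HomSh.QCoh
import Mathlib.CategoryTheory.Preadditive.Basic
import Mathlib.CategoryTheory.Idempotents.Basic
import Mathlib.FieldTheory.IsAlgClosed.Basic

/-!
# The endomorphism algebra of a coherent sheaf on a proper scheme
-/

set_option linter.style.haveILetI false
set_option backward.isDefEq.respectTransparency false

universe u

open CategoryTheory CategoryTheory.Limits AlgebraicGeometry TopologicalSpace Opposite Polynomial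
open GrothLib.Euler (smulMod)

noncomputable section

namespace GrothLib.CurveMult

variable (k : Type u) [Field k] {X : Scheme.{u}} [X.Over (Spec (CommRingCat.of k))]

/-- The constant endomorphisms. -/
def endScalar (E : X.Modules) : k →+* End E where
  toFun c := smulMod E (Coh.toGlobal (X ↘ Spec (CommRingCat.of k)) c)
  map_one' := Scheme.Modules.hom_ext _ _ fun U => by
    ext m
    refine (Euler.smulMod_app _ _ _ _).trans ?_
    rw [map_one, map_one, one_smul]
    rfl
  map_mul' a b := Scheme.Modules.hom_ext _ _ fun U => by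
    ext m
    refine (Euler.smulMod_app _ _ _ _).trans ?_
    rw [map_mul, map_mul, mul_smul]
    rfl
  map_zero' := Scheme.Modules.hom_ext _ _ fun U => by
    ext m
    refine (Euler.smulMod_app _ _ _ _).trans ?_
    rw [map_zero, map_zero, zero_smul]
    rfl
  map_add' a b := Scheme.Modules.hom_ext _ _ fun U => by
    ext m
    refine (Euler.smulMod_app _ _ _ _).trans ?_
    rw [map_add, map_add, add_smul]
    rfl

theorem endScalar_comm (E : X.Modules) (c : k) (φ : End E) : Commute (endScalar k E c) φ := by
  refine Scheme.Modules.hom_ext _ _ fun U => ?_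
  ext m
  show (endScalar k E c).app U (φ.app U m) = φ.app U ((endScalar k E c).app U m)
  rw [show ∀ y, (endScalar k E c).app U y = _ • y from fun y => Euler.smulMod_app _ _ _ y,
    show ∀ y, (endScalar k E c).app U y = _ • y from fun y => Euler.smulMod_app _ _ _ y]
  exact (Scheme.Modules.Hom.app_smul φ _ _).symm

/-- Evaluation of polynomials at an endomorphism. -/
def endEval (E : X.Modules) (φ : End E) : k[X] →+* End E :=
  Polynomial.eval₂RingHom' (endScalar k E) φ fun c => endScalar_comm k E c φ

@[simp] theorem endEval_X (E : X.Modules) (φ : End E) : endEval k E φ Polynomial.X = φ :=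
  eval₂_X _ _

@[simp] theorem endEval_C (E : X.Modules) (φ : End E) (c : k) : endEval k E φ (Polynomial.C c) = endScalar k E c :=
  eval₂_C _ _

variable [IsProper (X ↘ Spec (CommRingCat.of k))]

/-- Endomorphisms of coherent sheaves are algebraic over the constants. -/
theorem exists_monic_endEval_eq_zero {E : X.Modules} (hE : Coh.IsCoh E) (φ : End E) :
    ∃ μ : k[X], μ.Monic ∧ endEval k E φ μ = 0 := by
  haveI := Euler.isNoetherian_of_proper (X := X) k
  let S := RefHull.homSh E E
  haveI : FiniteDimensional k (Coh.HH X S 0) :=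
    Euler.finiteDimensional_HH k (HomSh.isCoh_homSh (HomSh.hasRel_of_isCoh hE) hE) 0
  let toH : End E → Coh.HH X S 0 := fun ψ => (ProjCoh.H0top S).symm (RefHull.ofHom ψ ⊤)
  have hinj : ∀ ψ, toH ψ = 0 → ψ = 0 := by
    intro ψ h
    have h1 : RefHull.ofHom ψ ⊤ = 0 := (ProjCoh.H0top S).symm.injective (h.trans (map_zero (ProjCoh.H0top S).symm).symm)
    refine Scheme.Modules.hom_ext _ _ fun U => ?_
    ext m
    refine QCoh.section_eq_zero_of_germ E _ fun x hx => ?_
    have h2 := congrArg (fun g : Γ(S, ⊤) => g.1 ⟨x, trivial⟩ (E.presheaf.germ U x hx m)) h1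
    exact (RefHull.stalkMapₗ_germ ψ x hx m).symm.trans h2
  have hadd : ∀ ψ χ : End E, RefHull.ofHom (ψ + χ) ⊤ = RefHull.ofHom ψ ⊤ + RefHull.ofHom χ ⊤ := by
    intro ψ χ
    refine Subtype.ext (funext fun x => LinearMap.ext fun v => ?_)
    obtain ⟨U, hU, m, rfl⟩ := TopCat.Presheaf.exists_germ_eq E.presheaf v
    refine (RefHull.stalkMapₗ_germ _ _ _ _).trans ?_
    refine Eq.trans ?_ (congrArg₂ (· + ·) (RefHull.stalkMapₗ_germ ψ _ hU m).symm (RefHull.stalkMapₗ_germ χ _ hU m).symm)
    exact map_add (E.presheaf.germ U x.1 hU).hom (ψ.app U m) (χ.app U m)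
  let Φ : k[X] →ₗ[k] Coh.HH X S 0 :=
    { toFun := fun p => toH (endEval k E φ p)
      map_add' := fun p q => by
        show (ProjCoh.H0top S).symm _ = _
        rw [map_add (endEval k E φ), hadd, map_add (ProjCoh.H0top S).symm]
      map_smul' := fun c p => by
        refine (ProjCoh.H0top S).injective ?_
        rw [RingHom.id_apply, AddEquiv.apply_symm_apply, ProjCoh.H0top_smul, AddEquiv.apply_symm_apply,
          Polynomial.smul_eq_C_mul, map_mul, endEval_C]
        refine Subtype.ext (funext fun x => LinearMap.ext fun v => ?_)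
        obtain ⟨U, hU, m, rfl⟩ := TopCat.Presheaf.exists_germ_eq E.presheaf v
        refine (RefHull.stalkMapₗ_germ _ _ _ _).trans ?_
        show E.presheaf.germ U x.1 hU ((endScalar k E c).app U ((endEval k E φ p).app U m)) =
          X.presheaf.germ ⊤ x.1 trivial _ • RefHull.stalkMapₗ (endEval k E φ p) x.1 (E.presheaf.germ U x.1 hU m)
        rw [RefHull.stalkMapₗ_germ]
        refine (congrArg (E.presheaf.germ U x.1 hU).hom (Euler.smulMod_app E (Coh.toGlobal (X ↘ Spec (CommRingCat.of k)) c) U ((endEval k E φ p).app U m))).trans ?_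
        rw [WeakAss.germ_smul, TopCat.Presheaf.germ_res_apply] }
  obtain ⟨p, hp, hp0⟩ : ∃ p, Φ p = 0 ∧ p ≠ 0 := by
    by_contra h
    push Not at h
    have hi : Function.Injective Φ := (injective_iff_map_eq_zero _).2 fun p hp => h p hp
    exact Polynomial.not_finite (R := k) (Module.Finite.of_injective Φ hi)
  refine ⟨p * Polynomial.C p.leadingCoeff⁻¹, monic_mul_leadingCoeff_inv hp0, ?_⟩
  rw [map_mul, hinj _ hp, zero_mul]

variable [IsAlgClosed k]

/-- Without nontrivial idempotents, an endomorphism has only one eigenvalue. -/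
theorem exists_isNilpotent_sub {E : X.Modules} (hE : Coh.IsCoh E)
    (hidem : ∀ p : End E, p * p = p → p = 0 ∨ p = 1) (φ : End E) :
    ∃ a : k, IsNilpotent (φ - endScalar k E a) := by
  classical
  obtain ⟨μ, hμ, hμ0⟩ := exists_monic_endEval_eq_zero k hE φ
  induction hn : μ.natDegree using Nat.strong_induction_on generalizing μ with
  | _ n ih =>
    subst hn
    rcases Nat.eq_zero_or_pos μ.natDegree with h0 | hpos
    · have h1 : μ = 1 := eq_one_of_monic_natDegree_zero hμ h0
      rw [h1, map_one] at hμ0
      refine ⟨0, 1, ?_⟩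
      rw [pow_one, ← mul_one (φ - _), hμ0, mul_zero]
    obtain ⟨a, ha⟩ := IsAlgClosed.exists_root μ (by rw [degree_eq_natDegree hμ.ne_zero]; exact_mod_cast hpos.ne')
    obtain ⟨q, hq, hqa⟩ := exists_eq_pow_rootMultiplicity_mul_and_not_dvd μ hμ.ne_zero a
    have hqm : q.Monic := Monic.of_mul_monic_left ((monic_X_sub_C a).pow _) (hq ▸ hμ)
    have hm : 0 < μ.rootMultiplicity a := (rootMultiplicity_pos hμ.ne_zero).2 ha
    obtain ⟨u, v, huv⟩ := ((prime_X_sub_C a).coprime_iff_not_dvd.2 hqa).pow_left (m := μ.rootMultiplicity a)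
    let ψ := endEval k E φ
    let P := ψ (u * (Polynomial.X - Polynomial.C a) ^ μ.rootMultiplicity a)
    have hX : ψ (Polynomial.X - Polynomial.C a) = φ - endScalar k E a := by
      simp [ψ]
    have hPP : P * P = P := by
      conv_rhs => rw [← mul_one P]
      have h1 : P * ψ (v * q) = 0 := by
        simp only [P]
        rw [← map_mul, show u * (Polynomial.X - Polynomial.C a) ^ μ.rootMultiplicity a * (v * q) = u * v * μ by
          conv_rhs => rw [hq]
          ring, map_mul, hμ0, mul_zero]
      rw [← map_one ψ, ← huv, map_add, mul_add, h1, add_zero]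
    rcases hidem P hPP with h | h
    · refine ⟨a, μ.rootMultiplicity a, ?_⟩
      calc (φ - endScalar k E a) ^ μ.rootMultiplicity a
          = ψ ((Polynomial.X - Polynomial.C a) ^ μ.rootMultiplicity a) *
              ψ (u * (Polynomial.X - Polynomial.C a) ^ μ.rootMultiplicity a + v * q) := by
            rw [huv, map_one, mul_one, map_pow, hX]
        _ = ψ ((Polynomial.X - Polynomial.C a) ^ μ.rootMultiplicity a) * P + ψ (v * μ) := by
            rw [map_add, mul_add, ← map_mul ψ _ (v * q)]
            congr 2
            conv_rhs => rw [hq]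
            ring
        _ = 0 := by rw [h, mul_zero, zero_add, map_mul, hμ0, mul_zero]
    · have hlt : q.natDegree < μ.natDegree := by
        conv_rhs => rw [hq, Monic.natDegree_mul ((monic_X_sub_C a).pow _) hqm, natDegree_pow, natDegree_X_sub_C]
        omega
      refine ih _ hlt q hqm ?_ rfl
      calc ψ q = ψ q * P := by rw [h, mul_one]
        _ = ψ (u * μ) := by
          simp only [P]
          rw [← map_mul]
          congr 1
          conv_rhs => rw [hq]
          ring
        _ = 0 := by rw [map_mul, hμ0, mul_zero]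

/-- A module without a nontrivial decomposition has no nontrivial idempotent. -/
theorem idem_trivial_of_indecomposable {E : X.Modules}
    (hind : ∀ E₁ E₂ : X.Modules, Nonempty (E ≅ E₁ ⊞ E₂) → IsZero E₁ ∨ IsZero E₂) (p : End E) (hp : p * p = p) :
    p = 0 ∨ p = 1 := by
  obtain ⟨Y, i, e, hie, hei⟩ := IsIdempotentComplete.idempotents_split E p hp
  obtain ⟨Y', i', e', hie', hei'⟩ := IsIdempotentComplete.idempotents_split E (1 - p)
    (show (1 - p) * (1 - p) = 1 - p by rw [mul_sub, mul_one, sub_mul, one_mul, hp, sub_self, sub_zero])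
  have hpi : i ≫ p = i := by rw [← hei, reassoc_of% hie]
  have hep : p ≫ e = e := by rw [← hei, Category.assoc, hie, Category.comp_id]
  have hie'' : i ≫ e' = 0 := by
    haveI : IsSplitMono i' := IsSplitMono.mk' ⟨e', hie'⟩
    rw [← cancel_mono i', Category.assoc, hei', Limits.zero_comp, Preadditive.comp_sub, hpi, End.one_def, Category.comp_id, sub_self]
  have hi'e : i' ≫ e = 0 := by
    haveI : IsSplitMono i := IsSplitMono.mk' ⟨e, hie⟩
    haveI : IsSplitEpi e' := IsSplitEpi.mk' ⟨i', hie'⟩
    rw [← cancel_epi e', ← cancel_mono i, Limits.comp_zero, Limits.zero_comp, Category.assoc, Category.assoc, hei,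
      reassoc_of% hei', Preadditive.sub_comp, End.one_def, Category.id_comp]
    exact sub_eq_zero.2 hp.symm
  let b : Y ⊞ Y' ≅ E :=
    { hom := biprod.desc i i'
      inv := biprod.lift e e'
      hom_inv_id := by
        apply biprod.hom_ext' <;> apply biprod.hom_ext <;>
          simp [hie, hie', hie'', hi'e]
      inv_hom_id := by
        rw [biprod.lift_desc, hei, hei', End.one_def]
        exact add_sub_cancel _ _ }
  rcases hind Y Y' ⟨b.symm⟩ with h | h
  · left
    rw [← hei, h.eq_of_tgt e 0, Limits.zero_comp]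
  · right
    exact (sub_eq_zero.1 (by rw [← hei', h.eq_of_tgt e' 0, Limits.zero_comp] : (1 : End E) - p = 0)).symm

/-- An endomorphism with nilpotent shift by a nonzero constant is invertible. -/
theorem isUnit_of_isNilpotent_sub {E : X.Modules} {φ : End E} {a : k} (ha : a ≠ 0)
    (h : IsNilpotent (φ - endScalar k E a)) : IsUnit φ := by
  have hu : IsUnit (endScalar k E a) := (isUnit_iff_ne_zero.2 ha).map (endScalar k E)
  have := h.isUnit_add_left_of_commute hu
    ((endScalar_comm k E a (φ - endScalar k E a)).symm)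
  rwa [add_sub_cancel] at this

end GrothLib.CurveMult
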