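import Groth.Agent.Lib.CurveMult.EndAlg
import Groth.Agent.Lib.Euler.InvHom
import Groth.Agent.Lib.Euler.Divisor

/-!
# Endomorphisms of extensions of invertible modules
-/

set_option linter.style.haveILetI false
set_option backward.isDefEq.respectTransparency false

universe u

open CategoryTheory CategoryTheory.Limits AlgebraicGeometry TopologicalSpace Opposite
open GrothLib.Euler (smulMod)

noncomputable section

namespace GrothLib.CurveMult

variable (k : Type u) [Field k] {X : Scheme.{u}} [X.Over (Spec (CommRingCat.of k))]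

/-- A constant, as a morphism. -/
abbrev scalarHom (E : X.Modules) (c : k) : E ⟶ E := endScalar k E c

/-- The constants commute with every morphism. -/
theorem endScalar_natural {A B : X.Modules} (f : A ⟶ B) (c : k) :
    f ≫ (scalarHom k B c) = (scalarHom k A c) ≫ f := by
  refine Scheme.Modules.hom_ext _ _ fun U => ?_
  ext m
  show (scalarHom k B c).app U (f.app U m) = f.app U ((scalarHom k A c).app U m)
  rw [show ∀ y, (scalarHom k B c).app U y = _ • y from fun y => Euler.smulMod_app _ _ _ y,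
    show ∀ y, (scalarHom k A c).app U y = _ • y from fun y => Euler.smulMod_app _ _ _ y]
  exact (Scheme.Modules.Hom.app_smul f _ _).symm

theorem toSheaf_endScalar (E : X.Modules) (c : k) :
    (SheafOfModules.toSheaf X.ringCatSheaf).map (scalarHom k E c) =
      Coh.smulAb E (Coh.toGlobal (X ↘ Spec (CommRingCat.of k)) c) := rfl

variable [IsAlgClosed k] [IsIntegral X] [IsProper (X ↘ Spec (CommRingCat.of k))]

/-- Endomorphisms of invertible modules on a curve are constants. -/
theorem exists_eq_endScalar (hd : topologicalKrullDim X ≤ 1) {L : X.Modules} (hL : PicF.IsInvertible L)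
    (φ : L ⟶ L) : ∃ c : k, φ = scalarHom k L c := by
  haveI := Euler.isNoetherian_of_proper (X := X) k
  obtain ⟨c, hc⟩ := Euler.exists_not_isIso_smulMod_sub (X ↘ Spec (CommRingCat.of k)) one_pos
    (Euler.isFinLocFreeOfRank_one' hL) φ
  refine ⟨c, (sub_eq_zero.1 (by_contra fun h => hc ?_)).symm⟩
  obtain ⟨q, hq, hiso⟩ := Euler.deg_le_of_ne_zero k hd hL hL h
  exact hiso (by omega)

variable (hd : topologicalKrullDim X ≤ 1) {S : ShortComplex X.Modules} (hS : S.ShortExact)
  (hL : PicF.IsInvertible S.X₁) (hM : PicF.IsInvertible S.X₃) (hns : ¬ IsSplitEpi S.g)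

include hd hS hL hM hns in
/-- An endomorphism of a nonsplit extension preserving the submodule is a constant plus a map from the
quotient to the submodule. -/
theorem exists_eq_scalar_add (φ : S.X₂ ⟶ S.X₂) (h0 : S.f ≫ φ ≫ S.g = 0) :
    ∃ (a : k) (t : S.X₃ ⟶ S.X₁), φ = (scalarHom k S.X₂ a) + S.g ≫ t ≫ S.f := by
  haveI := hS.mono_f
  haveI := hS.epi_g
  obtain ⟨φ₁, hφ₁⟩ := KernelFork.IsLimit.lift' hS.fIsKernel (S.f ≫ φ) (by rw [Category.assoc, h0])
  obtain ⟨a, ha⟩ := exists_eq_endScalar k hd hL φ₁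
  subst ha
  have hψ : S.f ≫ (φ - (scalarHom k S.X₂ a)) = 0 := by
    rw [Preadditive.comp_sub, endScalar_natural, sub_eq_zero]
    exact hφ₁.symm
  obtain ⟨χ, hχ⟩ := CokernelCofork.IsColimit.desc' hS.gIsCokernel _ hψ
  obtain ⟨b, hb⟩ := exists_eq_endScalar k hd hM (χ ≫ S.g)
  by_cases hb0 : b = 0
  · obtain ⟨t, ht⟩ := KernelFork.IsLimit.lift' hS.fIsKernel χ (by rw [hb, hb0]; exact map_zero (endScalar k S.X₃))
    refine ⟨a, t, ?_⟩
    have h1 : S.g ≫ t ≫ S.f = φ - (scalarHom k S.X₂ a) := by
      rw [show t ≫ S.f = χ from ht]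
      exact hχ
    rw [h1]
    exact (add_sub_cancel _ _).symm
  · exfalso
    refine hns (IsSplitEpi.mk' ⟨(scalarHom k S.X₃ b⁻¹) ≫ χ, ?_⟩)
    rw [Category.assoc, hb]
    show endScalar k S.X₃ b * endScalar k S.X₃ b⁻¹ = 1
    rw [← map_mul, mul_inv_cancel₀ hb0, map_one]

end GrothLib.CurveMult
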