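import Groth.Agent.Lib.CurveRR.Setup
import Groth.Agent.Lib.CurveMult.VeryAmpleDiv

/-!
# The pencil of degree two
-/

set_option linter.style.haveILetI false

universe u

open CategoryTheory AlgebraicGeometry WithZero
open _root_.FunFld (Place Divisor ell)

noncomputable section

namespace GrothLib.CurveMult

variable {k K : Type u} [Field k] [IsAlgClosed k] [Field K] [Algebra k K]

open scoped Classical in
/-- Two pencils of degree two in genus at least two are linearly equivalent. -/
theorem sub_mem_prinDivs_of_g12 (h : _root_.FunFld.IsFunctionField k K) (hg : 2 ≤ _root_.FunFld.genus k K)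
    {D E : Divisor k K} (hD : D.deg = 2) (hE : E.deg = 2) (hlD : 2 ≤ ell D) (hlE : 2 ≤ ell E) :
    D - E ∈ _root_.FunFld.prinDivs k K := by
  have hfg : FunFld.IsFG k K := h.1
  by_contra hne
  haveI := hfg.finite_L D
  haveI := hfg.finite_L E
  haveI := hfg.finite_L (D + E)
  have hlD' : Module.finrank k (_root_.FunFld.L D) = 2 := by
    have := FunFld.ell_le_deg h (by omega) D (by omega)
    have : Module.finrank k (_root_.FunFld.L D) = ell D := rfl
    omega
  let b := Module.finBasisOfFinrankEq k (_root_.FunFld.L D) hlD'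
  let f : K := b 0
  let g : K := b 1
  have hf0 : f ≠ 0 := fun h0 => b.ne_zero 0 (Subtype.ext h0)
  have hg0 : g ≠ 0 := fun h0 => b.ne_zero 1 (Subtype.ext h0)
  -- the pencil has no base point
  have hbpf : ∀ P : Place k K, exp (D P) ≤ P.1 f ∨ exp (D P) ≤ P.1 g := by
    intro P
    by_contra hP
    push Not at hP
    have hb : ∀ i, (b i : K) ∈ _root_.FunFld.L (D - Finsupp.single P 1) := by
      intro i R
      rcases eq_or_ne P R with rfl | hR
      · rw [Finsupp.sub_apply, Finsupp.single_eq_same, FunFld.le_exp_sub_one_iff]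
        fin_cases i
        · exact hP.1
        · exact hP.2
      · rw [Finsupp.sub_apply, Finsupp.single_eq_of_ne' hR, sub_zero]
        exact (b i).2 R
    haveI := hfg.finite_L (D - Finsupp.single P 1)
    have hle : _root_.FunFld.L D ≤ _root_.FunFld.L (D - Finsupp.single P 1) := fun x hx => by
      have hx' := b.sum_repr ⟨x, hx⟩
      rw [show x = ((⟨x, hx⟩ : _root_.FunFld.L D) : K) from rfl, ← hx', AddSubmonoidClass.coe_finsetSum]
      exact Submodule.sum_mem _ fun i _ => Submodule.smul_mem _ _ (hb i)
    have h1 : ell D ≤ ell (D - Finsupp.single P 1) := Submodule.finrank_mono hle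
    have hd : (D - Finsupp.single P 1).deg = 1 := by
      rw [FunFld.deg_sub, FunFld.deg_single, FunFld.IsFG.deg_eq_one hfg P, hD]; ring
    have h2 := FunFld.ell_le_deg h (by omega) (D - Finsupp.single P 1) (by omega)
    omega
  let φ : (_root_.FunFld.L E) × (_root_.FunFld.L E) →ₗ[k] K :=
    LinearMap.coprod ((LinearMap.mulLeft k f).comp (_root_.FunFld.L E).subtype)
      ((LinearMap.mulLeft k g).comp (_root_.FunFld.L E).subtype)
  have hmem : ∀ p, φ p ∈ _root_.FunFld.L (D + E) := by
    rintro ⟨a, a'⟩
    refine Submodule.add_mem _ (fun P => ?_) (fun P => ?_)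
    · show P.1 (f * a) ≤ exp ((D + E) P)
      rw [map_mul, Finsupp.add_apply, exp_add]
      exact mul_le_mul' ((b 0).2 P) (a.2 P)
    · show P.1 (g * a') ≤ exp ((D + E) P)
      rw [map_mul, Finsupp.add_apply, exp_add]
      exact mul_le_mul' ((b 1).2 P) (a'.2 P)
  have hinj : Function.Injective (φ.codRestrict _ hmem) := by
    refine (injective_iff_map_eq_zero _).2 fun p hp => ?_
    obtain ⟨a, a'⟩ := p
    have h0 : f * a + g * a' = 0 := congrArg Subtype.val hp
    let t : K := (a : K) / g
    have hat : (a : K) = g * t := by simp [t, mul_div_cancel₀, hg0]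
    have hat' : (a' : K) = -(f * t) := by
      refine mul_left_cancel₀ hg0 ?_
      rw [hat] at h0
      linear_combination h0
    have ht : t ∈ _root_.FunFld.L (E - D) := fun P => by
      rw [Finsupp.sub_apply, sub_eq_add_neg, exp_add, exp_neg, le_mul_inv_iff₀ (zero_lt_iff.2 exp_ne_zero)]
      rcases hbpf P with hP | hP
      · calc P.1 t * exp (D P) ≤ P.1 t * P.1 f := mul_le_mul' le_rfl hP
          _ = P.1 (a' : K) := by rw [← map_mul, hat', Valuation.map_neg, mul_comm]
          _ ≤ _ := a'.2 P
      · calc P.1 t * exp (D P) ≤ P.1 t * P.1 g := mul_le_mul' le_rfl hP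
          _ = P.1 (a : K) := by rw [← map_mul, hat, mul_comm]
          _ ≤ _ := a.2 P
    have ht0 : t = 0 := by
      by_contra ht0
      refine hne ((FunFld.mem_prinDivs_iff hfg _).2 ⟨t, ht0, ?_⟩)
      have hz : 0 ≤ (E - D) + _root_.FunFld.div k t := fun P => by
        have := (FunFld.mem_L_iff_ord ht0).1 ht P
        rw [Finsupp.add_apply, hfg.div_apply t P]
        simp only [Finsupp.coe_zero, Pi.zero_apply]
        omega
      have hd : ((E - D) + _root_.FunFld.div k t).deg = 0 := by
        rw [FunFld.deg_add, FunFld.deg_sub, hfg.deg_div, hD, hE]; ring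
      have hz0 : (E - D) + _root_.FunFld.div k t = 0 := by
        refine Finsupp.ext fun P => ?_
        by_contra hP
        rw [FunFld.deg_eq_degHom] at hd
        have hsum := (Finset.sum_eq_zero_iff_of_nonneg fun Q _ =>
          mul_nonneg (hz Q) (Int.natCast_nonneg _)).1 hd P (Finsupp.mem_support_iff.2 hP)
        rw [FunFld.IsFG.deg_eq_one hfg P, Nat.cast_one, mul_one] at hsum
        exact hP hsum
      rw [← sub_eq_zero, ← hz0]; abel
    refine Prod.ext (Subtype.ext ?_) (Subtype.ext ?_)
    · rw [hat, ht0, mul_zero]; rfl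
    · rw [hat', ht0, mul_zero, neg_zero]; rfl
  have h4 := LinearMap.finrank_le_finrank_of_injective hinj
  rw [Module.finrank_prod] at h4
  have hE' : Module.finrank k (_root_.FunFld.L E) = ell E := rfl
  have hDE : Module.finrank k (_root_.FunFld.L (D + E)) = ell (D + E) := rfl
  rcases CurveRR.FF.ell_bound h (D := D + E) (by omega) with hb | hb <;>
  · rw [FunFld.deg_add, hD, hE] at hb
    omega

end GrothLib.CurveMult
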