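import Groth.Agent.Lib.DiffLattice.Global
import Groth.Agent.Lib.DiffLattice.Tame
import Groth.Agent.Lib.CurveRR.Vanish
import Groth.Agent.Lib.CurvePoints.Birational

/-!
# The different of a finite separable map of regular proper curves

The Euler characteristics differ by the degree of the different; its exponents are at least
`e - 1`, with equality exactly at the tame points.
-/

set_option autoImplicit false
set_option linter.style.haveILetI false
set_option linter.unusedSectionVars false

universe u

open CategoryTheory AlgebraicGeometry IsLocalRing WithZero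
open _root_.FunFld (Place Divisor)

noncomputable section

namespace GrothLib.CurveMult.Hurwitz

open GrothLib GrothLib.CurveRR GrothLib.FunFld

/-- The ramification index of an injective local map of discrete valuation rings. -/
theorem ramificationIdx_of_map_eq {A B : Type*} [CommRing A] [IsDomain A] [IsDiscreteValuationRing A]
    [CommRing B] [IsDomain B] [IsDiscreteValuationRing B] [Algebra A B] [IsLocalHom (algebraMap A B)]
    (hinj : Function.Injective (algebraMap A B)) {π : B} (hπ : Irreducible π) {e : ℕ}
    (he : (maximalIdeal A).map (algebraMap A B) = Ideal.span {π ^ e}) :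
    Ideal.ramificationIdx (maximalIdeal B) A = e := by
  haveI : Module.IsTorsionFree A B := Module.isTorsionFree_iff_algebraMap_injective.2 hinj
  have hA : maximalIdeal A ≠ ⊥ := IsDiscreteValuationRing.not_a_field A
  rw [← Ideal.ramificationIdx'_eq_ramificationIdx (maximalIdeal A) (maximalIdeal B) hA]
  refine Ideal.ramificationIdx'_spec ?_ ?_
  · rw [he, hπ.maximalIdeal_eq, Ideal.span_singleton_pow]
  · rw [he, hπ.maximalIdeal_eq, Ideal.span_singleton_pow, Ideal.span_singleton_le_span_singleton]
    intro h
    have := (pow_dvd_pow_iff hπ.ne_zero hπ.not_isUnit).mp h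
    omega

variable (k : Type u) [Field k] {X Y : Scheme.{u}} [IsIntegral X] [IsIntegral Y] [RegCurve X] [RegCurve Y]
  [X.Over (Spec (CommRingCat.of k))] [Y.Over (Spec (CommRingCat.of k))]

/-- The constant term of Riemann's theorem is the Euler characteristic. -/
theorem exists_ge_ell_eq (X : Scheme.{u}) [IsIntegral X] [RegCurve X] [X.Over (Spec (CommRingCat.of k))]
    [IsProper (X ↘ Spec (CommRingCat.of k))] :
    ∃ D₀ : Divisor k X.functionField, ∀ D, D₀ ≤ D →
      (_root_.FunFld.ell D : ℤ) = D.deg + Curv2.euler k X (Coh.structureModule X) := by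
  obtain ⟨E, -, hE⟩ := CurveRR.exists_ge_H1_eq_zero (k := k) (X := X) 0
  refine ⟨E, fun D hD => ?_⟩
  haveI := (isCoh_oD k D).1
  have h1 := Euler.euler_eq_sub k RegCurve.dim.le (oD k D)
  rw [euler_oD, finrank_H0_oD, @Module.finrank_zero_of_subsingleton _ _ _ _ _ _ (hE D hD)] at h1
  omega

theorem algebraMap_stalk_specializes {z : X} (h : genericPoint X ⤳ z) (r : X.presheaf.stalk z) :
    algebraMap (X.presheaf.stalk z) X.functionField r = (X.presheaf.stalkSpecializes h).hom r := rfl

variable {f : X ⟶ Y} (e : f (genericPoint X) = genericPoint Y)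

/-- The map of function fields. -/
abbrev ψ : Y.functionField →+* X.functionField :=
  (Y.presheaf.stalkSpecializes (specializes_of_eq e) ≫ f.stalkMap (genericPoint X)).hom

theorem ψ_stalk (x : X) (r : Y.presheaf.stalk (f x)) :
    ψ e (algebraMap (Y.presheaf.stalk (f x)) Y.functionField r) =
      algebraMap (X.presheaf.stalk x) X.functionField ((f.stalkMap x).hom r) := by
  have hs : genericPoint X ⤳ x := (genericPoint_spec X).specializes trivial
  have hs' : genericPoint Y ⤳ f x := (genericPoint_spec Y).specializes trivial
  rw [algebraMap_stalk_specializes hs' r, algebraMap_stalk_specializes hs]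
  have h1 := TopCat.Presheaf.stalkSpecializes_comp_apply (F := Y.presheaf)
    (specializes_of_eq e) hs' r
  show (f.stalkMap (genericPoint X)).hom ((Y.presheaf.stalkSpecializes (specializes_of_eq e)).hom
    ((Y.presheaf.stalkSpecializes hs').hom r)) = _
  rw [show (Y.presheaf.stalkSpecializes (specializes_of_eq e)).hom ((Y.presheaf.stalkSpecializes hs').hom r) =
    (Y.presheaf.stalkSpecializes ((specializes_of_eq e).trans hs')).hom r from h1]
  exact Scheme.Hom.stalkSpecializes_stalkMap_apply f (genericPoint X) x hs r

variable (hf : f ≫ (Y ↘ Spec (CommRingCat.of k)) = X ↘ Spec (CommRingCat.of k))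

include hf in
theorem cst_compat (x : X) (c : k) : (f.stalkMap x).hom (cst k (f x) c) = cst k x c := by
  show (f.stalkMap x).hom ((Y.presheaf.germ ⊤ (f x) trivial).hom (Coh.toGlobal (Y ↘ Spec (CommRingCat.of k)) c)) =
    (X.presheaf.germ ⊤ x trivial).hom (Coh.toGlobal (X ↘ Spec (CommRingCat.of k)) c)
  rw [← hf]
  exact Scheme.Hom.germ_stalkMap_apply f ⊤ x trivial _

include hf in
theorem ψ_algebraMap (c : k) :
    ψ e (algebraMap k Y.functionField c) = algebraMap k X.functionField c := by
  rw [← algebraMap_cst k (f (genericPoint X)) c, ψ_stalk e, cst_compat k hf, algebraMap_cst]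

theorem ne_genericPoint [IsFinite f] {x : X} (hx : x ≠ genericPoint X) : f x ≠ genericPoint Y := fun h => by
  have hc : IsClosed ({f x} : Set Y) := by
    have := f.isClosedMap _ (CurvePoints.isClosed_singleton RegCurve.dim.le hx)
    rwa [Set.image_singleton] at this
  rw [h] at hc
  exact CurvePoints.genericPoint_not_isClosed RegCurve.dim hc

theorem isLocalRing_residue_cst (x : X) (c : k) :
    letI := Curv2.resAlgebra k X x
    algebraMap k (X.residueField x) c = IsLocalRing.residue (X.presheaf.stalk x) (cst k x c) := rfl

variable {k}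

/-- The local ring at a closed point is the valuation ring of its place. -/
def stalkEquiv (x : CP X) : X.presheaf.stalk x.1 ≃+* (place k x).O :=
  RingEquiv.ofBijective ((algebraMap (X.presheaf.stalk x.1) X.functionField).codRestrict (place k x).O.toSubring
      fun r => (mem_place_O k).2 ⟨r, rfl⟩)
    ⟨fun a b hab => algebraMap_stalk_injective x.1 (congrArg Subtype.val hab),
      fun z => by
        obtain ⟨r, hr⟩ := (mem_place_O k).1 z.2
        exact ⟨r, Subtype.ext hr⟩⟩

theorem stalkEquiv_coe (x : CP X) (r : X.presheaf.stalk x.1) :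
    ((stalkEquiv (k := k) x r : (place k x).O) : X.functionField) =
      algebraMap (X.presheaf.stalk x.1) X.functionField r := rfl

/-- The residue field at a closed point is that of its place. -/
def residueEquiv (x : CP X) : X.residueField x.1 ≃+* ResidueField (place k x).O :=
  IsLocalRing.ResidueField.mapEquiv (stalkEquiv x)

theorem residueEquiv_residue (x : CP X) (r : X.presheaf.stalk x.1) :
    residueEquiv (k := k) x ((X.residue x.1).hom r) = IsLocalRing.residue (place k x).O (stalkEquiv x r) := rfl

theorem finrank_residueField (x : CP X) :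
    letI := Curv2.resAlgebra k X x.1
    Module.finrank k (X.residueField x.1) = (place k x).deg := by
  letI := Curv2.resAlgebra k X x.1
  let ε : X.residueField x.1 ≃ₐ[k] ResidueField (place k x).O :=
    AlgEquiv.ofRingEquiv (f := residueEquiv x) fun c => by
      show residueEquiv x ((X.residue x.1).hom (cst k x.1 c)) = _
      rw [residueEquiv_residue]
      exact (congrArg (IsLocalRing.residue (place k x).O) (Subtype.ext (by
        rw [stalkEquiv_coe, algebraMap_cst]; exact (FunFld.algebraMap_O_coe _ c).symm))).trans
        (FunFld.residue_algebraMap (place k x) c)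
  exact ε.toLinearEquiv.finrank_eq

variable (k)

include hf in
/-- The extension of function fields is finite. -/
theorem finiteDimensional [IsProper (X ↘ Spec (CommRingCat.of k))] [IsProper (Y ↘ Spec (CommRingCat.of k))] :
    letI := (ψ e).toAlgebra
    FiniteDimensional Y.functionField X.functionField := by
  letI := (ψ e).toAlgebra
  haveI : IsScalarTower k Y.functionField X.functionField :=
    .of_algebraMap_eq fun c => (ψ_algebraMap k e hf c).symm
  have hFX := isFG k (X := X)
  obtain ⟨y, hy, -⟩ := isFG k (X := Y)
  have hy' := FunFld.transcendental_algebraMap (K' := X.functionField) hy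
  haveI := hFX.finiteDimensional_adjoin hy'
  let E := IntermediateField.adjoin k ({algebraMap Y.functionField X.functionField y} : Set X.functionField)
  obtain ⟨s, hs⟩ := Module.Finite.fg_top (R := E) (M := X.functionField)
  refine ⟨⟨s, eq_top_iff.2 fun z hzT => ?_⟩⟩
  have hz : z ∈ Submodule.span E (s : Set X.functionField) := hs ▸ Submodule.mem_top
  clear hzT
  induction hz using Submodule.span_induction with
  | mem w hw => exact Submodule.subset_span hw
  | zero => exact zero_mem _
  | add a b _ _ ha hb => exact add_mem ha hb
  | smul c w _ hw =>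
    have hle : E ≤ (IsScalarTower.toAlgHom k Y.functionField X.functionField).fieldRange :=
      IntermediateField.adjoin_simple_le_iff.2 ⟨y, rfl⟩
    obtain ⟨c', hc'⟩ := hle c.2
    rw [show c • w = c' • w by
      rw [Algebra.smul_def, Algebra.smul_def]
      exact congrArg (· * w) hc'.symm]
    exact Submodule.smul_mem _ _ hw

include hf in
/-- Euler characteristics, the different, and tameness. -/
theorem exists_different [IsProper (X ↘ Spec (CommRingCat.of k))] [IsProper (Y ↘ Spec (CommRingCat.of k))]
    [IsFinite f]
    (hsep : letI := (ψ e).toAlgebra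
      Algebra.IsSeparable Y.functionField X.functionField) :
    letI := (ψ e).toAlgebra
    ∃ d : CP X → ℕ, (Function.support d).Finite ∧
      2 * Curv2.euler k X (Coh.structureModule X) =
        2 * (Module.finrank Y.functionField X.functionField : ℤ) * Curv2.euler k Y (Coh.structureModule Y) -
          ∑ᶠ x : CP X, (d x : ℤ) * (letI := Curv2.resAlgebra k X x.1; (Module.finrank k (X.residueField x.1) : ℤ)) ∧
      ∀ x : CP X,
        letI := (f.stalkMap x.1).hom.toAlgebra
        letI := (f.residueFieldMap x.1).hom.toAlgebra
        1 ≤ Ideal.ramificationIdx (maximalIdeal (X.presheaf.stalk x.1)) (Y.presheaf.stalk (f x.1)) ∧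
        Ideal.ramificationIdx (maximalIdeal (X.presheaf.stalk x.1)) (Y.presheaf.stalk (f x.1)) ≤ d x + 1 ∧
        (d x + 1 = Ideal.ramificationIdx (maximalIdeal (X.presheaf.stalk x.1)) (Y.presheaf.stalk (f x.1)) ↔
          Algebra.IsSeparable (Y.residueField (f x.1)) (X.residueField x.1) ∧
            ((Ideal.ramificationIdx (maximalIdeal (X.presheaf.stalk x.1)) (Y.presheaf.stalk (f x.1)) : ℕ) :
              Y.residueField (f x.1)) ≠ 0) := by
  letI := (ψ e).toAlgebra
  haveI := hsep
  haveI : IsScalarTower k Y.functionField X.functionField :=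
    .of_algebraMap_eq fun c => (ψ_algebraMap k e hf c).symm
  have hFY := isFG k (X := Y)
  have hFX := isFG k (X := X)
  haveI : FiniteDimensional Y.functionField X.functionField := finiteDimensional k e hf
  obtain ⟨d, hdfin, hd, hmain⟩ := DiffLattice.hurwitz hFY _ _ (exists_ge_ell_eq k Y) (exists_ge_ell_eq k X)
  refine ⟨fun x => d (place k x), hdfin.preimage (place_injective (k := k)).injOn, ?_, ?_⟩
  · rw [hmain]
    congr 1
    rw [← finsum_comp_equiv (placeEquiv k (X := X))]
    refine finsum_congr fun x => ?_
    rw [finrank_residueField]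
    rfl
  intro x
  letI := (f.stalkMap x.1).hom.toAlgebra
  letI := (f.residueFieldMap x.1).hom.toAlgebra
  let y : CP Y := ⟨f x.1, ne_genericPoint x.2⟩
  haveI : IsDiscreteValuationRing (Y.presheaf.stalk (f x.1)) := CurveRR.dvrStalk y
  haveI : IsLocalHom (algebraMap (Y.presheaf.stalk (f x.1)) (X.presheaf.stalk x.1)) :=
    inferInstanceAs (IsLocalHom (f.stalkMap x.1).hom)
  have hinj : Function.Injective (algebraMap (Y.presheaf.stalk (f x.1)) (X.presheaf.stalk x.1)) :=
    CurvePoints.stalkMap_injective f e x.1
  have hcomm : ∀ r, algebraMap Y.functionField X.functionField (algebraMap (Y.presheaf.stalk (f x.1)) Y.functionField r) =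
      algebraMap (X.presheaf.stalk x.1) X.functionField ((f.stalkMap x.1).hom r) := ψ_stalk e x.1
  obtain ⟨P', e', he'pos, he'⟩ := exists_isOverWith (K := Y.functionField) (place k x)
  have hPy : P' = place k y := by
    refine valuation_eq_of_O_eq (SetLike.ext fun z => ?_)
    show val P' z ≤ 1 ↔ _
    rw [← val_le_one_iff_of_isOverWith he', mem_place_O]
    constructor
    · intro hz
      by_contra hno
      have hzinv : z⁻¹ ∈ (place k y).O :=
        ((place k y).O.mem_or_inv_mem z).resolve_left fun h => hno ((mem_place_O k).1 h)
      obtain ⟨r, hr⟩ := (mem_place_O k).1 hzinv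
      have hru : r ∈ maximalIdeal (Y.presheaf.stalk (f x.1)) := fun hu => by
        obtain ⟨w, hw⟩ := hu.exists_right_inv
        refine hno ⟨w, ?_⟩
        have h1 := congrArg (algebraMap (Y.presheaf.stalk (f x.1)) Y.functionField) hw
        rw [map_mul, map_one] at h1
        exact mul_left_cancel₀ (left_ne_zero_of_mul_eq_one h1) (h1.trans (by
          rw [hr]
          have h0 : z⁻¹ ≠ 0 := hr ▸ left_ne_zero_of_mul_eq_one h1
          exact (inv_mul_cancel₀ (by simpa using h0)).symm))
      have h2 : val (place k x) (algebraMap Y.functionField X.functionField z⁻¹) < 1 := by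
        rw [← hr, hcomm]
        exact (place_lt_one_iff k).2 ((mem_maximalIdeal _).2 fun hu =>
          (mem_maximalIdeal r).1 hru (isUnit_of_map_unit (f.stalkMap x.1).hom r hu))
      rw [map_inv₀, map_inv₀, inv_lt_one_iff₀] at h2
      rcases h2 with h2 | h2
      · have hz0 : z = 0 := by
          by_contra h0
          exact absurd h2 (not_le.2 (zero_lt_iff.2 ((val (place k x)).ne_zero_iff.2 (by simpa using h0))))
        exact hno ⟨0, by rw [hz0, map_zero]⟩
      · exact absurd hz (not_le.2 h2)
    · rintro ⟨r, rfl⟩
      rw [hcomm]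
      exact (mem_place_O k).2 ⟨_, rfl⟩
  subst hPy
  -- the ramification index
  obtain ⟨ϖ, hϖ⟩ := IsDiscreteValuationRing.exists_irreducible (Y.presheaf.stalk (f x.1))
  obtain ⟨π, hπ⟩ := IsDiscreteValuationRing.exists_irreducible (X.presheaf.stalk x.1)
  have huni : ∀ {Z : Scheme.{u}} [IsIntegral Z] [RegCurve Z] [Z.Over (Spec (CommRingCat.of k))] (z : CP Z)
      {t : Z.presheaf.stalk z.1} (ht : Irreducible t),
      val (place k z) (algebraMap _ Z.functionField t) = exp (-1) := by
    intro Z _ _ _ z t ht
    show (IsDiscreteValuationRing.maximalIdeal (Z.presheaf.stalk z.1)).valuation Z.functionField _ = _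
    rw [IsDedekindDomain.HeightOneSpectrum.valuation_of_algebraMap,
      IsDedekindDomain.HeightOneSpectrum.intValuation_singleton _ ht.ne_zero ht.maximalIdeal_eq]
  have hpow : algebraMap (X.presheaf.stalk x.1) X.functionField ((f.stalkMap x.1).hom ϖ) ≠ 0 := fun h0 =>
    hϖ.ne_zero (hinj (algebraMap_stalk_injective x.1 (h0.trans (map_zero _).symm) |>.trans (map_zero _).symm))
  have hmap : (maximalIdeal (Y.presheaf.stalk (f x.1))).map
      (algebraMap (Y.presheaf.stalk (f x.1)) (X.presheaf.stalk x.1)) = Ideal.span {π ^ e'} := by
    obtain ⟨n, u, hnu⟩ := IsDiscreteValuationRing.eq_unit_mul_pow_irreducible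
      (show (f.stalkMap x.1).hom ϖ ≠ 0 from fun h0 => hpow (by rw [h0, map_zero])) hπ
    have hv : val (place k x) (algebraMap Y.functionField X.functionField
        (algebraMap (Y.presheaf.stalk (f x.1)) Y.functionField ϖ)) = exp (-(e' : ℤ)) := by
      rw [show val (place k x) _ = val (place k y) (algebraMap (Y.presheaf.stalk (f x.1)) Y.functionField ϖ) ^ e'
        from he' _, huni (Z := Y) y hϖ, ← exp_nsmul]
      simp
    rw [hcomm, hnu, map_mul, map_pow, map_mul, map_pow, huni (Z := X) x hπ, ← exp_nsmul] at hv
    have hu1 : val (place k x) (algebraMap (X.presheaf.stalk x.1) X.functionField u) = 1 := by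
      refine le_antisymm ((mem_place_O k).2 ⟨_, rfl⟩) (not_lt.1 fun hlt => ?_)
      exact (place_lt_one_iff k).1 hlt u.isUnit
    rw [hu1, one_mul, exp_inj] at hv
    have hn : n = e' := by simpa using hv
    rw [hϖ.maximalIdeal_eq, Ideal.map_span, Set.image_singleton,
      show algebraMap (Y.presheaf.stalk (f x.1)) (X.presheaf.stalk x.1) ϖ = (f.stalkMap x.1).hom ϖ from rfl, hnu, hn,
      Ideal.span_singleton_mul_left_unit u.isUnit]
  have hram := ramificationIdx_of_map_eq hinj hπ hmap
  rw [hram]
  refine ⟨he'pos, DiffLattice.le_diffExp_add_one hFY (hd _) he', ?_⟩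
  -- residue fields
  let φ : ResidueField (place k y).O →+* ResidueField (place k x).O :=
    ((residueEquiv x).toRingHom.comp (f.residueFieldMap x.1).hom).comp (residueEquiv (k := k) y).symm.toRingHom
  letI := φ.toAlgebra
  have hcompat : ∀ (o : (place k y).O)
      (ho : algebraMap Y.functionField X.functionField (o : Y.functionField) ∈ (place k x).O),
      algebraMap (ResidueField (place k y).O) (ResidueField (place k x).O) (IsLocalRing.residue _ o) =
        IsLocalRing.residue _ ⟨algebraMap Y.functionField X.functionField (o : Y.functionField), ho⟩ := by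
    intro o ho
    obtain ⟨r, rfl⟩ := (stalkEquiv (k := k) y).surjective o
    show residueEquiv x ((f.residueFieldMap x.1).hom ((residueEquiv y).symm (IsLocalRing.residue _ (stalkEquiv y r)))) = _
    rw [← residueEquiv_residue, RingEquiv.symm_apply_apply]
    rw [show (f.residueFieldMap x.1).hom ((Y.residue (f x.1)).hom r) = (X.residue x.1).hom ((f.stalkMap x.1).hom r) from
      congrArg (fun χ => χ.hom r) (Scheme.residue_residueFieldMap f x.1), residueEquiv_residue]
    exact congrArg _ (Subtype.ext (hcomm r).symm)
  rw [DiffLattice.diffExp_eq_iff_tame hFY (hd _) he' hcompat,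
    Algebra.IsSeparable.iff_of_equiv_equiv (residueEquiv (k := k) y) (residueEquiv (k := k) x)
      (RingHom.ext fun a => by
        show residueEquiv x ((f.residueFieldMap x.1).hom ((residueEquiv y).symm (residueEquiv y a))) = _
        rw [RingEquiv.symm_apply_apply]; rfl)]
  refine and_congr_right fun _ => not_congr ?_
  rw [← map_natCast (residueEquiv (k := k) y), map_eq_zero_iff _ (residueEquiv (k := k) y).injective]

end GrothLib.CurveMult.Hurwitz
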