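import Groth.Agent.Lib.CurveMult.HiggsPair

/-!
# Invariant subsheaves of twisted pairs
-/

set_option linter.style.haveILetI false
set_option backward.isDefEq.respectTransparency false

universe u

open CategoryTheory CategoryTheory.Limits AlgebraicGeometry TopologicalSpace Opposite
open GrothLib.CurveRR

noncomputable section

namespace GrothLib.CurveMult

variable {X : Scheme.{u}}

/-- A subsheaf is invariant under a twisted endomorphism. -/
def Inv (L : X.Modules) {E G : X.Modules} (φ : E ⟶ (Euler.tF L).obj E) (i : G ⟶ E) : Prop :=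
  ∃ χ : G ⟶ (Euler.tF L).obj G, χ ≫ (Euler.tF L).map i = i ≫ φ

/-- Semistability of a pair, for submodules of any rank. -/
def PairLe (k : Type u) [Field k] [X.Over (Spec (CommRingCat.of k))] [IsIntegral X] (L : X.Modules) {E : X.Modules}
    (φ : E ⟶ (Euler.tF L).obj E) (d : ℤ) (r : ℕ) : Prop :=
  ∀ (G : X.Modules) (n : ℕ) (j : G ⟶ E), Mono j → FlatMod.IsFinLocFreeOfRank n G → Inv L φ j →
    Euler.degree k G * (r : ℤ) ≤ d * (n : ℤ)

variable [IsIntegral X] (k : Type u) [Field k] [X.Over (Spec (CommRingCat.of k))]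
  [IsProper (X ↘ Spec (CommRingCat.of k))] [RegCurve X]

include k in
/-- The condition on submodules of positive rank suffices. -/
theorem pairLe_of_pos {L E : X.Modules} {φ : E ⟶ (Euler.tF L).obj E} {d : ℤ} {r : ℕ}
    (h : ∀ (G : X.Modules) (n : ℕ) (j : G ⟶ E) (χ : G ⟶ (Euler.tF L).obj G), Mono j → 0 < n →
      FlatMod.IsFinLocFreeOfRank n G → χ ≫ (Euler.tF L).map j = j ≫ φ →
      Curv2.deg k X G n * (r : ℤ) ≤ d * (n : ℤ)) : PairLe k L φ d r := by
  rintro G n j hj hG ⟨χ, hχ⟩
  rcases Nat.eq_zero_or_pos n with rfl | hn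
  · rw [Euler.degree_of_isZero k (Euler.isZero_of_rank_zero hG)]; simp
  · rw [← Euler.deg_eq_degree k hG]; exact h G n j χ hj hn hG hχ

/-- Invariant submodules of invariant submodules. -/
theorem inv_comp {L E P G : X.Modules} {φ : E ⟶ (Euler.tF L).obj E} {χ : P ⟶ (Euler.tF L).obj P}
    {i : P ⟶ E} (hχ : χ ≫ (Euler.tF L).map i = i ≫ φ) {j : G ⟶ P} (hj : Inv L χ j) : Inv L φ (j ≫ i) := by
  obtain ⟨ψ, hψ⟩ := hj
  refine ⟨ψ, ?_⟩
  rw [(Euler.tF L).map_comp, ← Category.assoc, hψ, Category.assoc, hχ, Category.assoc]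

include k in
/-- The kernel of a map is invariant when its twist kills the endomorphism on it. -/
theorem inv_kernel {L E D : X.Modules} (hL : PicF.IsInvertible L) (φ : E ⟶ (Euler.tF L).obj E) (q : E ⟶ D)
    (h : (kernel.ι q ≫ φ) ≫ (Euler.tF L).map q = 0) : Inv L φ (kernel.ι q) := by
  haveI := isEquivalence_tF' k hL
  exact ⟨kernel.lift ((Euler.tF L).map q) _ h ≫ (PreservesKernel.iso (Euler.tF L) q).inv,
    by rw [Category.assoc, PreservesKernel.iso_inv_ι, kernel.lift_ι]⟩

include k in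
/-- The induced endomorphism of the quotient by an invariant submodule. -/
theorem exists_quotient_pair {L E P : X.Modules} (hL : PicF.IsInvertible L) {φ : E ⟶ (Euler.tF L).obj E}
    {i : P ⟶ E} (hi : Inv L φ i) :
    ∃ φ' : cokernel i ⟶ (Euler.tF L).obj (cokernel i),
      cokernel.π i ≫ φ' = φ ≫ (Euler.tF L).map (cokernel.π i) := by
  haveI := isEquivalence_tF' k hL
  obtain ⟨χ, hχ⟩ := hi
  refine ⟨cokernel.desc i (φ ≫ (Euler.tF L).map (cokernel.π i)) ?_, cokernel.π_desc _ _ _⟩
  rw [← Category.assoc, ← hχ, Category.assoc, ← (Euler.tF L).map_comp, cokernel.condition, Functor.map_zero,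
    comp_zero]

include k in
/-- The preimage of an invariant submodule of a quotient is invariant. -/
theorem exists_preimage_inv {L E P G : X.Modules} (hL : PicF.IsInvertible L) {φ : E ⟶ (Euler.tF L).obj E}
    (i : P ⟶ E) [Mono i] (hP : Coh.IsCoh P) (hE : FlatMod.IsFinLocFree E)
    (φ' : cokernel i ⟶ (Euler.tF L).obj (cokernel i))
    (hφ' : cokernel.π i ≫ φ' = φ ≫ (Euler.tF L).map (cokernel.π i))
    (j : G ⟶ cokernel i) [Mono j] (hG : Coh.IsCoh G) (hj : Inv L φ' j) :
    ∃ (P' : X.Modules) (i' : P' ⟶ E), Mono i' ∧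
      FlatMod.IsFinLocFreeOfRank (Euler.grank P + Euler.grank G) P' ∧ Inv L φ i' ∧
      Euler.degree k P' = Euler.degree k P + Euler.degree k G := by
  haveI := Euler.isNoetherian_of_proper (X := X) k
  haveI := isEquivalence_tF' k hL
  have hEc := Euler.isCoh_of_isFinLocFree hE
  have hC := QCoh.isCoh_cokernel i hP hEc
  have hD := QCoh.isCoh_cokernel j hG hC
  let q := cokernel.π i ≫ cokernel.π j
  have hK := QCoh.isCoh_kernel q hEc hD
  obtain ⟨d1, g1⟩ := Euler.degree_quotient k _ _ _ (Euler.cokernel_shortExact i) hP hEc hC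
  obtain ⟨d2, g2⟩ := Euler.degree_quotient k _ _ _ (Euler.cokernel_shortExact j) hG hC hD
  obtain ⟨d3, g3⟩ := Euler.degree_quotient k _ _ _ (Euler.kernel_shortExact q) hK hEc hD
  have hloc := Euler.isFinLocFreeOfRank_of_mono CurveRR.pid_stalk (kernel.ι q) hK hE
  rw [show Euler.grank (kernel q) = Euler.grank P + Euler.grank G by omega] at hloc
  refine ⟨_, kernel.ι q, inferInstance, hloc, inv_kernel k hL φ q ?_, by omega⟩
  obtain ⟨χ, hχ⟩ := hj
  obtain ⟨g, hg⟩ : ∃ g : kernel q ⟶ G, g ≫ j = kernel.ι q ≫ cokernel.π i :=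
    ⟨_, (KernelFork.IsLimit.lift' (Euler.cokernel_shortExact j).fIsKernel (kernel.ι q ≫ cokernel.π i)
      (by rw [Category.assoc]; exact kernel.condition q)).2⟩
  show (kernel.ι q ≫ φ) ≫ (Euler.tF L).map (cokernel.π i ≫ cokernel.π j) = 0
  rw [(Euler.tF L).map_comp, Category.assoc, ← Category.assoc φ, ← hφ', Category.assoc, ← Category.assoc,
    ← hg, Category.assoc, ← Category.assoc j, ← hχ, Category.assoc, ← (Euler.tF L).map_comp, cokernel.condition,
    Functor.map_zero, comp_zero, comp_zero]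

include k in
/-- An invariant submodule that no larger invariant submodule of its rank exceeds in degree is saturated. -/
theorem isFinLocFreeOfRank_cokernel_of_inv_max {L E P : X.Modules} (hL : PicF.IsInvertible L)
    {φ : E ⟶ (Euler.tF L).obj E} {r : ℕ} (hE : FlatMod.IsFinLocFreeOfRank r E) (i : P ⟶ E) [Mono i]
    (hP : Coh.IsCoh P) (hi : Inv L φ i)
    (hmax : ∀ (P' : X.Modules) (i' : P' ⟶ E), Mono i' → FlatMod.IsFinLocFreeOfRank (Euler.grank P) P' →
      Inv L φ i' → Euler.degree k P' ≤ Euler.degree k P) :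
    FlatMod.IsFinLocFreeOfRank (r - Euler.grank P) (cokernel i) ∧ Euler.grank P ≤ r ∧
      Curv2.deg k X E r = Euler.degree k P + Euler.degree k (cokernel i) := by
  haveI := Euler.isNoetherian_of_proper (X := X) k
  haveI := isEquivalence_tF' k hL
  have hd : topologicalKrullDim X ≤ 1 := RegCurve.dim.le
  have hpid : ∀ x : X, IsPrincipalIdealRing (X.presheaf.stalk x) := CurveRR.pid_stalk
  have hE' := FinCov.isFinLocFree_of_rank hE
  have hEc := Euler.isCoh_of_isFinLocFree hE'
  have hC := QCoh.isCoh_cokernel i hP hEc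
  obtain ⟨φ', hφ'⟩ := exists_quotient_pair k hL hi
  obtain ⟨T, Q, ι, π, w, hS, hT, hQc, hη, htf⟩ := Euler.exists_torsion_sequence hC
  haveI : Mono ι := hS.mono_f
  have hgT := Euler.grank_eq_zero_of_notMem hη
  have hQ := Euler.isFinLocFreeOfRank_of_torsionFree hpid hQc htf
  have hQL := isFinLocFreeOfRank_tF hQ hL
  -- the torsion is invariant
  have hinv : Inv L φ' ι := by
    let f : T ⟶ (Euler.tF L).obj Q := (ι ≫ φ') ≫ (Euler.tF L).map π
    have hQLc := Euler.isCoh_of_isFinLocFree (FinCov.isFinLocFree_of_rank hQL)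
    have hIc : Coh.IsCoh (Abelian.image f) := QCoh.isCoh_kernel _ hQLc (QCoh.isCoh_cokernel f hT hQLc)
    have hI := Euler.isFinLocFreeOfRank_of_mono hpid (Abelian.image.ι f) hIc (FinCov.isFinLocFree_of_rank hQL)
    obtain ⟨w1, hw1⟩ := QCoh.shortExact_kernel_image f
    have g := (Euler.degree_quotient k _ _ _ hw1 (QCoh.isCoh_kernel f hT hQLc) hT hIc).2
    rw [show Euler.grank (Abelian.image f) = 0 by omega] at hI
    have hf : f = 0 := by
      rw [← Abelian.image.fac f, (Euler.isZero_of_rank_zero hI).eq_of_tgt (Abelian.factorThruImage f) 0, zero_comp]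
    have hker := (hS.map_of_exact (Euler.tF L)).fIsKernel
    obtain ⟨χ, hχ⟩ := KernelFork.IsLimit.lift' hker (ι ≫ φ') hf
    exact ⟨χ, hχ⟩
  obtain ⟨P', i', hi', hP', hinv', hd'⟩ := exists_preimage_inv k hL i hP hE' φ' hφ' ι hT hinv
  rw [hgT, add_zero] at hP'
  have h1 := hmax P' i' hi' hP' hinv'
  obtain ⟨h0, hz⟩ := Euler.degree_nonneg_of_notMem k hd hT hη
  have hzero : IsZero T := hz (by omega)
  haveI : Mono π := ShortComplex.Exact.mono_g hS.exact (hzero.eq_of_src ι 0)
  haveI : Epi π := hS.epi_g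
  haveI := isIso_of_mono_of_epi π
  obtain ⟨dC, gC⟩ := Euler.degree_quotient k _ _ _ (Euler.cokernel_shortExact i) hP hEc hC
  rw [Euler.grank_of_locFree hE] at gC
  have hgQ : Euler.grank (cokernel i) = Euler.grank Q := Euler.grank_of_iso (asIso π)
  refine ⟨?_, by omega, by rw [Euler.deg_eq_degree k hE]; exact dC⟩
  rw [show r - Euler.grank P = Euler.grank Q by omega]
  intro x
  obtain ⟨U, hx, ⟨e⟩⟩ := hQ x
  exact ⟨U, hx, ⟨(Scheme.Modules.restrictFunctor U.ι).mapIso (asIso π) ≪≫ e⟩⟩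

include k in
/-- The quotient of a semistable pair by an invariant submodule of the same slope is semistable. -/
theorem quotient_pairLe {L E P : X.Modules} (hL : PicF.IsInvertible L) {φ : E ⟶ (Euler.tF L).obj E} {r : ℕ}
    (hr : 0 < r) (hE : FlatMod.IsFinLocFreeOfRank r E) {d : ℤ} (hd : Curv2.deg k X E r = d)
    (hss : PairLe k L φ d r) (i : P ⟶ E) [Mono i] {n : ℕ} (hP : FlatMod.IsFinLocFreeOfRank n P)
    (hi : Inv L φ i) (heq : Euler.degree k P * (r : ℤ) = d * (n : ℤ)) :
    FlatMod.IsFinLocFreeOfRank (r - n) (cokernel i) ∧ n ≤ r ∧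
      Euler.degree k (cokernel i) * (r : ℤ) = d * ((r - n : ℕ) : ℤ) ∧
      ∀ φ' : cokernel i ⟶ (Euler.tF L).obj (cokernel i),
        cokernel.π i ≫ φ' = φ ≫ (Euler.tF L).map (cokernel.π i) →
        PairLe k L φ' (Euler.degree k (cokernel i)) (r - n) := by
  haveI := Euler.isNoetherian_of_proper (X := X) k
  have hrZ : (0 : ℤ) < r := by exact_mod_cast hr
  have hPc := Euler.isCoh_of_isFinLocFree (FinCov.isFinLocFree_of_rank hP)
  have hgP := Euler.grank_of_locFree hP
  obtain ⟨hC, hle, hdeg⟩ := isFinLocFreeOfRank_cokernel_of_inv_max k hL hE i hPc hi fun P' i' hi' hP' hinv => by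
    have h := hss P' _ i' hi' hP' hinv
    rw [hgP, ← heq] at h
    exact le_of_mul_le_mul_right h hrZ
  rw [hgP] at hC hle
  rw [hd] at hdeg
  have hsub : ((r - n : ℕ) : ℤ) = (r : ℤ) - n := by omega
  have hCd : Euler.degree k (cokernel i) * (r : ℤ) = d * ((r - n : ℕ) : ℤ) := by
    have h : d * (r : ℤ) = Euler.degree k P * r + Euler.degree k (cokernel i) * r := by rw [hdeg]; ring
    rw [hsub, mul_sub]; linarith
  refine ⟨hC, hle, hCd, fun φ' hφ' G s j hj hG hinv => ?_⟩
  haveI := hj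
  obtain ⟨P', i', hi', hP', hinv', hd'⟩ := exists_preimage_inv k hL i hPc (FinCov.isFinLocFree_of_rank hE) φ' hφ' j
    (Euler.isCoh_of_isFinLocFree (FinCov.isFinLocFree_of_rank hG)) hinv
  have h := hss P' _ i' hi' hP' hinv'
  rw [hd', hgP, Euler.grank_of_locFree hG] at h
  push_cast at h
  refine le_of_mul_le_mul_right ?_ hrZ
  have h2 : Euler.degree k G * (r : ℤ) ≤ d * s := by rw [add_mul, mul_add] at h; linarith
  calc Euler.degree k G * ((r - n : ℕ) : ℤ) * r = Euler.degree k G * r * ((r - n : ℕ) : ℤ) := by ring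
    _ ≤ d * s * ((r - n : ℕ) : ℤ) := mul_le_mul_of_nonneg_right h2 (Int.natCast_nonneg _)
    _ = Euler.degree k (cokernel i) * s * r := by rw [mul_right_comm (Euler.degree k (cokernel i)), hCd]; ring

include k in
/-- Kernel and image of a map of pairs. -/
theorem exists_image_inv {L E F : X.Modules} (hL : PicF.IsInvertible L) (hE : FlatMod.IsFinLocFree E)
    (hF : FlatMod.IsFinLocFree F) {φ : E ⟶ (Euler.tF L).obj E} {φ' : F ⟶ (Euler.tF L).obj F} (f : E ⟶ F)
    (hf : f ≫ φ' = φ ≫ (Euler.tF L).map f) :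
    FlatMod.IsFinLocFreeOfRank (Euler.grank (kernel f)) (kernel f) ∧ Inv L φ (kernel.ι f) ∧
      FlatMod.IsFinLocFreeOfRank (Euler.grank (Abelian.image f)) (Abelian.image f) ∧
      Inv L φ' (Abelian.image.ι f) ∧
      Euler.degree k E = Euler.degree k (kernel f) + Euler.degree k (Abelian.image f) ∧
      Euler.grank E = Euler.grank (kernel f) + Euler.grank (Abelian.image f) := by
  haveI := Euler.isNoetherian_of_proper (X := X) k
  haveI := isEquivalence_tF' k hL
  have hEc := Euler.isCoh_of_isFinLocFree hE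
  have hFc := Euler.isCoh_of_isFinLocFree hF
  have hKc := QCoh.isCoh_kernel f hEc hFc
  have hIc : Coh.IsCoh (Abelian.image f) := QCoh.isCoh_kernel _ hFc (QCoh.isCoh_cokernel f hEc hFc)
  have hK := Euler.isFinLocFreeOfRank_of_mono CurveRR.pid_stalk (kernel.ι f) hKc hE
  have hI := Euler.isFinLocFreeOfRank_of_mono CurveRR.pid_stalk (Abelian.image.ι f) hIc hF
  obtain ⟨w1, hw1⟩ := QCoh.shortExact_kernel_image f
  obtain ⟨d1, g1⟩ := Euler.degree_quotient k _ _ _ hw1 hKc hEc hIc
  refine ⟨hK, inv_kernel k hL φ f ?_, hI, ?_, d1, g1⟩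
  · rw [Category.assoc, ← hf, kernel.condition_assoc, zero_comp]
  · refine inv_kernel k hL φ' (cokernel.π f) ?_
    refine (cancel_epi (Abelian.factorThruImage f)).1 ?_
    rw [comp_zero, ← Category.assoc, ← Category.assoc,
      show Abelian.factorThruImage f ≫ kernel.ι (cokernel.π f) = f from Abelian.image.fac f, hf, Category.assoc,
      ← (Euler.tF L).map_comp, cokernel.condition, Functor.map_zero, comp_zero]

include k in
/-- An invariant submodule of largest slope, and of largest rank among those. -/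
theorem exists_max_inv {L E : X.Modules} (φ : E ⟶ (Euler.tF L).obj E) {r : ℕ} (hr : 0 < r)
    (hE : FlatMod.IsFinLocFreeOfRank r E) :
    ∃ (P : X.Modules) (n : ℕ) (i : P ⟶ E), Mono i ∧ 0 < n ∧ FlatMod.IsFinLocFreeOfRank n P ∧ Inv L φ i ∧
      PairLe k L φ (Euler.degree k P) n ∧
      ∀ (G : X.Modules) (m : ℕ) (j : G ⟶ E), Mono j → 0 < m → FlatMod.IsFinLocFreeOfRank m G → Inv L φ j →
        Euler.degree k G * (n : ℤ) = Euler.degree k P * (m : ℤ) → m ≤ n := by
  classical
  haveI := Euler.isNoetherian_of_proper (X := X) k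
  have hEc := Euler.isCoh_of_isFinLocFree (FinCov.isFinLocFree_of_rank hE)
  have hle : ∀ (G : X.Modules) (m : ℕ) (j : G ⟶ E), Mono j → FlatMod.IsFinLocFreeOfRank m G → m ≤ r := by
    intro G m j hj hG
    have := Euler.grank_le_of_mono j hEc
    rwa [Euler.grank_of_locFree hG, Euler.grank_of_locFree hE] at this
  let N : ℕ := r.factorial
  let key : ℤ → ℕ → ℤ := fun d m => d * ((N / m : ℕ) : ℤ) * ((r : ℤ) + 1) + m
  let S : ℤ → Prop := fun z => ∃ (G : X.Modules) (m : ℕ) (j : G ⟶ E), Mono j ∧ 0 < m ∧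
    FlatMod.IsFinLocFreeOfRank m G ∧ Inv L φ j ∧ z = key (Euler.degree k G) m
  let B : ℤ := (Module.finrank k (Coh.HH X E 0) : ℤ) + r * (Curv2.genus k X : ℤ)
  have hB : ∀ z, S z → z ≤ B * N * ((r : ℤ) + 1) + r := by
    rintro z ⟨G, m, j, hj, hm, hG, -, rfl⟩
    haveI := hj
    have hmr := hle G m j hj hG
    have h := Euler.deg_le_of_sub k RegCurve.dim.le j hG hEc
    rw [Euler.deg_eq_degree k hG] at h
    have hdB : Euler.degree k G ≤ B := by
      have : (m : ℤ) * ((Curv2.genus k X : ℤ) - 1) ≤ r * (Curv2.genus k X : ℤ) :=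
        calc (m : ℤ) * ((Curv2.genus k X : ℤ) - 1) ≤ m * (Curv2.genus k X : ℤ) :=
              mul_le_mul_of_nonneg_left (by omega) (Int.natCast_nonneg _)
          _ ≤ r * (Curv2.genus k X : ℤ) := mul_le_mul_of_nonneg_right (by exact_mod_cast hmr) (Int.natCast_nonneg _)
      simp only [B]; linarith
    have hB0 : (0 : ℤ) ≤ B := by simp only [B]; positivity
    have h1 : Euler.degree k G * ((N / m : ℕ) : ℤ) ≤ B * N :=
      le_trans (mul_le_mul_of_nonneg_right hdB (Int.natCast_nonneg _))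
        (mul_le_mul_of_nonneg_left (by exact_mod_cast Nat.div_le_self N m) hB0)
    have h2 := mul_le_mul_of_nonneg_right h1 (show (0 : ℤ) ≤ (r : ℤ) + 1 by positivity)
    have : (m : ℤ) ≤ r := by exact_mod_cast hmr
    simp only [key]
    linarith
  have hne : ∃ z, S z := ⟨_, E, r, 𝟙 E, inferInstance, hr, hE, ⟨φ, by rw [CategoryTheory.Functor.map_id, Category.comp_id, Category.id_comp]⟩, rfl⟩
  obtain ⟨z, ⟨P, n, i, hi, hn, hP, hinv, rfl⟩, hz⟩ := Int.exists_greatest_of_bdd (P := S) ⟨_, hB⟩ hne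
  have hNn : ∀ m, 0 < m → m ≤ r → ((N / m : ℕ) : ℤ) * m = N := fun m hm hmr => by
    exact_mod_cast Nat.div_mul_cancel (Nat.dvd_factorial hm hmr)
  have hnr := hle P n i hi hP
  have hN0 : (0 : ℤ) < N := by exact_mod_cast r.factorial_pos
  have main : ∀ (G : X.Modules) (m : ℕ) (j : G ⟶ E), Mono j → 0 < m → FlatMod.IsFinLocFreeOfRank m G → Inv L φ j →
      Euler.degree k G * (n : ℤ) ≤ Euler.degree k P * (m : ℤ) ∧
        (Euler.degree k G * (n : ℤ) = Euler.degree k P * (m : ℤ) → m ≤ n) := by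
    intro G m j hj hm hG hinv'
    have hmr := hle G m j hj hG
    have h := hz _ ⟨G, m, j, hj, hm, hG, hinv', rfl⟩
    simp only [key] at h
    have e1 := hNn m hm hmr
    have e2 := hNn n hn hnr
    generalize ((N / m : ℕ) : ℤ) = a at h e1
    generalize ((N / n : ℕ) : ℤ) = b at h e2
    generalize Euler.degree k G = x at h ⊢
    generalize Euler.degree k P = y at h ⊢
    have hm0 : (0 : ℤ) < m := by exact_mod_cast hm
    have hn0 : (0 : ℤ) < n := by exact_mod_cast hn
    have hnr' : (n : ℤ) ≤ r := by exact_mod_cast hnr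
    have h1 : x * a ≤ y * b := by
      by_contra hlt
      have h3 := mul_le_mul_of_nonneg_right (Int.add_one_le_iff.2 (not_le.1 hlt)) (show (0 : ℤ) ≤ (r : ℤ) + 1 by positivity)
      rw [add_mul, one_mul] at h3
      linarith
    have ea : x * a * ((m : ℤ) * n) = x * n * N := by rw [← e1]; ring
    have eb : y * b * ((m : ℤ) * n) = y * m * N := by rw [← e2]; ring
    refine ⟨le_of_mul_le_mul_right ?_ hN0, fun he => ?_⟩
    · rw [← ea, ← eb]; exact mul_le_mul_of_nonneg_right h1 (by positivity)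
    · have hab : x * a = y * b := mul_right_cancel₀ (mul_pos hm0 hn0).ne' (by rw [ea, eb, he])
      rw [hab] at h
      exact_mod_cast (by linarith : (m : ℤ) ≤ n)
  refine ⟨P, n, i, hi, hn, hP, hinv, fun G m j hj hG hinv' => ?_, fun G m j hj hm hG hinv' => (main G m j hj hm hG hinv').2⟩
  rcases Nat.eq_zero_or_pos m with rfl | hm
  · rw [Euler.degree_of_isZero k (Euler.isZero_of_rank_zero hG)]; simp
  · exact (main G m j hj hm hG hinv').1

end GrothLib.CurveMult
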