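import Groth.Agent.Lib.CurveMult.Hurwitz

/-!
# Fibres of a finite map of regular proper curves: ramification indices add up to the degree
-/

set_option autoImplicit false
set_option linter.style.haveILetI false
set_option linter.unusedSectionVars false

universe u

open CategoryTheory AlgebraicGeometry IsLocalRing WithZero
open _root_.FunFld (Place Divisor)

noncomputable section

namespace GrothLib.CurveMult.Hurwitz

open GrothLib GrothLib.CurveRR GrothLib.FunFld

variable (k : Type u) [Field k] {X Y : Scheme.{u}} [IsIntegral X] [IsIntegral Y] [RegCurve X] [RegCurve Y]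
  [X.Over (Spec (CommRingCat.of k))] [Y.Over (Spec (CommRingCat.of k))]
  {f : X ⟶ Y} (e : f (genericPoint X) = genericPoint Y)
  (hf : f ≫ (Y ↘ Spec (CommRingCat.of k)) = X ↘ Spec (CommRingCat.of k))

/-- The ramification index of the stalk map at a closed point. -/
def ramIdxAt (x : X) : ℕ :=
  letI := (f.stalkMap x).hom.toAlgebra
  Ideal.ramificationIdx (maximalIdeal (X.presheaf.stalk x)) (Y.presheaf.stalk (f x))

include hf in
/-- The place of a point lies over the place of its image with the ramification index of the stalk map. -/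
theorem isOverWith_place [IsProper (X ↘ Spec (CommRingCat.of k))] [IsProper (Y ↘ Spec (CommRingCat.of k))]
    [IsFinite f] (x : CP X) :
    letI := (ψ e).toAlgebra
    _root_.FunFld.IsOverWith (place k x) (place k (⟨f x.1, ne_genericPoint x.2⟩ : CP Y)) (ramIdxAt (f := f) x.1) := by
  letI := (ψ e).toAlgebra
  haveI : IsScalarTower k Y.functionField X.functionField :=
    .of_algebraMap_eq fun c => (ψ_algebraMap k e hf c).symm
  have hFY := isFG k (X := Y)
  haveI : FiniteDimensional Y.functionField X.functionField := finiteDimensional k e hf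
  letI := (f.stalkMap x.1).hom.toAlgebra
  let y : CP Y := ⟨f x.1, ne_genericPoint x.2⟩
  haveI : IsDiscreteValuationRing (Y.presheaf.stalk (f x.1)) := CurveRR.dvrStalk y
  haveI : IsLocalHom (algebraMap (Y.presheaf.stalk (f x.1)) (X.presheaf.stalk x.1)) :=
    inferInstanceAs (IsLocalHom (f.stalkMap x.1).hom)
  have hinj : Function.Injective (algebraMap (Y.presheaf.stalk (f x.1)) (X.presheaf.stalk x.1)) :=
    CurvePoints.stalkMap_injective f e x.1
  have hcomm : ∀ r, algebraMap Y.functionField X.functionField (algebraMap (Y.presheaf.stalk (f x.1)) Y.functionField r) =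
      algebraMap (X.presheaf.stalk x.1) X.functionField ((f.stalkMap x.1).hom r) := ψ_stalk e x.1
  obtain ⟨P', e', he'pos, he'⟩ := exists_isOverWith (K := Y.functionField) (place k x)
  have hPy : P' = place k y := by
    refine valuation_eq_of_O_eq (SetLike.ext fun z => ?_)
    show val P' z ≤ 1 ↔ _
    rw [← val_le_one_iff_of_isOverWith he', mem_place_O]
    constructor
    · intro hz
      by_contra hno
      have hzinv : z⁻¹ ∈ (place k y).O :=
        ((place k y).O.mem_or_inv_mem z).resolve_left fun h => hno ((mem_place_O k).1 h)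
      obtain ⟨r, hr⟩ := (mem_place_O k).1 hzinv
      have hru : r ∈ maximalIdeal (Y.presheaf.stalk (f x.1)) := fun hu => by
        obtain ⟨w, hw⟩ := hu.exists_right_inv
        refine hno ⟨w, ?_⟩
        have h1 := congrArg (algebraMap (Y.presheaf.stalk (f x.1)) Y.functionField) hw
        rw [map_mul, map_one] at h1
        exact mul_left_cancel₀ (left_ne_zero_of_mul_eq_one h1) (h1.trans (by
          rw [hr]
          have h0 : z⁻¹ ≠ 0 := hr ▸ left_ne_zero_of_mul_eq_one h1
          exact (inv_mul_cancel₀ (by simpa using h0)).symm))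
      have h2 : val (place k x) (algebraMap Y.functionField X.functionField z⁻¹) < 1 := by
        rw [← hr, hcomm]
        exact (place_lt_one_iff k).2 ((mem_maximalIdeal _).2 fun hu =>
          (mem_maximalIdeal r).1 hru (isUnit_of_map_unit (f.stalkMap x.1).hom r hu))
      rw [map_inv₀, map_inv₀, inv_lt_one_iff₀] at h2
      rcases h2 with h2 | h2
      · have hz0 : z = 0 := by
          by_contra h0
          exact absurd h2 (not_le.2 (zero_lt_iff.2 ((val (place k x)).ne_zero_iff.2 (by simpa using h0))))
        exact hno ⟨0, by rw [hz0, map_zero]⟩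
      · exact absurd hz (not_le.2 h2)
    · rintro ⟨r, rfl⟩
      rw [hcomm]
      exact (mem_place_O k).2 ⟨_, rfl⟩
  subst hPy
  -- the ramification index
  obtain ⟨ϖ, hϖ⟩ := IsDiscreteValuationRing.exists_irreducible (Y.presheaf.stalk (f x.1))
  obtain ⟨π, hπ⟩ := IsDiscreteValuationRing.exists_irreducible (X.presheaf.stalk x.1)
  have huni : ∀ {Z : Scheme.{u}} [IsIntegral Z] [RegCurve Z] [Z.Over (Spec (CommRingCat.of k))] (z : CP Z)
      {t : Z.presheaf.stalk z.1} (ht : Irreducible t),
      val (place k z) (algebraMap _ Z.functionField t) = exp (-1) := by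
    intro Z _ _ _ z t ht
    show (IsDiscreteValuationRing.maximalIdeal (Z.presheaf.stalk z.1)).valuation Z.functionField _ = _
    rw [IsDedekindDomain.HeightOneSpectrum.valuation_of_algebraMap,
      IsDedekindDomain.HeightOneSpectrum.intValuation_singleton _ ht.ne_zero ht.maximalIdeal_eq]
  have hpow : algebraMap (X.presheaf.stalk x.1) X.functionField ((f.stalkMap x.1).hom ϖ) ≠ 0 := fun h0 =>
    hϖ.ne_zero (hinj (algebraMap_stalk_injective x.1 (h0.trans (map_zero _).symm) |>.trans (map_zero _).symm))
  have hmap : (maximalIdeal (Y.presheaf.stalk (f x.1))).map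
      (algebraMap (Y.presheaf.stalk (f x.1)) (X.presheaf.stalk x.1)) = Ideal.span {π ^ e'} := by
    obtain ⟨n, u, hnu⟩ := IsDiscreteValuationRing.eq_unit_mul_pow_irreducible
      (show (f.stalkMap x.1).hom ϖ ≠ 0 from fun h0 => hpow (by rw [h0, map_zero])) hπ
    have hv : val (place k x) (algebraMap Y.functionField X.functionField
        (algebraMap (Y.presheaf.stalk (f x.1)) Y.functionField ϖ)) = exp (-(e' : ℤ)) := by
      rw [show val (place k x) _ = val (place k y) (algebraMap (Y.presheaf.stalk (f x.1)) Y.functionField ϖ) ^ e'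
        from he' _, huni (Z := Y) y hϖ, ← exp_nsmul]
      simp
    rw [hcomm, hnu, map_mul, map_pow, map_mul, map_pow, huni (Z := X) x hπ, ← exp_nsmul] at hv
    have hu1 : val (place k x) (algebraMap (X.presheaf.stalk x.1) X.functionField u) = 1 := by
      refine le_antisymm ((mem_place_O k).2 ⟨_, rfl⟩) (not_lt.1 fun hlt => ?_)
      exact (place_lt_one_iff k).1 hlt u.isUnit
    rw [hu1, one_mul, exp_inj] at hv
    have hn : n = e' := by simpa using hv
    rw [hϖ.maximalIdeal_eq, Ideal.map_span, Set.image_singleton,
      show algebraMap (Y.presheaf.stalk (f x.1)) (X.presheaf.stalk x.1) ϖ = (f.stalkMap x.1).hom ϖ from rfl, hnu, hn,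
      Ideal.span_singleton_mul_left_unit u.isUnit]
  have hram := ramificationIdx_of_map_eq hinj hπ hmap
  rw [show ramIdxAt (f := f) x.1 = e' from hram]
  exact he'

include hf in
/-- The ramification indices, weighted by the degrees of the points, add up to the degree of the map
times the degree of the image. -/
theorem finsum_ramIdxAt [IsProper (X ↘ Spec (CommRingCat.of k))] [IsProper (Y ↘ Spec (CommRingCat.of k))]
    [IsFinite f] (y : CP Y) :
    letI := (ψ e).toAlgebra
    ∑ᶠ (x : CP X) (_ : f x.1 = y.1), (ramIdxAt (f := f) x.1 : ℤ) * ((place k x).deg : ℤ) =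
      (Module.finrank Y.functionField X.functionField : ℤ) * ((place k y).deg : ℤ) := by
  classical
  letI := (ψ e).toAlgebra
  haveI : IsScalarTower k Y.functionField X.functionField :=
    .of_algebraMap_eq fun c => (ψ_algebraMap k e hf c).symm
  have hFY := isFG k (X := Y)
  haveI : FiniteDimensional Y.functionField X.functionField := finiteDimensional k e hf
  let D : Divisor k Y.functionField := Finsupp.single (place k y) 1
  let E : Divisor k X.functionField := _root_.FunFld.conorm X.functionField D
  have hE : ∀ x : CP X, E (place k x) = if f x.1 = y.1 then (ramIdxAt (f := f) x.1 : ℤ) else 0 := fun x => by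
    show _root_.FunFld.conorm X.functionField D (place k x) = _
    rw [conorm_apply hFY (isOverWith_place k e hf x) D]
    split_ifs with h
    · rw [show (⟨f x.1, ne_genericPoint x.2⟩ : CP Y) = y from Subtype.ext h]
      simp [D]
    · rw [show D (place k (⟨f x.1, ne_genericPoint x.2⟩ : CP Y)) = 0 from Finsupp.single_eq_of_ne
        fun h' => h (congrArg Subtype.val (place_injective (k := k) h')), mul_zero]
  have hdeg : E.deg = (Module.finrank Y.functionField X.functionField : ℤ) * ((place k y).deg : ℤ) := by
    rw [show E.deg = _ from deg_conorm hFY D, show D.deg = _ from deg_single (place k y) 1, one_mul]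
  rw [← hdeg, FunFld.deg_eq_degHom, Finsupp.sum,
    ← finsum_eq_sum_of_support_subset (fun P => E P * (P.deg : ℤ)) (fun P hP => by
      simp only [Function.mem_support, ne_eq, mul_eq_zero, not_or] at hP
      exact Finsupp.mem_support_iff.2 hP.1),
    ← finsum_comp_equiv (placeEquiv k (X := X))]
  refine finsum_congr fun x => ?_
  show _ = E (place k x) * ((place k x).deg : ℤ)
  rw [hE, finsum_eq_if]
  split_ifs <;> simp

end GrothLib.CurveMult.Hurwitz
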