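import Groth.Agent.Lib.CurveMult.OmegaCan
import Groth.Agent.Lib.CurveMult.GenDiv
import Groth.Agent.Lib.CurveMult.DivIso
import Groth.Agent.Lib.CurveRR.Tensor
import Groth.Agent.Lib.Rigidity.Smooth.Curve
import Groth.Agent.Lib.FunFld.CliffordEq
import Groth.Agent.Lib.Seesaw26.Criterion
import Groth.Agent.Lib.RelProjK.Local
import Groth.Prelude.Def_LinSer

/-!
# The canonical system of a curve over an algebraically closed field
-/

set_option autoImplicit false
set_option linter.style.haveILetI false
set_option linter.unusedSectionVars false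

universe u

open CategoryTheory AlgebraicGeometry
open _root_.FunFld (Place Divisor ell)

noncomputable section

namespace GrothLib.CurveMult.OmegaApp

open GrothLib GrothLib.CurveRR

variable (k : Type u) [Field k] {X : Scheme.{u}} [X.Over (Spec (CommRingCat.of k))] [IsIntegral X]
  [IsProper (X ↘ Spec (CommRingCat.of k))]

/-- The canonical data of a regular curve. -/
theorem setup [IsAlgClosed k] (hdim : topologicalKrullDim X = 1) (hreg : ∀ x : X, IsRegularLocalRing (X.presheaf.stalk x)) :
    ∃ _ : RegCurve X, Smooth (X ↘ Spec (CommRingCat.of k)) ∧ _root_.FunFld.IsFunctionField k X.functionField ∧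
      Curv2.genus k X = _root_.FunFld.genus k X.functionField ∧
      ∃ C : Divisor k X.functionField, _root_.FunFld.IsCanonical k X.functionField C ∧
        Nonempty (Omega.sheaf (X ↘ Spec (CommRingCat.of k)) ≅ oD k C) := by
  haveI := regCurve_of_regular (k := k) hdim hreg
  have hsm := Rigidity.smooth_of_isRegular (X ↘ Spec (CommRingCat.of k)) hreg
  haveI := hsm
  have h0 := finrank_H0_structure_eq_one k (X := X)
  exact ⟨inferInstance, hsm, isFunctionField k h0, CurveRR.genus_eq k h0, OmegaCan.exists_iso_omega⟩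

variable [RegCurve X]

theorem finrank_H0_of_iso {L : X.Modules} {D : Divisor k X.functionField} (e : L ≅ oD k D) :
    Module.finrank k (Coh.HH X L 0) = ell D := by
  rw [(Euler.hhEquiv (A := k) e 0).finrank_eq, finrank_H0_oD]

theorem deg_of_iso {L : X.Modules} {D : Divisor k X.functionField} (e : L ≅ oD k D) :
    Curv2.deg k X L 1 = D.deg := by
  rw [Euler.deg_of_iso k e, deg_oD]

theorem finrank_tensor_inverse {Ω L M : X.Modules} {C D : Divisor k X.functionField} (eC : Ω ≅ oD k C)
    (eD : L ≅ oD k D) (hM : PicF.IsInvertible M) (hLM : ClSub.IsInverseOf L M) :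
    Module.finrank k (Coh.HH X (CohB1.tensorMod Ω M) 0) = ell (C - D) := by
  obtain ⟨E, ⟨eE⟩⟩ := exists_iso_oD k hM
  obtain ⟨e⟩ := hLM
  obtain ⟨e1⟩ := nonempty_tensor_iso k eD eE
  have h1 := DivIso.sub_mem_of_iso k (e1.symm ≪≫ e ≪≫ (nonempty_iso_oD_zero k).some)
  rw [sub_zero] at h1
  have h2 : C + E - (C - D) ∈ _root_.FunFld.prinDivs k X.functionField := by
    convert h1 using 1; abel
  obtain ⟨e2⟩ := nonempty_tensor_iso k eC eE
  obtain ⟨e3⟩ := DivIso.nonempty_iso_of_sub_mem k h2
  exact finrank_H0_of_iso k (e2 ≪≫ e3)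

theorem exists_linSer {D : Divisor k X.functionField} {d r : ℕ} (hd : D.deg = d) (hl : r + 1 ≤ ell D) :
    ∃ s : Fin (r + 1) → LinSer.Sect X (oD k D), LinSer.IsLinSer k X (oD k D) d r s := by
  haveI := Euler.isNoetherian_of_proper (X := X) k
  haveI := Euler.finiteDimensional_HH k (Euler.isCoh_of_isInvertible (isInvertible_oD k D)) 0
  rw [← finrank_H0_oD] at hl
  let b := Module.finBasis k (Coh.HH X (oD k D) 0)
  let v : Fin (r + 1) → Coh.HH X (oD k D) 0 := b ∘ Fin.castLE hl
  have hv : LinearIndependent k v := b.linearIndependent.comp _ (Fin.castLE_injective hl)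
  refine ⟨fun i => ProjCoh.H0top (oD k D) (v i), isInvertible_oD k D, by rw [deg_oD, hd], fun c hc => ?_⟩
  refine funext (Fintype.linearIndependent_iff.1 hv c ((ProjCoh.H0top (oD k D)).injective ?_))
  rw [map_sum, map_zero]
  refine Eq.trans ?_ hc
  refine Finset.sum_congr rfl fun i _ => ?_
  rw [ProjCoh.H0top_smul]
  rfl

theorem exists_divisor_of_linSer {M : X.Modules} {d r : ℕ} {t : Fin (r + 1) → LinSer.Sect X M}
    (hM : LinSer.IsLinSer k X M d r t) :
    ∃ D : Divisor k X.functionField, D.deg = d ∧ r + 1 ≤ ell D := by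
  obtain ⟨hinv, hdeg, hli⟩ := hM
  obtain ⟨D, ⟨e⟩⟩ := exists_iso_oD k hinv
  refine ⟨D, by rw [← deg_of_iso k e]; exact hdeg, ?_⟩
  rw [← finrank_H0_of_iso k e]
  haveI := Euler.isNoetherian_of_proper (X := X) k
  haveI := Euler.finiteDimensional_HH k (Euler.isCoh_of_isInvertible hinv) 0
  have hz : LinearIndependent k fun i => (ProjCoh.H0top M).symm (t i) := by
    rw [Fintype.linearIndependent_iff]
    intro c hc
    refine congrFun (hli c ?_)
    have h1 := congrArg (ProjCoh.H0top M) hc
    rw [map_sum, map_zero] at h1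
    refine Eq.trans ?_ h1
    refine Finset.sum_congr rfl fun i _ => ?_
    rw [ProjCoh.H0top_smul, AddEquiv.apply_symm_apply]
    rfl
  have := hz.fintype_card_le_finrank
  rwa [Fintype.card_fin] at this

end GrothLib.CurveMult.OmegaApp
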