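import Groth.Agent.Lib.CurveMult.CoordIndep28
import Groth.Agent.Lib.Jets.CharZero
import Groth.Agent.Lib.Jets.Scheme
import Groth.Agent.Lib.Rigidity.SmoothGroup
import Groth.Agent.Lib.GeomRed6.Smooth
import Groth.Agent.Lib.CurveMult.OmegaApp
import Groth.Agent.Lib.Tango28.Forms
import Groth.Agent.Lib.LinesPt28.Pencil

/-!
# General hyperplane sections of a nondegenerate curve span the hyperplane
-/

set_option autoImplicit false
set_option linter.all false
set_option backward.isDefEq.respectTransparency false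
set_option maxHeartbeats 1600000

universe u

open CategoryTheory CategoryTheory.Limits AlgebraicGeometry TopologicalSpace
open GrothLib GrothLib.CurveRR

noncomputable section

namespace GrothLib.CurveMult.HypSect28

variable (k : Type u) [Field k] [IsAlgClosed k] {C : Scheme.{u}} [IsIntegral C] [RegCurve C]
  [C.Over (Spec (CommRingCat.of k))] [IsProper (C ↘ Spec (CommRingCat.of k))] {n : ℕ}
  (i : C ⟶ CohB1.ProjSpace n k) (hi : i ≫ CohB1.ProjSpace.toSpec n k = C ↘ Spec (CommRingCat.of k))

/-- The coefficient vector of a linear form. -/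
def coef : LefPen.Form n k 1 →ₗ[k] (Fin (n + 1) → k) :=
  LinearMap.pi fun l => (MvPolynomial.lcoeff k (Finsupp.single l 1)).comp (CohB1.polyGrading n k 1).subtype

theorem form_coef (G : LefPen.Form n k 1) : Tango28.form (coef k G) = G.1 := by
  have ha : G.1 ∈ Submodule.span k (Set.range (MvPolynomial.X : Fin (n + 1) → MvPolynomial (Fin (n + 1)) k)) := by
    rw [← MvPolynomial.homogeneousSubmodule_one_eq_span_X]
    exact G.2
  obtain ⟨c, hc⟩ := (Submodule.mem_span_range_iff_exists_fun k).1 ha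
  have hc' : Tango28.form c = G.1 := (Tango28.form_apply c).trans hc
  have : coef k G = c := funext fun l => by
    show MvPolynomial.coeff (Finsupp.single l 1) G.1 = c l
    rw [← hc', Tango28.coeff_form]
  rw [this, hc']

theorem aeval_form {K : Type u} [Field K] [Algebra k K] (h : Fin (n + 1) → K) (G : LefPen.Form n k 1) :
    MvPolynomial.aeval h G.1 = ∑ l, coef k G l • h l := by
  conv_lhs => rw [← form_coef k G]
  simp [Tango28.form_apply]

omit [IsAlgClosed k] [IsProper (C ↘ Spec (CommRingCat.of k))] [RegCurve C] [IsIntegral C] in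
/-- Membership in a hypersurface section in a chart. -/
theorem mem_support_iff {d : ℕ} (G : LefPen.Form n k d) (j : Fin (n + 1)) {y : C}
    (hy : y ∈ i ⁻¹ᵁ SepImm.D (k := k) j) :
    i y ∈ (LefPen.hypIdeal G).support ↔ y ∉ C.basicOpen (SepImm.ψ i j (LefPen.dehom G j)) := by
  let U : (CohB1.ProjSpace n k).affineOpens := ⟨LefPen.chart n k j, HypSurf.isAffineOpen_chart j⟩
  rw [Scheme.IdealSheafData.mem_support_iff_of_mem (U := U) hy, HypSurf.hypIdeal_ideal_eq G U j le_rfl,
    Ample.res_self, Scheme.zeroLocus_span, Scheme.zeroLocus_singleton, Set.mem_compl_iff, SetLike.mem_coe]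
  exact not_congr (iff_of_eq (congrArg (y ∈ ·) (Scheme.preimage_basicOpen i (LefPen.dehom G j))))

variable [CharZero k] (hnd : ∀ s : LinSer.Sect (CohB1.ProjSpace n k) (Twist.twistProjSpace n k 1), s ≠ 0 →
  OmegaSh.pullSect i (Twist.twistProjSpace n k 1) ⊤ s ≠ 0)

include hi hnd in
/-- For a general hyperplane every form vanishing on its section is proportional to it. -/
theorem exists_poly (hsm : Smooth (C ↘ Spec (CommRingCat.of k))) :
    ∃ P : MvPolynomial (Fin (n + 1)) k, P ≠ 0 ∧ ∀ G : LefPen.Form n k 1, MvPolynomial.eval (coef k G) P ≠ 0 →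
      G ≠ 0 ∧ ∀ G' : LefPen.Form n k 1,
        (∀ x : C, i x ∈ (LefPen.hypIdeal G).support → i x ∈ (LefPen.hypIdeal G').support) →
        ∃ c : k, G' = c • G := by
  classical
  haveI := hsm
  obtain ⟨D, h, -, -, hind, hcoord⟩ := CoordFn28.exists_coords_indep k i hi hnd
  haveI := Euler.isNoetherian_of_proper (X := C) k
  have hcov : ∀ x : C, ∃ W : C.affineOpens, x ∈ W.1 ∧ ∃ j, W.1 ≤ i ⁻¹ᵁ SepImm.D (k := k) j := fun x => by
    obtain ⟨j, hj⟩ := Opens.mem_iSup.1 ((Ample.ProjMap.iSup_basicOpen_X n k).ge (Opens.mem_top (i x)))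
    obtain ⟨W, hxW, hW⟩ := BlowUp.exists_affine_mem_le (W := i ⁻¹ᵁ SepImm.D (k := k) j) (x := x) hj
    exact ⟨W, hxW, j, hW⟩
  choose W hxW jW hjW using hcov
  obtain ⟨t, ht⟩ := isCompact_univ.elim_finite_subcover (fun x : C => ((W x).1 : Set C)) (fun x => (W x).1.2)
    fun x _ => Set.mem_iUnion.2 ⟨x, hxW x⟩
  have key : ∀ x : C, ∃ P : MvPolynomial (Fin (n + 1)) k, P ≠ 0 ∧ ∀ G : LefPen.Form n k 1,
      MvPolynomial.eval (coef k G) P ≠ 0 → ∀ G' : LefPen.Form n k 1,
        (∀ y : C, i y ∈ (LefPen.hypIdeal G).support → i y ∈ (LefPen.hypIdeal G').support) →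
        ∃ u : Γ(C, (W x).1), MvPolynomial.aeval h G'.1 =
          C.presheaf.germ _ _ (ProjCoh.genericPoint_mem (hxW x)) u * MvPolynomial.aeval h G.1 := by
    intro x
    set U := W x with hU
    set j := jW x with hj'
    have hUj : U.1 ≤ i ⁻¹ᵁ SepImm.D (k := k) j := hjW x
    have hη : genericPoint C ∈ U.1 := ProjCoh.genericPoint_mem (hxW x)
    have hηj : genericPoint C ∈ i ⁻¹ᵁ SepImm.D (k := k) j := hUj hη
    obtain ⟨hj0, hrat⟩ := hcoord j hηj
    letI := Jets.constAlgebra (k := k) U.1
    haveI : Algebra.Smooth k Γ(C, U.1) := Jets.smooth_constHom U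
    let ev : LefPen.Form n k 1 → Γ(C, U.1) := fun G => Ample.res hUj (SepImm.ψ i j (LefPen.dehom G j))
    let g : Fin (n + 1) → Γ(C, U.1) := fun l => Ample.res hUj (SepImm.ψ i j (SepImm.rat j l))
    have hgerm : ∀ l, C.presheaf.germ U.1 _ hη (g l) = h l / h j := fun l =>
      (C.presheaf.germ_res_apply _ _ _ _).trans (hrat l)
    have hinj : Function.Injective (C.presheaf.germ U.1 (genericPoint C) hη) :=
      germ_injective_of_isIntegral C (genericPoint C) hη
    have hev : ∀ G, C.presheaf.germ U.1 _ hη (ev G) = MvPolynomial.aeval h G.1 / h j := fun G => by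
      refine (C.presheaf.germ_res_apply _ _ _ _).trans ?_
      rw [← PnMap.χ_form, PnMap.germ_ψ_χ k i hi j hηj (fun l => h l / h j) hrat G.1, aeval_form, aeval_form,
        Finset.sum_div]
      exact Finset.sum_congr rfl fun l _ => (smul_div_assoc _ _ _).symm
    have hspan : Ideal.span (Set.range g) = ⊤ := by
      refine Ideal.eq_top_of_isUnit_mem _ (Ideal.subset_span ⟨j, rfl⟩) ?_
      rw [show g j = 1 from hinj (by rw [hgerm, map_one, div_self hj0])]
      exact isUnit_one
    obtain ⟨P, hP0, hP⟩ := Jets.exists_poly_smooth_charZero (k := k) g hspan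
    refine ⟨P, hP0, fun G hG G' hle => ?_⟩
    have hsum : ∑ l, coef k G l • g l = ev G := hinj (by
      rw [hev, aeval_form, map_sum, Finset.sum_div]
      refine Finset.sum_congr rfl fun l _ => ?_
      rw [Algebra.smul_def, map_mul, hgerm, Algebra.smul_def, mul_div_assoc]
      exact congrArg (· * (h l / h j)) (germ_locHom k hη (coef k G l)))
    haveI := hP _ hG
    haveI : _root_.IsReduced (Γ(C, U.1) ⧸ Ideal.span {∑ l, coef k G l • g l}) :=
      GeomRed6.isReduced_of_smooth_field k _
    have hrad : (Ideal.span {ev G}).IsRadical := by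
      rw [← hsum]
      exact (Ideal.isRadical_iff_quotient_reduced _).2 inferInstance
    have hmem : ev G' ∈ Ideal.span {ev G} := by
      rw [← hrad.radical, Ideal.radical_eq_sInf, Submodule.mem_sInf]
      rintro p ⟨hp, hpp⟩
      by_contra hn
      let P' : PrimeSpectrum Γ(C, U.1) := ⟨p, hpp⟩
      let y := U.2.fromSpec P'
      have hyU : y ∈ U.1 := by rw [← SetLike.mem_coe, ← U.2.range_fromSpec]; exact ⟨_, rfl⟩
      have hb : ∀ G, y ∈ C.basicOpen (ev G) ↔ ev G ∉ p := fun G => by
        have h1 : P' ∈ U.2.fromSpec ⁻¹ᵁ C.basicOpen (ev G) ↔ P' ∈ PrimeSpectrum.basicOpen (ev G) := by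
          rw [U.2.fromSpec_preimage_basicOpen]
        exact h1
      have hb' : ∀ G, y ∈ C.basicOpen (ev G) ↔ i y ∉ (LefPen.hypIdeal G).support := fun G => by
        rw [mem_support_iff k i G j (hUj hyU), not_not]
        show y ∈ C.basicOpen ((C.presheaf.map (homOfLE hUj).op).hom _) ↔ _
        rw [Scheme.basicOpen_res]
        exact ⟨fun h => h.2, fun h => ⟨hyU, h⟩⟩
      have hG1 : i y ∈ (LefPen.hypIdeal G).support := by
        by_contra hh
        exact (hb G).1 ((hb' G).2 hh) (hp (Ideal.mem_span_singleton_self _))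
      exact (hb' G').1 ((hb G').2 hn) (hle y hG1)
    obtain ⟨u, hu⟩ := Ideal.mem_span_singleton'.1 hmem
    refine ⟨u, ?_⟩
    have := congrArg (C.presheaf.germ U.1 _ hη) hu
    rw [map_mul, hev, hev] at this
    rw [← div_left_inj' hj0, mul_div_assoc]
    exact this.symm
  choose P hP0 hP using key
  obtain ⟨l₀⟩ : Nonempty (Fin (n + 1)) := inferInstance
  refine ⟨(∏ x ∈ t, P x) * MvPolynomial.X l₀, mul_ne_zero (Finset.prod_ne_zero_iff.2 fun x _ => hP0 x)
    (MvPolynomial.X_ne_zero _), fun G hG => ?_⟩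
  rw [map_mul, mul_ne_zero_iff, map_prod, Finset.prod_ne_zero_iff, MvPolynomial.eval_X] at hG
  refine ⟨fun h0 => hG.2 (by rw [h0, map_zero]; rfl), fun G' hle => ?_⟩
  have hinjc : ∀ c : Fin (n + 1) → k, ∑ l, c l • h l = 0 → c = 0 := fun c hc =>
    funext (Fintype.linearIndependent_iff.1 hind c hc)
  have hF : MvPolynomial.aeval h G.1 ≠ 0 := fun h0 => hG.2 (by
    rw [aeval_form] at h0
    exact congrFun (hinjc _ h0) l₀)
  let q := MvPolynomial.aeval h G'.1 / MvPolynomial.aeval h G.1
  have hq : q ∈ _root_.FunFld.L (0 : _root_.FunFld.Divisor k C.functionField) := fun Q => by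
    obtain ⟨z, rfl⟩ := place_surjective (k := k) Q
    obtain ⟨x, hxt, hzx⟩ := Set.mem_iUnion₂.1 (ht (Set.mem_univ z.1))
    obtain ⟨u, hu⟩ := hP x G (hG.1 x hxt) G' hle
    show (place k z).1 q ≤ WithZero.exp 0
    rw [show q = C.presheaf.germ _ _ (ProjCoh.genericPoint_mem (hxW x)) u from by
      show MvPolynomial.aeval h G'.1 / _ = _
      rw [hu, mul_div_assoc, div_self hF, mul_one], WithZero.exp_zero]
    exact place_germ_le_one k z hzx u
  rw [GrothLib.FunFld.L_zero_eq_one (isFunctionField k (finrank_H0_structure_eq_one k (X := C)))] at hq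
  obtain ⟨c, hc⟩ := Submodule.mem_one.mp hq
  refine ⟨c, ?_⟩
  have h1 : coef k (G' - c • G) = 0 := hinjc _ (by
    rw [← aeval_form, AddSubgroupClass.coe_sub, SetLike.val_smul, map_sub, map_smul, Algebra.smul_def, hc]
    show MvPolynomial.aeval h G'.1 - MvPolynomial.aeval h G'.1 / MvPolynomial.aeval h G.1 * MvPolynomial.aeval h G.1 = 0
    rw [div_mul_cancel₀ _ hF, sub_self])
  have h2 : (G' - c • G).1 = 0 := by rw [← form_coef k (G' - c • G), h1, map_zero]
  exact sub_eq_zero.1 (Subtype.ext h2)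

include hi hnd in
/-- The generic spanning property. -/
theorem isGeneric_span (hsm : Smooth (C ↘ Spec (CommRingCat.of k))) :
    LefPen.IsGeneric k {G : LefPen.Form n k 1 | G ≠ 0 ∧ ∀ G' : LefPen.Form n k 1,
      (∀ x : C, i x ∈ (LefPen.hypIdeal G).support → i x ∈ (LefPen.hypIdeal G').support) →
        ∃ c : k, G' = c • G} := by
  obtain ⟨P, hP0, hP⟩ := exists_poly k i hi hnd hsm
  refine ⟨fun G => MvPolynomial.eval (coef k G) P, ?_, ?_, fun G hG => hP G hG⟩
  · show (fun G => MvPolynomial.eval (coef k G) P) ∈ Algebra.adjoin k _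
    clear hP hP0
    induction P using MvPolynomial.induction_on with
    | C a =>
      have : (fun G : LefPen.Form n k 1 => MvPolynomial.eval (coef k G) (MvPolynomial.C a)) = algebraMap k _ a := by
        funext G; simp
      rw [this]; exact Subalgebra.algebraMap_mem _ a
    | add p q hp hq => simp only [map_add]; exact add_mem hp hq
    | mul_X p l hp =>
      simp only [map_mul, MvPolynomial.eval_X]
      exact mul_mem hp (Algebra.subset_adjoin ⟨(LinearMap.proj l).comp (coef k), rfl⟩)
  · haveI : Infinite k := IsAlgClosed.instInfinite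
    by_contra hall
    push Not at hall
    refine hP0 (MvPolynomial.funext fun x => ?_)
    have h := hall (LinesPt28.frm x)
    rw [show coef k (LinesPt28.frm x) = x from funext fun l => Tango28.coeff_form x l] at h
    rw [h, map_zero]

include hi hnd in
omit [CharZero k] in
/-- A nondegenerate curve lies in no hyperplane. -/
theorem eq_zero_of_forall_mem {G : LefPen.Form n k 1} (hall : ∀ x : C, i x ∈ (LefPen.hypIdeal G).support) :
    G = 0 := by
  obtain ⟨D, h, -, -, hind, hcoord⟩ := CoordFn28.exists_coords_indep k i hi hnd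
  obtain ⟨j, hj⟩ : ∃ j, i (genericPoint C) ∈ SepImm.D (k := k) j :=
    Opens.mem_iSup.1 ((Ample.ProjMap.iSup_basicOpen_X n k).ge (Opens.mem_top (i (genericPoint C))))
  replace hj : genericPoint C ∈ i ⁻¹ᵁ SepImm.D (k := k) j := hj
  obtain ⟨hj0, hrat⟩ := hcoord j hj
  have h1 := (mem_support_iff k i G j hj).1 (hall _)
  rw [Scheme.mem_basicOpen _ _ _ hj] at h1
  have h2 : C.presheaf.germ _ _ hj (SepImm.ψ i j (LefPen.dehom G j)) = 0 := by
    by_contra h0
    exact h1 (isUnit_iff_ne_zero (G₀ := C.functionField).2 h0)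
  rw [← PnMap.χ_form, PnMap.germ_ψ_χ k i hi j hj (fun l => h l / h j) hrat G.1, aeval_form] at h2
  have h3 : ∑ l, coef k G l • h l = 0 := by
    have h4 : (∑ l, coef k G l • h l) / h j = 0 := by
      rw [Finset.sum_div]
      refine Eq.trans (Finset.sum_congr rfl fun l _ => smul_div_assoc _ _ _) h2
    exact (div_eq_zero_iff.1 h4).resolve_right hj0
  have h5 : coef k G = 0 := funext (Fintype.linearIndependent_iff.1 hind _ h3)
  exact Subtype.ext (by rw [← form_coef k G, h5, map_zero]; rfl)

end GrothLib.CurveMult.HypSect28
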