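import Groth.Agent.Lib.CurveMult.HyperP1
import Groth.Agent.Lib.CurveMult.HyperSep
import Groth.Agent.Lib.CurveMult.NormalRat
import Groth.Agent.Lib.CurveRR.FiniteField

/-!
# Double covers of the projective line
-/

set_option linter.style.haveILetI false
set_option backward.isDefEq.respectTransparency false

universe u

open CategoryTheory CategoryTheory.Limits AlgebraicGeometry TopologicalSpace Opposite

noncomputable section

namespace GrothLib.CurveMult

variable (k : Type u) [Field k] {X : Scheme.{u}} [IsIntegral X] [X.Over (Spec (CommRingCat.of k))]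
  [IsProper (X ↘ Spec (CommRingCat.of k))] [Smooth (X ↘ Spec (CommRingCat.of k))] [CurveRR.RegCurve X]

/-- A linear series of degree two and dimension one is a double cover of the line. -/
theorem exists_double_cover (h0 : Module.finrank k (Coh.HH X (Coh.structureModule X) 0) = 1)
    (hg : 0 < Curv2.genus k X) {D : _root_.FunFld.Divisor k X.functionField} (hD : D.deg = 2)
    (hl : 2 ≤ _root_.FunFld.ell D) :
    ∃ f : X ⟶ CohB1.ProjSpace 1 k, f ≫ CohB1.ProjSpace.toSpec 1 k = X ↘ Spec (CommRingCat.of k) ∧
      IsFinite f ∧ Flat f ∧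
      (∀ V : (CohB1.ProjSpace 1 k).Opens, (V : Set (CohB1.ProjSpace 1 k)).Nonempty → f (genericPoint X) ∈ V) ∧
      f.residueDegree (genericPoint X) = 2 ∧
      letI := (f.residueFieldMap (genericPoint X)).hom.toAlgebra
      Algebra.IsSeparable ((CohB1.ProjSpace 1 k).residueField (f (genericPoint X))) (X.residueField (genericPoint X)) := by
  have hF := CurveRR.isFunctionField k h0
  obtain ⟨x, hxt, hx2⟩ := exists_finrank_two hF (by rw [← CurveRR.genus_eq k h0]; exact hg) hD hl
  obtain ⟨f, hη, hf, hnc, hx⟩ := HyperP1.exists_hom_P1 k hxt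
  obtain ⟨hfin, hfl, hgen⟩ := HyperP1.isFinite_flat_dominant k f hf hnc
  obtain ⟨-, hd, hs⟩ := HyperP1.generic_data k f hf hgen hη hx
  exact ⟨f, hf, hfin, hfl, hgen, by rw [hd, hx2], hs.2 (isSeparable_of_finrank_two k h0 hg hx2)⟩

omit [Smooth (X ↘ Spec (CommRingCat.of k))] in
/-- A rational point gives a place of degree one. -/
theorem exists_place_deg_one (s : Spec (CommRingCat.of k) ⟶ X) (hs : s ≫ (X ↘ Spec (CommRingCat.of k)) = 𝟙 _) :
    ∃ P : _root_.FunFld.Place k X.functionField, P.deg = 1 := by
  haveI : Subsingleton ↥(Spec (CommRingCat.of k)) := inferInstanceAs (Subsingleton (PrimeSpectrum k))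
  let o : ↥(Spec (CommRingCat.of k)) := IsLocalRing.closedPoint k
  haveI : IsClosedImmersion (s ≫ (X ↘ Spec (CommRingCat.of k))) := by rw [hs]; infer_instance
  haveI : IsClosedImmersion s := .of_comp s (X ↘ Spec (CommRingCat.of k))
  have hcl : IsClosed ({s o} : Set X) := by
    have := s.isClosedEmbedding.isClosedMap _ (isClosed_discrete {o})
    rwa [Set.image_singleton] at this
  have hne := (CurveRR.isClosed_iff_ne_genericPoint k (s o)).1 hcl
  refine ⟨CurveRR.place k ⟨s o, hne⟩, ?_⟩
  letI := (GrothLib.AffDom.toRes (X ↘ Spec (CommRingCat.of k)) (s o)).toAlgebra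
  rw [CurveRR.deg_place k ⟨s o, hne⟩, Zeta.residueDegree_eq_finrank]
  have hb := bijective_resMap_of_section k s hs o
  have e : k ≃ₗ[k] (X.residueField (s o) : Type u) := LinearEquiv.ofBijective (Algebra.linearMap k _) (by
    show Function.Bijective (GrothLib.AffDom.toRes (X ↘ Spec (CommRingCat.of k)) (s o))
    rw [CurveRR.toRes_eq]
    exact hb)
  rw [← e.finrank_eq, Module.finrank_self]

end GrothLib.CurveMult

namespace GrothLib.CurveMult

/-- The standard open of the projective line contains the generic point. -/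
theorem D_nonempty (k : Type u) [Field k] (n : ℕ) (j : Fin (n + 1)) :
    ((SepImm.D (k := k) j : (CohB1.ProjSpace n k).Opens) : Set (CohB1.ProjSpace n k)).Nonempty :=
  ⟨(ProjDim.botPt : ProjectiveSpectrum (CohB1.polyGrading n k)), fun h => MvPolynomial.X_ne_zero j h⟩

variable (k : Type u) [Field k] {X : Scheme.{u}} [IsIntegral X] [X.Over (Spec (CommRingCat.of k))]
  [IsProper (X ↘ Spec (CommRingCat.of k))] [CurveRR.RegCurve X]

include k in
/-- A finite morphism does not contract a curve. -/
theorem range_nontrivial_of_isFinite {Y : Scheme.{u}} (f : X ⟶ Y) [IsFinite f] :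
    (Set.range f.base).Nontrivial := by
  by_contra h
  rw [Set.not_nontrivial_iff] at h
  have hd := f.isDiscrete_preimage_singleton (f (genericPoint X))
  have huniv : f ⁻¹' {f (genericPoint X)} = Set.univ :=
    Set.eq_univ_of_forall fun x => h ⟨x, rfl⟩ ⟨_, rfl⟩
  rw [huniv, isDiscrete_univ_iff] at hd
  exact (CurveRR.isClosed_iff_ne_genericPoint k (genericPoint X)).1 (isClosed_discrete _) rfl

end GrothLib.CurveMult
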