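import Groth.Agent.Lib.FunFld.Conseq
import Groth.Agent.Lib.FunFld.RR
import Groth.Agent.S10994
import Mathlib.FieldTheory.PurelyInseparable.Basic
import Mathlib.FieldTheory.IsAlgClosed.Basic

/-!
# Function fields which are quadratic over a rational subfield
-/

set_option linter.style.haveILetI false

universe u

open IntermediateField Polynomial WithZero
open _root_.FunFld (Place Divisor ell)

noncomputable section

namespace GrothLib.CurveMult

variable {k K : Type u} [Field k] [Field K] [Algebra k K]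

/-- A quadratic extension which is not separable contains the squares in the small field. -/
theorem sq_mem_of_not_isSeparable (E : IntermediateField k K) (h2 : Module.finrank E K = 2)
    (hs : ¬ Algebra.IsSeparable E K) (u : K) : u ^ 2 ∈ E := by
  haveI : FiniteDimensional E K := Module.finite_of_finrank_eq_succ h2
  by_cases hu : u ∈ E
  · exact pow_mem hu 2
  have hint : IsIntegral E u := Algebra.IsIntegral.isIntegral u
  have hne1 : (minpoly E u).natDegree ≠ 1 := fun h => hu (by
    obtain ⟨w, hw⟩ := minpoly.natDegree_eq_one_iff.1 h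
    rw [← hw]; exact w.2)
  have hle : (minpoly E u).natDegree ≤ 2 := (minpoly.natDegree_le u).trans h2.le
  have hpos := minpoly.natDegree_pos hint
  have hdeg : (minpoly E u).natDegree = 2 := by omega
  have htop : IntermediateField.adjoin E ({u} : Set K) = ⊤ :=
    IntermediateField.eq_of_le_of_finrank_le le_top (by
      rw [IntermediateField.finrank_top', h2, IntermediateField.adjoin.finrank hint, hdeg])
  have hns : ¬ IsSeparable E u := fun hu' => hs (by
    have := (IntermediateField.isSeparable_adjoin_simple_iff_isSeparable E K).2 hu'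
    rw [htop] at this
    exact Algebra.IsSeparable.of_algHom E _ (IntermediateField.topEquiv (F := E) (E := K)).symm.toAlgHom)
  have hder : derivative (minpoly E u) = 0 := by
    by_contra h
    exact hns ((separable_iff_derivative_ne_zero (minpoly.irreducible hint)).2 h)
  have hc1 : (minpoly E u).coeff 1 = 0 := by
    have := congrArg (fun p => p.coeff 0) hder
    simpa [coeff_derivative] using this
  have hev := minpoly.aeval E u
  rw [aeval_eq_sum_range, hdeg] at hev
  simp only [Finset.sum_range_succ, Finset.sum_range_zero, zero_add, hc1, zero_smul, add_zero, pow_zero] at hev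
  rw [show (minpoly E u).coeff 2 = 1 from hdeg ▸ (minpoly.monic hint).coeff_natDegree, one_smul,
    Algebra.smul_def, mul_one] at hev
  have h5 : u ^ 2 = ((-(minpoly E u).coeff 0 : E) : K) := by
    show u ^ 2 = -((minpoly E u).coeff 0 : K)
    rw [show (algebraMap E K) ((minpoly E u).coeff 0) = ((minpoly E u).coeff 0 : K) from rfl] at hev
    linear_combination hev
  rw [h5]
  exact SetLike.coe_mem _

/-- Over an algebraically closed field a field whose squares lie in a rational subfield is rational. -/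
theorem exists_generator_of_sq_mem [IsAlgClosed k] {x : K} (hsq : ∀ u : K, u ^ 2 ∈ adjoin k ({x} : Set K)) :
    ∃ z : K, adjoin k ({z} : Set K) = ⊤ := by
  by_cases hall : ∀ u : K, u ∈ adjoin k ({x} : Set K)
  · exact ⟨x, eq_top_iff.2 fun u _ => hall u⟩
  push Not at hall
  obtain ⟨y, hy⟩ := hall
  let E := adjoin k ({x} : Set K)
  have htwo : (2 : K) = 0 := by
    by_contra h2
    refine hy ?_
    have h1 : y = ((y + 1) ^ 2 - y ^ 2 - 1) / 2 := by field_simp; ring
    rw [h1]
    exact div_mem (sub_mem (sub_mem (hsq _) (hsq _)) (one_mem _)) (by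
      have : (2 : K) = 1 + 1 := by norm_num
      rw [this]; exact add_mem (one_mem _) (one_mem _))
  have hsplit : ∀ p : k[X], ∃ a b : K, a ∈ E ∧ b ∈ E ∧ aeval x p = a ^ 2 + x * b ^ 2 := by
    intro p
    induction p using Polynomial.induction_on' with
    | add p q hp hq =>
      obtain ⟨a, b, ha, hb, h⟩ := hp
      obtain ⟨a', b', ha', hb', h'⟩ := hq
      refine ⟨a + a', b + b', add_mem ha ha', add_mem hb hb', ?_⟩
      rw [map_add, h, h']
      linear_combination -(a * a' + x * b * b') * htwo
    | monomial n c =>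
      obtain ⟨s, hs⟩ := IsAlgClosed.exists_pow_nat_eq c zero_lt_two
      have hx : x ∈ E := mem_adjoin_simple_self k x
      rcases Nat.even_or_odd' n with ⟨i, rfl | rfl⟩
      · refine ⟨algebraMap k K s * x ^ i, 0, mul_mem (E.algebraMap_mem s) (pow_mem hx i), zero_mem _, ?_⟩
        rw [aeval_monomial, ← hs, map_pow]; ring
      · refine ⟨0, algebraMap k K s * x ^ i, zero_mem _, mul_mem (E.algebraMap_mem s) (pow_mem hx i), ?_⟩
        rw [aeval_monomial, ← hs, map_pow]; ring
  obtain ⟨p, q, hpq⟩ := (mem_adjoin_simple_iff k _).1 (hsq y)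
  have hq0 : aeval x q ≠ 0 := fun h => hy (by
    rw [h, div_zero] at hpq
    rw [pow_eq_zero_iff two_ne_zero |>.1 hpq]; exact zero_mem _)
  obtain ⟨a, b, ha, hb, hab⟩ := hsplit (p * q)
  have hqE : aeval x q ∈ E := by
    have : aeval x q ∈ Algebra.adjoin k ({x} : Set K) := aeval_mem_adjoin_singleton k x
    exact algebra_adjoin_le_adjoin k _ this
  let y' := y * aeval x q
  have hy' : y' ∉ E := fun h => hy (by
    have := div_mem h hqE
    rwa [mul_div_cancel_right₀ _ hq0] at this)
  have hy'2 : y' ^ 2 = a ^ 2 + x * b ^ 2 := by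
    rw [← hab, map_mul, mul_pow, hpq]; field_simp
  have hb0 : b ≠ 0 := by
    rintro rfl
    refine hy' ?_
    have h1 : (y' + a) ^ 2 = 0 := by linear_combination hy'2 + (a ^ 2 + y' * a) * htwo
    rw [show y' = -a from eq_neg_of_add_eq_zero_left ((pow_eq_zero_iff two_ne_zero).1 h1)]
    exact neg_mem ha
  let z := (y' + a) / b
  have hz : z ^ 2 = x := by
    simp only [z]
    field_simp
    linear_combination hy'2 + (a ^ 2 + y' * a) * htwo
  refine ⟨z, eq_top_iff.2 fun u _ => ?_⟩
  let S : IntermediateField k K :=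
    { carrier := {w | ∃ v ∈ adjoin k ({z} : Set K), w = v ^ 2}
      mul_mem' := by rintro _ _ ⟨v, hv, rfl⟩ ⟨v', hv', rfl⟩; exact ⟨v * v', mul_mem hv hv', (mul_pow _ _ _).symm⟩
      one_mem' := ⟨1, one_mem _, (one_pow _).symm⟩
      add_mem' := by
        rintro _ _ ⟨v, hv, rfl⟩ ⟨v', hv', rfl⟩
        exact ⟨v + v', add_mem hv hv', by linear_combination -(v * v') * htwo⟩
      zero_mem' := ⟨0, zero_mem _, by ring⟩
      algebraMap_mem' := fun c => by
        obtain ⟨s, hs⟩ := IsAlgClosed.exists_pow_nat_eq c zero_lt_two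
        exact ⟨algebraMap k K s, IntermediateField.algebraMap_mem _ _, by rw [← hs, map_pow]⟩
      inv_mem' := by rintro _ ⟨v, hv, rfl⟩; exact ⟨v⁻¹, inv_mem hv, (inv_pow _ _).symm⟩ }
  have hES : E ≤ S := adjoin_simple_le_iff.2 ⟨z, mem_adjoin_simple_self k z, hz.symm⟩
  obtain ⟨v, hv, huv⟩ := hES (hsq u)
  have h1 : (u + v) ^ 2 = 0 := by linear_combination huv + (v ^ 2 + u * v) * htwo
  rw [show u = -v from eq_neg_of_add_eq_zero_left ((pow_eq_zero_iff two_ne_zero).1 h1)]
  exact neg_mem hv

theorem genus_eq_zero_of_sq_mem [IsAlgClosed k] (h : _root_.FunFld.IsFunctionField k K) {x : K}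
    (hsq : ∀ u : K, u ^ 2 ∈ adjoin k ({x} : Set K)) : _root_.FunFld.genus k K = 0 :=
  ((Groth.Agent.S10994.result k K h).2 (exists_generator_of_sq_mem hsq)).1

/-- A pencil of degree two gives a function with rational subfield of index two. -/
theorem exists_finrank_two (h : _root_.FunFld.IsFunctionField k K) (hg : 0 < _root_.FunFld.genus k K)
    {D : Divisor k K} (hD : D.deg = 2) (hl : 2 ≤ ell D) :
    ∃ x : K, Transcendental k x ∧ Module.finrank (adjoin k ({x} : Set K)) K = 2 := by
  classical
  have hfg : FunFld.IsFG k K := h.1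
  obtain ⟨w, hw, -, hE⟩ := hfg.exists_of_ell_pos (D := D) (by omega)
  let E := D + _root_.FunFld.div k w
  have hE0 : 0 ≤ E := hE
  have hEd : E.deg = 2 := by rw [FunFld.deg_add, hfg.deg_div, add_zero, hD]
  have hlE : 2 ≤ ell E := by rw [hfg.ell_add_div D hw]; exact hl
  haveI := hfg.finite_L (0 : Divisor k K)
  obtain ⟨x, hxE, hx0⟩ := SetLike.not_le_iff_exists.1 (show ¬ _root_.FunFld.L E ≤ _root_.FunFld.L (0 : Divisor k K)
    from fun hle => by
      have h1 : ell E ≤ ell (0 : Divisor k K) := Submodule.finrank_mono hle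
      have := FunFld.ell_zero h
      omega)
  have hxne : x ≠ 0 := by rintro rfl; exact hx0 (zero_mem _)
  have hxt : Transcendental k x := fun halg => hx0 (by
    obtain ⟨c, rfl⟩ := h.2 x halg
    rw [Algebra.algebraMap_eq_smul_one]
    exact Submodule.smul_mem _ _ fun P => by simp)
  have hle : FunFld.poleDiv (k := k) x ≤ E := fun P => by
    rw [hfg.poleDiv_apply]
    have := (FunFld.mem_L_iff_ord hxne).1 hxE P
    have := hE0 P
    simp only [Finsupp.coe_zero, Pi.zero_apply] at this
    omega
  have hd : (FunFld.poleDiv (k := k) x).deg ≤ 2 := by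
    rw [← hEd]
    have hnn : (0 : ℤ) ≤ (E - FunFld.poleDiv (k := k) x).deg := by
      rw [FunFld.deg_eq_degHom]
      exact Finset.sum_nonneg fun Q _ => mul_nonneg (sub_nonneg.2 hle Q) (Int.natCast_nonneg _)
    rw [FunFld.deg_sub] at hnn
    omega
  have hdeq := hfg.deg_poleDiv hxt
  haveI := hfg.finiteDimensional_adjoin hxt
  have hpos : 0 < Module.finrank (adjoin k ({x} : Set K)) K := Module.finrank_pos
  have hne1 : Module.finrank (adjoin k ({x} : Set K)) K ≠ 1 := fun h1 => by
    have := ((Groth.Agent.S10994.result k K h).2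
      ⟨x, FunFld.adjoin_eq_top_of_deg_poleDiv hfg hxt (by rw [hdeq, h1]; rfl)⟩).1
    omega
  exact ⟨x, hxt, by omega⟩

theorem val_aeval_le_one {P : Place k K} {x : K} (hx : P.1 x ≤ 1) (p : k[X]) : P.1 (aeval x p) ≤ 1 := by
  induction p using Polynomial.induction_on' with
  | add p q hp hq => rw [map_add]; exact (P.1.map_add _ _).trans (max_le hp hq)
  | monomial n c =>
    rw [aeval_monomial, map_mul, map_pow]
    exact mul_le_one' (P.2.1 c) (pow_le_one₀ zero_le hx)

theorem val_aeval_of_one_lt {P : Place k K} {x : K} (hx : 1 < P.1 x) :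
    ∀ (n : ℕ) (p : k[X]), p.natDegree = n → p ≠ 0 → P.1 (aeval x p) = P.1 x ^ n
  | 0, p, hn, hp => by
    rw [eq_C_of_natDegree_eq_zero hn, aeval_C, pow_zero]
    exact FunFld.val_const P fun h => hp (by rw [eq_C_of_natDegree_eq_zero hn, h, C_0])
  | n + 1, p, hn, hp => by
    have hdiv : p.divX.natDegree = n := by rw [natDegree_divX_eq_natDegree_tsub_one, hn]; rfl
    have hdiv0 : p.divX ≠ 0 := fun h => by
      have := congrArg natDegree (divX_mul_X_add p)
      rw [h, zero_mul, zero_add, natDegree_C] at this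
      omega
    conv_lhs => rw [← divX_mul_X_add p, map_add, map_mul, aeval_X, aeval_C]
    have h1 : P.1 (aeval x p.divX * x) = P.1 x ^ (n + 1) := by
      rw [map_mul, val_aeval_of_one_lt hx n _ hdiv hdiv0, pow_succ]
    rw [P.1.map_add_eq_of_lt_left (by
      rw [h1]
      exact lt_of_le_of_lt (P.2.1 _) (one_lt_pow₀ hx (by omega)))]
    exact h1

/-- A rational function of `x` with no more poles than `x` is linear in `x`. -/
theorem mem_span_of_mem_adjoin (h : _root_.FunFld.IsFunctionField k K) {x y : K} {E : Divisor k K}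
    (hEx : ∀ P : Place k K, 0 < E P → 1 < P.1 x) (hxt : Transcendental k x) (hxE : x ∈ _root_.FunFld.L E)
    (hyE : y ∈ _root_.FunFld.L E) (hy : y ∈ adjoin k ({x} : Set K))
    (hbound : ∀ P : Place k K, 0 < E P → exp (E P) ≤ P.1 x) :
    y ∈ Submodule.span k ({1, x} : Set K) := by
  have hfg : FunFld.IsFG k K := h.1
  obtain ⟨p₀, q₀, hpq⟩ := (mem_adjoin_simple_iff k _).1 hy
  by_cases hy0 : y = 0
  · rw [hy0]; exact zero_mem _
  obtain ⟨p, q, hcop, hq0, hyeq⟩ : ∃ p q : k[X], IsCoprime p q ∧ q ≠ 0 ∧ y = aeval x p / aeval x q := by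
    classical
    have hq₀ : q₀ ≠ 0 := fun h => hy0 (by rw [hpq, h, map_zero, div_zero])
    obtain ⟨p, hp⟩ := EuclideanDomain.gcd_dvd_left p₀ q₀
    obtain ⟨q, hq⟩ := EuclideanDomain.gcd_dvd_right p₀ q₀
    have hg : EuclideanDomain.gcd p₀ q₀ ≠ 0 := fun h => hq₀ ((EuclideanDomain.gcd_eq_zero_iff.1 h).2)
    refine ⟨p, q, ?_, fun h => hq₀ (by rw [hq, h, mul_zero]), ?_⟩
    · refine ⟨EuclideanDomain.gcdA p₀ q₀, EuclideanDomain.gcdB p₀ q₀, mul_left_cancel₀ hg ?_⟩
      have := EuclideanDomain.gcd_eq_gcd_ab p₀ q₀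
      linear_combination -this - EuclideanDomain.gcdA p₀ q₀ * hp - EuclideanDomain.gcdB p₀ q₀ * hq
    · have hgx : aeval x (EuclideanDomain.gcd p₀ q₀) ≠ 0 := fun h => hxt ⟨_, hg, h⟩
      rw [hpq]
      have e1 : aeval x p₀ = aeval x (EuclideanDomain.gcd p₀ q₀) * aeval x p := by rw [← map_mul, ← hp]
      have e2 : aeval x q₀ = aeval x (EuclideanDomain.gcd p₀ q₀) * aeval x q := by rw [← map_mul, ← hq]
      rw [e1, e2, mul_div_mul_left _ _ hgx]
  have hqx : aeval x q ≠ 0 := fun h => hxt ⟨_, hq0, h⟩
  have hqdeg : q.natDegree = 0 := by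
    by_contra hd
    obtain ⟨P, hP⟩ := hfg.exists_zero (hxt.aeval q (by omega) (mem_nonZeroDivisors_of_ne_zero (Polynomial.leadingCoeff_ne_zero.2 hq0)) : Transcendental k (aeval x q))
    have hlt : P.1 (aeval x q) < 1 := (FunFld.val_lt_one_iff P hqx).2 hP
    have hxle : P.1 x ≤ 1 := by
      by_contra hgt
      push Not at hgt
      rw [val_aeval_of_one_lt hgt _ q rfl hq0] at hlt
      exact absurd (one_lt_pow₀ hgt hd) (not_lt.2 hlt.le)
    have hp1 : P.1 (aeval x p) = 1 := by
      obtain ⟨a, b, hab⟩ := hcop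
      refine le_antisymm (val_aeval_le_one hxle p) (not_lt.1 fun hp => ?_)
      have h1 := congrArg (fun t => P.1 (aeval x t)) hab
      simp only [map_add, map_mul, map_one] at h1
      refine (lt_of_le_of_lt (P.1.map_add _ _) (max_lt ?_ ?_)).ne h1
      · rw [map_mul]; exact lt_of_le_of_lt (mul_le_of_le_one_left zero_le (val_aeval_le_one hxle a)) hp
      · rw [map_mul]; exact lt_of_le_of_lt (mul_le_of_le_one_left zero_le (val_aeval_le_one hxle b)) hlt
    have hy1 := hyE P
    rw [hyeq, map_div₀, hp1] at hy1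
    have hpos : 0 < E P := by
      by_contra hle
      push Not at hle
      have h2 : (1 : WithZero (Multiplicative ℤ)) / P.1 (aeval x q) ≤ 1 :=
        hy1.trans (by rw [← exp_zero]; exact exp_le_exp.2 hle)
      rw [div_le_one₀ (zero_lt_iff.2 ((map_ne_zero P.1).2 hqx))] at h2
      exact not_lt.2 h2 hlt
    exact not_lt.2 hxle (hEx P hpos)
  have hc := eq_C_of_natDegree_eq_zero hqdeg
  have hpdeg : p.natDegree ≤ 1 := by
    by_contra hd
    obtain ⟨P, hP⟩ := hfg.exists_pole hxt
    have hx0 : x ≠ 0 := by rintro rfl; exact hxt isAlgebraic_zero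
    have hgt : 1 < P.1 x := not_le.1 fun hle => by
      have := (FunFld.val_le_one_iff P hx0).1 hle; omega
    have hp0 : p ≠ 0 := fun h => hy0 (by rw [hyeq, h, map_zero, zero_div])
    have hy1 := hyE P
    rw [hyeq, map_div₀, val_aeval_of_one_lt hgt _ p rfl hp0, hc, aeval_C,
      FunFld.val_const P (fun h => hq0 (by rw [hc, h, C_0])), div_one] at hy1
    have hEP : 0 < E P := by
      by_contra hle
      push Not at hle
      exact not_lt.2 ((hxE P).trans (by rw [← exp_zero]; exact exp_le_exp.2 hle)) hgt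
    have h2 := hy1.trans (hbound P hEP)
    exact absurd (pow_lt_pow_right₀ hgt (by omega : 1 < p.natDegree)) (not_lt.2 (by rw [pow_one]; exact h2))
  rw [hyeq, hc, aeval_C, eq_X_add_C_of_natDegree_le_one hpdeg]
  refine Submodule.mem_span_pair.2 ⟨p.coeff 0 / q.coeff 0, p.coeff 1 / q.coeff 0, ?_⟩
  simp only [Algebra.smul_def, map_div₀, map_add, map_mul, aeval_C, aeval_X]
  ring

/-- In positive genus a divisor of degree two has at most two independent functions. -/
theorem ell_le_two (h : _root_.FunFld.IsFunctionField k K) (hg : 0 < _root_.FunFld.genus k K)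
    {D : Divisor k K} (hD : D.deg = 2) : ell D ≤ 2 := by
  classical
  by_contra hl
  push Not at hl
  have hfg : FunFld.IsFG k K := h.1
  obtain ⟨w, hw, -, hE⟩ := hfg.exists_of_ell_pos (D := D) (by omega)
  let E := D + _root_.FunFld.div k w
  have hE0 : 0 ≤ E := hE
  have hEd : E.deg = 2 := by rw [FunFld.deg_add, hfg.deg_div, add_zero, hD]
  have hlE : 3 ≤ ell E := by rw [hfg.ell_add_div D hw]; exact hl
  have hone : (1 : K) ∈ _root_.FunFld.L E := fun P => by
    rw [map_one, ← exp_zero, exp_le_exp]
    exact hE0 P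
  haveI := hfg.finite_L E
  obtain ⟨x, hxE, hx0⟩ := SetLike.not_le_iff_exists.1 (show ¬ _root_.FunFld.L E ≤ k ∙ (1 : K) from fun hle => by
    have h1 : Module.finrank k (_root_.FunFld.L E) ≤ Module.finrank k (k ∙ (1 : K)) := Submodule.finrank_mono hle
    rw [finrank_span_singleton (one_ne_zero : (1 : K) ≠ 0)] at h1
    have : ell E = Module.finrank k (_root_.FunFld.L E) := rfl
    omega)
  obtain ⟨y, hyE, hy0⟩ := SetLike.not_le_iff_exists.1 (show ¬ _root_.FunFld.L E ≤ Submodule.span k {1, x} from
    fun hle => by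
      haveI : Module.Finite k (Submodule.span k ({1, x} : Set K)) :=
        Module.Finite.span_of_finite k (Set.toFinite _)
      have h1 : Module.finrank k (_root_.FunFld.L E) ≤ Module.finrank k (Submodule.span k ({1, x} : Set K)) :=
        Submodule.finrank_mono hle
      have h2 : Module.finrank k (Submodule.span k ({1, x} : Set K)) ≤ 2 := by
        refine (finrank_span_le_card _).trans ?_
        rw [← Set.ncard_eq_toFinset_card']
        exact (Set.ncard_insert_le _ _).trans (by simp)
      have : ell E = Module.finrank k (_root_.FunFld.L E) := rfl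
      omega)
  have hxne : x ≠ 0 := by rintro rfl; exact hx0 (zero_mem _)
  have hyne : y ≠ 0 := by rintro rfl; exact hy0 (zero_mem _)
  have hxt : Transcendental k x := fun halg => hx0 (by
    obtain ⟨c, rfl⟩ := h.2 x halg
    exact Submodule.mem_span_singleton.2 ⟨c, (Algebra.algebraMap_eq_smul_one c).symm⟩)
  let Pol : Submodule k K := Submodule.span k (Set.range fun i : ℕ => x ^ i)
  -- the multiples
  have hmemE : ∀ (i : ℕ), x ^ i ∈ _root_.FunFld.L (i • E) ∧ y * x ^ i ∈ _root_.FunFld.L ((i + 1) • E) := by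
    intro i
    induction i with
    | zero => exact ⟨by rw [pow_zero, zero_smul]; exact fun P => by simp, by rw [pow_zero, mul_one, zero_add, one_smul]; exact hyE⟩
    | succ i ih =>
      refine ⟨fun P => ?_, fun P => ?_⟩
      · rw [pow_succ, map_mul, succ_nsmul, Finsupp.add_apply, exp_add]
        exact mul_le_mul' (ih.1 P) (hxE P)
      · rw [pow_succ, ← mul_assoc, map_mul, succ_nsmul _ (i + 1), Finsupp.add_apply, exp_add]
        exact mul_le_mul' (ih.2 P) (hxE P)
  have hmono : ∀ {i j : ℕ}, i ≤ j → _root_.FunFld.L (i • E) ≤ _root_.FunFld.L (j • E) := fun hij =>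
    FunFld.L_mono (fun P => by
      rw [Finsupp.smul_apply, Finsupp.smul_apply]
      exact nsmul_le_nsmul_left (hE0 P) hij)
  let g := _root_.FunFld.genus k K
  let m := 2 * g + 1
  haveI := hfg.finite_L (m • E)
  let v : (Fin (m + 1) ⊕ Fin m) → _root_.FunFld.L (m • E) := Sum.elim
    (fun i => ⟨x ^ (i : ℕ), hmono (Nat.lt_succ_iff.1 i.2) (hmemE i).1⟩)
    (fun i => ⟨y * x ^ (i : ℕ), hmono i.2 (hmemE i).2⟩)
  have hxE' : x ∈ adjoin k ({x} : Set K) := mem_adjoin_simple_self k x
  have hple : FunFld.poleDiv (k := k) x ≤ E := fun P => by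
    rw [hfg.poleDiv_apply]
    have := (FunFld.mem_L_iff_ord hxne).1 hxE P
    have := hE0 P
    simp only [Finsupp.coe_zero, Pi.zero_apply] at this
    omega
  have hdx := hfg.deg_poleDiv hxt
  haveI := hfg.finiteDimensional_adjoin hxt
  have hne1 : Module.finrank (adjoin k ({x} : Set K)) K ≠ 1 := fun h1 => by
    have := ((Groth.Agent.S10994.result k K h).2
      ⟨x, FunFld.adjoin_eq_top_of_deg_poleDiv hfg hxt (by rw [hdx, h1]; rfl)⟩).1
    omega
  have hp : 0 < Module.finrank (adjoin k ({x} : Set K)) K := Module.finrank_pos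
  have hEx : ∀ P : Place k K, 0 < E P → 1 < P.1 x := by
    intro P hP
    by_contra hle
    push Not at hle
    have h0 : FunFld.poleDiv (k := k) x P = 0 := by
      rw [hfg.poleDiv_apply]
      have := (FunFld.val_le_one_iff P hxne).1 hle
      omega
    have hpos : (0 : ℤ) < (E - FunFld.poleDiv (k := k) x).deg := by
      rw [FunFld.deg_eq_degHom]
      refine Finset.sum_pos' (fun R _ => mul_nonneg (sub_nonneg.2 hple R) (Int.natCast_nonneg _))
        ⟨P, Finsupp.mem_support_iff.2 ?_, mul_pos ?_ (by exact_mod_cast hfg.deg_pos P)⟩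
      · rw [Finsupp.sub_apply, h0, sub_zero]; exact hP.ne'
      · rw [Finsupp.sub_apply, h0, sub_zero]; exact hP
    rw [FunFld.deg_sub, hdx, hEd] at hpos
    omega
  have hbound : ∀ P : Place k K, 0 < E P → exp (E P) ≤ P.1 x := by
    intro P hP
    have hEP : FunFld.poleDiv (k := k) x P = E P := by
      refine le_antisymm (hple P) ?_
      by_contra hlt
      push Not at hlt
      have hpos : (0 : ℤ) < (E - FunFld.poleDiv (k := k) x).deg := by
        rw [FunFld.deg_eq_degHom]
        refine Finset.sum_pos' (fun R _ => mul_nonneg (sub_nonneg.2 hple R) (Int.natCast_nonneg _))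
          ⟨P, Finsupp.mem_support_iff.2 ?_, mul_pos ?_ (by exact_mod_cast hfg.deg_pos P)⟩
        · rw [Finsupp.sub_apply]; exact (sub_pos.2 hlt).ne'
        · rw [Finsupp.sub_apply]; exact sub_pos.2 hlt
      rw [FunFld.deg_sub, hdx, hEd] at hpos
      omega
    rw [hfg.poleDiv_apply] at hEP
    have hval : P.1 x = exp (-P.ord x) := FunFld.val_eq P hxne
    rw [hval, exp_le_exp]
    omega
  have hy : y ∉ adjoin k ({x} : Set K) := fun hy => hy0 (mem_span_of_mem_adjoin h hEx hxt hxE hyE hy hbound)
  have hli : LinearIndependent k v := by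
    refine LinearIndependent.of_comp (_root_.FunFld.L (m • E)).subtype ?_
    rw [linearIndependent_sum]
    refine ⟨?_, ?_, ?_⟩
    · exact (FunFld.linearIndependent_pow_of_transcendental hxt).comp _ Fin.val_injective
    · have h1 := (FunFld.linearIndependent_pow_of_transcendental hxt).comp _ (Fin.val_injective (n := m))
      exact h1.map' (LinearMap.mulLeft k y) (LinearMap.ker_eq_bot.2 (mul_right_injective₀ hyne))
    · rw [Submodule.disjoint_def]
      intro t ht1 ht2
      have hE1 : ∀ t ∈ Submodule.span k (Set.range ((_root_.FunFld.L (m • E)).subtype ∘ v ∘ Sum.inl)),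
          t ∈ adjoin k ({x} : Set K) := fun t ht => by
        refine (Submodule.span_le (p := (adjoin k ({x} : Set K)).toSubalgebra.toSubmodule)).2 ?_ ht
        rintro _ ⟨i, rfl⟩
        exact pow_mem hxE' _
      have hE2 : ∀ t ∈ Submodule.span k (Set.range ((_root_.FunFld.L (m • E)).subtype ∘ v ∘ Sum.inr)),
          t / y ∈ adjoin k ({x} : Set K) := fun t ht => by
        induction ht using Submodule.span_induction with
        | mem t ht => obtain ⟨i, rfl⟩ := ht; show y * x ^ (i : ℕ) / y ∈ _; rw [mul_div_cancel_left₀ _ hyne]; exact pow_mem hxE' _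
        | zero => rw [zero_div]; exact zero_mem _
        | add a b _ _ ha hb => rw [add_div]; exact add_mem ha hb
        | smul c a _ ha => rw [smul_div_assoc]; exact IntermediateField.smul_mem _ ha
      by_contra ht0
      refine hy ?_
      have := div_mem (hE1 t ht1) (hE2 t ht2)
      rwa [div_div_cancel₀ ht0] at this
  have h1 := hli.fintype_card_le_finrank
  rw [Fintype.card_sum, Fintype.card_fin, Fintype.card_fin] at h1
  have h2 := FunFld.ell_eq_of_deg_ge h (D := m • E) (by rw [FunFld.deg_nsmul, hEd]; push_cast [m, g]; omega)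
  rw [FunFld.deg_nsmul, hEd] at h2
  have h3 : ell (m • E) = Module.finrank k (_root_.FunFld.L (m • E)) := rfl
  rw [← h3] at h1
  push_cast [m, g] at h2 h1
  omega

end GrothLib.CurveMult
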