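import Groth.Agent.Lib.CurveMult.SepImm
import Groth.Agent.Lib.CurveMult.HyperFF
import Groth.Agent.Lib.CurveRR.Setup
import Groth.Agent.Lib.CurveRR.Main
import Groth.Agent.Lib.ProjDim.Const
import Groth.Agent.Lib.CurveMult.ProjSmooth
import Groth.Agent.S10829
import Groth.Agent.S0219
import Groth.Agent.S0220
import Groth.Agent.Lib.CurvePoints.Basic

/-!
# Rational functions and morphisms to the projective line
-/

set_option linter.style.haveILetI false
set_option backward.isDefEq.respectTransparency false

universe u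

open CategoryTheory CategoryTheory.Limits AlgebraicGeometry TopologicalSpace Opposite WithZero
open GrothLib.Ample (res)
open GrothLib.CurveRR
open _root_.FunFld (Place)

noncomputable section

namespace GrothLib.CurveMult.HyperP1

variable (k : Type u) [Field k] {X : Scheme.{u}} [IsIntegral X] [RegCurve X]
  [X.Over (Spec (CommRingCat.of k))] [IsProper (X ↘ Spec (CommRingCat.of k))]

omit [RegCurve X] [IsProper (X ↘ Spec (CommRingCat.of k))] in
theorem germ_const {U : X.Opens} (hU : genericPoint X ∈ U) (c : k) :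
    X.presheaf.germ U _ hU (res (le_top : U ≤ ⊤) (ProjUP.toGlobal (X ↘ Spec (CommRingCat.of k)) c)) =
      algebraMap k X.functionField c :=
  X.presheaf.germ_res_apply _ _ _ _

/-- A transcendental function is a morphism to the projective line which does not shrink the generic point. -/
theorem exists_hom_P1 {x : X.functionField} (hxt : Transcendental k x) :
    ∃ (f : X ⟶ CohB1.ProjSpace 1 k) (hη : genericPoint X ∈ f ⁻¹ᵁ SepImm.D (k := k) 0),
      f ≫ CohB1.ProjSpace.toSpec 1 k = X ↘ Spec (CommRingCat.of k) ∧ (Set.range f.base).Nontrivial ∧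
      X.presheaf.germ _ _ hη (SepImm.ψ f 0 (SepImm.rat 0 1)) = x := by
  classical
  have hx0 : x ≠ 0 := by rintro rfl; exact hxt isAlgebraic_zero
  let v : Fin 2 → X.functionField := ![1, x]
  have hv : ∀ i, v i ≠ 0 := fun i => by fin_cases i <;> simp [v, hx0]
  have hfin : ∀ i, {z : CP X | ∃ l, 1 < (place k z).1 (v l / v i)}.Finite := by
    intro i
    refine (Set.finite_iUnion fun l => finite_bad k 0 (v l / v i)).subset fun z ⟨l, hl⟩ => ?_
    refine Set.mem_iUnion.2 ⟨l, Or.inr fun h0 => not_le.2 hl ?_⟩
    have hne : v l / v i ≠ 0 := div_ne_zero (hv l) (hv i)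
    exact (GrothLib.FunFld.val_le_one_iff (place k z) hne).2 h0.ge
  choose U hU using fun i => exists_open_avoiding (hfin i)
  have hηU : ∀ i, genericPoint X ∈ U i := fun i => (hU i _).2 fun z _ => z.2
  have hzU : ∀ i (z : CP X), z.1 ∈ U i ↔ ∀ l, (place k z).1 (v l / v i) ≤ 1 := by
    intro i z
    rw [hU]
    refine ⟨fun h l => not_lt.1 fun hlt => h z ⟨l, hlt⟩ rfl, fun h w hw he => ?_⟩
    obtain ⟨l, hl⟩ := hw
    rw [Subtype.ext he] at hl
    exact not_le.2 hl (h l)
  choose φ hφ using fun i l => exists_section_of_regular k (hηU i) (v l / v i) fun z hz => (hzU i z).1 hz l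
  have hcover : ⨆ i, U i = ⊤ := eq_top_iff.2 fun y _ => by
    by_cases hy : y = genericPoint X
    · exact Opens.mem_iSup.2 ⟨0, hy ▸ hηU 0⟩
    obtain ⟨i, -, hi⟩ := Finset.exists_max_image (Finset.univ : Finset (Fin 2)) (fun l => (place k (⟨y, hy⟩ : CP X)).1 (v l))
      ⟨0, Finset.mem_univ _⟩
    refine Opens.mem_iSup.2 ⟨i, (hzU i ⟨y, hy⟩).2 fun l => ?_⟩
    rw [map_div₀, div_le_one₀ (zero_lt_iff.2 ((map_ne_zero _).2 (hv i)))]
    exact hi l (Finset.mem_univ _)
  have hinj : ∀ {W : X.Opens} (hW : genericPoint X ∈ W), Function.Injective (X.presheaf.germ W _ hW) := fun hW => by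
    exact germ_injective_of_isIntegral X (genericPoint X) hW
  let Dt : Ample.ProjMap.Data 1 (X ↘ Spec (CommRingCat.of k)) :=
    { U := U
      φ := φ
      cover := hcover
      self := fun i => hinj (hηU i) (by rw [hφ, map_one, div_self (hv i)])
      change := fun i j l W hi hj => by
        by_cases hW : genericPoint X ∈ W
        · refine hinj hW ?_
          have hr : ∀ (a : Fin 2) (ha : W ≤ U a) (b : Fin 2),
              X.presheaf.germ W _ hW (res ha (φ a b)) = v b / v a :=
            fun a ha b => (X.presheaf.germ_res_apply _ _ _ _).trans (hφ a b)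
          rw [map_mul, hr, hr, hr]
          field_simp [hv i, hv j]
        · exact TopCat.Presheaf.section_ext X.sheaf W _ _ fun y hy => (hW (ProjCoh.genericPoint_mem hy)).elim
      basicOpen_eq := fun i j => by
        refine Opens.ext (Set.ext fun y => ?_)
        by_cases hy : y = genericPoint X
        · subst hy
          refine iff_of_true ?_ ⟨hηU i, hηU j⟩
          rw [SetLike.mem_coe, Scheme.mem_basicOpen _ _ _ (hηU i), hφ]
          exact (div_ne_zero (hv j) (hv i)).isUnit
        let z : CP X := ⟨y, hy⟩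
        show y ∈ X.basicOpen (φ i j) ↔ y ∈ U i ⊓ U j
        by_cases hyi : y ∈ U i
        swap
        · exact iff_of_false (fun h => hyi (X.basicOpen_le _ h)) fun h => hyi h.1
        have hle := (hzU i z).1 hyi
        have hkey : y ∈ X.basicOpen (φ i j) ↔ ¬ (place k z).1 (v j / v i) < 1 := by
          rw [← hφ i j, germ_generic hyi, place_lt_one_iff, IsLocalRing.mem_maximalIdeal, mem_nonunits_iff, not_not,
            Scheme.mem_basicOpen _ _ _ hyi]
        rw [hkey]
        have hpos : 0 < (place k z).1 (v i) := zero_lt_iff.2 ((map_ne_zero _).2 (hv i))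
        have hposj : 0 < (place k z).1 (v j) := zero_lt_iff.2 ((map_ne_zero _).2 (hv j))
        constructor
        · intro h
          refine ⟨hyi, (hzU j z).2 fun l => ?_⟩
          rw [map_div₀, div_le_one₀ hposj]
          rw [map_div₀, not_lt, one_le_div₀ hpos] at h
          have := hle l
          rw [map_div₀, div_le_one₀ hpos] at this
          exact this.trans h
        · intro h hlt
          have h2 := (hzU j z).1 h.2 i
          rw [map_div₀, div_le_one₀ hposj] at h2
          rw [map_div₀, div_lt_one₀ hpos] at hlt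
          exact not_lt.2 h2 hlt }
  have hη : genericPoint X ∈ Dt.map ⁻¹ᵁ SepImm.D (k := k) 0 := by rw [Dt.map_preimage]; exact hηU 0
  refine ⟨Dt.map, hη, Dt.map_toSpec, ?_, ?_⟩
  · obtain ⟨P, hP⟩ := (isFG k (X := X)).exists_pole hxt
    obtain ⟨z, rfl⟩ := place_surjective (k := k) P
    refine ⟨Dt.map (genericPoint X), ⟨_, rfl⟩, Dt.map z.1, ⟨_, rfl⟩, fun he => ?_⟩
    have hz : z.1 ∈ Dt.map ⁻¹ᵁ SepImm.D (k := k) 0 := by
      show Dt.map z.1 ∈ SepImm.D (k := k) 0
      rw [← he]; exact hη
    rw [Dt.map_preimage] at hz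
    have h1 := (hzU 0 z).1 hz 1
    have h2 : v 1 / v 0 = x := by simp [v]
    rw [h2, GrothLib.FunFld.val_le_one_iff _ hx0] at h1
    omega
  · have h1 := Dt.map_appLE_ratio 0 1 (W := Dt.map ⁻¹ᵁ SepImm.D (k := k) 0) (Dt.map_preimage 0).le le_rfl
    have h2 : SepImm.ψ Dt.map 0 (SepImm.rat 0 1) =
        res (show Dt.map ⁻¹ᵁ SepImm.D (k := k) 0 ≤ U 0 from (Dt.map_preimage 0).le) (φ 0 1) := by
      rw [SepImm.ψ, Scheme.Hom.app_eq_appLE]
      exact h1
    rw [h2]
    refine (X.presheaf.germ_res_apply _ _ _ _).trans ((hφ 0 1).trans ?_)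
    simp [v]

/-- The function field extension of a morphism onto the projective line. -/
theorem generic_data (f : X ⟶ CohB1.ProjSpace 1 k) (hf : f ≫ CohB1.ProjSpace.toSpec 1 k = X ↘ Spec (CommRingCat.of k))
    (hgen : ∀ V : (CohB1.ProjSpace 1 k).Opens, (V : Set (CohB1.ProjSpace 1 k)).Nonempty → f (genericPoint X) ∈ V)
    (hη : genericPoint X ∈ f ⁻¹ᵁ SepImm.D (k := k) 0) {x : X.functionField}
    (hx : X.presheaf.germ _ _ hη (SepImm.ψ f 0 (SepImm.rat 0 1)) = x) :
    Transcendental k x ∧
      f.residueDegree (genericPoint X) = Module.finrank (IntermediateField.adjoin k ({x} : Set X.functionField)) X.functionField ∧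
      ((letI := (f.residueFieldMap (genericPoint X)).hom.toAlgebra
        Algebra.IsSeparable ((CohB1.ProjSpace 1 k).residueField (f (genericPoint X))) (X.residueField (genericPoint X))) ↔
        Algebra.IsSeparable (IntermediateField.adjoin k ({x} : Set X.functionField)) X.functionField) := by
  classical
  haveI : IsIntegral (CohB1.ProjSpace 1 k) := ProjDim.isIntegral_proj k 1
  have hgp : f (genericPoint X) = genericPoint (CohB1.ProjSpace 1 k) := by
    have h2 : genericPoint (CohB1.ProjSpace 1 k) ⤳ f (genericPoint X) :=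
      (genericPoint_spec _).specializes trivial
    have h1 : f (genericPoint X) ⤳ genericPoint (CohB1.ProjSpace 1 k) :=
      specializes_iff_forall_open.2 fun s hs hmem => hgen ⟨s, hs⟩ ⟨_, hmem⟩
    exact (h1.antisymm h2).eq
  let P := CohB1.ProjSpace 1 k
  let KP := P.presheaf.stalk (f (genericPoint X))
  have hKP : IsField KP := by
    show IsField (P.presheaf.stalk (f (genericPoint X)))
    rw [hgp]
    exact (inferInstance : Field P.functionField).toIsField
  let gD : Γ(P, SepImm.D (k := k) 0) →+* KP := (P.presheaf.germ (SepImm.D (k := k) 0) _ hη).hom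
  let φ : KP →+* X.functionField := (f.stalkMap (genericPoint X)).hom
  have hφgerm : ∀ w, φ (gD w) = X.presheaf.germ _ _ hη (SepImm.ψ f 0 w) := fun w =>
    congrArg (fun χ => χ.hom w) (f.germ_stalkMap (SepImm.D (k := k) 0) _ hη)
  letI := hKP.toField
  have hφinj : Function.Injective φ := φ.injective
  let E := IntermediateField.adjoin k ({x} : Set X.functionField)
  have hxE : x ∈ E := IntermediateField.mem_adjoin_simple_self k x
  have hDE : ∀ w, φ (gD w) ∈ E := by
    intro w
    obtain ⟨w₀, rfl⟩ : ∃ w₀, Proj.awayToSection (CohB1.polyGrading 1 k) (MvPolynomial.X 0) w₀ = w :=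
      Proj.basicOpenIsoAway_hom (CohB1.polyGrading 1 k) _ (Ample.ProjMap.X_mem 0) one_pos ▸
        (ConcreteCategory.bijective_of_isIso
          (Proj.basicOpenIsoAway (CohB1.polyGrading 1 k) _ (Ample.ProjMap.X_mem 0) one_pos).hom).2 w
    obtain ⟨g, rfl⟩ := Ample.ProjMap.exists_eval_ratio 0 w₀
    induction g using MvPolynomial.induction_on with
    | C r =>
      rw [MvPolynomial.eval₂Hom_C, SepImm.awayToSection_cst, hφgerm, SepImm.ψ_cD f hf, germ_const]
      exact E.algebraMap_mem r
    | add g g' hg hg' =>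
      rw [map_add, map_add, map_add, map_add]
      exact add_mem hg hg'
    | mul_X g l hg =>
      rw [map_mul, map_mul, map_mul, map_mul, MvPolynomial.eval₂Hom_X']
      refine mul_mem hg ?_
      match l with
      | ⟨0, _⟩ =>
        rw [show (⟨0, by omega⟩ : Fin 2) = 0 from rfl, SepImm.ratio_self]
        simp only [map_one]
        exact one_mem _
      | ⟨1, _⟩ =>
        rw [show (⟨1, by omega⟩ : Fin 2) = 1 from rfl, hφgerm]
        exact hx ▸ hxE
  have hne : Nonempty (SepImm.D (k := k) (n := 1) 0) := ⟨⟨_, hη⟩⟩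
  have hrange : φ.fieldRange = E.toSubfield := by
    refine le_antisymm ?_ ?_
    · rintro _ ⟨t, rfl⟩
      have hD : IsAffineOpen (SepImm.D (k := k) (n := 1) 0) :=
        Proj.isAffineOpen_basicOpen (CohB1.polyGrading 1 k) _ (MvPolynomial.isHomogeneous_X k 0) one_pos
      letI : Algebra Γ(P, SepImm.D (k := k) 0) KP := gD.toAlgebra
      haveI : IsLocalization.AtPrime KP (hD.primeIdealOf ⟨_, hη⟩).asIdeal := hD.isLocalization_stalk ⟨_, hη⟩
      obtain ⟨⟨a, b⟩, hab⟩ := IsLocalization.surj (hD.primeIdealOf ⟨_, hη⟩).asIdeal.primeCompl t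
      have hb : φ (gD b.1) ≠ 0 := (map_ne_zero φ).2 (IsLocalization.map_units KP b).ne_zero
      have ht : φ t = φ (gD a) / φ (gD b.1) := by
        rw [eq_div_iff hb, ← map_mul]
        exact congrArg φ hab
      show φ t ∈ E
      rw [ht]
      exact div_mem (hDE a) (hDE b.1)
    · let S : IntermediateField k X.functionField :=
        { φ.fieldRange with
          algebraMap_mem' := fun c => ⟨gD (SepImm.cD 0 c), by
            rw [hφgerm, SepImm.ψ_cD f hf, germ_const]⟩ }
      have : E ≤ S := IntermediateField.adjoin_simple_le_iff.2 ⟨gD (SepImm.rat 0 1), by rw [hφgerm, hx]⟩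
      exact this
  -- transcendence
  have hxt : Transcendental k x := by
    intro halg
    haveI : FiniteDimensional k E := IntermediateField.adjoin.finiteDimensional halg.isIntegral
    letI : P.Over (Spec (CommRingCat.of k)) := ⟨CohB1.ProjSpace.toSpec 1 k⟩
    haveI : IsProper (P ↘ Spec (CommRingCat.of k)) := Chow.isProper_toSpec 1 k
    haveI : Smooth (P ↘ Spec (CommRingCat.of k)) := smooth_toSpec 1 k
    have hdim : topologicalKrullDim P = 1 := by exact_mod_cast Groth.Agent.S10829.result k 1
    haveI : RegCurve P := regCurve_of_smooth (P ↘ Spec (CommRingCat.of k)) hdim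
    obtain ⟨t, ht, -⟩ := isFG k (X := P)
    have key : ∀ y : P, y = genericPoint P → ∀ (χ : P.presheaf.stalk y →+* X.functionField),
        Function.Injective χ → (∀ c, χ (cst k y c) = algebraMap k X.functionField c) → (∀ s, χ s ∈ E) → False := by
      rintro _ rfl χ hχ hc hE
      let χ' : P.functionField →ₐ[k] X.functionField := { χ with commutes' := hc }
      refine ht (isAlgebraic_algHom_iff χ' hχ |>.1 ?_)
      have := Algebra.IsAlgebraic.isAlgebraic (R := k) (⟨χ' t, hE t⟩ : E)
      exact this.algHom E.val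
    refine key _ hgp φ hφinj (fun c => ?_) fun s => hrange.le ⟨s, rfl⟩
    show φ (P.presheaf.germ ⊤ _ trivial (ProjUP.toGlobal (CohB1.ProjSpace.toSpec 1 k) c)) = _
    refine (congrArg φ (P.presheaf.germ_res_apply (homOfLE (le_top : SepImm.D (k := k) 0 ≤ ⊤)) _ hη _).symm).trans ?_
    exact (hφgerm (SepImm.cD 0 c)).trans (by rw [SepImm.ψ_cD f hf, germ_const])
  refine ⟨hxt, ?_⟩
  -- the residue fields
  have hresX : Function.Bijective (X.residue (genericPoint X)).hom :=
    ⟨RingHom.injective _, X.residue_surjective _⟩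
  have hresP : Function.Bijective (P.residue (f (genericPoint X))).hom :=
    ⟨RingHom.injective _, P.residue_surjective _⟩
  let eX : X.functionField ≃+* X.residueField (genericPoint X) := RingEquiv.ofBijective _ hresX
  let eP : KP ≃+* P.residueField (f (genericPoint X)) := RingEquiv.ofBijective _ hresP
  let φE : KP →+* E := φ.codRestrict E fun t => hrange.le ⟨t, rfl⟩
  have hφE : Function.Bijective φE :=
    ⟨fun a b h => hφinj (congrArg Subtype.val h), fun e => by
      obtain ⟨t, ht⟩ := hrange.ge e.2
      exact ⟨t, Subtype.ext ht⟩⟩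
  let eE : E ≃+* P.residueField (f (genericPoint X)) := (RingEquiv.ofBijective φE hφE).symm.trans eP
  letI := (f.residueFieldMap (genericPoint X)).hom.toAlgebra
  have hcomm : RingHom.comp (algebraMap (P.residueField (f (genericPoint X))) (X.residueField (genericPoint X))) eE.toRingHom =
      eX.toRingHom.comp (algebraMap E X.functionField) := by
    refine RingHom.ext fun e => ?_
    obtain ⟨t, rfl⟩ := hφE.2 e
    show (f.residueFieldMap (genericPoint X)).hom (eP ((RingEquiv.ofBijective φE hφE).symm (φE t))) = eX (φ t)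
    rw [show (RingEquiv.ofBijective φE hφE).symm (φE t) = t from (RingEquiv.ofBijective φE hφE).symm_apply_apply t]
    exact congrArg (fun χ => χ.hom t) (Scheme.residue_residueFieldMap f (genericPoint X))
  refine ⟨?_, ?_⟩
  · rw [Scheme.Hom.residueDegree]
    exact (Algebra.finrank_eq_of_equiv_equiv eE eX hcomm).symm
  · refine ⟨fun hs => ?_, fun hs => ?_⟩
    · refine Algebra.IsSeparable.of_equiv_equiv eE.symm eX.symm ?_
      refine RingHom.ext fun e => eX.injective ?_
      have h := RingHom.congr_fun hcomm (eE.symm e)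
      simp only [RingHom.comp_apply, RingEquiv.toRingHom_eq_coe, RingEquiv.coe_toRingHom, RingEquiv.apply_symm_apply] at h ⊢
      exact h.symm
    · exact Algebra.IsSeparable.of_equiv_equiv eE eX hcomm

/-- A morphism to the projective line with more than one point in the image is finite, flat and dominant. -/
theorem isFinite_flat_dominant (f : X ⟶ CohB1.ProjSpace 1 k)
    (hf : f ≫ CohB1.ProjSpace.toSpec 1 k = X ↘ Spec (CommRingCat.of k)) (hnc : (Set.range f.base).Nontrivial) :
    IsFinite f ∧ Flat f ∧
      (∀ V : (CohB1.ProjSpace 1 k).Opens, (V : Set (CohB1.ProjSpace 1 k)).Nonempty → f (genericPoint X) ∈ V) := by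
  haveI : IsIntegral (CohB1.ProjSpace 1 k) := ProjDim.isIntegral_proj k 1
  haveI := Chow.isProper_toSpec 1 k
  letI : (CohB1.ProjSpace 1 k).Over (Spec (CommRingCat.of k)) := ⟨CohB1.ProjSpace.toSpec 1 k⟩
  haveI : Smooth (CohB1.ProjSpace.toSpec 1 k) := smooth_toSpec 1 k
  have hdim : topologicalKrullDim (CohB1.ProjSpace 1 k) = 1 := by exact_mod_cast Groth.Agent.S10829.result k 1
  haveI : RegCurve (CohB1.ProjSpace 1 k) := regCurve_of_smooth (CohB1.ProjSpace.toSpec 1 k) hdim
  have hgp : f (genericPoint X) = genericPoint (CohB1.ProjSpace 1 k) :=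
    CurvePoints.map_genericPoint_of_nontrivial hdim.le f hnc
  refine ⟨?_, ?_, fun V hV => ?_⟩
  · refine Groth.Agent.S0219.result k X (CohB1.ProjSpace 1 k) (X ↘ Spec (CommRingCat.of k))
      (CohB1.ProjSpace.toSpec 1 k) f hf RegCurve.dim.le fun Z hZ _ => ?_
    have hZu : Z = Set.univ := by
      rw [irreducibleComponents_eq_singleton] at hZ
      exact hZ
    rw [hZu, Set.image_univ]
    exact hnc
  · refine Groth.Agent.S0220.result k X (CohB1.ProjSpace 1 k) (X ↘ Spec (CommRingCat.of k))
      (CohB1.ProjSpace.toSpec 1 k) RegCurve.dim hdim (fun y => ?_) f hf hnc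
    by_cases hy : y = genericPoint (CohB1.ProjSpace 1 k)
    · subst hy
      haveI : IsDomain ((CohB1.ProjSpace 1 k).presheaf.stalk (genericPoint (CohB1.ProjSpace 1 k))) :=
        inferInstanceAs (IsDomain (CohB1.ProjSpace 1 k).functionField)
      refine ⟨inferInstance, ?_⟩
      letI : Field ((CohB1.ProjSpace 1 k).presheaf.stalk (genericPoint (CohB1.ProjSpace 1 k))) :=
        inferInstanceAs (Field (CohB1.ProjSpace 1 k).functionField)
      infer_instance
    · haveI := RegCurve.dvr y hy
      exact ⟨inferInstance, inferInstance⟩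
  · rw [hgp]
    exact ((genericPoint_spec _).mem_open_set_iff V.2).2 (by simpa using hV)

end GrothLib.CurveMult.HyperP1
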