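import Groth.Agent.Lib.CurveMult.HyperAff
import Groth.Agent.Lib.CurveMult.GenEtale
import Groth.Agent.Lib.CurveMult.P1Split
import Groth.Agent.Lib.CurveRR.Tensor
import Groth.Agent.Lib.Kodaira.BoundProper
import Groth.Agent.S7640

/-!
# The powers of the hyperelliptic pencil
-/

set_option autoImplicit false
set_option linter.style.haveILetI false
set_option linter.unusedSectionVars false
set_option backward.isDefEq.respectTransparency false

universe u

open CategoryTheory CategoryTheory.Limits AlgebraicGeometry TopologicalSpace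

noncomputable section

namespace GrothLib.CurveMult.HyperPowers

open GrothLib.FunFld Polynomial
open _root_.FunFld (Place Divisor L ell genus div IsFunctionField)
open IntermediateField (adjoin)

section FF

variable {k K : Type u} [Field k] [Field K] [Algebra k K]

theorem ell_nsmul_poleDiv (h : IsFunctionField k K) {x : K} (hxt : Transcendental k x)
    (h2 : Module.finrank (adjoin k ({x} : Set K)) K = 2) {r : ℕ} (hr : r ≤ genus k K) :
    ell (r • poleDiv (k := k) x) = r + 1 := by
  have hfg : IsFG k K := h.1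
  let φ : degreeLT k (r + 1) →ₗ[k] K := ((aeval x).toLinearMap).comp (degreeLT k (r + 1)).subtype
  have hdlt : ∀ p : degreeLT k (r + 1), (p : k[X]).natDegree ≤ r := fun p => by
    by_cases hp : (p : k[X]) = 0
    · simp [hp]
    · have := mem_degreeLT.1 p.2
      rw [degree_eq_natDegree hp] at this
      exact Nat.lt_succ_iff.1 (by exact_mod_cast this)
  have hinj : Function.Injective φ := fun a b hab => by
    refine Subtype.ext (sub_eq_zero.1 ?_)
    by_contra hne
    refine hxt ⟨_, hne, ?_⟩
    rw [map_sub]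
    exact sub_eq_zero.2 hab
  have hrange : LinearMap.range φ = L (r • poleDiv (k := k) x) := by
    refine le_antisymm ?_ fun z hz => ?_
    · rintro _ ⟨p, rfl⟩
      exact (HyperEq.mem_L_iff hfg hxt r _).2 (HyperEq.bd_aeval _ (hdlt p))
    · have hb := (HyperEq.mem_L_iff hfg hxt r z).1 hz
      by_cases hzE : z ∈ adjoin k ({x} : Set K)
      · obtain ⟨p, hp, rfl⟩ := HyperEq.exists_poly hfg hxt hb hzE
        refine ⟨⟨p, mem_degreeLT.2 (lt_of_le_of_lt degree_le_natDegree ?_)⟩, rfl⟩
        exact_mod_cast Nat.lt_succ_of_le hp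
      · have := HyperEq.genus_lt h hxt h2 hzE hb
        omega
  show Module.finrank k (L (r • poleDiv (k := k) x)) = r + 1
  rw [← hrange, LinearMap.finrank_range_of_inj hinj, (degreeLTEquiv k (r + 1)).finrank_eq, Module.finrank_fin_fun]

/-- A divisor of degree two moving in a pencil is equivalent to the poles of a function of degree two. -/
theorem exists_poleDiv (h : IsFunctionField k K) (hg : 0 < genus k K) {D : Divisor k K} (hD : D.deg = 2)
    (hl : 2 ≤ ell D) :
    ∃ (x w : K), w ≠ 0 ∧ Transcendental k x ∧ Module.finrank (adjoin k ({x} : Set K)) K = 2 ∧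
      D + div k w = poleDiv (k := k) x := by
  classical
  have hfg : IsFG k K := h.1
  obtain ⟨w, hw, -, hE⟩ := hfg.exists_of_ell_pos (D := D) (by omega)
  let E := D + div k w
  have hE0 : 0 ≤ E := hE
  have hEd : E.deg = 2 := by rw [GrothLib.FunFld.deg_add, hfg.deg_div, add_zero, hD]
  have hlE : 2 ≤ ell E := by rw [hfg.ell_add_div D hw]; exact hl
  haveI := hfg.finite_L (0 : Divisor k K)
  obtain ⟨x, hxE, hx0⟩ := SetLike.not_le_iff_exists.1 (show ¬ L E ≤ L (0 : Divisor k K) from fun hle => by
    have h1 : ell E ≤ ell (0 : Divisor k K) := Submodule.finrank_mono hle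
    have := GrothLib.FunFld.ell_zero h
    omega)
  have hxne : x ≠ 0 := by rintro rfl; exact hx0 (zero_mem _)
  have hxt : Transcendental k x := fun halg => hx0 (by
    obtain ⟨c, rfl⟩ := h.2 x halg
    rw [Algebra.algebraMap_eq_smul_one]
    exact Submodule.smul_mem _ _ fun P => by simp)
  have hle : poleDiv (k := k) x ≤ E := fun P => by
    rw [hfg.poleDiv_apply]
    have := (mem_L_iff_ord hxne).1 hxE P
    have := hE0 P
    simp only [Finsupp.coe_zero, Pi.zero_apply] at this
    omega
  have hd : (poleDiv (k := k) x).deg ≤ 2 := hEd ▸ deg_mono hle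
  have hdeq := hfg.deg_poleDiv hxt
  haveI := hfg.finiteDimensional_adjoin hxt
  have hpos : 0 < Module.finrank (adjoin k ({x} : Set K)) K := Module.finrank_pos
  have hne1 : Module.finrank (adjoin k ({x} : Set K)) K ≠ 1 := fun h1 => by
    have := ((Groth.Agent.S10994.result k K h).2
      ⟨x, adjoin_eq_top_of_deg_poleDiv hfg hxt (by rw [hdeq, h1]; rfl)⟩).1
    omega
  have h2 : Module.finrank (adjoin k ({x} : Set K)) K = 2 := by omega
  refine ⟨x, w, hw, hxt, h2, ?_⟩
  exact (hfg.eq_of_le_of_deg_le hle (by rw [hEd, hdeq, h2]; rfl)).symm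

theorem ell_nsmul_of_deg_two (h : IsFunctionField k K) (hg : 0 < genus k K) {D : Divisor k K} (hD : D.deg = 2)
    (hl : 2 ≤ ell D) {r : ℕ} (hr : r ≤ genus k K) : ell (r • D) = r + 1 := by
  have hfg : IsFG k K := h.1
  obtain ⟨x, w, hw, hxt, h2, he⟩ := exists_poleDiv h hg hD hl
  rw [← ell_nsmul_poleDiv h hxt h2 hr, ← he, nsmul_add]
  have key : ∀ (n : ℕ) (D' : Divisor k K), ell (D' + n • div k w) = ell D' := by
    intro n
    induction n with
    | zero => intro D'; rw [zero_smul, add_zero]
    | succ n ih => intro D'; rw [succ_nsmul, ← add_assoc, hfg.ell_add_div _ hw, ih]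
  exact (key r _).symm

end FF

variable (k : Type u) [Field k]

attribute [local instance] P1Split.overP1

theorem h0_tensorPow_one : Module.finrank k (Coh.HH (CohB1.ProjSpace 1 k)
    (CohB1.tensorPow (Twist.twistProjSpace 1 k 1) 1) 0) = 2 := by
  obtain ⟨D, ⟨e⟩⟩ := CurveRR.exists_iso_oD k (P1Split.inv_O1 k 1)
  obtain ⟨e'⟩ := CurveRR.nonempty_tensorPow_iso k e 1
  rw [one_smul] at e'
  rw [(Euler.hhEquiv (A := k) (e' ≪≫ e.symm) 0).finrank_eq, P1Split.finrank_H0_O1 k 1]
  rfl

variable {C : Scheme.{u}} [IsIntegral C] [C.Over (Spec (CommRingCat.of k))]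
  [IsProper (C ↘ Spec (CommRingCat.of k))] [CurveRR.RegCurve C]

/-- The pullback of `O(1)` under a double cover is a pencil of degree two. -/
theorem exists_divisor (f : C ⟶ CohB1.ProjSpace 1 k)
    (hf : f ≫ CohB1.ProjSpace.toSpec 1 k = C ↘ Spec (CommRingCat.of k)) [IsFinite f] [Flat f]
    (hrk : ∀ y : ↥(CohB1.ProjSpace 1 k), Scheme.Hom.finrank f y = 2) :
    ∃ D : Divisor k C.functionField,
      Nonempty ((Scheme.Modules.pullback f).obj (Twist.twistProjSpace 1 k 1) ≅ CurveRR.oD k D) ∧
        D.deg = 2 ∧ 2 ≤ ell D := by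
  haveI : IsProper (CohB1.ProjSpace.toSpec 1 k) := Chow.isProper_toSpec 1 k
  haveI : IsLocallyNoetherian (CohB1.ProjSpace 1 k) :=
    LocallyOfFiniteType.isLocallyNoetherian (CohB1.ProjSpace.toSpec 1 k)
  haveI : LocallyOfFinitePresentation f := inferInstance
  obtain ⟨-, -, hgen⟩ := HyperP1.isFinite_flat_dominant k f hf (range_nontrivial_of_isFinite k f)
  have hξ : f (genericPoint C) = genericPoint (CohB1.ProjSpace 1 k) :=
    ((specializes_iff_forall_open.2 fun s hs hmem => hgen ⟨s, hs⟩ ⟨_, hmem⟩).antisymm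
      ((genericPoint_spec _).specializes trivial)).eq
  have hres : f.residueDegree (genericPoint C) = 2 :=
    ((generic_finite_flat f hξ).1 (genericPoint (CohB1.ProjSpace 1 k))).symm.trans (hrk _)
  have hL := Kleiman.isInv_pullback f (P1Split.inv_O1 k 1)
  obtain ⟨D, ⟨e⟩⟩ := CurveRR.exists_iso_oD k hL
  refine ⟨D, ⟨e⟩, ?_, ?_⟩
  · rw [← CurveRR.deg_oD, ← Euler.deg_of_iso k e 1]
    have h := Groth.Agent.S7640.result k C (CohB1.ProjSpace 1 k) CurveRR.RegCurve.dim (P1Split.dim_P1 k) f hf hξ 1
      (Twist.twistProjSpace 1 k 1) (Euler.isFinLocFreeOfRank_one' (P1Split.inv_O1 k 1))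
    rw [h, hres, P1Split.deg_O1]
    norm_num
  · haveI : IsDominant f := ⟨Dense.mono (Set.singleton_subset_iff.2 ⟨genericPoint C, hξ⟩)
      (dense_iff_closure_eq.2 (genericPoint_spec (CohB1.ProjSpace 1 k)).def)⟩
    have h := Kodaira.h0_le_pullback k f hf (P1Split.inv_O1 k 1) 1
    obtain ⟨e'⟩ := CurveRR.nonempty_tensorPow_iso k e 1
    rw [one_smul] at e'
    rw [← CurveRR.finrank_H0_oD, ← (Euler.hhEquiv (A := k) e' 0).finrank_eq]
    exact (h0_tensorPow_one k).ge.trans h

end GrothLib.CurveMult.HyperPowers
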