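import Groth.Agent.Lib.CurveMult.OmegaApp
import Groth.Agent.Lib.CurveMult.IdealDiv

/-!
# Ideals of finite colength on a curve as divisors
-/

set_option autoImplicit false
set_option linter.style.haveILetI false
set_option linter.unusedSectionVars false

universe u

open CategoryTheory AlgebraicGeometry TopologicalSpace
open _root_.FunFld (Place Divisor ell)

noncomputable section

namespace GrothLib.CurveMult.IdealCrit

open GrothLib GrothLib.CurveRR

theorem dim_le_zero_of_finite {T : Type u} [TopologicalSpace T] [DiscreteTopology T] :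
    topologicalKrullDim T ≤ 0 :=
  Order.krullDim_nonpos_iff_forall_isMax.2 fun a b hab => by
    obtain ⟨x, hx⟩ := a.2.nonempty
    intro y hy
    obtain rfl : y = x := b.2.isPreirreducible.subsingleton hy (hab hx)
    exact hx

variable (k : Type u) [Field k] {X : Scheme.{u}} [IsIntegral X] [RegCurve X]
  [X.Over (Spec (CommRingCat.of k))] [IsProper (X ↘ Spec (CommRingCat.of k))]

theorem dim_support_le_zero (h0 : Module.finrank k (Coh.HH X (Coh.structureModule X) 0) = 1)
    {I : X.IdealSheafData} (hI : Module.finrank k (Coh.HH X (ClSub.quotMod I) 0) ≠ 1) :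
    topologicalKrullDim (I.support : Set X) ≤ 0 := by
  haveI := Euler.isNoetherian_of_proper (X := X) k
  by_cases hη : genericPoint X ∈ (I.support : Set X)
  · exfalso
    have htop : I.support = ⊤ := by
      refine top_le_iff.1 fun x _ => ?_
      exact I.support.isClosed.closure_subset_iff.2 (Set.singleton_subset_iff.2 hη)
        ((genericPoint_spec X).def ▸ Set.mem_univ x)
    have hbot : I = ⊥ := Scheme.IdealSheafData.support_eq_top_iff.1 htop
    subst hbot
    haveI : IsIso (ClSub.toSubscheme (⊥ : X.IdealSheafData)) := by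
      rw [Scheme.Modules.Hom.isIso_iff_isIso_app]
      intro U
      rw [ConcreteCategory.isIso_iff_bijective]
      exact ConcreteCategory.bijective_of_isIso ((⊥ : X.IdealSheafData).subschemeι.app U)
    exact hI ((Euler.hhEquiv (A := k) (asIso (ClSub.toSubscheme (⊥ : X.IdealSheafData))) 0).finrank_eq.symm.trans h0)
  · haveI : Finite (I.support : Set X) :=
      (CurvePoints.finite_of_isClosed (RegCurve.dim (X := X)).le I.support.isClosed hη).to_subtype
    haveI : T1Space (I.support : Set X) := ⟨fun x => ⟨by
      convert ((CurvePoints.isClosed_singleton (RegCurve.dim (X := X)).le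
        fun e => hη (e ▸ x.2)).preimage continuous_subtype_val).isOpen_compl using 1
      ext y
      simp [Subtype.val_inj]⟩⟩
    exact dim_le_zero_of_finite

/-- A colength-`n` ideal, `n ≠ 1`, is the sheaf of an antieffective divisor of degree `-n`. -/
theorem exists_divisor (h0 : Module.finrank k (Coh.HH X (Coh.structureModule X) 0) = 1)
    {I : X.IdealSheafData} {n : ℕ} (hn : n ≠ 1) (hI : Module.finrank k (Coh.HH X (ClSub.quotMod I) 0) = n) :
    ∃ E : Divisor k X.functionField, 0 ≤ E ∧ E.deg = n ∧ Nonempty (ClSub.idealMod I ≅ oD k (-E)) := by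
  obtain ⟨E, hE, hd, he⟩ := exists_effective_iso k I (dim_support_le_zero k h0 (hI ▸ hn))
  exact ⟨E, hE, by rw [hd, hI], he⟩

theorem finrank_tensor_ideal {L : X.Modules} {D E : Divisor k X.functionField} {I : X.IdealSheafData}
    (eD : L ≅ oD k D) (eI : ClSub.idealMod I ≅ oD k (-E)) :
    Module.finrank k (Coh.HH X (CohB1.tensorMod L (ClSub.idealMod I)) 0) = ell (D - E) := by
  obtain ⟨e⟩ := nonempty_tensor_iso k eD eI
  rw [(Euler.hhEquiv (A := k) e 0).finrank_eq, finrank_H0_oD, sub_eq_add_neg]

end GrothLib.CurveMult.IdealCrit
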