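import Groth.Agent.Lib.CurveMult.FFHom
import Groth.Agent.Lib.CurveMult.BaseChangeH
import Groth.Agent.Lib.CurveRR.Main
import Groth.Agent.Lib.FunFld.Separating

/-!
# Purely inseparable maps of curves over perfect fields

Below a function field over a perfect field the subfields over which it is finite purely inseparable
are the fields of `q`-th powers, so the bottom curve is a twist of the top one.
-/

set_option autoImplicit false
set_option linter.style.haveILetI false
set_option linter.unusedSectionVars false

universe u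

open CategoryTheory CategoryTheory.Limits AlgebraicGeometry

noncomputable section

namespace GrothLib.CurveMult.InsepTwist

open GrothLib GrothLib.CurveRR

/-- Subfields with bounded exponent are fields of powers. -/
theorem exists_eq_range_pow {k K : Type*} [Field k] [Field K] [Algebra k K] (p : ℕ) [Fact p.Prime]
    [CharP k p] [CharP K p] [PerfectField k] (hK : _root_.FunFld.IsFunctionField k K) :
    ∀ (n : ℕ) (L : IntermediateField k K), (∀ y : K, y ^ p ^ n ∈ L) →
      ∃ r : ℕ, ∀ y : K, y ∈ L ↔ ∃ x : K, x ^ p ^ r = y := by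
  have hg := FunFld.isGeometric_of_perfectField hK
  haveI : ExpChar k p := ExpChar.prime Fact.out
  haveI : PerfectRing k p := PerfectField.toPerfectRing p
  have hroot : ∀ c : k, ∃ d : k, d ^ p = c := fun c => (bijective_frobenius k p).2 c
  have hpow : ∀ y, y ∈ FunFld.powField k K p → ∃ x : K, x ^ p = y := by
    intro y hy
    haveI : ExpChar K p := ExpChar.prime Fact.out
    induction hy using IntermediateField.adjoin_induction with
    | mem z hz => exact hz
    | algebraMap c =>
      obtain ⟨d, hd⟩ := hroot c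
      exact ⟨algebraMap k K d, by rw [← map_pow, hd]⟩
    | add a b _ _ ha hb =>
      obtain ⟨a', rfl⟩ := ha; obtain ⟨b', rfl⟩ := hb
      exact ⟨a' + b', add_pow_char a' b' p⟩
    | inv a _ ha => obtain ⟨a', rfl⟩ := ha; exact ⟨a'⁻¹, by rw [inv_pow]⟩
    | mul a b _ _ ha hb =>
      obtain ⟨a', rfl⟩ := ha; obtain ⟨b', rfl⟩ := hb
      exact ⟨a' * b', mul_pow _ _ _⟩
  intro n
  induction n with
  | zero => exact fun L hL => ⟨0, fun y => ⟨fun _ => ⟨y, by simp⟩, fun _ => by simpa using hL y⟩⟩
  | succ n ih =>
    intro L hL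
    by_cases hD : ∃ l ∈ L, KaehlerDifferential.D k K l ≠ 0
    · obtain ⟨l, hl, hDl⟩ := hD
      refine ⟨0, fun y => ⟨fun _ => ⟨y, by simp⟩, fun _ => ?_⟩⟩
      have hsep := (FunFld.isSeparable_iff_D_ne_zero hK.1 hg l).mpr hDl
      have hle : IntermediateField.adjoin k ({l} : Set K) ≤ L := IntermediateField.adjoin_simple_le_iff.2 hl
      haveI : Algebra.IsSeparable L K := by
        letI : Algebra (IntermediateField.adjoin k ({l} : Set K)) L :=
          (IntermediateField.inclusion hle).toRingHom.toAlgebra
        haveI : IsScalarTower (IntermediateField.adjoin k ({l} : Set K)) L K :=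
          IsScalarTower.of_algebraMap_eq fun _ => rfl
        exact Algebra.isSeparable_tower_top_of_isSeparable (IntermediateField.adjoin k ({l} : Set K)) L K
      haveI : IsPurelyInseparable L K := by
        haveI : CharP L p := (Algebra.charP_iff L K p).mpr inferInstance
        haveI : ExpChar L p := ExpChar.prime Fact.out
        rw [isPurelyInseparable_iff_pow_mem L p]
        exact fun z => ⟨n + 1, ⟨z ^ p ^ (n + 1), hL z⟩, rfl⟩
      obtain ⟨m, rfl⟩ := IsPurelyInseparable.surjective_algebraMap_of_isSeparable L K y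
      exact m.2
    · push Not at hD
      haveI : ExpChar K p := ExpChar.prime Fact.out
      let L' : IntermediateField k K :=
        { carrier := {y | y ^ p ∈ L}
          zero_mem' := by simp [zero_pow (Fact.out : p.Prime).ne_zero]
          one_mem' := by simp
          add_mem' := fun {a b} ha hb => by simpa [add_pow_char] using add_mem ha hb
          mul_mem' := fun {a b} ha hb => by simpa [mul_pow] using mul_mem ha hb
          algebraMap_mem' := fun c => by
            show algebraMap k K c ^ p ∈ L
            rw [← map_pow]; exact L.algebraMap_mem _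
          inv_mem' := fun a ha => by
            show a⁻¹ ^ p ∈ L
            rw [inv_pow]; exact inv_mem ha }
      obtain ⟨r, hr⟩ := ih L' fun y => by
        show (y ^ p ^ n) ^ p ∈ L
        rw [← pow_mul, ← pow_succ]; exact hL y
      refine ⟨r + 1, fun y => ⟨fun hy => ?_, ?_⟩⟩
      · obtain ⟨x, rfl⟩ := hpow y ((FunFld.mem_powField_iff p hK.1 hg y).2 (hD y hy))
        obtain ⟨z, rfl⟩ := (hr x).1 hy
        exact ⟨z, by rw [← pow_mul, ← pow_succ]⟩
      · rintro ⟨x, rfl⟩
        have : x ^ p ^ r ∈ L' := (hr _).2 ⟨x, rfl⟩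
        rw [pow_succ, pow_mul]
        exact this

/-- A finite purely inseparable extension is `y ↦ (ψ y)^(1/q)` followed by a power map. -/
theorem exists_semilinear_equiv {k K L : Type*} [Field k] [Field K] [Field L] [Algebra k K] [Algebra k L]
    [PerfectField k] (p : ℕ) [Fact p.Prime] [CharP k p] (hK : _root_.FunFld.IsFunctionField k K)
    (ψ : L →ₐ[k] K) (hfin : letI := ψ.toRingHom.toAlgebra; FiniteDimensional L K)
    (hpi : letI := ψ.toRingHom.toAlgebra; IsPurelyInseparable L K) :
    ∃ (r : ℕ) (χ : L ≃+* K), ∀ y, χ y ^ p ^ r = ψ y := by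
  classical
  letI := ψ.toRingHom.toAlgebra
  haveI := hfin; haveI := hpi
  haveI : CharP K p := charP_of_injective_algebraMap (algebraMap k K).injective p
  haveI : ExpChar K p := ExpChar.prime Fact.out
  haveI : CharP L p := charP_of_injective_algebraMap (algebraMap k L).injective p
  haveI : ExpChar L p := ExpChar.prime Fact.out
  let b := Module.finBasis L K
  choose n hn using fun i => IsPurelyInseparable.pow_mem L p (b i)
  obtain ⟨r, hr⟩ := exists_eq_range_pow p hK (∑ i, n i) ψ.fieldRange fun y => by
    rw [← b.sum_repr y, sum_pow_char_pow]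
    refine sum_mem fun i _ => ?_
    rw [Algebra.smul_def, mul_pow]
    refine mul_mem (pow_mem (show algebraMap L K (b.repr y i) ∈ ψ.fieldRange from ⟨_, rfl⟩) _) ?_
    rw [show ∑ j, n j = n i + (∑ j, n j - n i) from
      (Nat.add_sub_cancel' (Finset.single_le_sum (fun _ _ => Nat.zero_le _) (Finset.mem_univ i))).symm,
      pow_add, pow_mul]
    refine pow_mem ?_ _
    obtain ⟨c, hc⟩ := hn i
    exact ⟨c, hc⟩
  choose χ hχ using fun y : L => (hr (ψ y)).1 ⟨y, rfl⟩
  have hinj : Function.Injective fun x : K => x ^ p ^ r := iterateFrobenius_inj K p r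
  let χ₀ : L →+* K :=
    { toFun := χ
      map_one' := hinj (by simp [hχ])
      map_mul' := fun a b => hinj (by simp [hχ, mul_pow])
      map_zero' := hinj (by simp [hχ, zero_pow (pow_ne_zero r (Fact.out : p.Prime).ne_zero)])
      map_add' := fun a b => hinj (by simp [hχ, add_pow_char_pow]) }
  refine ⟨r, RingEquiv.ofBijective χ₀ ⟨χ₀.injective, fun x => ?_⟩, fun y => hχ y⟩
  obtain ⟨y, hy⟩ := (hr (x ^ p ^ r)).2 ⟨x, rfl⟩
  exact ⟨y, hinj ((hχ y).trans hy)⟩

variable (k : Type u) [Field k]

/-- The top curve with twisted structure map is the bottom curve. -/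
theorem exists_iso_twist [PerfectField k] {X Y : Scheme.{u}} [IsIntegral X] [IsIntegral Y] [RegCurve X] [RegCurve Y]
    [X.Over (Spec (CommRingCat.of k))] [Y.Over (Spec (CommRingCat.of k))]
    [IsProper (X ↘ Spec (CommRingCat.of k))] [IsProper (Y ↘ Spec (CommRingCat.of k))]
    (h0 : Module.finrank k (Coh.HH X (Coh.structureModule X) 0) = 1)
    (f : X ⟶ Y) (hf : f ≫ (Y ↘ Spec (CommRingCat.of k)) = X ↘ Spec (CommRingCat.of k))
    (e : f (genericPoint X) = genericPoint Y)
    (hpi : letI := (Hurwitz.ψ e).toAlgebra; IsPurelyInseparable Y.functionField X.functionField) :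
    ∃ (σ : k ≃+* k) (i : X ≅ Y),
      i.hom ≫ (Y ↘ Spec (CommRingCat.of k)) = (X ↘ Spec (CommRingCat.of k)) ≫ Spec.map (CommRingCat.ofHom σ.toRingHom) ∧
      Curv2.genus k Y = Curv2.genus k X ∧
      Module.finrank k (Coh.HH Y (Coh.structureModule Y) 0) = 1 := by
  -- the exponential characteristic
  obtain ⟨σ, χ, hχc⟩ : ∃ (σ : k ≃+* k) (χ : Y.functionField ≃+* X.functionField),
      ∀ c, χ (algebraMap k Y.functionField c) = algebraMap k X.functionField (σ c) := by
    let ψA : Y.functionField →ₐ[k] X.functionField :=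
      { toRingHom := Hurwitz.ψ e, commutes' := Hurwitz.ψ_algebraMap k e hf }
    obtain ⟨p, hp⟩ := ExpChar.exists k
    cases hp with
    | zero =>
      haveI : CharZero Y.functionField := charZero_of_injective_algebraMap (algebraMap k Y.functionField).injective
      letI := (Hurwitz.ψ e).toAlgebra
      haveI := hpi
      haveI : FiniteDimensional Y.functionField X.functionField := Hurwitz.finiteDimensional k e hf
      haveI : Algebra.IsSeparable Y.functionField X.functionField := inferInstance
      refine ⟨RingEquiv.refl k, RingEquiv.ofBijective (Hurwitz.ψ e) ⟨RingHom.injective _,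
        IsPurelyInseparable.surjective_algebraMap_of_isSeparable Y.functionField X.functionField⟩,
        Hurwitz.ψ_algebraMap k e hf⟩
    | prime hprime =>
      haveI : Fact p.Prime := ⟨hprime⟩
      haveI : ExpChar k p := ExpChar.prime hprime
      haveI : PerfectRing k p := PerfectField.toPerfectRing p
      obtain ⟨r, χ, hχ⟩ := exists_semilinear_equiv p (CurveRR.isFunctionField k h0) ψA
        (Hurwitz.finiteDimensional k e hf) hpi
      haveI : CharP X.functionField p := charP_of_injective_algebraMap (algebraMap k X.functionField).injective p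
      haveI : ExpChar X.functionField p := ExpChar.prime hprime
      refine ⟨(iterateFrobeniusEquiv k p r).symm, χ, fun c => iterateFrobenius_inj X.functionField p r ?_⟩
      show χ _ ^ p ^ r = algebraMap k X.functionField _ ^ p ^ r
      rw [hχ, ← map_pow, ← iterateFrobeniusEquiv_def, RingEquiv.apply_symm_apply]
      exact ψA.commutes c
  haveI : IsIso (Spec.map (CommRingCat.ofHom σ.toRingHom)) :=
    have : IsIso (CommRingCat.ofHom σ.toRingHom) := (RingEquiv.toCommRingCatIso σ).isIso_hom
    inferInstance
  obtain ⟨pX, hpX⟩ : ∃ pX : X ⟶ Spec (CommRingCat.of k),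
      pX = (X ↘ Spec (CommRingCat.of k)) ≫ Spec.map (CommRingCat.ofHom σ.toRingHom) := ⟨_, rfl⟩
  have hproper : IsProper pX := by rw [hpX]; infer_instance
  have hcst : ∀ c : k, (X.presheaf.germ ⊤ (genericPoint X) trivial).hom (Coh.toGlobal pX c) =
      algebraMap k X.functionField (σ c) := fun c => by
    show _ = (X.presheaf.germ ⊤ _ trivial).hom (Coh.toGlobal (X ↘ Spec (CommRingCat.of k)) (σ c))
    refine congrArg (X.presheaf.germ ⊤ (genericPoint X) trivial).hom ?_
    rw [hpX, Coh.toGlobal, Scheme.Hom.comp_appTop]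
    show (X ↘ Spec (CommRingCat.of k)).appTop ((Spec.map (CommRingCat.ofHom σ.toRingHom)).appTop
      ((Scheme.ΓSpecIso (CommRingCat.of k)).inv c)) = _
    refine congrArg (X ↘ Spec (CommRingCat.of k)).appTop ?_
    exact (congrArg (fun j => j.hom c) (Scheme.ΓSpecIso_inv_naturality (CommRingCat.ofHom σ.toRingHom))).symm
  have hnoeth : IsLocallyNoetherian X := LocallyOfFiniteType.isLocallyNoetherian (X ↘ Spec (CommRingCat.of k))
  obtain ⟨i, hi, -⟩ := @FFHom.exists_iso X Y _ _ k _ _ ⟨pX⟩ _ _ hproper _ χ fun c => by
    rw [hχc]; exact (hcst c).symm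
  have hsq : i.hom ≫ (Y ↘ Spec (CommRingCat.of k)) =
      (X ↘ Spec (CommRingCat.of k)) ≫ Spec.map (CommRingCat.ofHom σ.toRingHom) := hi.trans hpX
  have H : IsPullback i.hom (X ↘ Spec (CommRingCat.of k)) (Y ↘ Spec (CommRingCat.of k))
      (Spec.map (CommRingCat.ofHom σ.toRingHom)) := IsPullback.of_horiz_isIso ⟨hsq⟩
  refine ⟨σ, i, hsq, ?_, ?_⟩
  · exact (finrank_HH_structure_baseChange σ.toRingHom _ H 1).symm
  · rw [← finrank_HH_structure_baseChange σ.toRingHom _ H 0, h0]

end GrothLib.CurveMult.InsepTwist
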