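import Groth.Agent.Lib.CurveMult.FFHom
import Groth.Agent.Lib.CurveMult.Hyper
import Groth.Agent.Lib.CurveMult.GenEtale
import Groth.Agent.Lib.CurveMult.HyperSep
import Groth.Agent.Lib.FunFld.InvolutionFix

/-!
# Involutions of curves, double covers of the line and fixed points
-/

set_option autoImplicit false
set_option linter.style.haveILetI false
set_option linter.unusedSectionVars false
set_option backward.isDefEq.respectTransparency false

universe u

open CategoryTheory CategoryTheory.Limits AlgebraicGeometry IsLocalRing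
open _root_.FunFld (Place)
open IntermediateField (adjoin)

noncomputable section

namespace GrothLib.CurveMult.InvolutionCurve

open GrothLib GrothLib.CurveRR

section General

variable {X Y Z : Scheme.{u}} [IsIntegral X] [IsIntegral Y] [IsIntegral Z]

theorem ψ_comp {f : X ⟶ Y} {g : Y ⟶ Z} (ef : f (genericPoint X) = genericPoint Y)
    (eg : g (genericPoint Y) = genericPoint Z) (efg : (f ≫ g) (genericPoint X) = genericPoint Z) :
    Hurwitz.ψ efg = (Hurwitz.ψ ef).comp (Hurwitz.ψ eg) := by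
  obtain ⟨_, h⟩ := FFHom.eq_of_fromSpecStalk_comp (f := f ≫ g) (φ := (Hurwitz.ψ ef).comp (Hurwitz.ψ eg)) (by
    rw [← Category.assoc, FFHom.fromSpecStalk_comp_eq ef, Category.assoc, FFHom.fromSpecStalk_comp_eq eg,
      ← Category.assoc, ← Spec.map_comp]
    rfl)
  exact h

theorem ψ_congr {f f' : X ⟶ Y} (h : f = f') (e : f (genericPoint X) = genericPoint Y)
    (e' : f' (genericPoint X) = genericPoint Y) : Hurwitz.ψ e = Hurwitz.ψ e' := by
  subst h; rfl

theorem ψ_id (e : (𝟙 X : X ⟶ X) (genericPoint X) = genericPoint X) : Hurwitz.ψ e = RingHom.id _ := by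
  obtain ⟨_, h⟩ := FFHom.eq_of_fromSpecStalk_comp (f := 𝟙 X) (φ := RingHom.id X.functionField) (by
    rw [Category.comp_id, CommRingCat.ofHom_id, Spec.map_id]
    exact (Category.id_comp _).symm)
  exact h

theorem eq_of_ψ_eq {S : Scheme.{u}} (q : Y ⟶ S) [IsSeparated q] {f g : X ⟶ Y} (hfg : f ≫ q = g ≫ q)
    (ef : f (genericPoint X) = genericPoint Y) (eg : g (genericPoint X) = genericPoint Y)
    (h : Hurwitz.ψ ef = Hurwitz.ψ eg) : f = g :=
  FFHom.hom_ext q hfg (by rw [FFHom.fromSpecStalk_comp_eq ef, FFHom.fromSpecStalk_comp_eq eg, h])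

theorem ψ_germ {f : X ⟶ Y} (e : f (genericPoint X) = genericPoint Y) {V : Y.Opens}
    (hV : f (genericPoint X) ∈ V) (hV' : genericPoint Y ∈ V) (r : Γ(Y, V)) :
    Hurwitz.ψ e (Y.presheaf.germ V _ hV' r) = X.presheaf.germ (f ⁻¹ᵁ V) _ hV (f.app V r) := by
  show (f.stalkMap (genericPoint X)).hom ((Y.presheaf.stalkSpecializes (specializes_of_eq e)).hom _) = _
  rw [show (Y.presheaf.stalkSpecializes (specializes_of_eq e)).hom ((Y.presheaf.germ V _ hV').hom r) =
    (Y.presheaf.germ V _ hV).hom r from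
      TopCat.Presheaf.germ_stalkSpecializes_apply (F := Y.presheaf) hV' (specializes_of_eq e) r]
  exact Scheme.Hom.germ_stalkMap_apply f V (genericPoint X) hV r

end General

variable {k : Type u} [Field k] {X : Scheme.{u}} [IsIntegral X] [RegCurve X]
  [X.Over (Spec (CommRingCat.of k))] [IsProper (X ↘ Spec (CommRingCat.of k))]

theorem genericPoint_of_invol {σ : X ⟶ X} (hσσ : σ ≫ σ = 𝟙 X) : σ (genericPoint X) = genericPoint X := by
  have hinj : Function.Injective σ := fun a b h => by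
    have := congrArg σ h
    rwa [← Scheme.Hom.comp_apply, ← Scheme.Hom.comp_apply, hσσ] at this
  have hfix : σ (σ (genericPoint X)) = genericPoint X := by rw [← Scheme.Hom.comp_apply, hσσ]; rfl
  by_contra hne
  have hcl := CurvePoints.isClosed_singleton (RegCurve.dim (X := X)).le hne
  have h1 : IsClosed (σ ⁻¹' {σ (genericPoint X)}) := hcl.preimage σ.continuous
  rw [← Set.image_singleton, hinj.preimage_image] at h1
  exact CurvePoints.genericPoint_not_isClosed RegCurve.dim h1

/-- The automorphism of the function field of a `k`-endomorphism fixing the generic point. -/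
def funHom {σ : X ⟶ X} (e : σ (genericPoint X) = genericPoint X)
    (hσ : σ ≫ (X ↘ Spec (CommRingCat.of k)) = X ↘ Spec (CommRingCat.of k)) :
    X.functionField →ₐ[k] X.functionField :=
  { Hurwitz.ψ e with commutes' := fun c => Hurwitz.ψ_algebraMap k e hσ c }

theorem funHom_apply {σ : X ⟶ X} (e : σ (genericPoint X) = genericPoint X)
    (hσ : σ ≫ (X ↘ Spec (CommRingCat.of k)) = X ↘ Spec (CommRingCat.of k)) (z : X.functionField) :
    funHom e hσ z = Hurwitz.ψ e z := rfl

theorem funHom_invol {σ : X ⟶ X} (e : σ (genericPoint X) = genericPoint X)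
    (hσ : σ ≫ (X ↘ Spec (CommRingCat.of k)) = X ↘ Spec (CommRingCat.of k)) (hσσ : σ ≫ σ = 𝟙 X)
    (z : X.functionField) : funHom e hσ (funHom e hσ z) = z := by
  have e2 : (σ ≫ σ) (genericPoint X) = genericPoint X := by rw [Scheme.Hom.comp_apply, e, e]
  have h1 := ψ_comp e e e2
  rw [ψ_congr hσσ e2 rfl, ψ_id] at h1
  exact (RingHom.congr_fun h1 z).symm

/-- An involution of the curve as an automorphism of the function field. -/
def funEquiv {σ : X ⟶ X} (hσ : σ ≫ (X ↘ Spec (CommRingCat.of k)) = X ↘ Spec (CommRingCat.of k))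
    (hσσ : σ ≫ σ = 𝟙 X) : X.functionField ≃ₐ[k] X.functionField :=
  AlgEquiv.ofAlgHom (funHom (genericPoint_of_invol hσσ) hσ) (funHom (genericPoint_of_invol hσσ) hσ)
    (AlgHom.ext fun z => funHom_invol (genericPoint_of_invol hσσ) hσ hσσ z)
    (AlgHom.ext fun z => funHom_invol (genericPoint_of_invol hσσ) hσ hσσ z)

theorem funEquiv_apply {σ : X ⟶ X} (hσ : σ ≫ (X ↘ Spec (CommRingCat.of k)) = X ↘ Spec (CommRingCat.of k))
    (hσσ : σ ≫ σ = 𝟙 X) (z : X.functionField) :
    funEquiv hσ hσσ z = Hurwitz.ψ (genericPoint_of_invol hσσ) z := rfl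

theorem funEquiv_ne_one {σ : X ⟶ X} (hσ : σ ≫ (X ↘ Spec (CommRingCat.of k)) = X ↘ Spec (CommRingCat.of k))
    (hσσ : σ ≫ σ = 𝟙 X) (hne : σ ≠ 𝟙 X) : funEquiv hσ hσσ ≠ 1 := fun h => by
  refine hne (eq_of_ψ_eq (X ↘ Spec (CommRingCat.of k)) (by rw [Category.id_comp, hσ])
    (genericPoint_of_invol hσσ) rfl ?_)
  refine RingHom.ext fun z => ?_
  rw [← funEquiv_apply hσ hσσ, h, ψ_id rfl]
  rfl

/-- Fixed closed points are fixed places. -/
theorem fixed_iff {σ : X ⟶ X} (hσ : σ ≫ (X ↘ Spec (CommRingCat.of k)) = X ↘ Spec (CommRingCat.of k))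
    (hσσ : σ ≫ σ = 𝟙 X) (x : CP X) :
    FunFld.pull (funEquiv hσ hσσ) (place k x) = place k x ↔ σ x.1 = x.1 := by
  have e := genericPoint_of_invol hσσ
  have hinv : ∀ y, σ (σ y) = y := fun y => by rw [← Scheme.Hom.comp_apply, hσσ]; rfl
  have hne : σ x.1 ≠ genericPoint X := fun h => x.2 (by rw [← hinv x.1, h, e])
  let x' : CP X := ⟨σ x.1, hne⟩
  have key : ∀ (y : X) (z : X.functionField), z ∈ Set.range (algebraMap (X.presheaf.stalk (σ y)) X.functionField) →
      funEquiv hσ hσσ z ∈ Set.range (algebraMap (X.presheaf.stalk y) X.functionField) := by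
    rintro y _ ⟨r, rfl⟩
    exact ⟨(σ.stalkMap y).hom r, (Hurwitz.ψ_stalk e y r).symm⟩
  have hpull : FunFld.pull (funEquiv hσ hσσ) (place k x) = place k x' := by
    refine FunFld.place_eq_of_le_one_iff fun z => ?_
    rw [FunFld.val_pull, ← FunFld.mem_O_iff, ← FunFld.mem_O_iff, mem_place_O, mem_place_O]
    refine ⟨fun h => ?_, key x.1 z⟩
    have h' := key (σ x.1) (funEquiv hσ hσσ z) (by rw [hinv]; exact h)
    rwa [show funEquiv hσ hσσ (funEquiv hσ hσσ z) = z from funHom_invol e hσ hσσ z] at h'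
  rw [hpull]
  exact ⟨fun h => congrArg Subtype.val (place_injective (k := k) h), fun h => by rw [show x' = x from Subtype.ext h]⟩

/-- The number of fixed closed points. -/
theorem card_fixed {σ : X ⟶ X} (hσ : σ ≫ (X ↘ Spec (CommRingCat.of k)) = X ↘ Spec (CommRingCat.of k))
    (hσσ : σ ≫ σ = 𝟙 X) :
    Nat.card {x : X // IsClosed ({x} : Set X) ∧ σ x = x} =
      {Q : Place k X.functionField | FunFld.pull (funEquiv hσ hσσ) Q = Q}.ncard := by
  rw [← Nat.card_coe_set_eq]
  let eq1 : {x : X // IsClosed ({x} : Set X) ∧ σ x = x} ≃ {x : CP X // σ x.1 = x.1} :=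
    { toFun := fun x => ⟨⟨x.1, (isClosed_iff_ne_genericPoint k x.1).1 x.2.1⟩, x.2.2⟩
      invFun := fun x => ⟨x.1.1, (isClosed_iff_ne_genericPoint k x.1.1).2 x.1.2, x.2⟩
      left_inv := fun _ => rfl
      right_inv := fun _ => rfl }
  refine Nat.card_congr (eq1.trans ((placeEquiv k).subtypeEquiv fun x => ?_))
  exact (fixed_iff hσ hσσ x).symm

/-- The function of degree two of a double cover of the line. -/
theorem exists_double_function (f : X ⟶ CohB1.ProjSpace 1 k)
    (hf : f ≫ CohB1.ProjSpace.toSpec 1 k = X ↘ Spec (CommRingCat.of k)) [IsFinite f] [Flat f]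
    (hr : ∀ y : ↥(CohB1.ProjSpace 1 k), Scheme.Hom.finrank f y = 2) :
    ∃ x : X.functionField, Module.finrank (adjoin k ({x} : Set X.functionField)) X.functionField = 2 ∧
      ∀ (σ : X ⟶ X) (e : σ (genericPoint X) = genericPoint X), σ ≫ f = f → Hurwitz.ψ e x = x := by
  haveI : IsIntegral (CohB1.ProjSpace 1 k) := GrothLib.ProjDim.isIntegral_proj k 1
  haveI := GrothLib.Chow.isProper_toSpec 1 k
  haveI : IsLocallyNoetherian (CohB1.ProjSpace 1 k) :=
    LocallyOfFiniteType.isLocallyNoetherian (CohB1.ProjSpace.toSpec 1 k)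
  obtain ⟨-, -, hgen⟩ := HyperP1.isFinite_flat_dominant k f hf (range_nontrivial_of_isFinite k f)
  have hξ : f (genericPoint X) = genericPoint (CohB1.ProjSpace 1 k) :=
    ((specializes_iff_forall_open.2 fun s hs hmem => hgen ⟨s, hs⟩ ⟨_, hmem⟩).antisymm
      ((genericPoint_spec _).specializes trivial)).eq
  haveI : LocallyOfFinitePresentation f := inferInstance
  have hd : f.residueDegree (genericPoint X) = 2 :=
    ((generic_finite_flat f hξ).1 (genericPoint (CohB1.ProjSpace 1 k))).symm.trans (hr _)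
  have hη : genericPoint X ∈ f ⁻¹ᵁ SepImm.D (k := k) 0 := hgen _ (D_nonempty k 1 0)
  obtain ⟨-, hd', -⟩ := HyperP1.generic_data k f hf hgen hη rfl
  refine ⟨_, hd'.symm.trans hd, fun σ e hσf => ?_⟩
  have hV : genericPoint (CohB1.ProjSpace 1 k) ∈ SepImm.D (k := k) (n := 1) 0 := hξ ▸ hη
  have e2 : (σ ≫ f) (genericPoint X) = genericPoint (CohB1.ProjSpace 1 k) := by
    rw [Scheme.Hom.comp_apply, e, hξ]
  have h1 := ψ_comp e hξ e2
  rw [ψ_congr hσf e2 hξ] at h1
  have h2 : Hurwitz.ψ hξ ((CohB1.ProjSpace 1 k).presheaf.germ _ _ hV (SepImm.rat 0 1)) =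
      X.presheaf.germ _ _ hη (SepImm.ψ f 0 (SepImm.rat 0 1)) := ψ_germ hξ hη hV _
  rw [← h2]
  exact (RingHom.congr_fun h1 _).symm

/-- A function of degree two gives a double cover of the line, generically etale. -/
theorem exists_double_cover_of_function (h0 : Module.finrank k (Coh.HH X (Coh.structureModule X) 0) = 1)
    [Smooth (X ↘ Spec (CommRingCat.of k))] (hg : 0 < Curv2.genus k X) {x : X.functionField}
    (hx : Module.finrank (adjoin k ({x} : Set X.functionField)) X.functionField = 2) :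
    ∃ f : X ⟶ CohB1.ProjSpace 1 k, f ≫ CohB1.ProjSpace.toSpec 1 k = X ↘ Spec (CommRingCat.of k) ∧
      IsFinite f ∧ Flat f ∧ (∀ y : ↥(CohB1.ProjSpace 1 k), Scheme.Hom.finrank f y = 2) ∧
      ∃ V : X.Opens, (V : Set X).Nonempty ∧ Etale (V.ι ≫ f) := by
  obtain ⟨f, hη, hf, hnc, hgx⟩ := HyperP1.exists_hom_P1 k
    (FunFld.transcendental_of_finrank_eq_two (CurveRR.isFunctionField k h0) hx)
  obtain ⟨hfin, hfl, hgen⟩ := HyperP1.isFinite_flat_dominant k f hf hnc
  obtain ⟨-, hd, hs⟩ := HyperP1.generic_data k f hf hgen hη hgx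
  haveI : IsIntegral (CohB1.ProjSpace 1 k) := GrothLib.ProjDim.isIntegral_proj k 1
  haveI := GrothLib.Chow.isProper_toSpec 1 k
  haveI : IsLocallyNoetherian (CohB1.ProjSpace 1 k) :=
    LocallyOfFiniteType.isLocallyNoetherian (CohB1.ProjSpace.toSpec 1 k)
  have hξ : f (genericPoint X) = genericPoint (CohB1.ProjSpace 1 k) :=
    ((specializes_iff_forall_open.2 fun s hs hmem => hgen ⟨s, hs⟩ ⟨_, hmem⟩).antisymm
      ((genericPoint_spec _).specializes trivial)).eq
  haveI := hfin
  haveI := hfl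
  haveI : LocallyOfFinitePresentation f := inferInstance
  obtain ⟨hr, het⟩ := generic_finite_flat f hξ
  exact ⟨f, hf, hfin, hfl, fun y => by rw [hr, hd, hx],
    het (hs.2 (isSeparable_of_finrank_two k h0 hg hx))⟩

theorem genericPoint_of_injective {σ : X ⟶ X} (hinj : Function.Injective σ) (hsurj : Function.Surjective σ) :
    σ (genericPoint X) = genericPoint X := by
  by_contra hne
  have hcl := CurvePoints.isClosed_singleton (RegCurve.dim (X := X)).le hne
  have h1 : IsClosed (σ ⁻¹' {σ (genericPoint X)}) := hcl.preimage σ.continuous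
  rw [← Set.image_singleton, hinj.preimage_image] at h1
  exact CurvePoints.genericPoint_not_isClosed RegCurve.dim h1

theorem genericPoint_of_comp (f : X ⟶ CohB1.ProjSpace 1 k)
    (hf : f ≫ CohB1.ProjSpace.toSpec 1 k = X ↘ Spec (CommRingCat.of k)) [IsFinite f] {σ : X ⟶ X}
    (hσf : σ ≫ f = f) : σ (genericPoint X) = genericPoint X := by
  haveI : IsIntegral (CohB1.ProjSpace 1 k) := GrothLib.ProjDim.isIntegral_proj k 1
  obtain ⟨-, -, hgen⟩ := HyperP1.isFinite_flat_dominant k f hf (range_nontrivial_of_isFinite k f)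
  have hξ : f (genericPoint X) = genericPoint (CohB1.ProjSpace 1 k) :=
    ((specializes_iff_forall_open.2 fun s hs hmem => hgen ⟨s, hs⟩ ⟨_, hmem⟩).antisymm
      ((genericPoint_spec _).specializes trivial)).eq
  by_contra hne
  have hcl := f.isClosedMap _ (CurvePoints.isClosed_singleton (RegCurve.dim (X := X)).le hne)
  rw [Set.image_singleton, ← Scheme.Hom.comp_apply, hσf, hξ] at hcl
  have hdim : topologicalKrullDim (CohB1.ProjSpace 1 k) = 1 := by exact_mod_cast Groth.Agent.S10829.result k 1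
  exact CurvePoints.genericPoint_not_isClosed hdim hcl

/-- An involution of the function field comes from an involution of the curve. -/
theorem exists_invol (s : X.functionField ≃ₐ[k] X.functionField) (hinv : ∀ z, s (s z) = z) :
    ∃ σ : X ⟶ X, ∃ (hσ : σ ≫ (X ↘ Spec (CommRingCat.of k)) = X ↘ Spec (CommRingCat.of k)) (hσσ : σ ≫ σ = 𝟙 X),
      funEquiv hσ hσσ = s := by
  obtain ⟨f, hf, e, he⟩ := FFHom.exists_iso k (X := X) (Y := X) s.toRingEquiv fun c => s.commutes c
  have e2 : (f.hom ≫ f.hom) (genericPoint X) = genericPoint X := by rw [Scheme.Hom.comp_apply, e, e]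
  have hσσ : f.hom ≫ f.hom = 𝟙 X := by
    refine eq_of_ψ_eq (X ↘ Spec (CommRingCat.of k)) (by rw [Category.assoc, hf, hf, Category.id_comp]) e2 rfl ?_
    rw [ψ_comp e e e2, ψ_id rfl, he]
    exact RingHom.ext fun z => hinv z
  refine ⟨f.hom, hf, hσσ, AlgEquiv.ext fun z => ?_⟩
  rw [funEquiv_apply]
  exact RingHom.congr_fun he z

end GrothLib.CurveMult.InvolutionCurve
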