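import Groth.Agent.Lib.CurveMult.WeierEmb
import Groth.Agent.S10994
import Mathlib.FieldTheory.IsAlgClosed.Basic

/-!
# Legendre form
-/

set_option linter.style.haveILetI false

universe u

open IntermediateField WithZero
open _root_.FunFld (Place Divisor)

noncomputable section

namespace GrothLib.CurveMult.Legendre

variable {k K : Type u} [Field k] [IsAlgClosed k] [Field K] [Algebra k K]

/-- Legendre coordinates on a function field of genus one away from characteristic two. -/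
theorem exists_legendre (h2 : (2 : k) ≠ 0) (hK : _root_.FunFld.IsFunctionField k K)
    (hg : _root_.FunFld.genus k K = 1) {P₀ : Place k K} (hP : P₀.deg = 1) :
    ∃ (l : k) (X Y : K), l ≠ 0 ∧ l ≠ 1 ∧ WeierFF.IsCoords P₀ X Y ∧
      Y ^ 2 = X * (X - 1) * (X - algebraMap k K l) := by
  obtain ⟨x, y, a₁, a₂, a₃, a₄, a₆, hxy, hrel⟩ := WeierFF.exists_coords hK hg hP
  have hfg : FunFld.IsFG k K := hK.1
  let ι := algebraMap k K
  have hi : ∀ a : k, P₀.1 (ι a) ≤ 1 := P₀.2.1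
  let w : K := y + ι (2 : k)⁻¹ * (ι a₁ * x + ι a₃)
  have h2K : (2 : K) ≠ 0 := by rw [← map_ofNat ι 2]; exact (map_ne_zero _).2 h2
  have hx1 : P₀.1 x = exp 2 := hxy.1
  have hy1 : P₀.1 y = exp 3 := hxy.2.1
  have hone : (1 : WithZero (Multiplicative ℤ)) ≤ exp 2 := by rw [← exp_zero, exp_le_exp]; norm_num
  have hlin : ∀ Q : Place k K, Q.1 (ι (2 : k)⁻¹ * (ι a₁ * x + ι a₃)) ≤ max (Q.1 x) 1 := fun Q => by
    rw [map_mul]
    refine (mul_le_of_le_one_left zero_le (Q.2.1 _)).trans ((Q.1.map_add _ _).trans (max_le ?_ ?_))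
    · rw [map_mul]; exact (mul_le_of_le_one_left zero_le (Q.2.1 _)).trans (le_max_left _ _)
    · exact (Q.2.1 _).trans (le_max_right _ _)
  have hw1 : P₀.1 w = exp 3 := by
    show P₀.1 (y + _) = _
    rw [P₀.1.map_add_eq_of_lt_left, hy1]
    rw [hy1]
    exact lt_of_le_of_lt ((hlin P₀).trans (max_le (le_of_eq hx1) hone)) (exp_lt_exp.2 (by norm_num))
  have hwQ : ∀ Q, Q ≠ P₀ → Q.1 w ≤ 1 := fun Q hQ =>
    (Q.1.map_add _ _).trans (max_le (hxy.2.2 Q hQ).2 ((hlin Q).trans (max_le (hxy.2.2 Q hQ).1 le_rfl)))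
  let b₂ := a₂ + a₁ ^ 2 / 4
  let b₄ := a₄ + a₁ * a₃ / 2
  let b₆ := a₆ + a₃ ^ 2 / 4
  have h4 : (4 : k) ≠ 0 := by rw [show (4 : k) = 2 * 2 by norm_num]; exact mul_ne_zero h2 h2
  have hwrel : w ^ 2 = x ^ 3 + ι b₂ * x ^ 2 + ι b₄ * x + ι b₆ := by
    simp only [w, b₂, b₄, b₆, ι, map_add, map_div₀, map_mul, map_pow, map_inv₀, map_ofNat]
    rw [show (4 : K) = 2 * 2 by norm_num]
    simp only [div_eq_mul_inv, mul_inv]
    linear_combination hrel + ((algebraMap k K a₁ * x + algebraMap k K a₃) * y +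
      (2 : K)⁻¹ * algebraMap k K a₁ * algebraMap k K a₃ * x) * mul_inv_cancel₀ h2K
  obtain ⟨e₁, he₁⟩ : ∃ e : k, e ^ 3 + b₂ * e ^ 2 + b₄ * e + b₆ = 0 := by
    obtain ⟨e, he⟩ := IsAlgClosed.exists_root
      (Polynomial.X ^ 3 + Polynomial.C b₂ * Polynomial.X ^ 2 + Polynomial.C b₄ * Polynomial.X + Polynomial.C b₆)
      (by
        intro h
        have := Polynomial.natDegree_eq_zero_iff_degree_le_zero.2 h.le
        rw [show (Polynomial.X ^ 3 + Polynomial.C b₂ * Polynomial.X ^ 2 + Polynomial.C b₄ * Polynomial.X +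
          Polynomial.C b₆ : Polynomial k).natDegree = 3 by compute_degree!] at this
        omega)
    exact ⟨e, by simpa using he⟩
  obtain ⟨e₂, he₂⟩ : ∃ e : k, e ^ 2 + (b₂ + e₁) * e + (b₄ + e₁ * b₂ + e₁ ^ 2) = 0 := by
    obtain ⟨e, he⟩ := IsAlgClosed.exists_root
      (Polynomial.X ^ 2 + Polynomial.C (b₂ + e₁) * Polynomial.X + Polynomial.C (b₄ + e₁ * b₂ + e₁ ^ 2))
      (by
        intro h
        have := Polynomial.natDegree_eq_zero_iff_degree_le_zero.2 h.le
        rw [show (Polynomial.X ^ 2 + Polynomial.C (b₂ + e₁) * Polynomial.X +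
          Polynomial.C (b₄ + e₁ * b₂ + e₁ ^ 2) : Polynomial k).natDegree = 2 by compute_degree!] at this
        omega)
    exact ⟨e, by simpa using he⟩
  let e₃ := -(b₂ + e₁) - e₂
  have hfact : w ^ 2 = (x - ι e₁) * (x - ι e₂) * (x - ι e₃) := by
    have hB4 : b₄ = e₁ * e₂ + e₁ * e₃ + e₂ * e₃ := by simp only [e₃]; linear_combination he₂
    have hB6 : b₆ = -(e₁ * e₂ * e₃) := by simp only [e₃]; linear_combination he₁ - e₁ * he₂
    have hB2 : b₂ = -(e₁ + e₂ + e₃) := by simp only [e₃]; ring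
    rw [hwrel, hB2, hB4, hB6]
    simp only [ι, map_add, map_mul, map_neg]
    ring
  have hxt : ∀ e : k, x - ι e ≠ 0 := fun e h => by
    rw [sub_eq_zero] at h
    have := hi e
    rw [← h, hx1, ← exp_zero, exp_le_exp] at this
    omega
  have hdist : ∀ p q r : k, w ^ 2 = (x - ι p) * (x - ι q) * (x - ι r) → p ≠ q := by
    intro p q r hf hpq
    subst hpq
    let t := w / (x - ι p)
    have ht2 : x = t ^ 2 + ι r := by
      simp only [t]; rw [div_pow, hf]; field_simp [hxt p]; ring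
    have htw : w = t * (x - ι p) := by simp only [t]; rw [div_mul_cancel₀ _ (hxt p)]
    let M := adjoin k ({t} : Set K)
    have hxM : x ∈ M := by
      rw [ht2]; exact add_mem (pow_mem (mem_adjoin_simple_self k t) 2) (M.algebraMap_mem r)
    have hwM : w ∈ M := by
      rw [htw]; exact mul_mem (mem_adjoin_simple_self k t) (sub_mem hxM (M.algebraMap_mem p))
    have hd : ∀ (z : K) (n : ℕ), 0 < n → P₀.1 z = exp (n : ℤ) → (∀ Q, Q ≠ P₀ → Q.1 z ≤ 1) → z ∈ M →
        Module.finrank M K ∣ n := by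
      intro z n hn hz hzQ hzM
      have hz0 : z ≠ 0 := fun h => by rw [h, map_zero] at hz; exact exp_ne_zero hz.symm
      have ho : P₀.ord z = -(n : ℤ) := by
        rw [FunFld.val_eq P₀ hz0, exp_inj] at hz; omega
      have h1 := hfg.deg_poleDiv (FunFld.transcendental_of_ord_ne_zero (P := P₀) (x := z) (by omega))
      rw [FunFld.poleDiv_eq_single hfg (n := (n : ℤ)) (by omega) ho
        (fun Q hQ => (FunFld.val_le_one_iff Q hz0).1 (hzQ Q hQ)), FunFld.deg_single, hP] at h1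
      have hle : adjoin k ({z} : Set K) ≤ M := adjoin_simple_le_iff.2 hzM
      have h3 := IntermediateField.finrank_dvd_of_le_left hle
      rwa [show Module.finrank (adjoin k ({z} : Set K)) K = n by simp at h1; omega] at h3
    have h1 : Module.finrank M K = 1 :=
      Nat.dvd_one.1 (by
        simpa using Nat.dvd_gcd (hd x 2 (by omega) hx1 (fun Q hQ => (hxy.2.2 Q hQ).1) hxM)
          (hd w 3 (by omega) hw1 hwQ hwM))
    have htop : M = ⊤ := by
      rw [eq_top_iff]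
      intro z _
      obtain ⟨c, hc⟩ := (finrank_eq_one_iff_of_nonzero' (1 : K) one_ne_zero).1 h1 z
      rw [← hc, Algebra.smul_def, mul_one]
      exact c.2
    have := ((Groth.Agent.S10994.result k K hK).2 ⟨t, htop⟩).1
    omega
  have h12 : e₁ ≠ e₂ := hdist e₁ e₂ e₃ hfact
  have h13 : e₁ ≠ e₃ := hdist e₁ e₃ e₂ (by rw [hfact]; ring)
  have h23 : e₂ ≠ e₃ := hdist e₂ e₃ e₁ (by rw [hfact]; ring)
  let d := e₂ - e₁
  have hd : d ≠ 0 := sub_ne_zero.2 (Ne.symm h12)
  obtain ⟨s, hs⟩ := IsAlgClosed.exists_pow_nat_eq d (n := 2) (by norm_num)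
  have hs0 : s ≠ 0 := by rintro rfl; exact hd (by simpa using hs.symm)
  refine ⟨(e₃ - e₁) / d, ι d⁻¹ * (x - ι e₁), ι (s ^ 3)⁻¹ * w, div_ne_zero (sub_ne_zero.2 (Ne.symm h13)) hd,
    fun h => h23 ?_, ⟨?_, ?_, fun Q hQ => ⟨?_, ?_⟩⟩, ?_⟩
  · rw [div_eq_one_iff_eq hd] at h
    simp only [d] at h
    linear_combination -h
  · rw [map_mul, FunFld.val_const P₀ (inv_ne_zero hd), one_mul, P₀.1.map_sub_eq_of_lt_left, hx1]
    rw [hx1]
    exact lt_of_le_of_lt (hi e₁) (by rw [← exp_zero, exp_lt_exp]; norm_num)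
  · rw [map_mul, FunFld.val_const P₀ (inv_ne_zero (pow_ne_zero 3 hs0)), one_mul, hw1]
  · rw [map_mul]
    exact mul_le_one' (Q.2.1 _) ((Q.1.map_sub _ _).trans (max_le (hxy.2.2 Q hQ).1 (Q.2.1 _)))
  · rw [map_mul]; exact mul_le_one' (Q.2.1 _) (hwQ Q hQ)
  · have hsK : ι s ≠ 0 := (map_ne_zero _).2 hs0
    have hdK : ι d = ι s ^ 2 := by rw [← map_pow, hs]
    have e2 : ι e₂ = ι d + ι e₁ := by rw [← map_add]; simp only [d]; congr 1; ring
    have e3 : ι e₃ = ι ((e₃ - e₁) / d) * ι d + ι e₁ := by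
      rw [← map_mul, ← map_add]; congr 1; field_simp; ring
    have hl : algebraMap k K ((e₃ - e₁) / d) = ι ((e₃ - e₁) / d) := rfl
    rw [hl, mul_pow, hfact, e2, e3]
    simp only [ι] at hdK hsK ⊢
    simp only [map_inv₀, map_pow, hdK]
    field_simp
    ring

end GrothLib.CurveMult.Legendre
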