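import Groth.Agent.Lib.CurveMult.PlaneQuartic
import Groth.Agent.Lib.CurveMult.NormalRat
import Mathlib.FieldTheory.RatFunc.Luroth

/-!
# Curves covered by the projective line
-/

set_option linter.style.haveILetI false
set_option backward.isDefEq.respectTransparency false

universe u

open CategoryTheory CategoryTheory.Limits AlgebraicGeometry TopologicalSpace
open GrothLib.CurveRR

noncomputable section

namespace GrothLib.CurveMult

variable (k : Type u) [Field k]

include k in
/-- A curve whose function field is generated by one element is the projective line. -/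
theorem exists_iso_P1_of_adjoin_eq_top {X : Scheme.{u}} [IsIntegral X] [RegCurve X]
    [X.Over (Spec (CommRingCat.of k))] [IsProper (X ↘ Spec (CommRingCat.of k))] {z : X.functionField}
    (hz : Transcendental k z) (htop : IntermediateField.adjoin k ({z} : Set X.functionField) = ⊤) :
    ∃ e : X ≅ CohB1.ProjSpace 1 k, e.hom ≫ CohB1.ProjSpace.toSpec 1 k = X ↘ Spec (CommRingCat.of k) := by
  obtain ⟨f, hη, hf, hnc, hx⟩ := HyperP1.exists_hom_P1 k hz
  obtain ⟨hfin, hfl, hgen⟩ := HyperP1.isFinite_flat_dominant k f hf hnc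
  obtain ⟨-, hd, -⟩ := HyperP1.generic_data k f hf hgen hη hx
  rw [htop, IntermediateField.finrank_top] at hd
  haveI := hfin
  haveI := hfl
  haveI : IsIntegral (CohB1.ProjSpace 1 k) := ProjDim.isIntegral_proj k 1
  haveI := Chow.isProper_toSpec 1 k
  haveI : IsLocallyNoetherian (CohB1.ProjSpace 1 k) :=
    LocallyOfFiniteType.isLocallyNoetherian (CohB1.ProjSpace.toSpec 1 k)
  have hξ := CurvePoints.map_genericPoint_of_nontrivial (by exact_mod_cast (Groth.Agent.S10829.result k 1).le) f hnc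
  obtain ⟨hfr, -⟩ := generic_finite_flat f hξ
  haveI : IsIso f := f.isIso_iff_finrank_eq.2 (funext fun y => (hfr y).trans hd)
  exact ⟨asIso f, hf⟩

/-- The function field of the projective line is a field of rational functions. -/
theorem nonempty_P1_functionField [IsIntegral (CohB1.ProjSpace 1 k)] :
    letI : (CohB1.ProjSpace 1 k).Over (Spec (CommRingCat.of k)) := ⟨CohB1.ProjSpace.toSpec 1 k⟩
    Nonempty (RatFunc k ≃ₐ[k] (CohB1.ProjSpace 1 k).functionField) := by
  letI : (CohB1.ProjSpace 1 k).Over (Spec (CommRingCat.of k)) := ⟨CohB1.ProjSpace.toSpec 1 k⟩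
  haveI := Chow.isProper_toSpec 1 k
  haveI : IsProper (CohB1.ProjSpace 1 k ↘ Spec (CommRingCat.of k)) := inferInstanceAs (IsProper (CohB1.ProjSpace.toSpec 1 k))
  haveI : Smooth (CohB1.ProjSpace.toSpec 1 k) := smooth_toSpec 1 k
  haveI : RegCurve (CohB1.ProjSpace 1 k) :=
    regCurve_of_smooth (CohB1.ProjSpace.toSpec 1 k) (by exact_mod_cast Groth.Agent.S10829.result k 1)
  have hid : (𝟙 _ : CohB1.ProjSpace 1 k ⟶ _) ≫ CohB1.ProjSpace.toSpec 1 k =
      CohB1.ProjSpace 1 k ↘ Spec (CommRingCat.of k) := Category.id_comp _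
  obtain ⟨-, -, hgen⟩ := HyperP1.isFinite_flat_dominant k (𝟙 _) hid (range_nontrivial_of_isFinite k (𝟙 _))
  have hη : genericPoint (CohB1.ProjSpace 1 k) ∈ (𝟙 (CohB1.ProjSpace 1 k) : _ ⟶ _) ⁻¹ᵁ SepImm.D (k := k) 0 :=
    hgen _ (D_nonempty k 1 0)
  obtain ⟨hxt, hd, -⟩ := HyperP1.generic_data k (𝟙 _) hid hgen hη rfl
  obtain ⟨hfr, -⟩ := generic_finite_flat (𝟙 (CohB1.ProjSpace 1 k)) rfl
  rw [← hfr (Classical.arbitrary _), (Scheme.Hom.isIso_iff_finrank_eq (f := 𝟙 (CohB1.ProjSpace 1 k))).1 inferInstance] at hd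
  have htop := IntermediateField.finrank_eq_one_iff_eq_top.1 hd.symm
  exact ⟨(RatFunc.algEquivOfTranscendental _ hxt).trans
    ((IntermediateField.equivOfEq htop).trans IntermediateField.topEquiv)⟩

/-- A normal curve with a non-constant map from the projective line is the projective line. -/
theorem exists_iso_P1_of_hom {X : Scheme.{u}} [X.Over (Spec (CommRingCat.of k))]
    [IsSeparated (X ↘ Spec (CommRingCat.of k))] [LocallyOfFiniteType (X ↘ Spec (CommRingCat.of k))]
    [QuasiCompact (X ↘ Spec (CommRingCat.of k))] [ConnectedSpace X] (hN : Pi1.IsNormalScheme X)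
    (hdim : topologicalKrullDim X = 1) (f : CohB1.ProjSpace 1 k ⟶ X)
    (hf : f ≫ (X ↘ Spec (CommRingCat.of k)) = CohB1.ProjSpace.toSpec 1 k) (hnc : (Set.range f).Nontrivial) :
    ∃ e : X ≅ CohB1.ProjSpace 1 k, e.hom ≫ CohB1.ProjSpace.toSpec 1 k = X ↘ Spec (CommRingCat.of k) := by
  letI : (CohB1.ProjSpace 1 k).Over (Spec (CommRingCat.of k)) := ⟨CohB1.ProjSpace.toSpec 1 k⟩
  haveI := Chow.isProper_toSpec 1 k
  haveI : IsProper (CohB1.ProjSpace 1 k ↘ Spec (CommRingCat.of k)) := inferInstanceAs (IsProper (CohB1.ProjSpace.toSpec 1 k))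
  haveI : IsIntegral (CohB1.ProjSpace 1 k) := ProjDim.isIntegral_proj k 1
  haveI : IsLocallyNoetherian X := LocallyOfFiniteType.isLocallyNoetherian (X ↘ Spec (CommRingCat.of k))
  haveI : CompactSpace X := QuasiCompact.compactSpace_of_compactSpace (X ↘ Spec (CommRingCat.of k))
  haveI : IsNoetherian X := {}
  haveI : IsIntegral X := Ref1.isIntegral_of_connected fun a => (hN a).1
  haveI := regCurve_of_normal hN hdim
  have hξ := CurvePoints.map_genericPoint_of_nontrivial hdim.le f hnc
  haveI : IsProper (f ≫ (X ↘ Spec (CommRingCat.of k))) := by rw [hf]; infer_instance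
  haveI : IsProper f := IsProper.of_comp f (X ↘ Spec (CommRingCat.of k))
  haveI : Surjective f := ⟨fun x => ((genericPoint_spec X).specializes trivial).mem_closed
    f.isClosedMap.isClosed_range ⟨_, hξ⟩⟩
  haveI : UniversallyClosed (X ↘ Spec (CommRingCat.of k)) :=
    UniversallyClosed.of_comp_surjective f (X ↘ Spec (CommRingCat.of k))
  haveI : IsProper (X ↘ Spec (CommRingCat.of k)) := {}
  haveI : Smooth (CohB1.ProjSpace.toSpec 1 k) := smooth_toSpec 1 k
  haveI : RegCurve (CohB1.ProjSpace 1 k) :=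
    regCurve_of_smooth (CohB1.ProjSpace.toSpec 1 k) (by exact_mod_cast Groth.Agent.S10829.result k 1)
  obtain ⟨ε⟩ := nonempty_P1_functionField k
  let ψ : X.functionField →ₐ[k] (CohB1.ProjSpace 1 k).functionField :=
    { Hurwitz.ψ hξ with commutes' := fun c => Hurwitz.ψ_algebraMap k hξ hf c }
  let χ : X.functionField →ₐ[k] RatFunc k := ε.symm.toAlgHom.comp ψ
  have hgmem : RatFunc.Luroth.generator χ.fieldRange ∈ χ.fieldRange := RatFunc.Luroth.generator_mem
  obtain ⟨z, hz⟩ := hgmem
  have hgt : Transcendental k (RatFunc.Luroth.generator χ.fieldRange) := by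
    refine RatFunc.Luroth.transcendental_generator fun hbot => ?_
    obtain ⟨w, hw, -⟩ := isFG k (X := X)
    obtain ⟨c, hc⟩ := IntermediateField.mem_bot.1 (hbot.le ⟨w, rfl⟩ : χ w ∈ (⊥ : IntermediateField k (RatFunc k)))
    exact hw (χ.toRingHom.injective (a₁ := w) (a₂ := algebraMap k X.functionField c)
      (hc.symm.trans (χ.commutes c).symm) ▸ isAlgebraic_algebraMap c)
  refine exists_iso_P1_of_adjoin_eq_top k (z := z)
    (fun h => hgt (hz ▸ h.algHom χ)) ?_
  refine eq_top_iff.2 fun w _ => ?_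
  have hw : χ w ∈ (IntermediateField.adjoin k ({z} : Set X.functionField)).map χ := by
    rw [IntermediateField.adjoin_map, Set.image_singleton, show χ z = _ from hz]
    exact RatFunc.Luroth.eq_adjoin_generator.le ⟨w, rfl⟩
  obtain ⟨w', hw', he⟩ := hw
  rwa [← χ.toRingHom.injective he]

end GrothLib.CurveMult
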