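import Groth.Agent.Lib.CurveMult.NefGenusZero
import Groth.Agent.Lib.CurveMult.TwistHom

/-!
# Nef line bundles on curves without `H¹(O)`
-/

set_option linter.style.haveILetI false
set_option backward.isDefEq.respectTransparency false

universe u

open CategoryTheory CategoryTheory.Limits AlgebraicGeometry TopologicalSpace Opposite

noncomputable section

namespace GrothLib.CurveMult

variable {X : Scheme.{u}} (k : Type u) [Field k] [X.Over (Spec (CommRingCat.of k))]
  [IsProper (X ↘ Spec (CommRingCat.of k))] (K : Type u) [Field K] [Algebra k K]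

local notation "gK" => Curv2.bcFst k X K

/-- Cohomology dimensions do not change under extension of the ground field. -/
theorem finrank_HH_bc (M : X.Modules) [M.IsQuasicoherent] (i : ℕ) :
    Module.finrank K (Coh.HH (Curv2.bc k X K) ((Scheme.Modules.pullback gK).obj M) i) =
      Module.finrank k (Coh.HH X M i) := by
  haveI := Euler.isNoetherian_of_proper (X := X) k
  haveI : X.IsSeparated := ⟨by
    rw [← terminal.comp_from (X ↘ Spec (CommRingCat.of k))]; infer_instance⟩
  obtain ⟨e⟩ := BCCoh.exists_flatBC (algebraMap k K) (RingHom.flat_algebraMap_iff.2 inferInstance)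
    (X ↘ Spec (CommRingCat.of k)) (Curv2.bcSnd k X K) gK (IsPullback.of_hasPullback _ _) M i
  letI := (algebraMap k K).toAlgebra
  letI := BCCoh.modHH (X ↘ Spec (CommRingCat.of k)) M i
  letI := BCCoh.modHH (Curv2.bcSnd k X K) ((Scheme.Modules.pullback gK).obj M) i
  have h1 := e.finrank_eq
  rw [Module.finrank_baseChange] at h1
  exact h1.symm

omit [IsProper (X ↘ Spec (CommRingCat.of k))] in
/-- A monomorphism is injective on global sections. -/
theorem injective_hhMap_of_mono {M N : X.Modules} (f : M ⟶ N) [Mono f] :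
    Function.Injective (Cohom.hhMap k f 0) := by
  intro a b h
  refine (ProjCoh.H0top M).injective (Cohom.app_injective_of_mono f ⊤ ?_)
  have ha := ProjCoh.H0top_map ((QCoh.toAbFun _).map f) a
  have hb := ProjCoh.H0top_map ((QCoh.toAbFun _).map f) b
  exact ha.symm.trans ((congrArg (ProjCoh.H0top N) h).trans hb)

include k in
/-- Nef invertible modules on proper curves with `H¹(O) = 0`. -/
theorem nef_of_genus_zero' (hd : topologicalKrullDim X ≤ 1)
    (h1 : Subsingleton (Coh.HH X (Coh.structureModule X) 1)) {L : X.Modules} (hL : PicF.IsInvertible L)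
    (hnef : NumR.IsNef k X L) : Subsingleton (Coh.HH X L 1) ∧ Curv2.IsGloballyGenerated L := by
  let K := AlgebraicClosure k
  let g := Curv2.bcFst k X K
  haveI := Euler.isNoetherian_of_proper (X := X) k
  haveI := Hilb20.isProper_bc (X := X) k K
  haveI := Euler.isNoetherian_of_proper (X := Curv2.bc k X K) K
  have hdY : topologicalKrullDim (Curv2.bc k X K) ≤ 1 :=
    (CurveLocus.topologicalKrullDim_of_isPullback (X ↘ Spec (CommRingCat.of k))
      (IsPullback.of_hasPullback _ _)).trans_le hd
  have hOc : Coh.IsCoh (Coh.structureModule X) := Euler.isCoh_of_isInvertible Euler.isInvertible_structure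
  have hLc := Euler.isCoh_of_isInvertible hL
  haveI := hOc.1
  haveI := hLc.1
  have hY1 : Subsingleton (Coh.HH (Curv2.bc k X K) (Coh.structureModule (Curv2.bc k X K)) 1) := by
    haveI := Euler.finiteDimensional_HH K (Euler.isCoh_of_isInvertible
      (Euler.isInvertible_structure (X := Curv2.bc k X K))) 1
    refine (Module.finrank_zero_iff (R := K)).1 ?_
    rw [← (Euler.hhEquiv (A := K) (OX.pullUnitIso g) 1).finrank_eq, finrank_HH_bc]
    haveI := h1
    exact Module.finrank_zero_of_subsingleton
  have hLK := Ample.isInvertible_pullback g hL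
  obtain ⟨hK1, hKg⟩ := nef_of_genus_zero K hdY hY1 hLK (Kleiman.isNef_bc k K hL hnef)
  refine ⟨?_, ?_⟩
  · haveI := Euler.finiteDimensional_HH k hLc 1
    refine (Module.finrank_zero_iff (R := k)).1 ?_
    rw [← finrank_HH_bc k K L 1]
    haveI := hK1
    exact Module.finrank_zero_of_subsingleton
  -- the image of the evaluation map
  haveI := Euler.finiteDimensional_HH k hLc 0
  let b := Module.finBasis k (Coh.HH X L 0)
  let p : FlatMod.freeMod X (Module.finrank k (Coh.HH X L 0)) ⟶ L :=
    Sigma.desc fun i => FinCov.homOfSection (ProjCoh.H0top L (b i))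
  let ι := Abelian.image.ι p
  have hFc : Coh.IsCoh (FlatMod.freeMod X (Module.finrank k (Coh.HH X L 0))) :=
    Euler.isCoh_of_isFinLocFree fun x => ⟨⊤, _, trivial, ⟨DCoh.restrictFreeModIso _ _⟩⟩
  have hIc : Coh.IsCoh (Abelian.image p) := QCoh.isCoh_kernel _ hLc (QCoh.isCoh_cokernel p hFc hLc)
  haveI := hIc.1
  have hsurj : Function.Surjective (Cohom.hhMap k ι 0) := by
    rw [← LinearMap.range_eq_top, eq_top_iff, ← b.span_eq, Submodule.span_le]
    rintro _ ⟨i, rfl⟩
    let j : Coh.structureModule X ⟶ Abelian.image p :=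
      Sigma.ι (fun _ : Fin (Module.finrank k (Coh.HH X L 0)) => Coh.structureModule X) i ≫ Abelian.factorThruImage p
    refine ⟨(ProjCoh.H0top _).symm (j.app ⊤ (FinCov.one X ⊤)), (ProjCoh.H0top L).injective ?_⟩
    refine (ProjCoh.H0top_map ((QCoh.toAbFun _).map ι) _).trans ?_
    erw [AddEquiv.apply_symm_apply]
    have h : j ≫ ι = FinCov.homOfSection (ProjCoh.H0top L (b i)) := by
      show (Sigma.ι (fun _ : Fin (Module.finrank k (Coh.HH X L 0)) => Coh.structureModule X) i ≫
        Abelian.factorThruImage p) ≫ Abelian.image.ι p = _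
      rw [Category.assoc, Abelian.image.fac]
      exact Sigma.ι_desc _ _
    refine (congrArg (fun f : Coh.structureModule X ⟶ L => f.app ⊤ (FinCov.one X ⊤)) h).trans ?_
    rw [FinCov.homOfSection_one, show (homOfLE (le_top : (⊤ : X.Opens) ≤ ⊤)).op = 𝟙 _ from Subsingleton.elim _ _,
      CategoryTheory.Functor.map_id]
    rfl
  have hfr : Module.finrank k (Coh.HH X (Abelian.image p) 0) = Module.finrank k (Coh.HH X L 0) :=
    (LinearEquiv.ofBijective _ ⟨injective_hhMap_of_mono k ι, hsurj⟩).finrank_eq
  -- after extending the field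
  let W := (Scheme.Modules.pullback g).map ι
  haveI : Mono W := Hilb20.mono_pullback_bc k K ι
  haveI := Euler.finiteDimensional_HH K (Hilb20.isCoh_pullback_bc k K hIc) 0
  haveI := Euler.finiteDimensional_HH K (Hilb20.isCoh_pullback_bc k K hLc) 0
  have hWs : Function.Surjective (Cohom.hhMap K W 0) :=
    (LinearMap.injective_iff_surjective_of_finrank_eq_finrank
      (by rw [finrank_HH_bc, finrank_HH_bc, hfr])).1 (injective_hhMap_of_mono K W)
  have hepi : Epi W := by
    refine Preadditive.epi_of_cokernel_zero ?_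
    obtain ⟨I, q, hq⟩ := hKg
    haveI := hq
    refine (cancel_epi q).1 (Sigma.hom_ext _ _ fun a => ?_)
    rw [comp_zero, comp_zero]
    let f : Coh.structureModule (Curv2.bc k X K) ⟶ (Scheme.Modules.pullback g).obj L := SheafOfModules.ιFree a ≫ q
    obtain ⟨z, hz⟩ := hWs ((ProjCoh.H0top _).symm (f.app ⊤ (FinCov.one _ ⊤)))
    have hf : FinCov.homOfSection (ProjCoh.H0top _ z) ≫ W = f := by
      refine hom_ext_one _ _ ?_
      show W.app ⊤ ((FinCov.homOfSection (ProjCoh.H0top _ z)).app ⊤ (FinCov.one _ ⊤)) = _
      rw [FinCov.homOfSection_one]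
      have h2 := congrArg (ProjCoh.H0top _) hz
      rw [AddEquiv.apply_symm_apply] at h2
      refine Eq.trans ?_ ((ProjCoh.H0top_map ((QCoh.toAbFun _).map W) z).symm.trans h2)
      congr 1
      rw [show (homOfLE (le_top : (⊤ : (Curv2.bc k X K).Opens) ≤ ⊤)).op = 𝟙 _ from Subsingleton.elim _ _,
        CategoryTheory.Functor.map_id]
      rfl
    refine (Category.assoc _ _ _).symm.trans ((congrArg (· ≫ cokernel.π W) hf.symm).trans ?_)
    exact (Category.assoc _ _ _).trans ((congrArg _ (cokernel.condition W)).trans comp_zero)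
  haveI := hepi
  haveI : IsIso W := isIso_of_mono_of_epi W
  haveI : IsIso ι := Hilb20.isIso_of_pullback_bc k K ι inferInstance
  haveI : Epi (Abelian.factorThruImage p ≫ ι) := epi_comp _ _
  exact isGloballyGenerated_of_epi (Abelian.factorThruImage p ≫ ι)
    (isGloballyGenerated_sigma isGloballyGenerated_structure _)

include k in
/-- The statement with degrees on the integral closed subschemes of dimension one. -/
theorem nef_of_genus_zero_ideal (hd : topologicalKrullDim X ≤ 1)
    (h1 : Subsingleton (Coh.HH X (Coh.structureModule X) 1)) {L : X.Modules} (hL : PicF.IsInvertible L)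
    (hnef : ∀ J : X.IdealSheafData, IsIntegral J.subscheme → topologicalKrullDim J.subscheme = 1 →
      0 ≤ @Curv2.deg k _ J.subscheme ⟨J.subschemeι ≫ (X ↘ (Spec (CommRingCat.of k)))⟩
        ((Scheme.Modules.pullback J.subschemeι).obj L) 1) :
    Subsingleton (Coh.HH X L 1) ∧ Curv2.IsGloballyGenerated L := by
  refine nef_of_genus_zero' k hd h1 hL (Kleiman.isNef_of_euler k hL fun C hC hdim => ?_)
  have hsd : topologicalKrullDim C.subscheme = topologicalKrullDim (C.support : Set X) :=
    (IsHomeomorph.topologicalKrullDim_eq _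
      (C.subschemeι.isClosedEmbedding.isEmbedding.toHomeomorph.trans
        (Homeomorph.setCongr C.range_subschemeι)).isHomeomorph)
  have h := hnef C hC (hsd.trans hdim)
  letI : C.subscheme.Over (Spec (CommRingCat.of k)) := ⟨C.subschemeι ≫ X ↘ Spec (CommRingCat.of k)⟩
  rw [show CohB1.tensorMod (ClSub.quotMod C) L = (Euler.tF L).obj (ClSub.quotMod C) from rfl,
    Snapper.euler_tF_quotMod k C (Euler.isFinLocFree_of_isInvertible hL), Snapper.euler_quotMod k C]
  rw [Curv2.deg, Nat.cast_one, one_mul] at h
  exact h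

end GrothLib.CurveMult
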