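import Mathlib.RingTheory.Nullstellensatz
import Mathlib.RingTheory.Jacobson.Ring
import Mathlib.RingTheory.Ideal.GoingUp
import Mathlib.RingTheory.Artinian.Module
import Mathlib.RingTheory.Nakayama
import Mathlib.RingTheory.Finiteness.Quotient

/-!
# A finite extension which separates points and tangent vectors is trivial
-/

set_option linter.style.haveILetI false

universe u

namespace GrothLib.CurveMult

variable (k : Type u) [Field k] [IsAlgClosed k] {B : Type u} [CommRing B] [Algebra k B] [Algebra.FiniteType k B]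

/-- Closed points of a finitely generated algebra over an algebraically closed field are rational. -/
theorem exists_sub_mem_of_isMaximal (m : Ideal B) [m.IsMaximal] (b : B) : ∃ c : k, b - algebraMap k B c ∈ m := by
  letI := Ideal.Quotient.field m
  haveI : Module.Finite k (B ⧸ m) := finite_of_finite_type_of_isJacobsonRing k (B ⧸ m)
  obtain ⟨c, hc⟩ := IsAlgClosed.algebraMap_bijective_of_isIntegral (k := k) (K := B ⧸ m) |>.2
    (Ideal.Quotient.mk m b)
  refine ⟨c, Ideal.Quotient.eq.1 ?_⟩
  rw [← hc]
  rfl

theorem finrank_quotient_le_one (m : Ideal B) [m.IsMaximal] : Module.finrank k (B ⧸ m) ≤ 1 := by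
  refine finrank_le_one (1 : B ⧸ m) fun w => ?_
  obtain ⟨b, rfl⟩ := Ideal.Quotient.mk_surjective w
  obtain ⟨c, hc⟩ := exists_sub_mem_of_isMaximal k m b
  refine ⟨c, ?_⟩
  rw [Algebra.smul_def, mul_one]
  exact (Ideal.Quotient.eq.2 hc).symm

variable {S : Subalgebra k B}

/-- A subalgebra over which `B` is finite and which separates points and tangent vectors is everything. -/
theorem eq_top_of_separates [Module.Finite S B]
    (hsep : ∀ J : Ideal B, Module.Finite k (B ⧸ J) → Module.finrank k (B ⧸ J) ≤ 2 → ∀ b : B, ∃ s ∈ S, b - s ∈ J) :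
    S = ⊤ := by
  classical
  haveI : Algebra.IsIntegral S B := Algebra.IsIntegral.of_finite S B
  haveI : IsNoetherianRing B := Algebra.FiniteType.isNoetherianRing k B
  let N : Submodule S B := LinearMap.range (Algebra.linearMap S B)
  have key : ∀ n : Ideal S, n.IsMaximal → N ⊔ n • ⊤ = ⊤ := by
    intro n hn
    have hlift : ∀ m : Ideal B, m.IsMaximal → n.map (algebraMap S B) ≤ m → m.comap (algebraMap S B) = n := by
      intro m hm h
      exact (hn.eq_of_le (Ideal.comap_ne_top _ hm.ne_top) (Ideal.map_le_iff_le_comap.1 h)).symm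
    obtain ⟨m, hm, hmn⟩ := Ideal.exists_ideal_over_maximal_of_isIntegral (S := B) n
      (by rw [(RingHom.injective_iff_ker_eq_bot _).1 (FaithfulSMul.algebraMap_injective S B)]; exact bot_le)
    haveI := hm
    let I := n.map (algebraMap S B)
    have hIm : I ≤ m := Ideal.map_le_iff_le_comap.2 hmn.ge
    have huniq : ∀ m' : Ideal B, m'.IsMaximal → I ≤ m' → m' = m := by
      intro m' hm' h'
      by_contra hne
      obtain ⟨x, hx, y, hy, hxy⟩ := Submodule.mem_sup.1
        ((Ideal.eq_top_iff_one _).1 (hm'.coprime_of_ne hm hne))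
      haveI := hm'
      letI := Ideal.Quotient.field m
      letI := Ideal.Quotient.field m'
      haveI : Module.Finite k (B ⧸ m) := finite_of_finite_type_of_isJacobsonRing k (B ⧸ m)
      haveI : Module.Finite k (B ⧸ m') := finite_of_finite_type_of_isJacobsonRing k (B ⧸ m')
      let φ : (B ⧸ (m' ⊓ m)) →ₗ[k] (B ⧸ m') × (B ⧸ m) :=
        ((Ideal.Quotient.factorₐ k (inf_le_left : m' ⊓ m ≤ m')).toLinearMap).prod
          (Ideal.Quotient.factorₐ k (inf_le_right : m' ⊓ m ≤ m)).toLinearMap
      have hφ : Function.Injective φ := by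
        refine (injective_iff_map_eq_zero φ).2 fun w hw => ?_
        obtain ⟨b, rfl⟩ := Ideal.Quotient.mk_surjective w
        exact Ideal.Quotient.eq_zero_iff_mem.2
          ⟨Ideal.Quotient.eq_zero_iff_mem.1 (congrArg Prod.fst hw), Ideal.Quotient.eq_zero_iff_mem.1 (congrArg Prod.snd hw)⟩
      haveI : Module.Finite k (B ⧸ (m' ⊓ m)) := Module.Finite.of_injective φ hφ
      have h2 : Module.finrank k (B ⧸ (m' ⊓ m)) ≤ 2 := by
        refine (LinearMap.finrank_le_finrank_of_injective hφ).trans ?_
        rw [Module.finrank_prod]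
        linarith [finrank_quotient_le_one k m, finrank_quotient_le_one k m']
      obtain ⟨s, hs, hxs⟩ := hsep (m' ⊓ m) inferInstance h2 x
      have hs' : s ∈ m' := by
        have := m'.sub_mem hx hxs.1
        rwa [sub_sub_cancel] at this
      have hsn : (⟨s, hs⟩ : S) ∈ n := (hlift m' hm' h') ▸ hs'
      have hsm : s ∈ m := hIm (Ideal.mem_map_of_mem (algebraMap S B) hsn)
      have hxm : x ∈ m := by
        have := m.add_mem hxs.2 hsm
        rwa [sub_add_cancel] at this
      exact hm.ne_top ((Ideal.eq_top_iff_one _).2 (hxy ▸ m.add_mem hxm hy))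
    -- the tangent directions
    have htan : m ≤ I ⊔ m ^ 2 := by
      intro x hx
      by_contra hxK
      let K : Submodule k B := (I ⊔ m ^ 2).restrictScalars k
      obtain ⟨f, hfx, hfK⟩ := Submodule.exists_le_ker_of_notMem (p := K) hxK
      let H : Ideal B :=
        { carrier := {y | y ∈ m ∧ f y = 0}
          add_mem' := fun {a b} ha hb => ⟨m.add_mem ha.1 hb.1, by rw [map_add, ha.2, hb.2, add_zero]⟩
          zero_mem' := ⟨m.zero_mem, map_zero f⟩
          smul_mem' := fun a y hy => by
            refine ⟨m.mul_mem_left a hy.1, ?_⟩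
            obtain ⟨c, hc⟩ := exists_sub_mem_of_isMaximal k m a
            have h1 : f ((a - algebraMap k B c) * y) = 0 :=
              LinearMap.mem_ker.1 (hfK (Submodule.mem_sup_right (by rw [pow_two]; exact Ideal.mul_mem_mul hc hy.1)))
            rw [sub_mul, ← Algebra.smul_def, map_sub, map_smul, hy.2, smul_zero, sub_zero] at h1
            exact h1 }
      have hspan : Submodule.span k ({Ideal.Quotient.mk H 1, Ideal.Quotient.mk H x} : Set (B ⧸ H)) = ⊤ := by
        refine eq_top_iff.2 fun w _ => ?_
        obtain ⟨b, rfl⟩ := Ideal.Quotient.mk_surjective w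
        obtain ⟨c, hc⟩ := exists_sub_mem_of_isMaximal k m b
        let d := f (b - algebraMap k B c) / f x
        have hd : Ideal.Quotient.mk H b = c • Ideal.Quotient.mk H 1 + d • Ideal.Quotient.mk H x := by
          show _ = Ideal.Quotient.mk H (c • (1 : B)) + Ideal.Quotient.mk H (d • x)
          rw [← map_add, Ideal.Quotient.eq, Algebra.smul_def c, mul_one, ← sub_sub]
          exact ⟨m.sub_mem hc ((m.restrictScalars k).smul_mem d hx), by
            rw [map_sub f, map_smul, smul_eq_mul, div_mul_cancel₀ _ hfx, sub_self]⟩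
        rw [hd]
        exact Submodule.add_mem _ (Submodule.smul_mem _ _ (Submodule.subset_span (Set.mem_insert _ _)))
          (Submodule.smul_mem _ _ (Submodule.subset_span (Set.mem_insert_of_mem _ rfl)))
      haveI : Module.Finite k (B ⧸ H) := ⟨Submodule.fg_def.2 ⟨_, Set.toFinite _, hspan⟩⟩
      have h2 : Module.finrank k (B ⧸ H) ≤ 2 := by
        rw [← finrank_top k, ← hspan]
        refine (finrank_span_le_card _).trans ?_
        exact (Set.toFinset_card _).le.trans (by
          rw [← Nat.card_eq_fintype_card, Nat.card_coe_set_eq]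
          exact (Set.ncard_insert_le _ _).trans (by rw [Set.ncard_singleton]))
      obtain ⟨s, hs, hxs⟩ := hsep H inferInstance h2 x
      have hsm : s ∈ m := by
        have := m.sub_mem hx hxs.1
        rwa [sub_sub_cancel] at this
      have hsn : (⟨s, hs⟩ : S) ∈ n := hmn ▸ hsm
      have hs0 : f s = 0 := LinearMap.mem_ker.1 (hfK (Submodule.mem_sup_left (Ideal.mem_map_of_mem (algebraMap S B) hsn)))
      exact hfx (by
        have := hxs.2
        rwa [map_sub, hs0, sub_zero] at this)
    have hmI : m = I := by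
      refine le_antisymm ?_ hIm
      have hjac : m ≤ I.jacobson := le_sInf fun m' hm' => (huniq m' hm'.2 hm'.1).ge
      let π := Ideal.Quotient.mk I
      have hbot : m.map π ≤ (⊥ : Ideal (B ⧸ I)) := by
        refine Submodule.le_of_le_smul_of_le_jacobson_bot (I := m.map π) (IsNoetherian.noetherian (m.map π)) ?_ ?_
        · refine le_sInf fun m' hm' => Ideal.map_le_iff_le_comap.2 ?_
          haveI := hm'.2
          refine (huniq _ (Ideal.comap_isMaximal_of_surjective π Ideal.Quotient.mk_surjective) fun z hz => ?_).ge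
          show π z ∈ m'
          rw [show π z = 0 from Ideal.Quotient.eq_zero_iff_mem.2 hz]
          exact m'.zero_mem
        · rw [bot_sup_eq, smul_eq_mul, ← Ideal.map_mul, ← pow_two]
          calc m.map π ≤ (I ⊔ m ^ 2).map π := Ideal.map_mono htan
            _ = (m ^ 2).map π := by rw [Ideal.map_sup, Ideal.map_quotient_self, bot_sup_eq]
      intro z hz
      exact Ideal.Quotient.eq_zero_iff_mem.1 ((Submodule.mem_bot _).1 (hbot (Ideal.mem_map_of_mem π hz)))
    refine eq_top_iff.2 fun b _ => ?_
    obtain ⟨c, hc⟩ := exists_sub_mem_of_isMaximal k m b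
    rw [hmI] at hc
    refine Submodule.mem_sup.2 ⟨algebraMap k B c, ⟨algebraMap k S c, rfl⟩, b - algebraMap k B c, ?_, add_sub_cancel _ _⟩
    rw [Ideal.smul_top_eq_map]
    exact hc
  have hN : N = ⊤ := by
    by_contra hne
    haveI : Nontrivial (B ⧸ N) := Submodule.Quotient.nontrivial_iff.2 hne
    have hann : Module.annihilator S (B ⧸ N) ≠ ⊤ := fun h => by
      have h1 : (1 : S) ∈ Module.annihilator S (B ⧸ N) := h ▸ trivial
      obtain ⟨w, hw⟩ := exists_ne (0 : B ⧸ N)
      exact hw (by rw [← one_smul S w]; exact Module.mem_annihilator.1 h1 w)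
    obtain ⟨n, hn, hle⟩ := Ideal.exists_le_maximal _ hann
    obtain ⟨r, hr1, hr⟩ := Submodule.exists_sub_one_mem_and_smul_eq_zero_of_fg_of_le_smul n (⊤ : Submodule S (B ⧸ N))
      Module.Finite.fg_top (by
        intro w _
        obtain ⟨b, rfl⟩ := Submodule.Quotient.mk_surjective N w
        have hb : b ∈ N ⊔ n • ⊤ := by rw [key n hn]; trivial
        obtain ⟨y, hy, z, hz, rfl⟩ := Submodule.mem_sup.1 hb
        rw [Submodule.Quotient.mk_add, (Submodule.Quotient.mk_eq_zero N).2 hy, zero_add]
        have h3 : N.mkQ z ∈ Submodule.map N.mkQ (n • ⊤) := Submodule.mem_map_of_mem hz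
        rw [Submodule.map_smul'', Submodule.map_top, Submodule.range_mkQ] at h3
        exact h3)
    exact hn.ne_top ((Ideal.eq_top_iff_one _).2 (by
      have := n.sub_mem (hle (Module.mem_annihilator.2 fun w => hr w trivial)) hr1
      rwa [sub_sub_cancel] at this))
  refine eq_top_iff.2 fun b _ => ?_
  obtain ⟨s, hs⟩ : b ∈ N := hN ▸ trivial
  exact hs ▸ s.2

end GrothLib.CurveMult
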