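import Groth.Agent.Lib.CurveMult.Embed
import Groth.Agent.Lib.CurveMult.SepAlg

/-!
# Closed immersions by sections separating points and tangent vectors
-/

set_option linter.style.haveILetI false
set_option backward.isDefEq.respectTransparency false

universe u

open CategoryTheory CategoryTheory.Limits AlgebraicGeometry TopologicalSpace Opposite
open GrothLib.Ample (Cocycle res)

noncomputable section

namespace GrothLib.CurveMult

variable {X : Scheme.{u}} (k : Type u) [Field k] [X.Over (Spec (CommRingCat.of k))]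

/-- The constants in the functions on an open set. -/
abbrev locHom (U : X.Opens) : k →+* Γ(X, U) :=
  (res (le_top : U ≤ ⊤)).comp (Coh.toGlobal (X ↘ Spec (CommRingCat.of k)))

theorem finiteType_locHom [LocallyOfFiniteType (X ↘ Spec (CommRingCat.of k))] {U : X.Opens} (hU : IsAffineOpen U) :
    (locHom k U).FiniteType := by
  show (((X ↘ Spec (CommRingCat.of k)).appLE ⊤ U le_top).hom.comp
    (Scheme.ΓSpecIso (CommRingCat.of k)).inv.hom).FiniteType
  refine RingHom.FiniteType.comp
    ((X ↘ Spec (CommRingCat.of k)).finiteType_appLE (isAffineOpen_top _) hU le_top) ?_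
  exact RingHom.FiniteType.of_surjective _
    (ConcreteCategory.bijective_of_isIso (Scheme.ΓSpecIso (CommRingCat.of k)).inv).2

open MvPolynomial Ample.ProjMap in
/-- A morphism to projective space on a chart. -/
theorem map_appLE_g {N : ℕ} {q : X ⟶ Spec (CommRingCat.of k)} (D : Ample.ProjMap.Data N q) (i : Fin (N + 1))
    (z : HomogeneousLocalization.Away (CohB1.polyGrading N k) (MvPolynomial.X i))
    (e : D.U i ≤ D.map ⁻¹ᵁ Proj.basicOpen (CohB1.polyGrading N k) (MvPolynomial.X i)) :
    (D.map.appLE (Proj.basicOpen (CohB1.polyGrading N k) (MvPolynomial.X i)) (D.U i) e).hom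
      (Proj.awayToSection (CohB1.polyGrading N k) (MvPolynomial.X i) z) = D.g i z := by
  let P := CohB1.polyGrading N k
  refine (ConcreteCategory.bijective_of_isIso (D.U i).topIso.inv).1 ?_
  have e1 : ⊤ ≤ D.piece i ⁻¹ᵁ Proj.basicOpen P (MvPolynomial.X i) := (ProjPt.pt_preimage_self P _ _ _).ge
  have h1 := pt_appLE_awayToSection P (X_mem i) one_pos ((D.U i).topIso.inv.hom.comp (D.g i)) z e1
  rw [RingHom.comp_apply] at h1
  refine Eq.trans ?_ h1
  have : ∀ (φ : (D.U i : Scheme.{u}) ⟶ CohB1.ProjSpace N k)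
      (e' : _ ≤ φ ⁻¹ᵁ Proj.basicOpen P (MvPolynomial.X i)),
      φ = (D.U i).ι ≫ D.map →
      (D.U i).topIso.inv ((D.map.appLE (Proj.basicOpen P (MvPolynomial.X i)) (D.U i) e).hom
        (Proj.awayToSection P (MvPolynomial.X i) z)) =
      (φ.appLE (Proj.basicOpen P (MvPolynomial.X i)) ⊤ e').hom (Proj.awayToSection P (MvPolynomial.X i) z) := by
    rintro _ e' rfl
    rw [← Scheme.Hom.appLE_comp_appLE (D.U i).ι D.map _ (D.U i) ⊤ e (D.U i).ι_preimage_self.ge,
      CommRingCat.comp_apply, Scheme.Opens.ι_appLE]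
    rfl
  exact this _ e1 (D.ι_map i).symm

/-- The subalgebra generated by the ratios. -/
def ratioAlg (c : Cocycle X) {N : ℕ} (a : Fin (N + 1) → c.sect 1 ⊤) (j : Fin (N + 1)) :
    letI := (locHom k (c.locus (a j))).toAlgebra
    Subalgebra k Γ(X, c.locus (a j)) :=
  letI := (locHom k (c.locus (a j))).toAlgebra
  { (Subring.closure (Set.range (locHom k (c.locus (a j))) ∪
      {g | ∃ l, g • c.sectRes (le_top : c.locus (a j) ≤ ⊤) (a j) = c.sectRes le_top (a l)})).toSubsemiring with
    algebraMap_mem' := fun r => Subring.subset_closure (Or.inl ⟨r, rfl⟩) }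

/-- The functions on a chart pulled back along the morphism of sections are polynomials in the ratios. -/
theorem appLE_mem_closure (c : Cocycle X) {L : X.Modules} (e : L ≅ c.twist 1) {N : ℕ}
    (s : Fin (N + 1) → ProjUP.Γm L) (hs : ⨆ i, c.locus (Ample.ProjMap.sec c e s i) = ⊤) (j : Fin (N + 1))
    (hle : c.locus (Ample.ProjMap.sec c e s j) ≤
      (Ample.ProjMap.dataOfSections c e s hs (X ↘ Spec (CommRingCat.of k))).map ⁻¹ᵁ
        Proj.basicOpen (CohB1.polyGrading N k) (MvPolynomial.X j))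
    (w : Γ(CohB1.ProjSpace N k, Proj.basicOpen (CohB1.polyGrading N k) (MvPolynomial.X j))) :
    ((Ample.ProjMap.dataOfSections c e s hs (X ↘ Spec (CommRingCat.of k))).map.appLE _ _ hle).hom w ∈
      Subring.closure (Set.range (locHom k (c.locus (Ample.ProjMap.sec c e s j))) ∪
        {g | ∃ l, g • c.sectRes (le_top : c.locus (Ample.ProjMap.sec c e s j) ≤ ⊤) (Ample.ProjMap.sec c e s j) =
          c.sectRes le_top (Ample.ProjMap.sec c e s l)}) := by
  let a := Ample.ProjMap.sec c e s
  let q := X ↘ Spec (CommRingCat.of k)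
  let D := Ample.ProjMap.dataOfSections c e s hs q
  let P := CohB1.polyGrading N k
  let U := c.locus (a j)
  have hU : ∀ l, D.U l = c.locus (a l) := fun _ => rfl
  obtain ⟨z, rfl⟩ : ∃ z, Proj.awayToSection P (MvPolynomial.X j) z = w :=
    Proj.basicOpenIsoAway_hom P _ (Ample.ProjMap.X_mem j) one_pos ▸
      (ConcreteCategory.bijective_of_isIso
        (Proj.basicOpenIsoAway P _ (Ample.ProjMap.X_mem j) one_pos).hom).2 w
  obtain ⟨p, rfl⟩ := Ample.ProjMap.exists_eval_ratio j z
  induction p using MvPolynomial.induction_on with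
  | C r =>
    rw [MvPolynomial.eval₂Hom_C]
    refine Subring.subset_closure (Or.inl ⟨r, ?_⟩)
    have e1 : D.map.appLE (Proj.basicOpen P (MvPolynomial.X j)) U hle =
        D.map.appLE _ (D.U j) (D.map_preimage j).ge ≫ X.presheaf.map (homOfLE (show U ≤ D.U j from le_rfl)).op := by
      rw [Scheme.Hom.appLE_map]
    show _ = (D.map.appLE _ U hle) _
    rw [e1, CommRingCat.comp_apply]
    have e2 : (D.map.appLE (Proj.basicOpen P (MvPolynomial.X j)) (D.U j) (D.map_preimage j).ge).hom
        (Proj.awayToSection P (MvPolynomial.X j) (Ample.ProjMap.cst (MvPolynomial.X j) r)) =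
          res (le_top : D.U j ≤ ⊤) (ProjUP.toGlobal q r) := by
      rw [map_appLE_g k D j _ _, D.g_cst]
    rw [e2]
    exact (Ample.res_res _ _ _).symm
  | add p p' hp hp' =>
    rw [map_add, map_add, map_add]
    exact add_mem hp hp'
  | mul_X p l hp =>
    rw [map_mul, map_mul, map_mul, MvPolynomial.eval₂Hom_X']
    refine mul_mem hp (Subring.subset_closure (Or.inr ⟨l, ?_⟩))
    show (D.map.appLE _ U hle).hom _ • _ = _
    rw [D.map_appLE_ratio j l (show U ≤ D.U j from le_rfl) hle]
    have h0 := congrArg (c.sectRes (show U ≤ c.locus (Ample.ProjMap.sec c e s j) from le_rfl))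
      (c.exists_ratio (Ample.ProjMap.sec c e s j) (Ample.ProjMap.sec c e s l)).choose_spec.1
    rw [c.sectRes_smul, c.sectRes_sectRes, c.sectRes_sectRes] at h0
    exact (congrArg (res (show U ≤ D.U j from le_rfl) (D.φ j l) • ·) (congrArg (c.sectRes le_top) (rfl : a j = Ample.ProjMap.sec c e s j))).trans
      (h0.symm.trans (congrArg (c.sectRes le_top) (rfl : Ample.ProjMap.sec c e s l = a l)))

/-- The functions on an affine locus are finite over the algebra of ratios. -/
theorem finite_ratioAlg [IsProper (X ↘ Spec (CommRingCat.of k))] (c : Cocycle X) {L : X.Modules}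
    (e : L ≅ c.twist 1) {N : ℕ} (a : Fin (N + 1) → c.sect 1 ⊤)
    (hcov : ∀ x : X, ∃ j, x ∈ c.locus (a j)) (haff : ∀ j, IsAffineOpen (c.locus (a j))) (j : Fin (N + 1)) :
    letI := (locHom k (c.locus (a j))).toAlgebra
    Module.Finite (ratioAlg k c a j) Γ(X, c.locus (a j)) := by
  let s : Fin (N + 1) → ProjUP.Γm L := fun l => e.inv.app ⊤ (a l)
  have hsec : ∀ l, Ample.ProjMap.sec c e s l = a l := fun l =>
    congrArg (fun φ : c.twist 1 ⟶ c.twist 1 => φ.app ⊤ (a l)) e.inv_hom_id
  have hs : ⨆ i, c.locus (Ample.ProjMap.sec c e s i) = ⊤ := eq_top_iff.mpr fun x _ => by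
    obtain ⟨j, hx⟩ := hcov x
    exact Opens.mem_iSup.mpr ⟨j, by rw [hsec]; exact hx⟩
  let q := X ↘ Spec (CommRingCat.of k)
  let D := Ample.ProjMap.dataOfSections c e s hs q
  have hU : ∀ l, D.U l = c.locus (a l) := fun l => congrArg c.locus (hsec l)
  let P := CohB1.polyGrading N k
  let φ := D.map
  haveI := Chow.isProper_toSpec N k
  haveI : IsProper (φ ≫ CohB1.ProjSpace.toSpec N k) := by
    rw [show φ ≫ CohB1.ProjSpace.toSpec N k = q from D.map_toSpec]; infer_instance
  haveI : IsProper φ := IsProper.of_comp φ (CohB1.ProjSpace.toSpec N k)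
  have hDp : ∀ l, IsAffineOpen (Proj.basicOpen P (MvPolynomial.X l)) := fun l =>
    Proj.isAffineOpen_basicOpen P _ (Ample.ProjMap.X_mem l) one_pos
  haveI : IsAffineHom φ := isAffineHom_of_forall_exists_isAffineOpen _ fun y => by
    obtain ⟨l, hl⟩ := Opens.mem_iSup.mp
      (Ample.ProjMap.iSup_basicOpen_X (n := N) (R := k) ▸ Opens.mem_top y :
        y ∈ ⨆ i : Fin (N + 1), Proj.basicOpen P (MvPolynomial.X i))
    exact ⟨_, hl, hDp l, by rw [D.map_preimage, hU]; exact haff l⟩
  haveI : IsFinite φ := IsFinite.iff_isProper_and_isAffineHom.2 ⟨inferInstance, inferInstance⟩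
  let U := c.locus (a j)
  have hle : U ≤ φ ⁻¹ᵁ Proj.basicOpen P (MvPolynomial.X j) := by rw [D.map_preimage, hU]
  let ψ := (φ.appLE (Proj.basicOpen P (MvPolynomial.X j)) U hle).hom
  have hfin : ψ.Finite := by
    have key : ∀ (V : X.Opens) (hV : V ≤ φ ⁻¹ᵁ Proj.basicOpen P (MvPolynomial.X j)),
        V = φ ⁻¹ᵁ Proj.basicOpen P (MvPolynomial.X j) →
        (φ.appLE (Proj.basicOpen P (MvPolynomial.X j)) V hV).hom.Finite := by
      rintro _ hV rfl
      rw [← Scheme.Hom.app_eq_appLE]
      exact φ.finite_app _ (hDp j)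
    exact key _ hle ((hU j).symm.trans (D.map_preimage j).symm)
  let R : Set Γ(X, U) := Set.range (locHom k U) ∪
    {g | ∃ l, g • c.sectRes (le_top : U ≤ ⊤) (a j) = c.sectRes le_top (a l)}
  have hrange : ∀ w, ψ w ∈ Subring.closure R := by
    intro w
    have key : ∀ (a' : Fin (N + 1) → c.sect 1 ⊤) (h : c.locus (a' j) ≤ φ ⁻¹ᵁ Proj.basicOpen P (MvPolynomial.X j)),
        a' = Ample.ProjMap.sec c e s →
        (φ.appLE (Proj.basicOpen P (MvPolynomial.X j)) (c.locus (a' j)) h).hom w ∈ Subring.closure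
          (Set.range (locHom k (c.locus (a' j))) ∪
            {g | ∃ l, g • c.sectRes (le_top : c.locus (a' j) ≤ ⊤) (a' j) = c.sectRes le_top (a' l)}) := by
      rintro _ h rfl
      exact appLE_mem_closure k c e s hs j h w
    exact key a hle (funext hsec).symm
  letI := (locHom k U).toAlgebra
  let S : Subalgebra k Γ(X, U) := ratioAlg k c a j
  letI : Algebra Γ(CohB1.ProjSpace N k, Proj.basicOpen P (MvPolynomial.X j)) Γ(X, U) := ψ.toAlgebra
  letI : Algebra Γ(CohB1.ProjSpace N k, Proj.basicOpen P (MvPolynomial.X j)) S :=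
    (ψ.codRestrict S hrange).toAlgebra
  haveI : IsScalarTower Γ(CohB1.ProjSpace N k, Proj.basicOpen P (MvPolynomial.X j)) S Γ(X, U) :=
    IsScalarTower.of_algebraMap_eq fun _ => rfl
  haveI : Module.Finite Γ(CohB1.ProjSpace N k, Proj.basicOpen P (MvPolynomial.X j)) Γ(X, U) := hfin
  exact
    Module.Finite.of_restrictScalars_finite Γ(CohB1.ProjSpace N k, Proj.basicOpen P (MvPolynomial.X j)) S _

/-- Sections with affine loci separating points and tangent vectors give a closed immersion. -/
theorem exists_closedImmersion_of_separating [IsAlgClosed k] [IsProper (X ↘ Spec (CommRingCat.of k))]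
    (c : Cocycle X) {L : X.Modules} (e : L ≅ c.twist 1) {N : ℕ} (a : Fin (N + 1) → c.sect 1 ⊤)
    (hcov : ∀ x : X, ∃ j, x ∈ c.locus (a j)) (haff : ∀ j, IsAffineOpen (c.locus (a j)))
    (hsep : ∀ j, letI := (locHom k (c.locus (a j))).toAlgebra
      ∀ J : Ideal Γ(X, c.locus (a j)), Module.Finite k (Γ(X, c.locus (a j)) ⧸ J) →
        Module.finrank k (Γ(X, c.locus (a j)) ⧸ J) ≤ 2 → ∀ b : Γ(X, c.locus (a j)),
          ∃ g ∈ Subring.closure (Set.range (locHom k (c.locus (a j))) ∪
            {g | ∃ l, g • c.sectRes (le_top : c.locus (a j) ≤ ⊤) (a j) = c.sectRes le_top (a l)}), b - g ∈ J) :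
    ∃ i : X ⟶ CohB1.ProjSpace N k, IsClosedImmersion i ∧
      i ≫ CohB1.ProjSpace.toSpec N k = X ↘ Spec (CommRingCat.of k) ∧
      Nonempty ((Scheme.Modules.pullback i).obj (Twist.twistProjSpace N k 1) ≅ L) := by
  refine exists_closedImmersion_of_sections k c e a hcov haff fun j b => ?_
  letI := (locHom k (c.locus (a j))).toAlgebra
  haveI : Algebra.FiniteType k Γ(X, c.locus (a j)) := finiteType_locHom k (haff j)
  haveI := finite_ratioAlg k c e a hcov haff j
  exact show b ∈ ratioAlg k c a j from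
    (eq_top_of_separates (S := ratioAlg k c a j) k fun J h1 h2 b => hsep j J h1 h2 b) ▸ Algebra.mem_top

end GrothLib.CurveMult
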