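import Groth.Agent.Lib.CurveMult.OmegaGen
import Groth.Agent.Lib.OmegaSheaf.Basic
import Groth.Agent.Lib.CurveRR.Main
import Groth.Agent.Lib.FunFld.DivDiff
import Groth.Agent.Lib.FunFld.HasseExists
import Groth.Agent.Lib.FunFld.OrdersLocal
import Groth.Agent.Lib.FunFld.SeparableExt
import Groth.Agent.Lib.FunFld.Conseq
import Groth.Agent.Lib.CurveMult.SepCrit
import Groth.Agent.Lib.CurveRR.Setup
import Groth.Agent.Lib.InvDual.Basic
import Groth.Agent.Lib.QCoh.Qcqs
import Mathlib.RingTheory.Etale.Kaehler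
import Mathlib.RingTheory.Smooth.StandardSmoothCotangent

/-!
# The sheaf of differentials of a curve is the sheaf of a canonical divisor
-/

set_option autoImplicit false
set_option linter.style.haveILetI false
set_option linter.unusedSectionVars false
set_option backward.isDefEq.respectTransparency false
set_option maxHeartbeats 1000000

universe u

open CategoryTheory CategoryTheory.Limits AlgebraicGeometry Opposite WithZero
open GrothLib.InvExt (IsGen mres fres)
open scoped TensorProduct

noncomputable section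

namespace GrothLib.CurveMult.OmegaCan

open GrothLib GrothLib.CurveRR

/-- A section which is a basis on the basic opens below `V` generates. -/
theorem isGen_of_basicOpen {X : Scheme.{u}} {M : X.Modules} {V : X.Opens} (hV : IsAffineOpen V) {e : Γ(M, V)}
    (h : ∀ a : Γ(X, V), Function.Bijective fun c : Γ(X, X.basicOpen a) => c • mres M (X.basicOpen_le a) e) :
    IsGen M V e := by
  let B := fun W : X.Opens => {a : Γ(X, V) // X.basicOpen a ≤ W}
  have hcov : ∀ W ≤ V, W ≤ ⨆ a : B W, X.basicOpen a.1 := fun W hW x hx => by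
    obtain ⟨a, ha, hxa⟩ := hV.exists_basicOpen_le ⟨x, hx⟩ (hW hx)
    exact TopologicalSpace.Opens.mem_iSup.2 ⟨⟨a, ha⟩, hxa⟩
  have hinj : ∀ (W : X.Opens) (hW : W ≤ V) (c d : Γ(X, W)), c • mres M hW e = d • mres M hW e → c = d := by
    intro W hW c d hcd
    refine X.sheaf.eq_of_locally_eq' (fun a : B W => X.basicOpen a.1) W (fun a => homOfLE a.2) (hcov W hW) c d
      fun a => (h a.1).1 ?_
    have := congrArg (mres M a.2) hcd
    simp only [InvExt.mres_smul, InvExt.mres_mres] at this
    exact this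
  intro W hW
  refine ⟨fun c d => hinj W hW c d, fun m => ?_⟩
  choose c hc using fun a : B W => (h a.1).2 (mres M a.2 m)
  obtain ⟨g, hg, -⟩ := X.sheaf.existsUnique_gluing' (fun a : B W => X.basicOpen a.1) W (fun a => homOfLE a.2)
    (hcov W hW) c
    (by
      intro i j
      refine hinj _ (inf_le_left.trans (i.2.trans hW)) _ _ ?_
      have hi := congrArg (mres M (inf_le_left : X.basicOpen i.1 ⊓ X.basicOpen j.1 ≤ X.basicOpen i.1)) (hc i)
      have hj := congrArg (mres M (inf_le_right : X.basicOpen i.1 ⊓ X.basicOpen j.1 ≤ X.basicOpen j.1)) (hc j)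
      simp only [InvExt.mres_smul, InvExt.mres_mres] at hi hj
      exact hi.trans hj.symm)
  let g' : Γ(X, W) := g
  refine ⟨g', TopCat.Sheaf.eq_of_locally_eq' ⟨M.presheaf, M.isSheaf⟩ (fun a : B W => X.basicOpen a.1) W
    (fun a => homOfLE a.2) (hcov W hW) _ _ fun a => ?_⟩
  show mres M a.2 (g' • mres M hW e) = mres M a.2 m
  rw [InvExt.mres_smul, InvExt.mres_mres, ← hc a]
  congr 1
  exact hg a

/-- A basis of the sections of a quasi-coherent module on an affine open generates. -/
theorem isGen_of_basis {X : Scheme.{u}} (M : X.Modules) [M.IsQuasicoherent] {V : X.Opens} (hV : IsAffineOpen V)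
    {e : Γ(M, V)} (he : Function.Bijective fun c : Γ(X, V) => c • e) : IsGen M V e := by
  refine isGen_of_basicOpen hV fun a => ?_
  haveI := hV.isLocalization_basicOpen a
  have hu : IsUnit (fres X (X.basicOpen_le a) a) := by
    have := IsLocalization.map_units (S := Γ(X, X.basicOpen a)) (⟨a, Submonoid.mem_powers a⟩ : Submonoid.powers a)
    exact this
  constructor
  · refine fun c d hcd => sub_eq_zero.1 ?_
    obtain ⟨⟨r, ⟨_, n, rfl⟩⟩, hr⟩ := IsLocalization.surj (Submonoid.powers a) (c - d)
    change (c - d) * fres X (X.basicOpen_le a) (a ^ n) = fres X (X.basicOpen_le a) r at hr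
    have h0 : (c - d) • mres M (X.basicOpen_le a) e = 0 := by
      simp only at hcd
      rw [sub_smul, hcd, sub_self]
    have h1 : mres M (X.basicOpen_le a) (r • e) = 0 := by
      rw [InvExt.mres_smul, ← hr, mul_comm, mul_smul, h0, smul_zero]
    obtain ⟨N, hN⟩ := QCoh.smulSep_of_isCompact M hV.isCompact a (r • e) h1
    have h2 : a ^ N * r = 0 := he.1 (by
      show (a ^ N * r) • e = (0 : Γ(X, V)) • e
      rw [mul_smul, hN, zero_smul])
    have h3 := congrArg (fres X (X.basicOpen_le a)) h2
    simp only [fres, map_mul, map_pow, map_zero] at h3 hr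
    have h4 : fres X (X.basicOpen_le a) r = 0 := (IsUnit.mul_right_eq_zero (hu.pow N)).1 h3
    simp only [fres] at h4
    rw [h4] at hr
    exact (IsUnit.mul_left_eq_zero (hu.pow n)).1 hr
  · intro m
    obtain ⟨n, t, ht⟩ := QCoh.smulLift_of_isCompact M hV.isCompact hV.isQuasiSeparated a m
    obtain ⟨r, rfl⟩ := he.2 t
    refine ⟨↑(hu.pow n).unit⁻¹ * fres X (X.basicOpen_le a) r, ?_⟩
    show (↑(hu.pow n).unit⁻¹ * fres X (X.basicOpen_le a) r) • mres M (X.basicOpen_le a) e = m
    rw [mul_smul, ← InvExt.mres_smul]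
    exact (congrArg (fun z => (↑(hu.pow n).unit⁻¹ : Γ(X, X.basicOpen a)) • z) ht).trans
      (by rw [smul_smul, IsUnit.val_inv_mul (hu.pow n), one_smul])

variable {k : Type u} [Field k] {X : Scheme.{u}} [IsIntegral X] [X.Over (Spec (CommRingCat.of k))]

/-- The sheaf of differentials of a smooth curve is invertible. -/
theorem isInvertible_omega [IsSeparated (X ↘ Spec (CommRingCat.of k))] [Smooth (X ↘ Spec (CommRingCat.of k))]
    (hrank : Module.finrank X.functionField Ω[X.functionField⁄k] = 1) :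
    PicF.IsInvertible (Omega.sheaf (X ↘ Spec (CommRingCat.of k))) := by
  let f := X ↘ Spec (CommRingCat.of k)
  haveI := OmegaSheaf.isQuasicoherent_sheaf f
  refine InvExt.isInvertible_of_gens fun x => ?_
  obtain ⟨V₀, hV₀, V, hV, hxV, hle, hstd⟩ := Smooth.exists_isStandardSmooth f x
  obtain rfl : V₀ = ⊤ := top_le_iff.1 fun y _ => (Subsingleton.elim (f x) y) ▸ hle hxV
  haveI : Nonempty V := ⟨⟨x, hxV⟩⟩
  let K := X.functionField
  let A := Γ(X, V)
  let R := Γ(Spec (CommRingCat.of k), ⊤)
  letI : Algebra R A := (f.appLE ⊤ V hle).hom.toAlgebra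
  obtain ⟨ee⟩ := OmegaSheaf.nonempty_sections_equiv f hV (isAffineOpen_top _) hle
  have hstd' : Algebra.IsStandardSmooth R A := hstd.toAlgebra
  haveI : Module.Free A Ω[A⁄R] := by
    obtain ⟨ι, σ, _, _, ⟨P⟩⟩ := hstd'
    exact P.free_kaehlerDifferential
  haveI : Algebra.FiniteType R A :=
    HasRingHomProperty.appLE @LocallyOfFiniteType f inferInstance ⟨⊤, isAffineOpen_top _⟩ ⟨V, hV⟩ hle
  -- the rank is computed in the function field
  let iso := (Scheme.ΓSpecIso (CommRingCat.of k)).hom.hom
  have hiso : Function.Surjective iso := (ConcreteCategory.bijective_of_isIso (Scheme.ΓSpecIso (CommRingCat.of k)).hom).2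
  letI : Algebra R k := iso.toAlgebra
  letI : Algebra R K := ((algebraMap A K).comp (algebraMap R A)).toAlgebra
  haveI : IsScalarTower R A K := IsScalarTower.of_algebraMap_eq fun _ => rfl
  haveI : IsScalarTower R k K := IsScalarTower.of_algebraMap_eq fun t => by
    show algebraMap A K ((f.appLE ⊤ V hle).hom t) = algebraMap k K (iso t)
    have ht : (Scheme.ΓSpecIso (CommRingCat.of k)).inv (iso t) = t :=
      ConcreteCategory.congr_hom (Scheme.ΓSpecIso (CommRingCat.of k)).hom_inv_id t
    show X.presheaf.germ V _ _ (X.presheaf.map _ (f.appTop t)) =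
      X.presheaf.germ ⊤ _ _ (f.appTop ((Scheme.ΓSpecIso (CommRingCat.of k)).inv (iso t)))
    rw [ht]
    exact TopCat.Presheaf.germ_res_apply X.presheaf _ _ _ _
  haveI : IsFractionRing A K := functionField_isFractionRing_of_isAffineOpen X V hV
  haveI : Algebra.FormallyUnramified R k :=
    Algebra.FormallyUnramified.of_surjective (Algebra.ofId R k) hiso
  have hbij : Function.Bijective (KaehlerDifferential.map R k K K) := by
    refine ⟨(injective_iff_map_eq_zero _).2 fun w hw => ?_, KaehlerDifferential.map_surjective R k K⟩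
    obtain ⟨v, rfl⟩ := (KaehlerDifferential.exact_mapBaseChange_map R k K w).1 hw
    haveI : Subsingleton Ω[k⁄R] := inferInstance
    rw [Subsingleton.elim v 0, map_zero]
  have hKR : Module.finrank K Ω[K⁄R] = 1 := by
    rw [← hrank]
    exact (LinearEquiv.ofBijective ((KaehlerDifferential.map R k K K)) hbij).finrank_eq
  haveI : Algebra.FormallyEtale A K := Algebra.FormallyEtale.of_isLocalization (nonZeroDivisors A)
  have hn : Module.finrank A Ω[A⁄R] = 1 := by
    rw [← hKR, ← (KaehlerDifferential.isBaseChange_of_formallyEtale R A K).equiv.finrank_eq,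
      Module.finrank_baseChange]
  haveI : Nontrivial A := inferInstance
  let b : Module.Basis (Fin 1) A Γ(Omega.sheaf f, V) :=
    (Module.finBasisOfFinrankEq A Ω[A⁄R] hn).map ee.symm
  refine ⟨V, b 0, hxV, isGen_of_basis _ hV ⟨fun c d hcd => ?_, fun m => ⟨b.repr m 0, ?_⟩⟩⟩
  · have := congrArg (fun z => b.repr z 0) hcd
    simpa using this
  · show b.repr m 0 • b 0 = m
    rw [← Fin.sum_univ_one (fun i => b.repr m i • b i)]
    exact b.sum_repr m

variable [IsAlgClosed k] [RegCurve X] [IsProper (X ↘ Spec (CommRingCat.of k))]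
  [Smooth (X ↘ Spec (CommRingCat.of k))]

/-- The sheaf of differentials is the sheaf of a canonical divisor. -/
theorem exists_iso_omega :
    ∃ C : _root_.FunFld.Divisor k X.functionField, _root_.FunFld.IsCanonical k X.functionField C ∧
      Nonempty (Omega.sheaf (X ↘ Spec (CommRingCat.of k)) ≅ oD k C) := by
  classical
  let f := X ↘ Spec (CommRingCat.of k)
  let K := X.functionField
  let η := genericPoint X
  have h0 := CurveRR.finrank_H0_structure_eq_one k (X := X)
  have hK := CurveRR.isFunctionField k h0 (X := X)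
  have hg := FunFld.isGeometric_of_perfectField hK
  have hL := isInvertible_omega (k := k) (X := X) (FunFld.finrank_kaehler hK.1 hg)
  obtain ⟨V₀, e₀, hη, he₀⟩ := InvExt.exists_gen_nhd hL η
  obtain ⟨D, hiso, hD⟩ := exists_iso_oD' k hL he₀ hη
  let d := fun (T : X.Opens) (s : Γ(X, T)) => ratio he₀ hη ((OmegaSh.dOmega f).app T s)
  -- the derivation of the function field
  choose T hT rep hrep using fun w : K => X.presheaf.exists_germ_eq w
  let δ : K → K := fun w => d (T w) (rep w)
  have hdres : ∀ {A B : X.Opens} (hBA : B ≤ A) (hB : η ∈ B) (s : Γ(X, A)),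
      d B (fres X hBA s) = d A s := fun {A B} hBA hB s => by
    show ratio he₀ hη ((OmegaSh.dOmega f).app B (fres X hBA s)) = _
    rw [show (OmegaSh.dOmega f).app B (fres X hBA s) = mres (Omega.sheaf f) hBA ((OmegaSh.dOmega f).app A s) from
      OmegaSh.dSect_map f hBA s]
    exact ratio_map he₀ hη hBA hB _
  have hδ : ∀ (A : X.Opens) (hA : η ∈ A) (s : Γ(X, A)), δ (X.presheaf.germ A η hA s) = d A s := fun A hA s => by
    obtain ⟨W, hW, i, j, hij⟩ := X.presheaf.germ_eq η (hT _) hA _ s (hrep (X.presheaf.germ A η hA s))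
    refine ((hdres i.le hW _).symm.trans ?_).trans (hdres j.le hW _)
    exact congrArg (d W) hij
  have hadd : ∀ a b, δ (a + b) = δ a + δ b := fun a b => by
    have hW : η ∈ T a ⊓ T b := ⟨hT a, hT b⟩
    conv_lhs => rw [← hrep a, ← hrep b, ← TopCat.Presheaf.germ_res_apply X.presheaf (homOfLE inf_le_left) η hW,
      ← TopCat.Presheaf.germ_res_apply X.presheaf (homOfLE inf_le_right) η hW (rep b), ← map_add]
    rw [hδ _ hW]
    show ratio he₀ hη _ = _
    rw [map_add ((OmegaSh.dOmega f).app (T a ⊓ T b)), ratio_add he₀ hη hW]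
    exact congrArg₂ (· + ·) (hdres inf_le_left hW _) (hdres inf_le_right hW _)
  have hmul : ∀ a b, δ (a * b) = a * δ b + b * δ a := fun a b => by
    have hW : η ∈ T a ⊓ T b := ⟨hT a, hT b⟩
    have ea : X.presheaf.germ _ η hW (fres X (inf_le_left : T a ⊓ T b ≤ T a) (rep a)) = a := by
      rw [fres, TopCat.Presheaf.germ_res_apply, hrep]
    have eb : X.presheaf.germ _ η hW (fres X (inf_le_right : T a ⊓ T b ≤ T b) (rep b)) = b := by
      rw [fres, TopCat.Presheaf.germ_res_apply, hrep]
    refine (congrArg δ (show a * b = X.presheaf.germ _ η hW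
      (fres X (inf_le_left : T a ⊓ T b ≤ T a) (rep a) * fres X (inf_le_right : T a ⊓ T b ≤ T b) (rep b)) by
        rw [map_mul, ea, eb])).trans ?_
    rw [hδ _ hW]
    show ratio he₀ hη ((OmegaSh.dOmega f).app _ (_ * _)) = _
    rw [show (OmegaSh.dOmega f).app (T a ⊓ T b) (fres X inf_le_left (rep a) * fres X inf_le_right (rep b)) = _ from
      OmegaSh.dSect_mul f (T a ⊓ T b) _ _, ratio_add he₀ hη hW, ratio_smul he₀ hη hW, ratio_smul he₀ hη hW, ea, eb]
    exact congrArg₂ (fun u v => a * u + b * v) (hdres inf_le_right hW _) (hdres inf_le_left hW _)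
  have hconst : ∀ c : k, δ (algebraMap k K c) = 0 := fun c => by
    rw [show algebraMap k K c = X.presheaf.germ ⊤ η trivial
      (f.app ⊤ ((Scheme.ΓSpecIso (CommRingCat.of k)).inv c)) from rfl]
    rw [hδ]
    have h1 := OmegaSh.dSect_app f ⊤ ((Scheme.ΓSpecIso (CommRingCat.of k)).inv c)
    show ratio he₀ hη (OmegaSh.dSect f ⊤ _) = 0
    erw [h1]
    have h2 := ratio_add he₀ hη (T := ⊤) trivial 0 0
    rw [add_zero] at h2
    exact left_eq_add.1 h2
  let δd : Derivation k K K := Derivation.mk'
    { toFun := δ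
      map_add' := hadd
      map_smul' := fun c a => by
        show δ (c • a) = c • δ a
        rw [Algebra.smul_def, hmul, hconst, mul_zero, add_zero, Algebra.smul_def] } fun a b => hmul a b
  have hlin : ∀ {a b c : K}, c • KaehlerDifferential.D k K a = KaehlerDifferential.D k K b → δ b = c * δ a := by
    intro a b c h
    have h1 := congrArg δd.liftKaehlerDifferential h
    rw [map_smul, Derivation.liftKaehlerDifferential_comp_D, Derivation.liftKaehlerDifferential_comp_D] at h1
    exact h1.symm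
  -- some differential generates at each point
  have hexists : ∀ (x : X) (V : X.Opens) (t : Γ(Omega.sheaf f, V)), IsGen (Omega.sheaf f) V t → x ∈ V →
      ∃ (U : X.Opens) (hxU : x ∈ U) (s : Γ(X, U)) (a : Γ(X, U ⊓ V)) (hx : x ∈ U ⊓ V),
        X.presheaf.germ (U ⊓ V) x hx a ∉ IsLocalRing.maximalIdeal (X.presheaf.stalk x) ∧
        δ (X.presheaf.germ U η (ProjCoh.genericPoint_mem hxU) s) =
          X.presheaf.germ (U ⊓ V) η (ProjCoh.genericPoint_mem hx) a * ratio he₀ hη t := by
    intro x V t ht hxV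
    let et := OX.germ (DCoh.toP.obj (Omega.sheaf f)) V hxV t
    let S : Submodule (X.presheaf.stalk x) ((OX.stalk x).obj (Omega.sheaf f)) :=
      Submodule.map (LinearMap.toSpanSingleton (X.presheaf.stalk x) ((OX.stalk x).obj (Omega.sheaf f)) et)
        (IsLocalRing.maximalIdeal (X.presheaf.stalk x))
    by_contra hcon
    push Not at hcon
    have hS : S = ⊤ := OmegaGen.span_dOmega x f S fun U hxU s => by
      obtain ⟨a, ha⟩ := ht.exists_smul_eq (inf_le_right : U ⊓ V ≤ V)
        (mres (Omega.sheaf f) inf_le_left ((OmegaSh.dOmega f).app U s))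
      have hx : x ∈ U ⊓ V := ⟨hxU, hxV⟩
      have h1 : OX.germ (DCoh.toP.obj (Omega.sheaf f)) U hxU ((OmegaSh.dOmega f).app U s) =
          X.presheaf.germ (U ⊓ V) x hx a • et := by
        have h2 := congrArg (OX.germ (DCoh.toP.obj (Omega.sheaf f)) (U ⊓ V) hx) ha
        refine ((OX.germ_map (DCoh.toP.obj (Omega.sheaf f)) (homOfLE inf_le_left) hx _).symm.trans h2).trans ?_
        refine (OX.germ_smul' (DCoh.toP.obj (Omega.sheaf f)) (U ⊓ V) hx a _).trans ?_
        exact congrArg (X.presheaf.germ (U ⊓ V) x hx a • ·)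
          (OX.germ_map (DCoh.toP.obj (Omega.sheaf f)) (homOfLE inf_le_right) hx _)
      refine ⟨X.presheaf.germ (U ⊓ V) x hx a, ?_, h1.symm⟩
      by_contra ha'
      refine hcon U hxU s a hx ha' ?_
      rw [hδ]
      show ratio he₀ hη _ = _
      rw [← ratio_map he₀ hη (inf_le_left : U ⊓ V ≤ U) (ProjCoh.genericPoint_mem hx), ha,
        ratio_smul he₀ hη (ProjCoh.genericPoint_mem hx), ratio_map he₀ hη _ (ProjCoh.genericPoint_mem hx)]
    obtain ⟨c, hc, hce⟩ : et ∈ S := hS ▸ Submodule.mem_top
    refine (IsLocalRing.mem_maximalIdeal c).1 hc ?_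
    have h3 : (c - 1) • et = 0 := by
      rw [sub_smul, one_smul, sub_eq_zero]; exact hce
    have h4 := InvDual.smul_germ_injective ht hxV (c := c - 1) h3
    rw [sub_eq_zero.1 h4]
    exact isUnit_one
  -- the values on regular functions
  have hle : ∀ (x : CP X) (V : X.Opens) (t : Γ(Omega.sheaf f, V)), IsGen (Omega.sheaf f) V t → x.1 ∈ V →
      ∀ w : K, (place k x).1 w ≤ 1 → (place k x).1 (δ w) ≤ (place k x).1 (ratio he₀ hη t) := by
    intro x V t ht hxV w hw
    obtain ⟨y, rfl⟩ := (mem_place_O k).1 hw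
    obtain ⟨U, hxU, s, rfl⟩ := X.presheaf.exists_germ_eq y
    obtain ⟨a, ha⟩ := ht.exists_smul_eq (inf_le_right : U ⊓ V ≤ V)
      (mres (Omega.sheaf f) inf_le_left ((OmegaSh.dOmega f).app U s))
    have hx : x.1 ∈ U ⊓ V := ⟨hxU, hxV⟩
    rw [← germ_generic hxU, hδ]
    show (place k x).1 (ratio he₀ hη _) ≤ _
    rw [← ratio_map he₀ hη (inf_le_left : U ⊓ V ≤ U) (ProjCoh.genericPoint_mem hx), ha,
      ratio_smul he₀ hη (ProjCoh.genericPoint_mem hx), ratio_map he₀ hη _ (ProjCoh.genericPoint_mem hx), map_mul]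
    exact mul_le_of_le_one_left' (place_germ_le_one k x hx a)
  -- a separating element
  obtain ⟨z, hz, hzsep⟩ := FunFld.exists_separatingElement hK.1 hg
  haveI := FunFld.IsFG.finiteDimensional_adjoin hK.1 hz
  obtain ⟨H, hH⟩ := FunFld.exists_isHasseFamily hz
  have hDz : KaehlerDifferential.D k K z ≠ 0 := FunFld.D_self_ne_zero hH
  have hlam : δ z ≠ 0 := fun h0 => by
    obtain ⟨U, hxU, s, a, hx, ha, heq⟩ := hexists η V₀ e₀ he₀ hη
    obtain ⟨c, hc⟩ := LocRes.exists_D_eq hK.1 hg hDz (X.presheaf.germ U η (ProjCoh.genericPoint_mem hxU) s)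
    rw [hlin hc, h0, mul_zero] at heq
    have h1 : ratio he₀ hη e₀ = 1 := by
      refine (ratio_mk he₀ hη hη (le_refl V₀) (le_refl V₀) hη e₀ (a := 1) (by rw [one_smul])).trans ?_
      exact map_one _
    rw [h1, mul_one] at heq
    exact ha (heq ▸ zero_mem _)
  -- expansions at uniformizers
  choose t ht0 ht using fun P : _root_.FunFld.Place k K => FunFld.exists_val_eq P (-1)
  choose Φ hΦ hΦt using fun P : _root_.FunFld.Place k K => FunFld.exists_expansion_closed hK.1 (ht P)
  have hcanon := (FunFld.divDiff_spec hK hH hΦ).2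
  have hCeq := (FunFld.divDiff_spec hK hH hΦ).1
  obtain ⟨C, hCdef⟩ : ∃ C, C = _root_.FunFld.divDiff Φ 1 z := ⟨_, rfl⟩
  rw [← hCdef] at hcanon hCeq
  have hDt1 : ∀ P, _root_.LocRes.D k (Φ P (t P)) = 1 := fun P => by
    rw [hΦt]
    refine HahnSeries.ext (funext fun n => ?_)
    rw [_root_.LocRes.D_coeff, HahnSeries.coeff_one]
    rcases eq_or_ne n 0 with rfl | hn
    · simp
    · rw [if_neg hn, HahnSeries.coeff_single_of_ne (by omega), smul_zero]
  have hmain : D = C + _root_.FunFld.div k (δ z)⁻¹ := Finsupp.ext fun P => by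
    obtain ⟨x, rfl⟩ := place_surjective (k := k) (X := X) P
    obtain ⟨V, e, hxV, he⟩ := InvExt.exists_gen_nhd hL x.1
    let P := place k x
    have hvt : Valued.v (_root_.LocRes.D k (Φ P (t P))) = 1 := by rw [hDt1, map_one]
    have hDtne : KaehlerDifferential.D k K (t P) ≠ 0 := fun h0 => by
      have h1 := LocRes.D_eq_mul_of_smul (F := k) (Φ P) (x := z) (y := t P) (c := 0)
        (by rw [zero_smul, h0])
      rw [map_zero, zero_mul, hDt1] at h1
      exact one_ne_zero h1
    -- the generator is as large as the differential of a uniformizer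
    have heq : P.1 (δ (t P)) = P.1 (ratio he₀ hη e) := by
      refine le_antisymm (hle x V e he hxV _ ?_) ?_
      · exact (ht P).le.trans (exp_le_exp.2 (by norm_num))
      · obtain ⟨U, hxU, s, a, hx, ha, hval⟩ := hexists x.1 V e he hxV
        obtain ⟨c, hc⟩ := LocRes.exists_D_eq hK.1 hg hDtne (X.presheaf.germ U η (ProjCoh.genericPoint_mem hxU) s)
        rw [hlin hc] at hval
        have hc1 : P.1 c ≤ 1 := by
          rw [← (hΦ P).1]
          have h2 := LocRes.D_eq_mul_of_smul (F := k) (Φ P) hc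
          rw [hDt1, mul_one] at h2
          rw [← h2, ← exp_zero, show (0 : ℤ) = -0 by ring, LaurentSeries.valuation_le_iff_coeff_lt_eq_zero]
          intro n hn
          rw [_root_.LocRes.D_coeff]
          have hs1 : Valued.v (Φ P (X.presheaf.germ U η (ProjCoh.genericPoint_mem hxU) s)) ≤ exp (-(0 : ℤ)) := by
            rw [(hΦ P).1, neg_zero, exp_zero]; exact place_germ_le_one k x hxU s
          rcases eq_or_ne n (-1) with rfl | hn1
          · simp
          · rw [(LaurentSeries.valuation_le_iff_coeff_lt_eq_zero k).1 hs1 (n + 1) (by omega), smul_zero]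
        have hau : P.1 (X.presheaf.germ (U ⊓ V) η (ProjCoh.genericPoint_mem hx) a) = 1 := by
          refine le_antisymm (place_germ_le_one k x hx a) (not_lt.1 fun hlt => ha ?_)
          rw [germ_generic hx] at hlt
          exact (place_lt_one_iff k).1 hlt
        have h3 := congrArg P.1 hval
        rw [map_mul, map_mul, hau, one_mul] at h3
        rw [← h3]
        exact mul_le_of_le_one_left' hc1
    obtain ⟨c, hc⟩ := LocRes.exists_D_eq hK.1 hg hDz (t P)
    have hc0 : c ≠ 0 := fun h0 => hDtne (by rw [← hc, h0, zero_smul])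
    have h4 : P.1 (δ (t P)) = exp (D P) := heq.trans (hD x V e he hxV)
    rw [hlin hc, map_mul, FunFld.val_eq P hc0, FunFld.val_eq P hlam, ← exp_add, exp_inj] at h4
    have hvz : _root_.LocRes.vDiff (Φ P) 1 z ≠ 0 := by
      rw [_root_.LocRes.vDiff, map_one, one_mul]
      exact (map_ne_zero _).2 (FunFld.D_expansion_ne_zero hK (hΦ P) hDz)
    have h5 := LocRes.ordDiff_one_eq (F := k) (Φ P) hc (by rw [(hΦ P).1]; exact (FunFld.val P).ne_zero_iff.2 hc0) hvz
    rw [show _root_.LocRes.ordDiff (Φ P) 1 (t P) = 0 by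
      rw [_root_.LocRes.ordDiff, _root_.LocRes.vDiff, map_one, one_mul, hvt, log_one, neg_zero], (hΦ P).1, ← hCeq,
      FunFld.val_eq P hc0, log_exp, neg_neg] at h5
    rw [Finsupp.add_apply, FunFld.IsFG.div_apply hK.1, FunFld.ord_inv]
    show D P = C P + -P.ord (δ z)
    omega
  refine ⟨D, ?_, hiso⟩
  obtain ⟨ω, hω0, hω⟩ := hcanon
  refine ⟨FunFld.mulW (δ z)⁻¹ (FunFld.IsFG.smul_mem_adele hK.1 _) ω,
    fun h => (inv_ne_zero hlam) (FunFld.mulW_eq_zero hK.1 hω0 h), ?_⟩
  rw [hmain]
  exact FunFld.isDivOf_mulW' hK.1 (inv_ne_zero hlam) _ hω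

end GrothLib.CurveMult.OmegaCan
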