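import Groth.Agent.Lib.CurveMult.PlaneNotHyper
import Groth.Agent.Lib.CurveMult.Hurwitz
import Groth.Agent.Lib.FunFld.ConicCover

/-!
# A smooth plane quartic has no double cover of a conic
-/

set_option linter.style.haveILetI false
set_option backward.isDefEq.respectTransparency false

universe u

open CategoryTheory CategoryTheory.Limits AlgebraicGeometry TopologicalSpace
open GrothLib.CurveRR
open _root_.FunFld (Divisor ell)

noncomputable section

namespace GrothLib.CurveMult

variable {k : Type u} [Field k]

/-- The residue degree at the generic point is the degree of the function fields. -/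
theorem residueDegree_generic_eq {X Y : Scheme.{u}} [IsIntegral X] [IsIntegral Y] (f : X ⟶ Y)
    (e : f (genericPoint X) = genericPoint Y) :
    letI := (Hurwitz.ψ e).toAlgebra
    f.residueDegree (genericPoint X) = Module.finrank Y.functionField X.functionField := by
  letI := (Hurwitz.ψ e).toAlgebra
  have hsp : ∀ (a b : Y) (h : a = b),
      Function.Bijective (Y.presheaf.stalkSpecializes (specializes_of_eq h)).hom := by
    rintro a b rfl
    rw [TopCat.Presheaf.stalkSpecializes_refl]
    exact Function.bijective_id
  let a : Y.functionField →+* Y.residueField (f (genericPoint X)) :=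
    (Y.residue _).hom.comp (Y.presheaf.stalkSpecializes (specializes_of_eq e)).hom
  let b : X.functionField →+* X.residueField (genericPoint X) := (X.residue _).hom
  have ha : Function.Bijective a :=
    ⟨RingHom.injective (R := Y.functionField) _, (Y.residue_surjective _).comp (hsp _ _ e).2⟩
  have hb : Function.Bijective b := ⟨RingHom.injective (R := X.functionField) _, X.residue_surjective _⟩
  letI : Algebra (Y.residueField (f (genericPoint X))) (X.residueField (genericPoint X)) :=
    (f.residueFieldMap (genericPoint X)).hom.toAlgebra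
  refine Eq.trans ?_ (Algebra.finrank_eq_of_equiv_equiv (RingEquiv.ofBijective a ha) (RingEquiv.ofBijective b hb) ?_).symm
  · rfl
  · refine RingHom.ext fun z => ?_
    exact congrArg (fun χ => χ.hom ((Y.presheaf.stalkSpecializes (specializes_of_eq e)).hom z))
      (Scheme.residue_residueFieldMap f (genericPoint X))

/-- A dominant morphism does not create constant functions on the target. -/
theorem finrank_H0_le {X Y : Scheme.{u}} [X.Over (Spec (CommRingCat.of k))] [Y.Over (Spec (CommRingCat.of k))]
    [IsProper (X ↘ Spec (CommRingCat.of k))] [IsIntegral X] [IsIntegral Y] (f : X ⟶ Y) [IsAffineHom f]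
    (hf : f ≫ (Y ↘ Spec (CommRingCat.of k)) = X ↘ Spec (CommRingCat.of k))
    (e : f (genericPoint X) = genericPoint Y) :
    Module.finrank k (Coh.HH Y (Coh.structureModule Y) 0) ≤ Module.finrank k (Coh.HH X (Coh.structureModule X) 0) := by
  haveI := Euler.isNoetherian_of_proper (X := X) k
  haveI := Cohom.isQuasicoherent_structureModule X
  haveI := Euler.finiteDimensional_HH k (Euler.isCoh_of_isInvertible (Euler.isInvertible_structure (X := X))) 0
  obtain ⟨ε⟩ := Snapper.nonempty_HH_linearEquiv_pushforward (A := k) f hf (Coh.structureModule X) 0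
  have happ : Function.Injective (f.app ⊤).hom := (injective_iff_map_eq_zero _).2 fun s hs => by
    have h1 := congrArg (fun φ => φ.hom s) (f.germ_stalkMap ⊤ (genericPoint X) trivial)
    have h2 : (f.stalkMap (genericPoint X)).hom ((Y.presheaf.germ ⊤ (f (genericPoint X)) trivial).hom s) = 0 :=
      h1.trans ((congrArg (X.presheaf.germ (f ⁻¹ᵁ ⊤) (genericPoint X) trivial).hom hs).trans (map_zero _))
    have h3 : Hurwitz.ψ e ((Y.presheaf.germ ⊤ (genericPoint Y) trivial).hom s) = 0 := by
      refine Eq.trans ?_ h2
      show (f.stalkMap (genericPoint X)).hom ((Y.presheaf.stalkSpecializes (specializes_of_eq e)).hom _) = _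
      congr 1
      exact TopCat.Presheaf.germ_stalkSpecializes_apply (F := Y.presheaf) _ _ _
    rw [map_eq_zero_iff _ (Hurwitz.ψ e).injective] at h3
    exact germ_injective_of_isIntegral Y (U := ⊤) (genericPoint Y) trivial (h3.trans (map_zero _).symm)
  refine LinearMap.finrank_le_finrank_of_injective (f := ε.symm.toLinearMap ∘ₗ
    Cohom.hhMap k (ClSub.unitToPush f) 0) (ε.symm.injective.comp ((injective_iff_map_eq_zero _).2 fun x hx => ?_))
  refine (ProjCoh.H0top (Coh.structureModule Y)).injective ((happ ?_).trans (map_zero _).symm)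
  refine Eq.trans ?_ (map_zero (f.app ⊤).hom).symm
  exact (ProjCoh.H0top_map ((QCoh.toAbFun _).map (ClSub.unitToPush f)) x).symm.trans
    ((congrArg (ProjCoh.H0top _) hx).trans (map_zero _))

/-- No double cover of a curve of genus zero. -/
theorem not_doubleCover_planeQuartic (G : LefPen.Form 2 k 4)
    [((LefPen.hypIdeal G).subscheme).Over (Spec (CommRingCat.of k))]
    (hinst : (LefPen.hypIdeal G).subscheme ↘ (Spec (CommRingCat.of k)) =
      (LefPen.hypIdeal G).subschemeι ≫ CohB1.ProjSpace.toSpec 2 k)
    (hG : G ≠ 0) [Smooth ((LefPen.hypIdeal G).subscheme ↘ (Spec (CommRingCat.of k)))]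
    (P : Scheme.{u}) [P.Over (Spec (CommRingCat.of k))] [IsProper (P ↘ (Spec (CommRingCat.of k)))]
    [Smooth (P ↘ (Spec (CommRingCat.of k)))] (hP : topologicalKrullDim P = 1)
    (hP0 : (Module.finrank k (Coh.HH P (Coh.structureModule P) 0) : ℤ) -
      Module.finrank k (Coh.HH P (Coh.structureModule P) 1) = 1)
    (φ : (LefPen.hypIdeal G).subscheme ⟶ P)
    (hφ : φ ≫ (P ↘ (Spec (CommRingCat.of k))) = (LefPen.hypIdeal G).subscheme ↘ (Spec (CommRingCat.of k)))
    [IsFinite φ] [Flat φ] (hrank : ∀ y, Scheme.Hom.finrank φ y = 2) : False := by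
  obtain ⟨_, _, h0⟩ := planeCurve_setup G hinst (by norm_num) hG
  haveI : Surjective φ := φ.one_le_finrank_iff_surjective.1 fun y => by
    show 1 ≤ φ.finrank y
    rw [hrank]; norm_num
  have hdim := dim_eq_one_of_finite φ hP
  haveI := regCurve_of_smooth ((LefPen.hypIdeal G).subscheme ↘ (Spec (CommRingCat.of k))) hdim
  haveI : ConnectedSpace P := φ.surjective.connectedSpace φ.continuous
  haveI : IsIntegral P := Euler.isIntegral_of_smooth_connected k (P ↘ (Spec (CommRingCat.of k)))
  haveI := regCurve_of_smooth (P ↘ (Spec (CommRingCat.of k))) hP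
  haveI : IsLocallyNoetherian P := LocallyOfFiniteType.isLocallyNoetherian (P ↘ (Spec (CommRingCat.of k)))
  have hξ := CurvePoints.map_genericPoint_of_nontrivial hP.le φ (range_nontrivial_of_isFinite k φ)
  have hle := finrank_H0_le φ hφ hξ
  have hP1 : Module.finrank k (Coh.HH P (Coh.structureModule P) 0) = 1 := by omega
  have hgP : Curv2.genus k P = 0 := by rw [Euler.genus_def]; omega
  letI := (Hurwitz.ψ hξ).toAlgebra
  haveI : IsScalarTower k P.functionField (LefPen.hypIdeal G).subscheme.functionField :=
    .of_algebraMap_eq fun c => (Hurwitz.ψ_algebraMap k hξ hφ c).symm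
  obtain ⟨hfr, -⟩ := generic_finite_flat φ hξ
  have h2 : Module.finrank P.functionField (LefPen.hypIdeal G).subscheme.functionField = 2 := by
    rw [← residueDegree_generic_eq φ hξ, ← hfr (genericPoint P), hrank]
  have hK := isFunctionField k h0
  obtain ⟨-, h1⟩ := PlaneCohom.finrank_structure G hinst (by norm_num) hG
  have hg : Curv2.genus k (LefPen.hypIdeal G).subscheme = 3 := by rw [Euler.genus_def]; exact h1
  have hL := RelProjK.isInvertible_pullback (LefPen.hypIdeal G).subschemeι (CMReg.isInvertible_twist (n := 2) (k := k) 1)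
  obtain ⟨D, ⟨eD⟩⟩ := exists_iso_oD k hL
  obtain ⟨d0, d1⟩ := PlaneCohom.finrank_H0_one G hinst (by norm_num) hG
  rw [(Euler.hhEquiv (A := k) eD 0).finrank_eq, finrank_H0_oD] at d0
  obtain ⟨C, hC⟩ := GrothLib.FunFld.exists_isCanonical hK
  rw [(Euler.hhEquiv (A := k) eD 1).finrank_eq, finrank_H1_oD k hK hC] at d1
  have hgK : _root_.FunFld.genus k (LefPen.hypIdeal G).subscheme.functionField = 3 :=
    (CurveRR.genus_eq k h0).symm.trans hg
  have hRR := GrothLib.FunFld.riemann_roch' hK hC D
  rw [d0, d1, hgK] at hRR
  simp only [show (4 : ℕ) - 2 = 2 from rfl, Nat.choose_self] at hRR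
  exact GrothLib.FunFld.ConicCover.not_generates (isFunctionField k hP1)
    ((CurveRR.genus_eq k hP1).symm.trans hgP) hK hgK h2 (D := D) (by omega) d0
    (adjoin_ratios_eq_top k hL eD (LefPen.hypIdeal G).subschemeι hinst.symm (Iso.refl _))

end GrothLib.CurveMult
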