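import Groth.Agent.Lib.CurveMult.SectionRing
import Groth.Agent.Lib.CurveMult.Embed
import Groth.Agent.Lib.CMReg.GenKoszul
import Groth.Agent.Lib.AmpleDesc.Main

/-!
# Ample bundles on curves without `H¹(O)` are very ample
-/

set_option linter.style.haveILetI false
set_option backward.isDefEq.respectTransparency false

universe u

open CategoryTheory CategoryTheory.Limits AlgebraicGeometry TopologicalSpace Opposite
open GrothLib.InvExt (mres)
open GrothLib.Ample (Cocycle res)

noncomputable section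

namespace GrothLib.CurveMult

variable {X : Scheme.{u}}

/-- A quasi-affine open which is the preimage of an affine open under a proper morphism is affine. -/
theorem isAffineOpen_of_isProper_of_isQuasiAffine {P : Scheme.{u}} (f : X ⟶ P) [IsProper f] {W : P.Opens}
    (hW : IsAffineOpen W) [Scheme.IsQuasiAffine (f ⁻¹ᵁ W : Scheme.{u})] : IsAffineOpen (f ⁻¹ᵁ W) := by
  haveI : IsAffine W := hW
  let U : Scheme.{u} := f ⁻¹ᵁ W
  let g : U ⟶ W := f ∣_ W
  haveI : IsProper g := IsZariskiLocalAtTarget.restrict (P := @IsProper) inferInstance W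
  let h : Spec Γ(U, ⊤) ⟶ W := Spec.map g.appTop ≫ (W : Scheme.{u}).isoSpec.inv
  have hgh : U.toSpecΓ ≫ h = g := by
    show U.toSpecΓ ≫ Spec.map g.appTop ≫ (W : Scheme.{u}).isoSpec.inv = g
    rw [← Category.assoc, ← Scheme.toSpecΓ_naturality, Category.assoc, ← Scheme.isoSpec_hom, Iso.hom_inv_id,
      Category.comp_id]
  haveI : IsProper (U.toSpecΓ ≫ h) := by rw [hgh]; infer_instance
  haveI : IsProper U.toSpecΓ := IsProper.of_comp _ h
  haveI : IsClosedImmersion U.toSpecΓ :=
    IsClosedImmersion.of_isPreimmersion _ U.toSpecΓ.isClosedMap.isClosed_range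
  exact (isAffine_of_isAffineHom U.toSpecΓ : IsAffine U)

variable (k : Type u) [Field k] [X.Over (Spec (CommRingCat.of k))] (c : Cocycle X)

include k in
/-- Sections without common zero of an ample bundle have affine loci. -/
theorem isAffineOpen_locus_of_isAmp [IsProper (X ↘ Spec (CommRingCat.of k))] (hc : c.IsAmp) {N : ℕ}
    (a : Fin (N + 1) → c.sect 1 ⊤) (hcov : ∀ x : X, ∃ j, x ∈ c.locus (a j)) (j : Fin (N + 1)) :
    IsAffineOpen (c.locus (a j)) := by
  haveI := Euler.isNoetherian_of_proper (X := X) k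
  let s : Fin (N + 1) → ProjUP.Γm (c.twist 1) := fun l => a l
  have hloc : ∀ l, c.locus (Ample.ProjMap.sec c (Iso.refl _) s l) = c.locus (a l) := fun l => rfl
  have hs : ⨆ l, c.locus (Ample.ProjMap.sec c (Iso.refl _) s l) = ⊤ := eq_top_iff.mpr fun x _ => by
    obtain ⟨l, hx⟩ := hcov x
    exact Opens.mem_iSup.mpr ⟨l, hx⟩
  let q := X ↘ Spec (CommRingCat.of k)
  let D := Ample.ProjMap.dataOfSections c (Iso.refl _) s hs q
  haveI := Chow.isProper_toSpec N k
  haveI : IsProper (D.map ≫ CohB1.ProjSpace.toSpec N k) := by rw [D.map_toSpec]; infer_instance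
  haveI : IsProper D.map := IsProper.of_comp D.map (CohB1.ProjSpace.toSpec N k)
  have hpre : D.map ⁻¹ᵁ Proj.basicOpen (CohB1.polyGrading N k) (MvPolynomial.X j) = c.locus (a j) :=
    (D.map_preimage j).trans (hloc j)
  haveI : Scheme.IsQuasiAffine
      (D.map ⁻¹ᵁ Proj.basicOpen (CohB1.polyGrading N k) (MvPolynomial.X j) : Scheme.{u}) := by
    rw [hpre]; exact c.isQuasiAffine_locus hc (n := 0) (a j)
  exact hpre ▸ isAffineOpen_of_isProper_of_isQuasiAffine D.map
    (Proj.isAffineOpen_basicOpen (CohB1.polyGrading N k) _ (MvPolynomial.isHomogeneous_X k j) one_pos)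

include k in
/-- Sections of `twist (n+1)` are combinations of degree one sections. -/
theorem exists_sum_sect [IsProper (X ↘ Spec (CommRingCat.of k))] (hd : topologicalKrullDim X ≤ 1) {N : ℕ}
    (a : ℕ → c.sect 1 ⊤) (hcov : CMReg.Covers c a (N + 1)) {n : ℕ} (hn : 1 ≤ n)
    (h1 : Subsingleton (Coh.HH X (c.twist (n - 1)) 1)) (B : c.sect (n + 1) ⊤) :
    ∃ s : Fin (N + 1) → c.sect n ⊤, ∀ i, B.1 i = ∑ l : Fin (N + 1), (a l).1 i * (s l).1 i := by
  haveI := Euler.isNoetherian_of_proper (X := X) k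
  have hL : PicF.IsInvertible (c.twist 1) := c.isInvertible_twist 1
  obtain ⟨T, hT, ⟨eT⟩⟩ := Kodaira.exists_inverse hL
  have hpow : ∀ s, Nonempty (CohB1.tensorPow (c.twist 1) s ≅ c.twist s) :=
    c.nonempty_tensorPow_iso (Iso.refl _)
  have hcT : Cube.clsMod hT * Cube.clsMod hL = 1 :=
    (Cube.clsMod_tensorMod hT hL).symm.trans
      ((Cube.clsMod_eq_one_iff (Ample.isInvertible_tensorMod hT hL)).2 ⟨eT⟩)
  have hcl : ∀ s, Cube.clsMod (c.isInvertible_twist s) = Cube.clsMod hL ^ s := fun s => by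
    rw [← Cube.clsMod_tensorPow hL s]
    exact ((Cube.clsMod_eq_iff _ _).2 (hpow s)).symm
  let M₀ := CohB1.tensorMod (c.twist n) (CohB1.tensorPow T N)
  have hM₀ : PicF.IsInvertible M₀ :=
    Ample.isInvertible_tensorMod (c.isInvertible_twist n) (Ample.isInvertible_tensorPow hT N)
  have hM₀c : Cube.clsMod hM₀ = Cube.clsMod hL ^ ((n : ℤ) - N) := by
    rw [Cube.clsMod_tensorMod (c.isInvertible_twist n) (Ample.isInvertible_tensorPow hT N), hcl,
      Cube.clsMod_tensorPow hT, eq_inv_of_mul_eq_one_left hcT, inv_pow, zpow_sub, zpow_natCast, zpow_natCast]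
  have hN : ∀ (s : ℕ) (Q : X.Modules) (hQ : PicF.IsInvertible Q),
      Cube.clsMod hQ = Cube.clsMod hL ^ ((n : ℤ) - N + s) → Nonempty ((CMReg.twPow c s).obj M₀ ≅ Q) := by
    intro s Q hQ hc
    obtain ⟨g⟩ := CMReg.nonempty_twPow_tensor c (Iso.refl (c.twist 1)) s M₀
    refine ((Cube.clsMod_eq_iff (Ample.isInvertible_tensorMod hM₀ (Ample.isInvertible_tensorPow hL s)) hQ).1 ?_).map
      (g ≪≫ ·)
    rw [Cube.clsMod_tensorMod hM₀ (Ample.isInvertible_tensorPow hL s), hM₀c, Cube.clsMod_tensorPow hL, hc,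
      ← zpow_natCast, ← zpow_add]
  have hv : ∀ s, s < N → Subsingleton (Coh.HH X ((CMReg.twPow c s).obj M₀) (1 + (N - 1 - s))) := by
    intro s hs
    rcases Nat.eq_zero_or_pos (N - 1 - s) with h | h
    · rw [h]
      obtain ⟨g⟩ := hN s _ (c.isInvertible_twist (n - 1)) (by
        rw [hcl, ← zpow_natCast]; congr 1; omega)
      exact CMReg.subsingleton_of_iso g.symm h1
    · obtain ⟨g⟩ := CMReg.nonempty_twPow_tensor c (Iso.refl (c.twist 1)) s M₀
      haveI := (Euler.isCoh_of_isInvertible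
        (Ample.isInvertible_tensorMod hM₀ (Ample.isInvertible_tensorPow hL s))).1
      exact CMReg.subsingleton_of_iso g.symm (Euler.subsingleton_HH_of_two_le k hd _ _ (by omega))
  obtain ⟨g⟩ := hN N _ (c.isInvertible_twist n) (by
    rw [hcl, ← zpow_natCast]; congr 1; omega)
  let t : c.msect (c.twist n) 1 ⊤ :=
    ⟨fun i => res (le_rfl : (⊤ : X.Opens) ⊓ c.D i ≤ ⊤ ⊓ c.D i) (B.1 i) • c.base n i inf_le_right,
      fun i j W hi hj => by
        rw [Ample.mres_smul', Ample.mres_smul', Ample.Cocycle.mres_twist, Ample.Cocycle.mres_twist,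
          c.sectRes_base, c.sectRes_base, c.base_eq_smul_base n i j (hi.trans inf_le_right) (hj.trans inf_le_right),
          smul_smul, smul_smul]
        congr 1
        simp only [Ample.res_res]
        rw [c.sect_spec B i j hi hj, pow_succ]
        ring⟩
  obtain ⟨s, hs⟩ := CMReg.exists_sum_transfer c a g.symm (fun z => by
    let α := CMReg.twCommIso c N M₀
    obtain ⟨s, hs⟩ := CMReg.exists_sum_twPow hcov M₀ hv (α.hom.app ⊤ z)
    refine ⟨s, ?_⟩
    apply (ConcreteCategory.bijective_of_isIso (α.hom.app ⊤)).1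
    rw [hs, map_sum]
    refine Finset.sum_congr rfl fun l _ => ?_
    rw [← CMReg.raise_twCommIso]
    rfl) (show Γ((CMReg.tw c).obj (c.twist n), ⊤) from t)
  refine ⟨fun l => s l, fun i => ?_⟩
  let κ : c.msect (c.twist n) 1 ⊤ →+ Γ(X, (⊤ : X.Opens) ⊓ c.D i) :=
    { toFun := fun u => res (le_inf le_rfl inf_le_right)
        ((show c.sect n ((⊤ : X.Opens) ⊓ c.D i) from u.1 i).1 i)
      map_zero' := map_zero _
      map_add' := fun u v => map_add _ _ _ }
  have ht : κ t = B.1 i := by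
    show res _ ((res _ (B.1 i) • c.base n i inf_le_right).1 i) = _
    rw [c.smul_apply, c.base_self, mul_one, Ample.res_res, Ample.res_res, Ample.res_self]
  rw [← ht, show t = _ from hs, map_sum]
  refine Finset.sum_congr rfl fun l _ => ?_
  show res _ ((res _ ((a l).1 i) • c.sectRes inf_le_left (s l)).1 i) = _
  rw [c.smul_apply, c.sectRes_apply, map_mul, Ample.res_res, Ample.res_res, Ample.res_res]
  exact congrArg₂ (· * ·) (Ample.res_self _ _) (Ample.res_self _ _)

include k in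
/-- Ample invertible modules on curves with `H¹(O) = 0` are very ample. -/
theorem exists_closedImmersion_of_isAmple [IsProper (X ↘ Spec (CommRingCat.of k))]
    (hd : topologicalKrullDim X ≤ 1) [Nonempty X]
    (h1 : Subsingleton (Coh.HH X (Coh.structureModule X) 1)) {L : X.Modules} (hA : CohB1.IsAmple L) :
    ∃ (n : ℕ) (i : X ⟶ CohB1.ProjSpace n k), IsClosedImmersion i ∧
      i ≫ CohB1.ProjSpace.toSpec n k = X ↘ (Spec (CommRingCat.of k)) ∧
      Nonempty ((Scheme.Modules.pullback i).obj (Twist.twistProjSpace n k 1) ≅ L) := by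
  haveI := Euler.isNoetherian_of_proper (X := X) k
  obtain ⟨hL1, hgg⟩ := nef_of_genus_zero' k hd h1 hA.1 (isNef_self_of_isAmple k hA)
  obtain ⟨c, ⟨e⟩⟩ := Ample.exists_cocycle hA.1
  have hc : c.IsAmp := ((c.isAmple_iff e).1 hA).2
  haveI := Euler.finiteDimensional_HH k (Euler.isCoh_of_isInvertible (c.isInvertible_twist 1)) 0
  let bas := Module.finBasis k (Coh.HH X (c.twist 1) 0)
  let a' : Fin (Module.finrank k (Coh.HH X (c.twist 1) 0)) → c.sect 1 ⊤ := fun l =>
    ProjCoh.H0top (c.twist 1) (bas l)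
  have hcov' : ∀ x : X, ∃ l, x ∈ c.locus (a' l) := by
    intro x
    by_contra h
    push Not at h
    obtain ⟨i, hi⟩ := c.exists_mem x
    have hx1 : x ∈ (⊤ ⊓ c.D i : X.Opens) := ⟨trivial, hi⟩
    have hall : ∀ z : Coh.HH X (c.twist 1) 0,
        x ∉ c.locus (ProjCoh.H0top (c.twist 1) z : c.sect 1 ⊤) := by
      intro z
      have hz : z ∈ Submodule.span k (Set.range bas) := bas.span_eq ▸ trivial
      induction hz using Submodule.span_induction with
      | mem z hz => obtain ⟨l, rfl⟩ := hz; exact h l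
      | zero =>
        rw [map_zero (ProjCoh.H0top (c.twist 1)), c.mem_locus_iff _ hi, Scheme.mem_basicOpen X _ x hx1]
        show ¬ IsUnit (X.presheaf.germ _ x _ (0 : Γ(X, _)))
        rw [map_zero]
        exact not_isUnit_zero
      | add z z' _ _ hz hz' =>
        rw [c.mem_locus_iff _ hi, Scheme.mem_basicOpen X _ x hx1] at hz hz' ⊢
        rw [map_add (ProjCoh.H0top (c.twist 1))]
        show ¬ IsUnit (X.presheaf.germ _ x _ ((show c.sect 1 ⊤ from ProjCoh.H0top (c.twist 1) z).1 i +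
          (show c.sect 1 ⊤ from ProjCoh.H0top (c.twist 1) z').1 i))
        rw [map_add]
        exact fun hu => (IsLocalRing.isUnit_or_isUnit_of_isUnit_add hu).elim hz hz'
      | smul r z _ hz =>
        rw [c.mem_locus_iff _ hi, Scheme.mem_basicOpen X _ x hx1] at hz ⊢
        rw [ProjCoh.H0top_smul]
        show ¬ IsUnit (X.presheaf.germ _ x _ (_ * _))
        rw [map_mul]
        exact fun hu => hz (isUnit_of_mul_isUnit_right hu)
    obtain ⟨ι, p, hp⟩ := hgg
    haveI : Epi (p ≫ e.hom) := epi_comp _ _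
    obtain ⟨J, σ, hσ⟩ := Semiample.exists_generatedBy (M := c.twist 1) ⟨ι, p ≫ e.hom, inferInstance⟩
    have hbig : (⊤ : Submodule (X.presheaf.stalk x) ((c.twist 1).presheaf.stalk x)) ≤
        IsLocalRing.maximalIdeal (X.presheaf.stalk x) • ⊤ := by
      refine (hσ x).ge.trans (Submodule.span_le.2 ?_)
      rintro _ ⟨l, rfl⟩
      show (c.twist 1).presheaf.germ ⊤ x trivial (σ l) ∈ _
      obtain ⟨z, hz⟩ := (ProjCoh.H0top (c.twist 1)).surjective (σ l)
      let g : c.sect 1 ⊤ := ProjCoh.H0top (c.twist 1) z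
      have hg := hall z
      rw [c.mem_locus_iff _ hi, Scheme.mem_basicOpen X _ x hx1] at hg
      have hle : (⊤ : X.Opens) ⊓ c.D i ≤ c.D i := inf_le_right
      have heq : c.sectRes (le_top : (⊤ : X.Opens) ⊓ c.D i ≤ ⊤) g = g.1 i • c.base 1 i hle := by
        refine c.sect_ext_of_le hle ?_
        rw [c.sectRes_apply, c.smul_apply, c.base_self, mul_one]
      rw [← hz, ← TopCat.Presheaf.germ_res_apply (c.twist 1).presheaf
        (homOfLE (le_top : (⊤ : X.Opens) ⊓ c.D i ≤ ⊤)) x hx1]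
      refine (congrArg (· ∈ IsLocalRing.maximalIdeal (X.presheaf.stalk x) • (⊤ : Submodule _ _))
        ((congrArg ((c.twist 1).presheaf.germ _ x hx1) (show _ = _ from heq)).trans
          (WeakAss.germ_smul hx1 _ _))).mpr ?_
      exact Submodule.smul_mem_smul ((IsLocalRing.mem_maximalIdeal _).2 hg) Submodule.mem_top
    obtain ⟨t, ht⟩ := Ref1.exists_gen_of_isInvertible (c.isInvertible_twist 1) x
    have htop := hbig (Submodule.mem_top (x := t))
    rw [← ht.span, Submodule.mem_smul_span_singleton] at htop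
    obtain ⟨m, hm, hmt⟩ := htop
    have : m = 1 := ht.1 (hmt.trans (one_smul _ t).symm)
    exact (IsLocalRing.maximalIdeal.isMaximal _).ne_top ((Ideal.eq_top_iff_one _).2 (this ▸ hm))
  obtain ⟨N, hN⟩ : ∃ N, Module.finrank k (Coh.HH X (c.twist 1) 0) = N + 1 := by
    obtain ⟨x⟩ := ‹Nonempty X›
    obtain ⟨l, -⟩ := hcov' x
    exact ⟨_, (Nat.succ_pred_eq_of_pos (Fin.pos l)).symm⟩
  let aN : Fin (N + 1) → c.sect 1 ⊤ := fun l => a' (Fin.cast hN.symm l)
  have hcov : ∀ x : X, ∃ l, x ∈ c.locus (aN l) := fun x => by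
    obtain ⟨l, hl⟩ := hcov' x
    exact ⟨Fin.cast hN l, hl⟩
  let A : ℕ → c.sect 1 ⊤ := fun l => if h : l < N + 1 then aN ⟨l, h⟩ else 0
  have hA' : ∀ l : Fin (N + 1), A l = aN l := fun l => dif_pos l.2
  have hcovA : CMReg.Covers c A (N + 1) := fun x => by
    obtain ⟨l, hl⟩ := hcov x
    exact ⟨l, l.2, by rw [hA']; exact hl⟩
  refine ⟨N, exists_closedImmersion_of_sections k c e aN hcov
    (fun j => isAffineOpen_locus_of_isAmp k c hc aN hcov j) fun j b => ?_⟩
  let U := c.locus (aN j)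
  let S := Subring.closure
      (Set.range (fun r : k => res (le_top : U ≤ ⊤) (Coh.toGlobal (X ↘ Spec (CommRingCat.of k)) r)) ∪
        {g | ∃ l, g • c.sectRes (le_top : U ≤ ⊤) (aN j) = c.sectRes le_top (aN l)})
  show b ∈ S
  let uu : ∀ i, Γ(X, U ⊓ c.D i) := fun i => res (inf_le_inf_right (c.D i) (le_top : U ≤ ⊤)) ((aN j).1 i)
  let P : ∀ n, c.sect n ⊤ → Prop := fun n B => ∃ g ∈ S, ∀ i,
    res (inf_le_inf_right (c.D i) (le_top : U ≤ ⊤)) (B.1 i) = res (inf_le_left : U ⊓ c.D i ≤ U) g * uu i ^ n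
  have hP0 : ∀ n, P n 0 := fun n => ⟨0, S.zero_mem, fun i => by
    show res _ (0 : Γ(X, _)) = _
    rw [map_zero, map_zero, zero_mul]⟩
  have hPsum : ∀ n, ∀ B B' : c.sect n ⊤, P n B → P n B' → P n (B + B') := by
    rintro n B B' ⟨g, hg, hg'⟩ ⟨g', hgg, hgg'⟩
    refine ⟨g + g', S.add_mem hg hgg, fun i => ?_⟩
    show res _ (B.1 i + B'.1 i) = _
    rw [map_add, hg' i, hgg' i, map_add, add_mul]
  have ha : ∀ l, P 1 (aN l) := fun l => by
    obtain ⟨f, hf, -⟩ := c.exists_ratio (aN j) (aN l)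
    refine ⟨f, Subring.subset_closure (Or.inr ⟨l, hf.symm⟩), fun i => ?_⟩
    have h := congrArg (fun t : c.sect 1 U => t.1 i) hf
    simp only [Cocycle.sectRes_apply, Cocycle.smul_apply] at h
    rw [pow_one]
    exact h
  have h1' : ∀ z : Coh.HH X (c.twist 1) 0, P 1 (ProjCoh.H0top (c.twist 1) z) := by
    intro z
    have hz : z ∈ Submodule.span k (Set.range bas) := bas.span_eq ▸ trivial
    induction hz using Submodule.span_induction with
    | mem z hz =>
      obtain ⟨l, rfl⟩ := hz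
      exact ha (Fin.cast hN l)
    | zero => rw [map_zero (ProjCoh.H0top (c.twist 1))]; exact hP0 1
    | add z z' _ _ hz hz' => rw [map_add (ProjCoh.H0top (c.twist 1))]; exact hPsum 1 _ _ hz hz'
    | smul r z _ hz =>
      obtain ⟨g, hg, hg'⟩ := hz
      refine ⟨res (le_top : U ≤ ⊤) (Coh.toGlobal (X ↘ Spec (CommRingCat.of k)) r) * g,
        S.mul_mem (Subring.subset_closure (Or.inl ⟨r, rfl⟩)) hg, fun i => ?_⟩
      rw [ProjCoh.H0top_smul]
      show res _ (res _ _ * _) = _
      rw [map_mul, hg' i, map_mul, mul_assoc, Ample.res_res, Ample.res_res]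
  have htw : ∀ n, Subsingleton (Coh.HH X (c.twist n) 1) := fun n => by
    obtain ⟨d⟩ := c.nonempty_tensorPow_iso e n
    exact CMReg.subsingleton_of_iso d (subsingleton_H1_tensorPow_of_le k hd hA.1 hgg (m := 0) h1 n.zero_le)
  have hall : ∀ n, ∀ B : c.sect (n + 1) ⊤, P (n + 1) B := by
    intro n
    induction n with
    | zero =>
      intro B
      obtain ⟨z, hz⟩ := (ProjCoh.H0top (c.twist 1)).surjective B
      exact hz ▸ h1' z
    | succ n ih =>
      intro B
      obtain ⟨s, hs⟩ := exists_sum_sect k c hd A hcovA (n := n + 1) n.succ_pos (htw _) B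
      choose gs hgs hgs' using fun l => ih (s l)
      choose ga hga hga' using ha
      refine ⟨∑ l, ga l * gs l, S.sum_mem fun l _ => S.mul_mem (hga l) (hgs l), fun i => ?_⟩
      rw [hs i, map_sum, map_sum, Finset.sum_mul]
      refine Finset.sum_congr rfl fun l _ => ?_
      rw [map_mul, hA', hga' l i, hgs' l i, map_mul, pow_succ _ (n + 1), pow_one]
      ring
  obtain ⟨m, B, hB⟩ := c.exists_extend (aN j) b
  obtain ⟨g, hg, hg'⟩ := hall m (c.mul (c.sectCast (one_mul m) B) (aN j))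
  convert hg using 1
  refine c.smul_injective_of_le_locus (c.sectPow (aN j) (m + 1)) (c.le_locus_sectPow (aN j) (m + 1))
    (c.sect_ext fun i => ?_)
  have h2 := congrArg (fun t : c.sect (1 * m) U => t.1 i) hB
  have h3 := hg' i
  simp only [Cocycle.sectRes_apply, Cocycle.smul_apply, Cocycle.sectPow_apply, map_pow, Cocycle.mul, map_mul,
    Ample.res_res, Cocycle.sectCast_apply] at h2 h3 ⊢
  rw [← h3, h2, pow_succ, mul_assoc]

end GrothLib.CurveMult
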