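import Groth.Agent.Lib.CurveMult.NefDescent
import Groth.Agent.Lib.CMReg.GenKoszul
import Groth.Agent.Lib.Kleiman.Kleiman
import Groth.Agent.Lib.Kodaira.Cones
import Groth.Agent.Lib.ProjFormula.Map
import Groth.Prelude.Def_SecTwist

/-!
# Multiplication of sections of powers of a globally generated line bundle on a curve
-/

set_option linter.style.haveILetI false
set_option backward.isDefEq.respectTransparency false

universe u

open CategoryTheory CategoryTheory.Limits AlgebraicGeometry TopologicalSpace Opposite TensorProduct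

noncomputable section

namespace GrothLib.CurveMult

variable {X : Scheme.{u}}

/-- Surjectivity of the sheafification map gives spanning by products. -/
theorem span_tmul_of_surjective (M N : X.Modules)
    (h : Function.Surjective
      ((toSheafify (Opens.grothendieckTopology X) (CohB1.tensorPre M N).presheaf).app (op ⊤))) :
    Submodule.span (X.ringCatSheaf.obj.obj (Opposite.op ⊤))
        (Set.range (fun p : M.val.obj (op ⊤) × N.val.obj (op ⊤) => SecTwist.tmul M N ⊤ p.1 p.2)) = ⊤ := by
  refine Submodule.eq_top_iff'.2 fun z => ?_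
  obtain ⟨y, hy⟩ := h z
  have hy' : ((SecTwist.toTensor M N).app (op ⊤)).hom y = z := hy
  rw [← hy']
  clear hy hy' z
  revert y
  refine fun y => TensorProduct.induction_on y ?_ (fun m n => ?_) fun a b ha hb => ?_
  · rw [map_zero]; exact Submodule.zero_mem _
  · exact Submodule.subset_span ⟨(m, n), rfl⟩
  · rw [map_add]; exact Submodule.add_mem _ ha hb

/-- Every section of `O ⊗ M` is a pure product with one. -/
theorem span_tmul_structure (M : X.Modules) :
    Submodule.span (X.ringCatSheaf.obj.obj (Opposite.op ⊤))
        (Set.range (fun p : (Coh.structureModule X).val.obj (op ⊤) × M.val.obj (op ⊤) =>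
          SecTwist.tmul (Coh.structureModule X) M ⊤ p.1 p.2)) = ⊤ := by
  refine Submodule.eq_top_iff'.2 fun z => ?_
  let φ := OX.tensorUnitLeftIso M
  refine Submodule.subset_span ⟨((1 : Γ(X, ⊤)), φ.hom.app ⊤ z), ?_⟩
  have hinj : Function.Injective (φ.hom.app ⊤) := (ConcreteCategory.bijective_of_isIso (φ.hom.app ⊤)).1
  refine hinj ?_
  refine Eq.trans (ProjFormula.tensorUnitLeftIso_tmulSec M ⊤ (1 : Γ(X, ⊤)) (φ.hom.app ⊤ z)) ?_
  exact one_smul _ _

variable (k : Type u) [Field k] [X.Over (Spec (CommRingCat.of k))]
  [IsProper (X ↘ Spec (CommRingCat.of k))]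

include k in
/-- In dimension one, powers of a globally generated invertible module keep vanishing first cohomology. -/
theorem subsingleton_H1_tensorPow_of_le (hd : topologicalKrullDim X ≤ 1) {A : X.Modules}
    (hA : PicF.IsInvertible A) (hgg : Curv2.IsGloballyGenerated A) {m : ℕ}
    (hm : Subsingleton (Coh.HH X (CohB1.tensorPow A m) 1)) {n : ℕ} (hn : m ≤ n) :
    Subsingleton (Coh.HH X (CohB1.tensorPow A n) 1) := by
  haveI := Euler.isNoetherian_of_proper (X := X) k
  obtain ⟨N, p, hp⟩ := exists_epi_freeMod (Euler.isCoh_of_isInvertible hA) hgg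
  induction n, hn using Nat.le_induction with
  | base => exact hm
  | succ n _ ih =>
    let P := CohB1.tensorPow A n
    let q : (Euler.tF P).obj (FlatMod.freeMod X N) ⟶ (Euler.tF P).obj A := (Euler.tF P).map p
    haveI : Epi q := by
      haveI := hp
      exact inferInstanceAs (Epi ((Euler.tF P).map p))
    have h1 : Subsingleton (Coh.HH X ((Euler.tF P).obj (FlatMod.freeMod X N)) 1) :=
      CMReg.subsingleton_of_iso (CMReg.tensorSigmaIso (fun _ : Fin N => Coh.structureModule X) P).symm
        (CMReg.subsingleton_HH_sigma _ fun _ => CMReg.subsingleton_of_iso (OX.tensorUnitLeftIso P).symm ih)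
    exact CMReg.subsingleton_of_iso (GrTilde.tensorModComm A P) (subsingleton_H1_of_epi k hd q h1)

include k in
/-- Sections of powers are generated in degree one, beyond the vanishing of first cohomology. -/
theorem span_tmul_tensorPow (hd : topologicalKrullDim X ≤ 1) {A : X.Modules} (hA : PicF.IsInvertible A)
    (hgg : Curv2.IsGloballyGenerated A) {m : ℕ} (hm : Subsingleton (Coh.HH X (CohB1.tensorPow A m) 1))
    {n : ℕ} (hn : m + 1 ≤ n) :
    Submodule.span (X.ringCatSheaf.obj.obj (Opposite.op ⊤))
        (Set.range (fun p : (CohB1.tensorPow A n).val.obj (Opposite.op ⊤) × A.val.obj (Opposite.op ⊤) =>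
          SecTwist.tmul (CohB1.tensorPow A n) A ⊤ p.1 p.2)) = ⊤ := by
  haveI := Euler.isNoetherian_of_proper (X := X) k
  haveI := Euler.finiteDimensional_HH k (Euler.isCoh_of_isInvertible hA) 0
  obtain ⟨T, hT, ⟨e⟩⟩ := Kodaira.exists_inverse hA
  refine span_tmul_of_surjective _ _ (CMReg.surjective_mul_of_vanishing k hA hgg (M := T) ?_ n ?_ ?_)
  · exact ⟨e⟩
  · intro q hq hqn _
    have hc : ∀ i, (CohB1.tensorPow A i).IsQuasicoherent := fun i =>
      (Euler.isCoh_of_isInvertible (Ample.isInvertible_tensorPow hA i)).1
    haveI := hc (n - q)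
    rcases Nat.lt_or_ge q 2 with h | h
    · obtain rfl : q = 1 := by omega
      exact subsingleton_H1_tensorPow_of_le k hd hA hgg hm (by omega)
    · exact Euler.subsingleton_HH_of_two_le k hd _ q h
  · intro q hbq _
    haveI := (Euler.isCoh_of_isInvertible (Ample.isInvertible_tensorPow hT (q - n))).1
    exact Euler.subsingleton_HH_of_two_le k hd _ q (by omega)

include k in
/-- An ample invertible module is nef. -/
theorem isNef_self_of_isAmple {L : X.Modules} (hA : CohB1.IsAmple L) : NumR.IsNef k X L :=
  Kleiman.isNef_of_isAmple k hA.1 hA fun ν _ =>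
    (Ample.isAmple_tensorPow_iff hA.1 ν.succ_pos).1 hA

include k in
/-- Ample modules on curves without `H¹(O)`: the section ring is generated in degree one. -/
theorem span_tmul_tensorPow_of_genus_zero (hd : topologicalKrullDim X ≤ 1)
    (h1 : Subsingleton (Coh.HH X (Coh.structureModule X) 1)) {L : X.Modules} (hA : CohB1.IsAmple L) (n : ℕ) :
    Submodule.span (X.ringCatSheaf.obj.obj (Opposite.op ⊤))
        (Set.range (fun p : (CohB1.tensorPow L n).val.obj (Opposite.op ⊤) × L.val.obj (Opposite.op ⊤) =>
          SecTwist.tmul (CohB1.tensorPow L n) L ⊤ p.1 p.2)) = ⊤ := by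
  rcases n with _ | n
  · exact span_tmul_structure L
  · exact span_tmul_tensorPow k hd hA.1 (nef_of_genus_zero' k hd h1 hA.1 (isNef_self_of_isAmple k hA)).2
      (m := 0) h1 (by omega)

end GrothLib.CurveMult
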