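import Groth.Agent.Lib.CurveMult.GenusOneSemistable

/-!
# The number of sections of subsheaves of a semistable bundle, in every genus

A subsheaf with non-zero first cohomology maps to the canonical module, so loses at most `g` sections
against its kernel; this bounds sections by the slope and gives the section criterion for semistability.
-/

set_option linter.style.haveILetI false
set_option backward.isDefEq.respectTransparency false

universe u

open CategoryTheory CategoryTheory.Limits AlgebraicGeometry TopologicalSpace Opposite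
open GrothLib.CurveRR (RegCurve oD isInvertible_oD isCoh_oD)

noncomputable section

namespace GrothLib.CurveMult

variable (k : Type u) [Field k] [IsAlgClosed k] {X : Scheme.{u}} [X.Over (Spec (CommRingCat.of k))]
  [IsIntegral X] [IsProper (X ↘ Spec (CommRingCat.of k))] [RegCurve X]

include k in
theorem euler_structure_eq : Curv2.euler k X (Coh.structureModule X) = 1 - (Curv2.genus k X : ℤ) := by
  rw [Euler.euler_structure k RegCurve.dim.le, CurveRR.finrank_H0_structure_eq_one k (X := X)]
  norm_num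

include k in
/-- A bundle with non-zero first cohomology has a subbundle of corank one with at most `g` fewer sections. -/
theorem exists_kernel_of_H1 {I : X.Modules} {ρ : ℕ} (hI : FlatMod.IsFinLocFreeOfRank (ρ + 1) I)
    (hn : Nontrivial (Coh.HH X I 1)) :
    ∃ (K : X.Modules) (i : K ⟶ I), Mono i ∧ FlatMod.IsFinLocFreeOfRank ρ K ∧
      Module.finrank k (Coh.HH X I 0) ≤ Module.finrank k (Coh.HH X K 0) + Curv2.genus k X := by
  haveI := Euler.isNoetherian_of_proper (X := X) k
  have h0 := CurveRR.finrank_H0_structure_eq_one k (X := X)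
  have hK := CurveRR.isFunctionField k h0
  obtain ⟨C, hC⟩ := FunFld.exists_isCanonical hK
  have hIc := Euler.isCoh_of_isFinLocFree (FinCov.isFinLocFree_of_rank hI)
  obtain ⟨φ, hφ⟩ := CurveRR.exists_nonzero_hom_of_H1 hK hC hI hn
  have hω := isInvertible_oD k C
  have hω1 := Euler.isFinLocFreeOfRank_one_of_invertible hω
  have hωc := Euler.isCoh_of_isInvertible hω
  let T := ShortComplex.mk (kernel.ι φ) (Abelian.factorThruImage φ)
    (by rw [← cancel_mono (Abelian.image.ι φ), Category.assoc, Abelian.image.fac, kernel.condition, zero_comp])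
  have hT : T.ShortExact :=
    { exact := ShortComplex.exact_of_f_is_kernel _ (KernelFork.IsLimit.ofι' _ _ fun g hg => ⟨kernel.lift φ g
        (by rw [← Abelian.image.fac φ, ← Category.assoc, hg, zero_comp]), kernel.lift_ι _ _ _⟩) }
  have hKc := QCoh.isCoh_kernel φ hIc hωc
  have hJc : Coh.IsCoh (Abelian.image φ) := QCoh.isCoh_kernel _ hωc (QCoh.isCoh_cokernel φ hIc hωc)
  have hK' := Euler.isFinLocFreeOfRank_of_mono CurveRR.pid_stalk (kernel.ι φ) hKc
    (FinCov.isFinLocFree_of_rank hI)
  have hJ' := Euler.isFinLocFreeOfRank_of_mono CurveRR.pid_stalk (Abelian.image.ι φ) hJc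
    (FinCov.isFinLocFree_of_rank hω1)
  have hgr : Euler.grank I = Euler.grank (kernel φ) + Euler.grank (Abelian.image φ) :=
    Euler.grank_additive (S := T) hT hIc
  rw [Euler.grank_of_locFree hI] at hgr
  have hJ1 : Euler.grank (Abelian.image φ) ≤ 1 :=
    (Euler.grank_le_of_mono (Abelian.image.ι φ) hωc).trans_eq (Euler.grank_of_locFree hω1)
  have hJ0 : Euler.grank (Abelian.image φ) ≠ 0 := fun e => hφ (by
    rw [e] at hJ'
    rw [← Abelian.image.fac φ, (Euler.isZero_of_rank_zero hJ').eq_of_src (Abelian.image.ι φ) 0, comp_zero])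
  have e1 : Euler.grank (kernel φ) = ρ := by omega
  rw [e1] at hK'
  refine ⟨_, kernel.ι φ, inferInstance, hK', ?_⟩
  have h2 : Module.finrank k (Coh.HH X (Abelian.image φ) 0) ≤ Curv2.genus k X := by
    refine (Euler.finrank_H0_le_of_mono k (Abelian.image.ι φ) hωc).trans_eq ?_
    rw [CurveRR.finrank_H0_oD, (FunFld.ell_canonical hK hC).1, ← CurveRR.genus_eq k h0]
  haveI := Euler.finiteDimensional_HH k hKc 0
  haveI := Euler.finiteDimensional_HH k hJc 0
  haveI := Euler.finiteDimensional_HH k hIc 0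
  refine le_trans ?_ (add_le_add le_rfl h2)
  rw [← (Cohom.hhMap k T.g 0).finrank_range_add_finrank_ker, add_comm]
  refine add_le_add ?_ (Submodule.finrank_le _)
  refine le_trans (Submodule.finrank_mono (fun z hz => ?_))
    (LinearMap.finrank_range_le (Cohom.hhMap k T.f 0))
  exact (Cohom.exact₂ (A := k) hT 0 z).1 hz

include k in
theorem finrank_H0_mul_eq_of_subsingleton {I : X.Modules} {ρ : ℕ} (hI : FlatMod.IsFinLocFreeOfRank ρ I)
    (h : Subsingleton (Coh.HH X I 1)) :
    (Module.finrank k (Coh.HH X I 0) : ℤ) = Curv2.deg k X I ρ + ρ * (1 - (Curv2.genus k X : ℤ)) := by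
  haveI := Euler.isNoetherian_of_proper (X := X) k
  haveI := (Euler.isCoh_of_isFinLocFree (FinCov.isFinLocFree_of_rank hI)).1
  haveI := h
  have h1 := Euler.euler_eq_sub k RegCurve.dim.le I
  rw [Module.finrank_zero_of_subsingleton (M := Coh.HH X I 1)] at h1
  rw [Curv2.deg, h1, euler_structure_eq k]
  push_cast
  ring

include k in
/-- The crude bound: at most slope plus one sections per unit of rank. -/
theorem finrank_H0_mul_le_slope {F : X.Modules} {r : ℕ} {D : ℤ} (hD : (r : ℤ) * Curv2.genus k X ≤ D + r)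
    (hss : Euler.SubLe k F D r) :
    ∀ (ρ : ℕ) (I : X.Modules) (j : I ⟶ F), Mono j → FlatMod.IsFinLocFreeOfRank ρ I →
      (Module.finrank k (Coh.HH X I 0) : ℤ) * r ≤ (D + r) * ρ := by
  intro ρ
  induction ρ with
  | zero =>
    intro I j _ hI
    haveI := Cohom.subsingleton_HH_of_isZero (Euler.isZero_of_rank_zero hI) 0
    rw [Module.finrank_zero_of_subsingleton]
    simp
  | succ ρ ih =>
    intro I j hj hI
    haveI := hj
    by_cases hn : Nontrivial (Coh.HH X I 1)
    · obtain ⟨K, i, hi, hK, hle⟩ := exists_kernel_of_H1 k hI hn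
      have h1 := ih K (i ≫ j) (haveI := hi; mono_comp _ _) hK
      have h2 : (Module.finrank k (Coh.HH X I 0) : ℤ) ≤ Module.finrank k (Coh.HH X K 0) + Curv2.genus k X := by
        exact_mod_cast hle
      have hr0 : (0 : ℤ) ≤ r := Int.natCast_nonneg r
      push_cast
      nlinarith
    · have h1 := finrank_H0_mul_eq_of_subsingleton k hI (not_nontrivial_iff_subsingleton.1 hn)
      have h2 := hss I (ρ + 1) j hj ρ.succ_pos hI
      have hr0 : (0 : ℤ) ≤ r := Int.natCast_nonneg r
      have hg0 : (0 : ℤ) ≤ Curv2.genus k X := Int.natCast_nonneg _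
      push_cast at h1 h2 ⊢
      rw [h1]
      nlinarith [mul_nonneg (mul_nonneg hg0 hr0) (show (0 : ℤ) ≤ (ρ : ℤ) + 1 by positivity)]

include k in
/-- For slope large against the rank the subsheaves obey the bound of Riemann–Roch. -/
theorem finrank_H0_mul_le_euler {F : X.Modules} {r : ℕ} {D : ℤ}
    (hD : (r : ℤ) * Curv2.genus k X * (r + 1) ≤ D + r) (hss : Euler.SubLe k F D r)
    {ρ : ℕ} (hρ : ρ ≤ r) (hρ0 : 0 < ρ) {I : X.Modules} (j : I ⟶ F) [Mono j]
    (hI : FlatMod.IsFinLocFreeOfRank ρ I) :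
    (Module.finrank k (Coh.HH X I 0) : ℤ) * r ≤ (D + r * (1 - (Curv2.genus k X : ℤ))) * ρ := by
  have hr0 : (0 : ℤ) ≤ r := Int.natCast_nonneg r
  have hg0 : (0 : ℤ) ≤ Curv2.genus k X := Int.natCast_nonneg _
  by_cases hn : Nontrivial (Coh.HH X I 1)
  · obtain ⟨ρ', rfl⟩ : ∃ m, ρ = m + 1 := ⟨ρ - 1, by omega⟩
    obtain ⟨K, i, hi, hK, hle⟩ := exists_kernel_of_H1 k hI hn
    have hD' : (r : ℤ) * Curv2.genus k X ≤ D + r := by
      nlinarith [mul_nonneg (mul_nonneg hr0 hg0) hr0]
    have h1 := finrank_H0_mul_le_slope k hD' hss ρ' K (i ≫ j) (haveI := hi; mono_comp _ _) hK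
    have h2 : (Module.finrank k (Coh.HH X I 0) : ℤ) ≤ Module.finrank k (Coh.HH X K 0) + Curv2.genus k X := by
      exact_mod_cast hle
    have h3 : ((ρ' : ℤ) + 1) ≤ r := by exact_mod_cast hρ
    push_cast
    nlinarith [mul_le_mul_of_nonneg_left h3 (mul_nonneg hr0 hg0), mul_le_mul_of_nonneg_right h2 hr0]
  · have h1 := finrank_H0_mul_eq_of_subsingleton k hI (not_nontrivial_iff_subsingleton.1 hn)
    have h2 := hss I ρ j inferInstance hρ0 hI
    nlinarith

include k in
/-- Powers of an invertible module. -/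
theorem deg_tensorPow' {L : X.Modules} (hL : PicF.IsInvertible L) (n : ℕ) :
    Curv2.deg k X (CohB1.tensorPow L n) 1 = n * Curv2.deg k X L 1 := by
  obtain ⟨D, ⟨e⟩⟩ := CurveRR.exists_iso_oD k hL
  obtain ⟨e'⟩ := CurveRR.nonempty_tensorPow_iso k e n
  rw [Euler.deg_of_iso k e', Euler.deg_of_iso k e, CurveRR.deg_oD, CurveRR.deg_oD]
  clear e e'
  induction n with
  | zero => simp [FunFld.deg_zero]
  | succ n ih => rw [add_smul, one_smul, FunFld.deg_add, ih]; push_cast; ring

include k in
/-- A quotient of a free module twisted by a module without first cohomology has none. -/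
theorem subsingleton_H1_tF_of_epi {N : ℕ} {F M : X.Modules} (q : FlatMod.freeMod X N ⟶ F) [Epi q]
    (hM : PicF.IsInvertible M) (h : Subsingleton (Coh.HH X M 1)) :
    Subsingleton (Coh.HH X ((Euler.tF M).obj F) 1) := by
  haveI := Euler.isNoetherian_of_proper (X := X) k
  have hM' := Euler.isFinLocFree_of_isInvertible hM
  have hS := OX.tensor_map_shortExact (OX.flat_of_isFinLocFree hM') (Euler.kernel_shortExact q)
  have h2 : Subsingleton (Coh.HH X ((Euler.tF M).obj (kernel q)) 2) :=
    GVanish.subsingleton_H_of_krullDim_le (X := TopCat.of X) 1 RegCurve.dim.le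
      (Coh.toAb ((Euler.tF M).obj (kernel q))) 2 one_lt_two
  have hz : ∀ w : Coh.HH X ((Euler.tF M).obj (FlatMod.freeMod X N)) 1, w = 0 := by
    intro w
    haveI : Subsingleton (Coh.HH X ((Euler.tF M).obj (Coh.structureModule X)) 1) :=
      (Euler.hhEquiv (A := k) (OX.tensorUnitLeftIso M) 1).toEquiv.subsingleton
    rw [← Euler.hhMap_id (A := k) _ 1 w, ← CategoryTheory.Functor.map_id, ← FinCov.sum_proj_ι,
      Functor.map_sum, CurveRR.hhMap_sum]
    refine Finset.sum_eq_zero fun i _ => ?_
    rw [Functor.map_comp, Euler.hhMap_comp,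
      Subsingleton.elim (Cohom.hhMap k ((Euler.tF M).map (FinCov.proj X N i)) 1 w) 0, map_zero]
  refine ⟨fun x y => ?_⟩
  have hx : ∀ z : Coh.HH X ((Euler.tF M).obj F) 1, z = 0 := by
    intro z
    obtain ⟨w, hw⟩ := (Cohom.exact₃ (A := k) hS 1 z).1 (@Subsingleton.elim _ h2 _ _)
    rw [← hw, hz w, map_zero]
  rw [hx x, hx y]

include k in
/-- The section criterion for semistability of a quotient of a free module twisted enough. -/
theorem subLe_iff_h0_div_le {N : ℕ} {F M : X.Modules} (q : FlatMod.freeMod X N ⟶ F) [Epi q] {r : ℕ} (hr : 0 < r)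
    (hF : FlatMod.IsFinLocFreeOfRank r F) (hM : PicF.IsInvertible M)
    (hM1 : 2 * (Curv2.genus k X : ℤ) - 2 < Curv2.deg k X M 1)
    (hbig : (r : ℤ) * Curv2.genus k X * (r + 1) ≤ Curv2.deg k X F r + r * Curv2.deg k X M 1 + r) :
    Euler.SubLe k F (Curv2.deg k X F r) r ↔
      ∀ (F' : X.Modules) (r' : ℕ) (i : F' ⟶ F), Mono i → 0 < r' → FlatMod.IsFinLocFreeOfRank r' F' →
        (Module.finrank k (Coh.HH X ((Euler.tF M).obj F') 0) : ℚ) / (r' : ℚ) ≤
          (Module.finrank k (Coh.HH X ((Euler.tF M).obj F) 0) : ℚ) / (r : ℚ) := by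
  haveI := Euler.isNoetherian_of_proper (X := X) k
  have hT := isFinLocFreeOfRank_tF hF hM
  have hTc := Euler.isCoh_of_isFinLocFree (FinCov.isFinLocFree_of_rank hT)
  have hF0 := finrank_H0_mul_eq_of_subsingleton k hT
    (subsingleton_H1_tF_of_epi k q hM (subsingleton_H1_of_deg_gt k hM hM1))
  rw [deg_tF k hF hM] at hF0
  have key : ∀ (r' : ℕ) (a b : ℕ), 0 < r' →
      ((a : ℚ) / r' ≤ (b : ℚ) / r ↔ (a : ℤ) * r ≤ (b : ℤ) * r') := by
    intro r' a b hr'
    rw [div_le_div_iff₀ (by exact_mod_cast hr') (by exact_mod_cast hr)]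
    exact_mod_cast Iff.rfl
  constructor
  · intro hss F' r' i hi hr' hF'
    rw [key r' _ _ hr']
    haveI : Mono ((Euler.tF M).map i) :=
      (OX.tensor_map_shortExact (OX.flat_of_isFinLocFree (Euler.isFinLocFree_of_isInvertible hM))
        (haveI := hi; Euler.cokernel_shortExact i)).mono_f
    have hT' := isFinLocFreeOfRank_tF hF' hM
    have hle := Euler.grank_le_of_mono ((Euler.tF M).map i) hTc
    rw [Euler.grank_of_locFree hT', Euler.grank_of_locFree hT] at hle
    have hss' := subLe_tF k hF hss hM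
    rw [deg_tF k hF hM] at hss'
    have := finrank_H0_mul_le_euler k hbig hss' hle hr' ((Euler.tF M).map i) hT'
    rw [hF0]
    linarith
  · intro h F' r' i hi hr' hF'
    have hle := (key r' _ _ hr').1 (h F' r' i hi hr' hF')
    rw [hF0] at hle
    have hT' := isFinLocFreeOfRank_tF hF' hM
    haveI := (Euler.isCoh_of_isFinLocFree (FinCov.isFinLocFree_of_rank hT')).1
    have h1 := Euler.euler_le_finrank_H0 k RegCurve.dim.le ((Euler.tF M).obj F')
    have h2 := deg_tF k hF' hM
    rw [Curv2.deg, euler_structure_eq k] at h2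
    have hr0 : (0 : ℤ) ≤ r := Int.natCast_nonneg r
    nlinarith [mul_le_mul_of_nonneg_right h1 hr0]

end GrothLib.CurveMult
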