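import Groth.Agent.Lib.CurveMult.H1Bound
import Groth.Agent.Lib.CurveMult.SepCrit
import Groth.Agent.Lib.Ref1.Tensor

/-!
# Restricting the sections of an invertible module to finite closed subschemes
-/

set_option linter.style.haveILetI false
set_option backward.isDefEq.respectTransparency false

universe u

open CategoryTheory CategoryTheory.Limits AlgebraicGeometry TopologicalSpace Opposite
open GrothLib.InvExt (mres)
open GrothLib.Ample (Cocycle res)
open GrothLib.QCoh (stalkLin)

noncomputable section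

namespace GrothLib.CurveMult

variable {X : Scheme.{u}} (k : Type u) [Field k] [X.Over (Spec (CommRingCat.of k))]

/-- `I ⊗ L → L`. -/
def twistIdealι (Z : X.IdealSheafData) (L : X.Modules) : CohB1.tensorMod (ClSub.idealMod Z) L ⟶ L :=
  (Euler.tF L).map (ClSub.idealModι Z) ≫ (OX.tensorUnitLeftIso L).hom

theorem germ_smul_quot_eq_zero (Z : X.IdealSheafData) (L : X.Modules) {V : X.Opens} {x : X} (hx : x ∈ V)
    (f : Γ(X, V)) (hf : Z.subschemeι.app V f = 0)
    (v : ((Euler.tF L).obj (ClSub.quotMod Z)).presheaf.stalk x) :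
    X.presheaf.germ V x hx f • v = 0 := by
  have hQ : ∀ w : (ClSub.quotMod Z).presheaf.stalk x, X.presheaf.germ V x hx f • w = 0 := by
    intro w
    obtain ⟨W, hxW, n, rfl⟩ := TopCat.Presheaf.exists_germ_eq (ClSub.quotMod Z).presheaf w
    rw [← (ClSub.quotMod Z).presheaf.germ_res_apply' (homOfLE (inf_le_right : V ⊓ W ≤ W)).op x ⟨hx, hxW⟩,
      ← X.presheaf.germ_res_apply' (homOfLE (inf_le_left : V ⊓ W ≤ V)).op x ⟨hx, hxW⟩, ← WeakAss.germ_smul]
    refine (congrArg _ ?_).trans (map_zero _)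
    show Z.subschemeι.app (V ⊓ W) (X.presheaf.map _ f) * _ = 0
    rw [← CommRingCat.comp_apply, Scheme.Hom.naturality, CommRingCat.comp_apply, hf, map_zero, zero_mul]
  refine (Ref1.tensorStalk _ _ x).injective ?_
  rw [map_smul, map_zero]
  generalize Ref1.tensorStalk (ClSub.quotMod Z) L x v = t
  induction t with
  | zero => exact smul_zero _
  | tmul a b => rw [TensorProduct.smul_tmul', hQ, TensorProduct.zero_tmul]
  | add a b ha hb => rw [smul_add, ha, hb, add_zero]

theorem isCoh_ideal_tensor [IsLocallyNoetherian X] (Z : X.IdealSheafData) {L : X.Modules}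
    (hL : PicF.IsInvertible L) : Coh.IsCoh (CohB1.tensorMod (ClSub.idealMod Z) L) :=
  Euler.isCoh_tF (QCoh.isCoh_kernel (ClSub.toSubscheme Z)
    (Euler.isCoh_of_isInvertible Euler.isInvertible_structure) (QCoh.pushUnit_isCoh Z.subschemeι))
    (FinCov.isFinLocFree_of_rank (Euler.isFinLocFreeOfRank_one' hL))

variable [IsProper (X ↘ Spec (CommRingCat.of k))]

include k in
/-- Sections vanishing on a closed subscheme come from the twisted ideal. -/
theorem mem_range_of_annihilated {L : X.Modules} (hL : PicF.IsInvertible L) (Z : X.IdealSheafData)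
    (z : Coh.HH X L 0) (h : ∀ x ∈ (Z.support : Set X), ∃ (V : X.Opens) (_ : x ∈ V) (f : Γ(X, V)) (s : Γ(L, V)),
      mres L (le_top : V ≤ ⊤) (ProjCoh.H0top L z) = f • s ∧ Z.subschemeι.app V f = 0) :
    z ∈ LinearMap.range (Cohom.hhMap k (twistIdealι Z L) 0) := by
  haveI := Euler.epi_toSubscheme Z
  let S := ShortComplex.mk (ClSub.idealModι Z) (ClSub.toSubscheme Z) (kernel.condition _)
  haveI : Mono S.f := inferInstanceAs (Mono (kernel.ι (ClSub.toSubscheme Z)))
  haveI : Epi S.g := Euler.epi_toSubscheme Z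
  have hS : S.ShortExact := { exact := ShortComplex.exact_of_f_is_kernel _ (kernelIsKernel _) }
  have hflat := OX.flat_of_isFinLocFree (FinCov.isFinLocFree_of_rank (Euler.isFinLocFreeOfRank_one' hL))
  have hT := OX.tensor_map_shortExact hflat hS
  let eL : (Euler.tF L).obj (Coh.structureModule X) ≅ L := OX.tensorUnitLeftIso L
  let φ := eL.inv ≫ (Euler.tF L).map (ClSub.toSubscheme Z)
  have hz : Cohom.hhMap k φ 0 z = 0 := by
    refine (ProjCoh.H0top _).injective ((ProjCoh.H0top_map _ z).trans ?_)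
    rw [map_zero]
    show φ.app ⊤ (ProjCoh.H0top L z) = 0
    refine QCoh.section_eq_zero_of_germ ((Euler.tF L).obj (ClSub.quotMod Z)) _ fun x hx => ?_
    by_cases hxZ : x ∈ (Z.support : Set X)
    · obtain ⟨V, hxV, f, s, hfs, hf⟩ := h x hxZ
      rw [← ((Euler.tF L).obj (ClSub.quotMod Z)).presheaf.germ_res_apply' (homOfLE (le_top : V ≤ ⊤)).op x hxV]
      have e1 : ((Euler.tF L).obj (ClSub.quotMod Z)).presheaf.map (homOfLE (le_top : V ≤ ⊤)).op
          (φ.app ⊤ (ProjCoh.H0top L z)) = f • φ.app V s := by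
        rw [← Scheme.Modules.Hom.app_smul, ← hfs]
        exact (PresheafOfModules.naturality_apply φ.val (homOfLE (le_top : V ≤ ⊤)).op _).symm
      rw [e1, WeakAss.germ_smul]
      exact germ_smul_quot_eq_zero Z L hxV f hf _
    · haveI : Subsingleton ((ClSub.quotMod Z).presheaf.stalk x) := QCoh.stalk_subsingleton_of_notMem fun h' =>
        hxZ (Z.range_subschemeι ▸ QCoh.support_pushforward_subset_range Z.subschemeι _ h')
      exact (Ref1.tensorStalk (ClSub.quotMod Z) L x).injective (Subsingleton.elim _ _)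
  obtain ⟨w, hw⟩ := (Cohom.exact₂ (A := k) hT 0 (Cohom.hhMap k eL.inv 0 z)).1
    ((Euler.hhMap_comp (A := k) eL.inv _ 0 z).symm.trans hz)
  refine ⟨w, ?_⟩
  exact (Euler.hhMap_comp (A := k) _ eL.hom 0 w).trans ((congrArg (Cohom.hhMap k eL.hom 0) hw).trans
    ((Euler.hhMap_comp (A := k) eL.inv eL.hom 0 z).symm.trans (by rw [Iso.inv_hom_id, Euler.hhMap_id])))

include k in
/-- The finite closed subscheme of an ideal of finite colength on an affine open. -/
theorem exists_subscheme {U : X.Opens} (hU : IsAffineOpen U) (J : Ideal Γ(X, U))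
    (hJ : letI := (locHom k U).toAlgebra; Module.Finite k (Γ(X, U) ⧸ J)) :
    ∃ Z : X.IdealSheafData, topologicalKrullDim (Z.support : Set X) ≤ 0 ∧ (Z.support : Set X) ⊆ U ∧
      (∀ f ∈ J, Z.subschemeι.app U f = 0) ∧
      Module.finrank k (Coh.HH X (ClSub.quotMod Z) 0) =
        letI := (locHom k U).toAlgebra; Module.finrank k (Γ(X, U) ⧸ J) := by
  letI := (locHom k U).toAlgebra
  haveI : Module.Finite k (Γ(X, U) ⧸ J) := hJ
  let q := X ↘ Spec (CommRingCat.of k)
  let A := Γ(X, U) ⧸ J
  let m : Γ(X, U) ⟶ CommRingCat.of A := CommRingCat.ofHom (Ideal.Quotient.mk J)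
  let i : Spec (CommRingCat.of A) ⟶ X := Spec.map m ≫ hU.fromSpec
  haveI : IsClosedImmersion (Spec.map m) := IsClosedImmersion.spec_of_surjective _ Ideal.Quotient.mk_surjective
  have hiq : i ≫ q = Spec.map (CommRingCat.ofHom (algebraMap k A)) := by
    have h1 := IsAffineOpen.SpecMap_appLE_fromSpec q (isAffineOpen_top (Spec (CommRingCat.of k))) hU le_top
    rw [IsAffineOpen.fromSpec_top, Scheme.isoSpec_Spec_inv] at h1
    rw [show i ≫ q = Spec.map m ≫ (hU.fromSpec ≫ q) from Category.assoc _ _ _, ← h1, ← Spec.map_comp,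
      ← Spec.map_comp]
    rfl
  haveI : IsFinite (i ≫ q) := by
    rw [hiq, IsFinite.SpecMap_iff]
    exact RingHom.finite_algebraMap.2 hJ
  haveI : IsProper i := IsProper.of_comp i q
  haveI : IsPreimmersion i := inferInstance
  haveI : IsClosedImmersion i := IsClosedImmersion.of_isPreimmersion _ (i.isClosedMap.isClosed_range)
  have hrange : Set.range i ⊆ U := by
    rintro _ ⟨p, rfl⟩
    exact hU.range_fromSpec ▸ ⟨Spec.map m p, rfl⟩
  have hsupp : (i.ker.support : Set X) = Set.range i := by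
    rw [Scheme.Hom.support_ker]
    exact i.isClosedMap.isClosed_range.closure_eq
  haveI : IsArtinianRing A := IsArtinianRing.of_finite k A
  have hfin : (Set.range i).Finite := @Set.finite_range _ _ _ (inferInstanceAs (Finite (PrimeSpectrum A)))
  have hi : ∀ f ∈ J, i.appLE U ⊤ (fun p _ => hrange ⟨p, rfl⟩) f = 0 := by
    intro f hf
    have e1 : i.appLE U ⊤ (fun p _ => hrange ⟨p, rfl⟩) = m ≫ (Scheme.ΓSpecIso (CommRingCat.of A)).inv := by
      rw [← Scheme.Hom.appLE_comp_appLE (Spec.map m) hU.fromSpec U (hU.fromSpec ⁻¹ᵁ U) ⊤ le_rfl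
        (fun p _ => hrange ⟨p, rfl⟩), ← Scheme.Hom.app_eq_appLE, hU.fromSpec_app_self, Category.assoc,
        Scheme.Hom.map_appLE, Scheme.ΓSpecIso_inv_naturality, Scheme.Hom.appTop, Scheme.Hom.app_eq_appLE]
      rfl
    rw [e1, CommRingCat.comp_apply]
    show (Scheme.ΓSpecIso (CommRingCat.of A)).inv (Ideal.Quotient.mk J f) = 0
    rw [Ideal.Quotient.eq_zero_iff_mem.2 hf, map_zero]
  haveI : IsIso i.toImage := inferInstance
  refine ⟨i.ker, ?_, hsupp ▸ hrange, fun f hf => ?_, ?_⟩
  · rw [hsupp]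
    haveI := hfin.to_subtype
    haveI : T1Space (Set.range i) := ⟨fun x => by
      obtain ⟨_, p, rfl⟩ := x
      have hp : IsClosed ({p} : Set (Spec (CommRingCat.of A))) :=
        (PrimeSpectrum.isClosed_singleton_iff_isMaximal (R := A) p).2 inferInstance
      have h := (i.isClosedMap _ hp).preimage (continuous_subtype_val (p := (· ∈ Set.range i)))
      rw [Set.image_singleton] at h
      convert h using 1
      ext y
      simp [Subtype.ext_iff]⟩
    exact topologicalKrullDim_zero_of_discreteTopology _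
  · have hpre : i.ker.subschemeι ⁻¹ᵁ U = ⊤ := eq_top_iff.2 fun p _ => hrange (hsupp ▸ i.ker.range_subschemeι ▸ ⟨p, rfl⟩)
    have h1 : i.toImage.appLE (i.ker.subschemeι ⁻¹ᵁ U) ⊤ (fun p _ => hrange ⟨p, by
        rw [← i.toImage_imageι]; rfl⟩) (i.ker.subschemeι.app U f) = 0 := by
      rw [← hi f hf, ← CommRingCat.comp_apply, Scheme.Hom.app_eq_appLE, Scheme.Hom.appLE_comp_appLE]
      simp only [Scheme.Hom.imageι, i.toImage_imageι]
    have hiso : ∀ (V : i.ker.subscheme.Opens) (e : ⊤ ≤ i.toImage ⁻¹ᵁ V), V = ⊤ →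
        Function.Injective (i.toImage.appLE V ⊤ e).hom := by
      rintro _ e rfl
      show Function.Injective (i.toImage.appLE ⊤ (i.toImage ⁻¹ᵁ ⊤) le_rfl).hom
      rw [← Scheme.Hom.app_eq_appLE]
      exact (ConcreteCategory.bijective_of_isIso (i.toImage.app ⊤)).1
    exact hiso _ _ hpre (h1.trans (map_zero _).symm)
  · let ψ : Γ(i.ker.subscheme, ⊤) ≅ CommRingCat.of A :=
      asIso (i.toImage.appTop ≫ (Scheme.ΓSpecIso (CommRingCat.of A)).hom)
    have hψ : ∀ a : k, ψ.hom (i.ker.subschemeι.appTop (Coh.toGlobal q a)) = algebraMap k A a := by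
      intro a
      have h1 : (i ≫ q).appTop ≫ (Scheme.ΓSpecIso (CommRingCat.of A)).hom =
          (Scheme.ΓSpecIso (CommRingCat.of k)).hom ≫ CommRingCat.ofHom (algebraMap k A) := by
        rw [hiq]
        exact Scheme.ΓSpecIso_naturality _
      have h2 := congrArg (fun φ => φ ((Scheme.ΓSpecIso (CommRingCat.of k)).inv a)) h1
      rw [CommRingCat.comp_apply, CommRingCat.comp_apply, Scheme.Hom.comp_appTop, CommRingCat.comp_apply,
        Iso.inv_hom_id_apply] at h2
      refine Eq.trans ?_ h2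
      conv_rhs => rw [show i = i.toImage ≫ i.ker.subschemeι from i.toImage_imageι.symm]
      rfl
    let e : Coh.HH X (ClSub.quotMod i.ker) 0 ≃+ A :=
      (ProjCoh.H0top (ClSub.quotMod i.ker)).trans ψ.commRingCatIsoToRingEquiv.toAddEquiv
    exact ({ e with
      map_smul' := fun a z => by
        show ψ.hom (ProjCoh.H0top (ClSub.quotMod i.ker) (a • z)) = _
        rw [ProjCoh.H0top_smul, RingHom.id_apply, Algebra.smul_def]
        show ψ.hom (i.ker.subschemeι.appTop _ * _) = _
        rw [map_mul, hψ]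
        rfl } : Coh.HH X (ClSub.quotMod i.ker) 0 ≃ₗ[k] A).finrank_eq

include k in
/-- Sections of an invertible module surject onto the quotients of small colength. -/
theorem exists_sub_mem (c : Cocycle X) {U : X.Opens} (hU : IsAffineOpen U) (u : c.sect 1 U)
    (hu : ∀ t : c.sect 1 U, ∃! f : Γ(X, U), f • u = t) (J : Ideal Γ(X, U))
    (hJ : letI := (locHom k U).toAlgebra; Module.Finite k (Γ(X, U) ⧸ J))
    (hb : ∀ Z : X.IdealSheafData, topologicalKrullDim (Z.support : Set X) ≤ 0 →
      Module.finrank k (Coh.HH X (ClSub.quotMod Z) 0) =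
        (letI := (locHom k U).toAlgebra; Module.finrank k (Γ(X, U) ⧸ J)) →
      Module.finrank k (Coh.HH X (CohB1.tensorMod (ClSub.idealMod Z) (c.twist 1)) 0) +
        Module.finrank k (Coh.HH X (ClSub.quotMod Z) 0) ≤ Module.finrank k (Coh.HH X (c.twist 1) 0))
    (b : Γ(X, U)) :
    ∃ (z : Coh.HH X (c.twist 1) 0) (f : Γ(X, U)),
      f • u = c.sectRes (le_top : U ≤ ⊤) (ProjCoh.H0top (c.twist 1) z) ∧ b - f ∈ J := by
  haveI := Euler.isNoetherian_of_proper (X := X) k
  letI := (locHom k U).toAlgebra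
  haveI : Module.Finite k (Γ(X, U) ⧸ J) := hJ
  obtain ⟨Z, hZd, hZU, hZJ, hlen⟩ := exists_subscheme k hU J hJ
  choose r hr hr' using fun z : Coh.HH X (c.twist 1) 0 =>
    hu (c.sectRes (le_top : U ≤ ⊤) (ProjCoh.H0top (c.twist 1) z))
  let R : Coh.HH X (c.twist 1) 0 →ₗ[k] Γ(X, U) ⧸ J :=
    { toFun := fun z => Ideal.Quotient.mk J (r z)
      map_add' := fun z w => by
        rw [← map_add]
        refine congrArg _ (hr' _ _ ?_).symm
        show (r z + r w) • u = _
        rw [add_smul, hr, hr, map_add (ProjCoh.H0top (c.twist 1))]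
        exact (map_add (c.sectRes _) _ _).symm
      map_smul' := fun a z => by
        rw [RingHom.id_apply, Algebra.smul_def, ← Ideal.Quotient.mk_algebraMap, ← map_mul]
        refine congrArg _ (hr' _ _ ?_).symm
        show (locHom k U a * r z) • u = _
        rw [mul_smul, hr, ProjCoh.H0top_smul]
        exact (c.sectRes_smul _ _ _).symm }
  have hker : LinearMap.ker R ≤ LinearMap.range (Cohom.hhMap k (twistIdealι Z (c.twist 1)) 0) := by
    intro z hz
    exact mem_range_of_annihilated k (c.isInvertible_twist 1) Z z fun x hx =>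
      ⟨U, hZU hx, r z, u, (hr z).symm, hZJ _ (Ideal.Quotient.eq_zero_iff_mem.1 hz)⟩
  haveI := Euler.finiteDimensional_HH k (Euler.isCoh_of_isInvertible (c.isInvertible_twist 1)) 0
  have hI := isCoh_ideal_tensor Z (c.isInvertible_twist 1)
  haveI := Euler.finiteDimensional_HH k hI 0
  have hsur : Function.Surjective R := by
    rw [← LinearMap.range_eq_top]
    refine Submodule.eq_top_of_finrank_eq (le_antisymm (Submodule.finrank_le _) ?_)
    have h1 := R.finrank_range_add_finrank_ker
    have h2 := (Submodule.finrank_mono hker).trans (LinearMap.finrank_range_le _)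
    have h3 := hb Z hZd hlen
    omega
  obtain ⟨z, hz⟩ := hsur (Ideal.Quotient.mk J b)
  exact ⟨z, r z, hr z, Ideal.Quotient.eq.1 hz.symm⟩

end GrothLib.CurveMult
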