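import Groth.Agent.Lib.Ample.ProjExt
import Groth.Agent.Lib.CurveMult.SepCrit
import Groth.Agent.Lib.CurveMult.SepCurve
import Mathlib.AlgebraicGeometry.ZariskisMainTheorem

/-!
# A morphism to projective space separating points and tangent vectors is a closed immersion
-/

set_option linter.style.haveILetI false
set_option backward.isDefEq.respectTransparency false

universe u

open CategoryTheory CategoryTheory.Limits AlgebraicGeometry TopologicalSpace Opposite MvPolynomial
open GrothLib.InvExt (mres IsGen)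
open GrothLib.Ample (res)
open GrothLib.Ample.ProjMap (pcoc pullRatio pullCoord ratio)

noncomputable section

namespace GrothLib.CurveMult.SepImm

/-- The stalk of a module with a generator on `V` is free on the germ of the generator. -/
theorem bijective_smul_germ {X : Scheme.{u}} {M : X.Modules} {V : X.Opens} {e : Γ(M, V)} (he : IsGen M V e) {x : X}
    (hx : x ∈ V) :
    Function.Bijective fun a : X.presheaf.stalk x => a • (show M.presheaf.stalk x from M.presheaf.germ V x hx e) := by
  have hg : ∀ (W : X.Opens) (hxW : x ∈ W) (h : W ≤ V) (r : Γ(X, W)),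
      M.presheaf.germ W x hxW (r • mres M h e) =
        X.presheaf.germ W x hxW r • (show M.presheaf.stalk x from M.presheaf.germ V x hx e) := fun W hxW h r => by
    refine (PresheafOfModules.germ_smul _ x W hxW r _).trans ?_
    exact congrArg (X.presheaf.germ W x hxW r • ·) (M.presheaf.germ_res_apply _ _ _ _)
  refine ⟨?_, fun t => ?_⟩
  · intro a b hab
    obtain ⟨W₁, h₁, a, rfl⟩ := TopCat.Presheaf.exists_germ_eq X.presheaf a
    obtain ⟨W₂, h₂, b, rfl⟩ := TopCat.Presheaf.exists_germ_eq X.presheaf b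
    let W : X.Opens := V ⊓ (W₁ ⊓ W₂)
    have hxW : x ∈ W := ⟨hx, h₁, h₂⟩
    have ha : X.presheaf.germ W x hxW (res (inf_le_right.trans inf_le_left : W ≤ W₁) a) =
        X.presheaf.germ W₁ x h₁ a := X.presheaf.germ_res_apply _ _ _ _
    have hb : X.presheaf.germ W x hxW (res (inf_le_right.trans inf_le_right : W ≤ W₂) b) =
        X.presheaf.germ W₂ x h₂ b := X.presheaf.germ_res_apply _ _ _ _
    dsimp only at hab
    rw [← ha, ← hb] at hab ⊢
    erw [← hg W hxW inf_le_left, ← hg W hxW inf_le_left] at hab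
    obtain ⟨T, hxT, i, i', hT⟩ := TopCat.Presheaf.germ_eq M.presheaf x hxW hxW _ _ hab
    have hT' : mres M i.le (res (inf_le_right.trans inf_le_left : W ≤ W₁) a • mres M (inf_le_left : W ≤ V) e) =
        mres M i.le (res (inf_le_right.trans inf_le_right : W ≤ W₂) b • mres M (inf_le_left : W ≤ V) e) := hT
    rw [Ample.mres_smul', Ample.mres_smul', InvExt.mres_mres] at hT'
    have h := congrArg (X.presheaf.germ T x hxT) ((he T (i.le.trans inf_le_left)).1 hT')
    exact (X.presheaf.germ_res_apply (homOfLE i.le) x hxT _).symm.trans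
      (h.trans (X.presheaf.germ_res_apply (homOfLE i.le) x hxT _))
  · obtain ⟨W, hxW, m, rfl⟩ := TopCat.Presheaf.exists_germ_eq M.presheaf t
    obtain ⟨r, hr⟩ := (he (V ⊓ W) inf_le_left).2 (mres M inf_le_right m)
    have hxVW : x ∈ V ⊓ W := ⟨hx, hxW⟩
    refine ⟨X.presheaf.germ (V ⊓ W) x hxVW r, ?_⟩
    refine (hg _ hxVW inf_le_left r).symm.trans ?_
    exact (congrArg (M.presheaf.germ (V ⊓ W) x hxVW) hr).trans (M.presheaf.germ_res_apply _ _ _ _)

theorem smul_mem_smul_top {A : Type u} [CommRing A] {M : Type u} [AddCommGroup M] [Module A M] {g : M}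
    (hg : Function.Bijective fun a : A => a • g) (I : Ideal A) (a : A) :
    a • g ∈ I • (⊤ : Submodule A M) ↔ a ∈ I := by
  refine ⟨fun h => ?_, fun h => Submodule.smul_mem_smul h trivial⟩
  let e : A ≃ₗ[A] M := LinearEquiv.ofBijective (LinearMap.toSpanSingleton A M g) hg
  have h1 : e.symm (a • g) ∈ (I • (⊤ : Submodule A M)).map e.symm.toLinearMap := ⟨_, h, rfl⟩
  rw [Submodule.map_smul''] at h1
  have h2 : e.symm (a • g) = a := e.injective (by
    rw [e.apply_symm_apply]; rfl)
  rw [h2] at h1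
  exact (Submodule.smul_le.2 fun r hr m _ => I.mul_mem_right m hr) h1

theorem isMaximal_primeIdealOf' {Y : Scheme.{u}} {U : Y.Opens} (hU : IsAffineOpen U) {y : Y} (hyU : y ∈ U)
    (hy : IsClosed ({y} : Set Y)) : (hU.primeIdealOf ⟨y, hyU⟩).asIdeal.IsMaximal := by
  apply (PrimeSpectrum.isClosed_singleton_iff_isMaximal _).mp
  have h := hy.preimage hU.fromSpec.continuous
  have e : hU.fromSpec ⁻¹' {y} = {hU.primeIdealOf ⟨y, hyU⟩} := by
    refine Set.Subset.antisymm (fun p hp => hU.fromSpec.isOpenEmbedding.injective ?_) fun p hp => ?_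
    · rw [hU.fromSpec_primeIdealOf]; exact hp
    · rw [Set.mem_singleton_iff.mp hp]
      exact hU.fromSpec_primeIdealOf ⟨y, hyU⟩
  rw [e] at h
  exact h

variable {X : Scheme.{u}} {k : Type u} [Field k] {n : ℕ} (f : X ⟶ CohB1.ProjSpace n k)

/-- The chart of projective space. -/
abbrev D (j : Fin (n + 1)) : (CohB1.ProjSpace n k).Opens := Proj.basicOpen (CohB1.polyGrading n k) (MvPolynomial.X j)

/-- The constant functions on a chart of projective space. -/
abbrev cD (j : Fin (n + 1)) : k →+* Γ(CohB1.ProjSpace n k, D j) :=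
  (res (le_top : D j ≤ (⊤ : (CohB1.ProjSpace n k).Opens))).comp (ProjUP.toGlobal (CohB1.ProjSpace.toSpec n k))

/-- The ratio `T_l / T_j`. -/
abbrev rat (j l : Fin (n + 1)) : Γ(CohB1.ProjSpace n k, D j) :=
  Proj.awayToSection (CohB1.polyGrading n k) (MvPolynomial.X j) (ratio j l)

/-- The linear form `∑ c_l T_l` divided by `T_j`. -/
def z (j : Fin (n + 1)) (c : Fin (n + 1) → k) : Γ(CohB1.ProjSpace n k, D j) :=
  ∑ l, cD j (c l) * rat j l

/-- The pullback of functions on a chart. -/
abbrev ψ (j : Fin (n + 1)) : Γ(CohB1.ProjSpace n k, D j) →+* Γ(X, f ⁻¹ᵁ D j) := (f.app (D j)).hom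

/-- The linear form divided by `T_j`, pulled back. -/
def ev (j : Fin (n + 1)) (c : Fin (n + 1) → k) : Γ(X, f ⁻¹ᵁ D j) := ψ f j (z j c)

theorem ψ_cD {q : X ⟶ Spec (CommRingCat.of k)} (hf : f ≫ CohB1.ProjSpace.toSpec n k = q) (j : Fin (n + 1)) (c : k) :
    ψ f j (cD j c) = res (le_top : f ⁻¹ᵁ D j ≤ ⊤) (ProjUP.toGlobal q c) := by
  subst hf
  exact (congrArg (fun φ => φ.hom (ProjUP.toGlobal (CohB1.ProjSpace.toSpec n k) c))
    (f.naturality (homOfLE (le_top : D j ≤ ⊤)).op))

theorem awayToSection_cst (j : Fin (n + 1)) (r : k) :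
    Proj.awayToSection (CohB1.polyGrading n k) (MvPolynomial.X j) (Ample.ProjMap.cst (MvPolynomial.X j) r) = cD j r := by
  let P := CohB1.polyGrading n k
  obtain ⟨w, hw⟩ : ∃ w, Proj.awayToSection P (MvPolynomial.X j) w = cD j r :=
    Proj.basicOpenIsoAway_hom P _ (Ample.ProjMap.X_mem j) one_pos ▸
      (ConcreteCategory.bijective_of_isIso
        (Proj.basicOpenIsoAway P _ (Ample.ProjMap.X_mem j) one_pos).hom).2 (cD j r)
  rw [← hw]
  refine congrArg (Proj.awayToSection P (MvPolynomial.X j)).hom ?_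
  let ι := Proj.awayι P (MvPolynomial.X j) (Ample.ProjMap.X_mem j) one_pos
  have e : (⊤ : (Spec (CommRingCat.of (HomogeneousLocalization.Away P (MvPolynomial.X j)))).Opens) ≤ ι ⁻¹ᵁ D j := by
    rw [show D j = ι.opensRange from (Proj.opensRange_awayι P _ _ _).symm, Scheme.Hom.preimage_opensRange]
  have h1 := congrArg (ι.appLE (D j) ⊤ e).hom hw
  rw [Ample.ProjMap.awayι_appLE_awayToSection P (Ample.ProjMap.X_mem j) one_pos w e] at h1
  have h2 : (ι.appLE (D j) ⊤ e).hom (cD j r) = ProjUP.toGlobal (ι ≫ CohB1.ProjSpace.toSpec n k) r := by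
    show (((CohB1.ProjSpace n k).presheaf.map (homOfLE (le_top : D j ≤ ⊤)).op) ≫ ι.appLE (D j) ⊤ e).hom _ = _
    rw [Scheme.Hom.map_appLE]
    have key : ∀ (e' : (⊤ : (Spec (CommRingCat.of (HomogeneousLocalization.Away P (MvPolynomial.X j)))).Opens) ≤
        ι ⁻¹ᵁ ⊤), ι.appLE ⊤ ⊤ e' = ι.appTop := fun e' => by
      rw [Scheme.Hom.appTop, Scheme.Hom.app_eq_appLE]; rfl
    rw [key]
    rfl
  rw [h2, Ample.ProjMap.awayι_toSpec] at h1
  have h3 : ProjUP.toGlobal (Spec.map (CommRingCat.ofHom (Ample.ProjMap.cst (R := k) (MvPolynomial.X j)))) r =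
      (Scheme.ΓSpecIso (.of (HomogeneousLocalization.Away P (MvPolynomial.X j)))).inv
        (Ample.ProjMap.cst (MvPolynomial.X j) r) :=
    (congrArg (fun φ => φ.hom r) (Scheme.ΓSpecIso_inv_naturality
      (CommRingCat.ofHom (Ample.ProjMap.cst (R := k) (MvPolynomial.X j))))).symm
  exact ((ConcreteCategory.bijective_of_isIso _).1 (h1.trans h3)).symm

theorem ψ_ratio (j l : Fin (n + 1)) :
    ψ f j (rat j l) = pullRatio f j l := by
  show (f.app (D j)).hom _ = (f.appLE _ _ le_rfl).hom _
  rw [Scheme.Hom.app_eq_appLE]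

theorem ratio_self (j : Fin (n + 1)) : ratio (R := k) j j = 1 :=
  HomogeneousLocalization.val_injective _ (by
    rw [ratio, HomogeneousLocalization.Away.val_mk, HomogeneousLocalization.val_one, Localization.mk_eq_mk',
      IsLocalization.mk'_eq_iff_eq_mul, one_mul]
    show _ = algebraMap _ _ ((MvPolynomial.X j : MvPolynomial (Fin (n + 1)) k) ^ 1)
    rw [pow_one])

theorem z_single (j l : Fin (n + 1)) (a : k) :
    z j (Pi.single l a) = cD j a * rat j l := by
  classical
  rw [z, Finset.sum_eq_single l (fun b _ hb => by rw [Pi.single_eq_of_ne hb, map_zero, zero_mul])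
    (fun h => absurd (Finset.mem_univ l) h), Pi.single_eq_same]

theorem z_sub (j : Fin (n + 1)) (c c' : Fin (n + 1) → k) : z j (c - c') = z j c - z j c' := by
  unfold z
  rw [← Finset.sum_sub_distrib]
  exact Finset.sum_congr rfl fun l _ => by rw [Pi.sub_apply, map_sub, sub_mul]

theorem z_shift (j l : Fin (n + 1)) (a : k) :
    z j ((Pi.single l 1 : Fin (n + 1) → k) - Pi.single j a) =
      rat j l - cD j a := by
  rw [z_sub, z_single, z_single, map_one, one_mul]
  congr 1
  rw [rat, ratio_self]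
  exact (congrArg (cD j a * ·) (map_one (Proj.awayToSection (CohB1.polyGrading n k) (MvPolynomial.X j)).hom)).trans (mul_one _)

/-- The pullback of `O(1)`. -/
abbrev Lf : X.Modules := (Scheme.Modules.pullback f).obj (Twist.twistProjSpace n k 1)

/-- The linear combination of the pulled back coordinates. -/
abbrev lin (q : X ⟶ Spec (CommRingCat.of k)) (c : Fin (n + 1) → k) : ProjUP.Γm (Lf f) :=
  ∑ l, ProjUP.toGlobal q (c l) • ProjUP.pullSec f (Twist.twistProjSpace n k 1) (ProjUP.coord n k l)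

/-- The germ of the pulled back coordinate. -/
abbrev gen (j : Fin (n + 1)) {P : X} (hP : P ∈ f ⁻¹ᵁ D j) : (Lf f).presheaf.stalk P :=
  (Lf f).presheaf.germ (f ⁻¹ᵁ D j) P hP (mres (Lf f) (le_top : f ⁻¹ᵁ D j ≤ ⊤) (pullCoord f j))

theorem bijective_gen (j : Fin (n + 1)) {P : X} (hP : P ∈ f ⁻¹ᵁ D j) :
    Function.Bijective fun a : X.presheaf.stalk P => a • gen f j hP :=
  bijective_smul_germ (Ample.ProjMap.isGen_pullCoord f ⟨j⟩) hP

theorem germ_lin {q : X ⟶ Spec (CommRingCat.of k)} (hf : f ≫ CohB1.ProjSpace.toSpec n k = q)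
    (c : Fin (n + 1) → k) (j : Fin (n + 1)) {P : X} (hP : P ∈ f ⁻¹ᵁ D j) :
    ((Lf f).presheaf.germ ⊤ P trivial).hom (lin f q c) =
      X.presheaf.germ (f ⁻¹ᵁ D j) P hP (ev f j c) • gen f j hP := by
  rw [lin, map_sum, ev, z, map_sum]
  erw [map_sum, Finset.sum_smul]
  refine Finset.sum_congr rfl fun l _ => ?_
  rw [map_mul, ψ_cD f hf, ψ_ratio, map_mul, mul_smul]
  refine (PresheafOfModules.germ_smul _ P ⊤ trivial _ _).trans ?_
  have h := Ample.ProjMap.mres_pullCoord f ⟨j⟩ l
  have h' := ((Lf f).presheaf.germ_res_apply (homOfLE (le_top : f ⁻¹ᵁ D j ≤ ⊤)) P hP (pullCoord f l)).symm.trans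
    (congrArg ((Lf f).presheaf.germ (f ⁻¹ᵁ D j) P hP) h)
  refine congrArg₂ (· • ·) (X.presheaf.germ_res_apply _ _ _ _).symm (h'.trans ?_)
  exact PresheafOfModules.germ_smul _ P _ hP _ _

/-- Vanishing of the linear form at a point. -/
theorem lin_mem_iff {q : X ⟶ Spec (CommRingCat.of k)} (hf : f ≫ CohB1.ProjSpace.toSpec n k = q)
    (c : Fin (n + 1) → k) (j : Fin (n + 1)) {P : X} (hP : P ∈ f ⁻¹ᵁ D j) :
    ((Lf f).presheaf.germ ⊤ P trivial).hom (lin f q c) ∈
        IsLocalRing.maximalIdeal (X.presheaf.stalk P) • (⊤ : Submodule (X.presheaf.stalk P) ((Lf f).presheaf.stalk P)) ↔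
      f P ∉ (CohB1.ProjSpace n k).basicOpen (z j c) := by
  rw [germ_lin f hf c j hP, smul_mem_smul_top (bijective_gen f j hP)]
  have h : P ∈ X.basicOpen (ev f j c) ↔ f P ∈ (CohB1.ProjSpace n k).basicOpen (z j c) := by
    rw [ev, ψ, ← Scheme.preimage_basicOpen]
    rfl
  rw [← h, IsLocalRing.mem_maximalIdeal, mem_nonunits_iff]
  exact not_congr (Scheme.mem_basicOpen X _ _ hP).symm

section Main

variable [IsAlgClosed k] {q : X ⟶ Spec (CommRingCat.of k)} [IsProper q]

/-- Distinct closed points are separated by a linear form. -/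
abbrev Sep (q : X ⟶ Spec (CommRingCat.of k)) : Prop :=
  ∀ P Q : X, IsClosed ({P} : Set X) → IsClosed ({Q} : Set X) → P ≠ Q →
    ∃ c : Fin (n + 1) → k,
      (((Lf f).presheaf.germ ⊤ P trivial).hom (lin f q c) ∈
          IsLocalRing.maximalIdeal (X.presheaf.stalk P) • (⊤ : Submodule (X.presheaf.stalk P) ((Lf f).presheaf.stalk P)) ∧
        ((Lf f).presheaf.germ ⊤ Q trivial).hom (lin f q c) ∉
          IsLocalRing.maximalIdeal (X.presheaf.stalk Q) • (⊤ : Submodule (X.presheaf.stalk Q) ((Lf f).presheaf.stalk Q))) ∨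
      (((Lf f).presheaf.germ ⊤ Q trivial).hom (lin f q c) ∈
          IsLocalRing.maximalIdeal (X.presheaf.stalk Q) • (⊤ : Submodule (X.presheaf.stalk Q) ((Lf f).presheaf.stalk Q)) ∧
        ((Lf f).presheaf.germ ⊤ P trivial).hom (lin f q c) ∉
          IsLocalRing.maximalIdeal (X.presheaf.stalk P) • (⊤ : Submodule (X.presheaf.stalk P) ((Lf f).presheaf.stalk P)))

/-- The linear forms through a point generate the cotangent space. -/
abbrev Tan (q : X ⟶ Spec (CommRingCat.of k)) : Prop :=
  ∀ P : X, IsClosed ({P} : Set X) →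
    IsLocalRing.maximalIdeal (X.presheaf.stalk P) • (⊤ : Submodule (X.presheaf.stalk P) ((Lf f).presheaf.stalk P)) ≤
      Submodule.span (X.presheaf.stalk P)
          {v | ∃ c : Fin (n + 1) → k, v = ((Lf f).presheaf.germ ⊤ P trivial).hom (lin f q c) ∧
            v ∈ IsLocalRing.maximalIdeal (X.presheaf.stalk P) • (⊤ : Submodule (X.presheaf.stalk P) ((Lf f).presheaf.stalk P))} ⊔
        (IsLocalRing.maximalIdeal (X.presheaf.stalk P) ^ 2 • (⊤ : Submodule (X.presheaf.stalk P) ((Lf f).presheaf.stalk P)))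

variable {f} (hf : f ≫ CohB1.ProjSpace.toSpec n k = q)
include hf

omit [IsAlgClosed k] in
theorem isProper_of_over : IsProper f := by
  haveI := Chow.isProper_toSpec n k
  haveI : IsProper (f ≫ CohB1.ProjSpace.toSpec n k) := by rw [hf]; infer_instance
  exact IsProper.of_comp f (CohB1.ProjSpace.toSpec n k)

omit [IsAlgClosed k] in
theorem isFinite_of_sep (hsep : Sep f q) : IsFinite f := by
  haveI := isProper_of_over hf
  haveI : JacobsonSpace X := LocallyOfFiniteType.jacobsonSpace q
  haveI : JacobsonSpace (CohB1.ProjSpace n k) := by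
    haveI := Chow.isProper_toSpec n k
    exact LocallyOfFiniteType.jacobsonSpace (CohB1.ProjSpace.toSpec n k)
  haveI : LocallyQuasiFinite f := by
    rw [← f.quasiFiniteLocus_eq_top_iff]
    by_contra hne
    obtain ⟨x, hx, hxc⟩ := nonempty_inter_closedPoints (Z := (f.quasiFiniteLocus : Set X)ᶜ)
      (Set.nonempty_compl.2 fun h => hne (TopologicalSpace.Opens.ext (by simpa using h)))
      f.quasiFiniteLocus.isOpen.isClosed_compl.isLocallyClosed
    have hxP : IsClosed ({x} : Set X) := hxc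
    refine hx ?_
    have hfx : IsClosed ({f x} : Set (CohB1.ProjSpace n k)) := by
      rw [← Set.image_singleton]; exact f.isClosedMap _ hxP
    have hsub : f ⁻¹' {f x} = {x} := by
      refine Set.Subset.antisymm (fun y hy => ?_) (fun y hy => by rw [Set.mem_singleton_iff.1 hy]; rfl)
      by_contra hyx
      obtain ⟨y', hy', hyc⟩ := nonempty_inter_closedPoints (Z := closure ({y} : Set X) \ {x})
        ⟨y, subset_closure rfl, hyx⟩ (isClosed_closure.isLocallyClosed.inter hxP.isOpen_compl.isLocallyClosed)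
      have he : f y' = f x := by
        have h1 : y' ∈ f ⁻¹' {f x} := closure_minimal (Set.singleton_subset_iff.2 hy)
          (hfx.preimage f.continuous) hy'.1
        exact h1
      obtain ⟨c, hc⟩ := hsep y' x hyc hxP hy'.2
      obtain ⟨j, hj⟩ := Opens.mem_iSup.mp
        ((Ample.ProjMap.iSup_basicOpen_X n k).ge (Opens.mem_top (f x)))
      have hj' : y' ∈ f ⁻¹ᵁ D j := by show f y' ∈ D j; rw [he]; exact hj
      rw [lin_mem_iff f hf c j hj', lin_mem_iff f hf c j (show x ∈ f ⁻¹ᵁ D j from hj), he] at hc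
      tauto
    show f.QuasiFiniteAt x
    rw [Scheme.Hom.quasiFiniteAt_iff_isOpen_singleton_asFiber]
    haveI : Finite (f.fiber (f x)) := (f.fiberHomeo (f x)).finite_iff.mpr
      (by rw [hsub]; exact inferInstance)
    exact isOpen_discrete _
  exact IsFinite.of_isProper_of_locallyQuasiFinite f

/-- A morphism separating points and tangent vectors is a closed immersion. -/
theorem isClosedImmersion_of_sep (hsep : Sep f q) (htan : Tan f q) : IsClosedImmersion f := by
  haveI := isFinite_of_sep hf hsep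
  haveI : JacobsonSpace X := LocallyOfFiniteType.jacobsonSpace q
  refine (IsZariskiLocalAtTarget.iff_of_iSup_eq_top (P := @IsClosedImmersion) D
    (Ample.ProjMap.iSup_basicOpen_X n k)).2 fun j => ?_
  have hDj : IsAffineOpen (D (k := k) j) :=
    Proj.isAffineOpen_basicOpen (CohB1.polyGrading n k) _ (MvPolynomial.isHomogeneous_X k j) one_pos
  let U : X.Opens := f ⁻¹ᵁ D j
  have hU : IsAffineOpen U := hDj.preimage f
  haveI : IsAffine (D (k := k) j) := hDj
  haveI : IsAffine (f ⁻¹ᵁ D (k := k) j) := hU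
  refine IsClosedImmersion.of_surjective_of_isAffine _ ?_
  letI : X.Over (Spec (CommRingCat.of k)) := ⟨q⟩
  haveI : LocallyOfFiniteType (X ↘ Spec (CommRingCat.of k)) := (inferInstance : LocallyOfFiniteType q)
  letI := (locHom k U).toAlgebra
  haveI : Algebra.FiniteType k Γ(X, U) := finiteType_locHom k hU
  let S : Subalgebra k Γ(X, U) :=
    { (ψ f j).range.toSubsemiring with
      algebraMap_mem' := fun r => ⟨cD j r, ψ_cD f hf j r⟩ }
  letI : Algebra Γ(CohB1.ProjSpace n k, D j) Γ(X, U) := (ψ f j).toAlgebra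
  letI : Algebra Γ(CohB1.ProjSpace n k, D j) S := ((ψ f j).codRestrict S fun w => show ψ f j w ∈ (ψ f j).range from ⟨w, rfl⟩).toAlgebra
  haveI : IsScalarTower Γ(CohB1.ProjSpace n k, D j) S Γ(X, U) := IsScalarTower.of_algebraMap_eq fun _ => rfl
  haveI : Module.Finite Γ(CohB1.ProjSpace n k, D j) Γ(X, U) := f.finite_app _ hDj
  haveI : Module.Finite S Γ(X, U) := Module.Finite.of_restrictScalars_finite Γ(CohB1.ProjSpace n k, D j) S _
  suffices hS : S = ⊤ by
    have hsurj : Function.Surjective (ψ f j) := fun b => by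
      have : b ∈ S := hS ▸ Algebra.mem_top
      exact this
    rw [morphismRestrict_appTop]
    have key : ∀ (V : (CohB1.ProjSpace n k).Opens), V = D j → Function.Surjective (f.app V).hom := by
      rintro _ rfl; exact hsurj
    exact (ConcreteCategory.bijective_of_isIso
      (X.presheaf.map (eqToHom (image_morphismRestrict_preimage f (D j) ⊤)).op)).2.comp (key _ (D j).ι_image_top)
  refine eq_top_of_separates (S := S) k fun J hJ hJ2 b => ?_
  -- the image of `S` in `Γ(X, U) ⧸ J`
  let π : Γ(X, U) →ₗ[k] Γ(X, U) ⧸ J := (Ideal.Quotient.mkₐ k J).toLinearMap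
  suffices hall : (Subalgebra.toSubmodule S).map π = ⊤ by
    obtain ⟨s, hs, hsb⟩ := (Submodule.eq_top_iff'.1 hall) (π b)
    exact ⟨s, hs, Ideal.Quotient.eq.1 hsb.symm⟩
  by_contra hne
  have h1S : π 1 ∈ (Subalgebra.toSubmodule S).map π := ⟨1, S.one_mem, rfl⟩
  haveI : Nontrivial (Γ(X, U) ⧸ J) := by
    by_contra h
    rw [not_nontrivial_iff_subsingleton] at h
    exact hne (Subsingleton.elim _ _)
  have h1ne : π 1 ≠ 0 := by
    show (1 : Γ(X, U) ⧸ J) ≠ 0
    exact one_ne_zero
  -- the image consists of constants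
  have hconst : ∀ s ∈ S, ∃ a : k, s - algebraMap k Γ(X, U) a ∈ J := by
    intro s hs
    have hle : (k ∙ π 1) ≤ (Subalgebra.toSubmodule S).map π := (Submodule.span_singleton_le_iff_mem _ _).2 h1S
    have hlt : Module.finrank k ((Subalgebra.toSubmodule S).map π) < 2 :=
      lt_of_lt_of_le (Submodule.finrank_lt hne) hJ2
    have heq : (k ∙ π 1) = (Subalgebra.toSubmodule S).map π :=
      Submodule.eq_of_le_of_finrank_le hle (by rw [finrank_span_singleton h1ne]; omega)
    obtain ⟨a, ha⟩ := Submodule.mem_span_singleton.1 (heq.ge ⟨s, hs, rfl⟩)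
    refine ⟨a, Ideal.Quotient.eq.1 (ha.symm.trans ?_)⟩
    show a • (Ideal.Quotient.mk J 1) = Ideal.Quotient.mk J (algebraMap k Γ(X, U) a)
    rw [Algebra.algebraMap_eq_smul_one]
    rfl
  have hJne : J ≠ ⊤ := Ideal.Quotient.nontrivial_iff.1 inferInstance
  obtain ⟨m, hm, hJm⟩ := Ideal.exists_le_maximal J hJne
  haveI := hm
  -- closed points and maximal ideals
  have hpt : ∀ m' : Ideal Γ(X, U), ∀ _ : m'.IsMaximal, ∃ (P : X) (hP : P ∈ U), IsClosed ({P} : Set X) ∧
      (hU.primeIdealOf ⟨P, hP⟩).asIdeal = m' := by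
    intro m' hm'
    let x : Spec Γ(X, U) := ⟨m', hm'.isPrime⟩
    have hxU : hU.fromSpec x ∈ U := hU.opensRange_fromSpec.le ⟨x, rfl⟩
    refine ⟨_, hxU, ?_, ?_⟩
    · have hx : IsClosed ({x} : Set (Spec Γ(X, U))) := (PrimeSpectrum.isClosed_singleton_iff_isMaximal _).2 hm'
      exact hU.fromSpec.isOpenEmbedding.preimage_closedPoints.ge hx
    · have : hU.primeIdealOf ⟨_, hxU⟩ = x := hU.fromSpec.isOpenEmbedding.injective (hU.fromSpec_primeIdealOf _)
      rw [this]
  have hval : ∀ (P : X) (hP : P ∈ U) (c : Fin (n + 1) → k),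
      (f P ∉ (CohB1.ProjSpace n k).basicOpen (z j c) ↔ ev f j c ∈ (hU.primeIdealOf ⟨P, hP⟩).asIdeal) := by
    intro P hP c
    have h1 : P ∈ X.basicOpen (ev f j c) ↔ f P ∈ (CohB1.ProjSpace n k).basicOpen (z j c) := by
      rw [ev, ψ, ← Scheme.preimage_basicOpen]; rfl
    have h2 : hU.primeIdealOf ⟨P, hP⟩ ∈ hU.fromSpec ⁻¹ᵁ X.basicOpen (ev f j c) ↔ P ∈ X.basicOpen (ev f j c) := by
      show hU.fromSpec (hU.primeIdealOf ⟨P, hP⟩) ∈ X.basicOpen (ev f j c) ↔ _
      rw [hU.fromSpec_primeIdealOf]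
    rw [hU.fromSpec_preimage_basicOpen] at h2
    rw [← h1, ← h2]
    exact not_not
  have hevS : ∀ c, ev f j c ∈ S := fun c => ⟨z j c, rfl⟩
  have haJ : ∀ (s : Γ(X, U)) (m' : Ideal Γ(X, U)), m'.IsMaximal → J ≤ m' → ∀ a : k,
      s - algebraMap k Γ(X, U) a ∈ J → s ∈ m' → s ∈ J := by
    intro s m' hm' hle a ha hsm
    by_cases ha0 : a = 0
    · simpa [ha0] using ha
    · exfalso
      refine hm'.ne_top (Ideal.eq_top_of_isUnit_mem _ ?_ ((IsUnit.mk0 a ha0).map (algebraMap k Γ(X, U))))
      have := m'.sub_mem hsm (hle ha)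
      rwa [sub_sub_cancel] at this
  by_cases huniq : ∀ m' : Ideal Γ(X, U), m'.IsMaximal → J ≤ m' → m' = m
  · -- one point: tangent vectors
    obtain ⟨P, hP, hPc, hPm⟩ := hpt m hm
    have hm2 : m ^ 2 ≤ J := by
      rw [pow_two, Ideal.mul_le]
      intro x hx y hy
      by_cases hJeq : m ≤ J
      · exact J.mul_mem_right _ (hJeq hx)
      · obtain ⟨t, htm, htJ⟩ := SetLike.not_le_iff_exists.1 hJeq
        have hspan : ∀ w : Γ(X, U), ∃ a b : k, w - algebraMap k Γ(X, U) a - algebraMap k Γ(X, U) b * t ∈ J := by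
          intro w
          have hind : LinearIndependent k ![π 1, π t] := by
            rw [LinearIndependent.pair_iff]
            intro a b hab
            have h : algebraMap k Γ(X, U) a + algebraMap k Γ(X, U) b * t ∈ J := by
              refine Ideal.Quotient.eq_zero_iff_mem.1 (Eq.trans ?_ hab)
              show Ideal.Quotient.mk J _ = a • Ideal.Quotient.mk J 1 + b • Ideal.Quotient.mk J t
              rw [map_add, Algebra.algebraMap_eq_smul_one, ← Algebra.smul_def]
              rfl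
            have ha : a = 0 := by
              by_contra ha
              refine hm.ne_top (Ideal.eq_top_of_isUnit_mem _ ?_ ((IsUnit.mk0 a ha).map (algebraMap k Γ(X, U))))
              simpa using m.sub_mem (hJm h) (m.mul_mem_left (algebraMap k Γ(X, U) b) htm)
            refine ⟨ha, ?_⟩
            by_contra hb
            rw [ha, map_zero, zero_add] at h
            exact htJ (by simpa [← mul_assoc, ← map_mul, hb] using J.mul_mem_left (algebraMap k Γ(X, U) b⁻¹) h)
          have htop : Submodule.span k (Set.range ![π 1, π t]) = ⊤ :=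
            Submodule.eq_top_of_finrank_eq (le_antisymm (Submodule.finrank_le _)
              (hJ2.trans (finrank_span_eq_card hind).ge |>.trans (le_of_eq rfl)))
          obtain ⟨cf, hcf⟩ := Submodule.mem_span_range_iff_exists_fun k |>.1 (htop.ge (Submodule.mem_top (x := π w)))
          refine ⟨cf 0, cf 1, ?_⟩
          rw [Fin.sum_univ_two] at hcf
          refine Ideal.Quotient.eq_zero_iff_mem.1 ?_
          rw [map_sub, map_sub, sub_sub, sub_eq_zero]
          refine hcf.symm.trans ?_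
          show cf 0 • Ideal.Quotient.mk J 1 + cf 1 • Ideal.Quotient.mk J t = _
          rw [Algebra.algebraMap_eq_smul_one, ← Algebra.smul_def]
          rfl
        have hmt : ∀ w ∈ m, ∃ b : k, w - algebraMap k Γ(X, U) b * t ∈ J := by
          intro w hw
          obtain ⟨a, b, hab⟩ := hspan w
          have hwb : w - algebraMap k Γ(X, U) b * t - algebraMap k Γ(X, U) a ∈ J := by rwa [sub_right_comm]
          exact ⟨b, haJ _ m hm hJm a hwb (m.sub_mem hw (m.mul_mem_left _ htm))⟩
        obtain ⟨e, he⟩ := hmt (t * t) (m.mul_mem_left _ htm)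
        have ht2 : t * t ∈ J := by
          by_cases he0 : e = 0
          · simpa [he0] using he
          · exfalso
            have h0 : t * (t - algebraMap k Γ(X, U) e) ∈ J := by rwa [mul_sub, mul_comm t (algebraMap k Γ(X, U) e)]
            have hu : J ⊔ Ideal.span {t - algebraMap k Γ(X, U) e} = ⊤ := by
              by_contra hne'
              obtain ⟨m', hm', hle⟩ := Ideal.exists_le_maximal _ hne'
              have := huniq m' hm' (le_sup_left.trans hle)
              subst this
              have h1 : algebraMap k Γ(X, U) e ∈ m' := by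
                simpa using m'.sub_mem htm (hle (Submodule.mem_sup_right (Ideal.mem_span_singleton_self _)))
              exact hm'.ne_top (Ideal.eq_top_of_isUnit_mem _ h1 ((IsUnit.mk0 e he0).map _))
            obtain ⟨u, hu1, v, hv, huv⟩ := Submodule.mem_sup.1 ((Ideal.eq_top_iff_one _).1 hu)
            obtain ⟨v', rfl⟩ := Ideal.mem_span_singleton'.1 hv
            refine htJ ?_
            have : t = u * t + v' * (t * (t - algebraMap k Γ(X, U) e)) := by
              linear_combination -t * huv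
            rw [this]
            exact J.add_mem (J.mul_mem_right _ hu1) (J.mul_mem_left _ h0)
        obtain ⟨b₁, hb₁⟩ := hmt x hx
        obtain ⟨b₂, hb₂⟩ := hmt y hy
        have : x * y = (x - algebraMap k Γ(X, U) b₁ * t) * y +
            algebraMap k Γ(X, U) b₁ * t * (y - algebraMap k Γ(X, U) b₂ * t) +
            algebraMap k Γ(X, U) b₁ * algebraMap k Γ(X, U) b₂ * (t * t) := by ring
        rw [this]
        exact J.add_mem (J.add_mem (J.mul_mem_right _ hb₁) (J.mul_mem_left _ hb₂)) (J.mul_mem_left _ ht2)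
    letI : Algebra Γ(X, U) (X.presheaf.stalk P) := (X.presheaf.germ U P hP).hom.toAlgebra
    haveI : IsLocalization.AtPrime (X.presheaf.stalk P) m := by
      show IsLocalization m.primeCompl _
      have e : m.primeCompl = (hU.primeIdealOf ⟨P, hP⟩).asIdeal.primeCompl := by
        ext t; show t ∉ m ↔ t ∉ _; rw [hPm]; rfl
      rw [e]
      exact hU.isLocalization_stalk ⟨P, hP⟩
    have hmax : m.map (algebraMap Γ(X, U) (X.presheaf.stalk P)) = IsLocalRing.maximalIdeal _ :=
      IsLocalization.AtPrime.map_eq_maximalIdeal m _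
    have hJeq : m ≤ J := by
      intro x hx
      have hx' : algebraMap Γ(X, U) (X.presheaf.stalk P) x ∈ IsLocalRing.maximalIdeal _ :=
        hmax ▸ Ideal.mem_map_of_mem _ hx
      have hmem := htan P hPc ((smul_mem_smul_top (bijective_gen f j hP) _ _).2 hx')
      have hle : Submodule.span (X.presheaf.stalk P)
          {v | ∃ c : Fin (n + 1) → k, v = ((Lf f).presheaf.germ ⊤ P trivial).hom (lin f q c) ∧
            v ∈ IsLocalRing.maximalIdeal (X.presheaf.stalk P) • (⊤ : Submodule (X.presheaf.stalk P) ((Lf f).presheaf.stalk P))} ⊔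
          (IsLocalRing.maximalIdeal (X.presheaf.stalk P) ^ 2 • (⊤ : Submodule (X.presheaf.stalk P) ((Lf f).presheaf.stalk P))) ≤
          (J.map (algebraMap Γ(X, U) (X.presheaf.stalk P))) •
            (⊤ : Submodule (X.presheaf.stalk P) ((Lf f).presheaf.stalk P)) := by
        refine sup_le (Submodule.span_le.2 ?_) (Submodule.smul_mono_left ?_)
        · rintro _ ⟨c, rfl, hc⟩
          rw [lin_mem_iff f hf c j hP, hval P hP c, hPm] at hc
          obtain ⟨a, ha⟩ := hconst _ (hevS c)
          rw [SetLike.mem_coe, germ_lin f hf c j hP]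
          exact Submodule.smul_mem_smul (Ideal.mem_map_of_mem (algebraMap Γ(X, U) (X.presheaf.stalk P))
            (haJ _ m hm hJm a ha hc)) trivial
        · rw [← hmax, ← Ideal.map_pow]
          exact Ideal.map_mono hm2
      have h3 := (smul_mem_smul_top (bijective_gen f j hP) _ _).1 (hle hmem)
      obtain ⟨⟨⟨u, huJ⟩, ⟨s, hs⟩⟩, hus⟩ := (IsLocalization.mem_map_algebraMap_iff m.primeCompl (X.presheaf.stalk P)).1 h3
      rw [← map_mul] at hus
      obtain ⟨⟨w, hw⟩, hwe⟩ := (IsLocalization.eq_iff_exists m.primeCompl (X.presheaf.stalk P)).1 hus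
      have hxJ : w * s * x ∈ J := by
        rw [mul_assoc, mul_comm s x]
        exact hwe ▸ J.mul_mem_left w huJ
      obtain ⟨a, ha⟩ := exists_sub_mem_of_isMaximal k m (w * s)
      have ha0 : a ≠ 0 := fun h => (m.primeCompl.mul_mem hw hs : w * s ∈ m.primeCompl) (by simpa [h] using ha)
      have h4 : algebraMap k Γ(X, U) a * x ∈ J := by
        have := J.sub_mem hxJ (hm2 (by rw [pow_two]; exact Ideal.mul_mem_mul ha hx))
        rwa [sub_mul, sub_sub_cancel] at this
      simpa [← mul_assoc, ← map_mul, ha0] using J.mul_mem_left (algebraMap k Γ(X, U) a⁻¹) h4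
    refine hne (Submodule.eq_top_iff'.2 fun w => ?_)
    obtain ⟨w, rfl⟩ := Ideal.Quotient.mk_surjective w
    obtain ⟨a, ha⟩ := exists_sub_mem_of_isMaximal k m w
    exact ⟨algebraMap k Γ(X, U) a, S.algebraMap_mem a, (Ideal.Quotient.eq.2 (hJeq ha)).symm⟩
  · push Not at huniq
    obtain ⟨m', hm', hJm', hne'⟩ := huniq
    obtain ⟨P, hP, hPc, hPm⟩ := hpt m hm
    obtain ⟨Q, hQ, hQc, hQm⟩ := hpt m' hm'
    have hPQ : P ≠ Q := by rintro rfl; exact hne' (hQm.symm.trans hPm)
    obtain ⟨c, hc⟩ := hsep P Q hPc hQc hPQ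
    rw [lin_mem_iff f hf c j hP, lin_mem_iff f hf c j hQ, hval P hP c, hval Q hQ c, hPm, hQm] at hc
    obtain ⟨a, ha⟩ := hconst _ (hevS c)
    rcases hc with ⟨h1, h2⟩ | ⟨h1, h2⟩
    · exact h2 (hJm' (haJ _ m hm hJm a ha h1))
    · exact h2 (hJm (haJ _ m' hm' hJm' a ha h1))

omit [IsAlgClosed k] in
/-- A closed immersion separates points. -/
theorem sep_of_isClosedImmersion [IsClosedImmersion f] [IsAlgClosed k] {P Q : X} (hPc : IsClosed ({P} : Set X))
    (hQc : IsClosed ({Q} : Set X)) (hPQ : P ≠ Q) :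
    ∃ c : Fin (n + 1) → k,
      ((Lf f).presheaf.germ ⊤ P trivial).hom (lin f q c) ∈
          IsLocalRing.maximalIdeal (X.presheaf.stalk P) • (⊤ : Submodule (X.presheaf.stalk P) ((Lf f).presheaf.stalk P)) ∧
        ((Lf f).presheaf.germ ⊤ Q trivial).hom (lin f q c) ∉
          IsLocalRing.maximalIdeal (X.presheaf.stalk Q) • (⊤ : Submodule (X.presheaf.stalk Q) ((Lf f).presheaf.stalk Q)) := by
  classical
  obtain ⟨j, hj⟩ := Opens.mem_iSup.mp ((Ample.ProjMap.iSup_basicOpen_X n k).ge (Opens.mem_top (f Q)))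
  by_cases hPj : f P ∈ D (k := k) j
  · have hne : f P ≠ f Q := fun h => hPQ (f.injective h)
    letI : X.Over (Spec (CommRingCat.of k)) := ⟨q⟩
    haveI : LocallyOfFiniteType (X ↘ Spec (CommRingCat.of k)) := (inferInstance : LocallyOfFiniteType q)
    haveI := Chow.isProper_toSpec n k
    letI : (CohB1.ProjSpace n k).Over (Spec (CommRingCat.of k)) := ⟨CohB1.ProjSpace.toSpec n k⟩
    haveI : LocallyOfFiniteType ((CohB1.ProjSpace n k) ↘ Spec (CommRingCat.of k)) :=
      (inferInstance : LocallyOfFiniteType (CohB1.ProjSpace.toSpec n k))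
    have hDj : IsAffineOpen (D (k := k) j) :=
      Proj.isAffineOpen_basicOpen (CohB1.polyGrading n k) _ (MvPolynomial.isHomogeneous_X k j) one_pos
    letI := (locHom (X := CohB1.ProjSpace n k) k (D j)).toAlgebra
    haveI : Algebra.FiniteType k Γ(CohB1.ProjSpace n k, D j) := finiteType_locHom k hDj
    have hmax : ∀ {R : X} (hR : IsClosed ({R} : Set X)) (hRj : f R ∈ D (k := k) j),
        (hDj.primeIdealOf ⟨f R, hRj⟩).asIdeal.IsMaximal := fun hR hRj =>
      isMaximal_primeIdealOf' hDj hRj (by rw [← Set.image_singleton]; exact f.isClosedMap _ hR)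
    have h1 := hmax hPc hPj
    have h2 := hmax hQc hj
    let p := (hDj.primeIdealOf ⟨f P, hPj⟩).asIdeal
    let p' := (hDj.primeIdealOf ⟨f Q, hj⟩).asIdeal
    have hpne : p ≠ p' := fun h => hne (by
      have h' : hDj.primeIdealOf ⟨f P, hPj⟩ = hDj.primeIdealOf ⟨f Q, hj⟩ := PrimeSpectrum.ext h
      have := congrArg (fun t => hDj.fromSpec t) h'
      simpa [IsAffineOpen.fromSpec_primeIdealOf] using this)
    have hmem : ∀ {R : CohB1.ProjSpace n k} (hR : R ∈ D (k := k) j) (w : Γ(CohB1.ProjSpace n k, D j)),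
        R ∉ (CohB1.ProjSpace n k).basicOpen w ↔ w ∈ (hDj.primeIdealOf ⟨R, hR⟩).asIdeal := by
      intro R hR w
      have h2 : hDj.primeIdealOf ⟨R, hR⟩ ∈ hDj.fromSpec ⁻¹ᵁ (CohB1.ProjSpace n k).basicOpen w ↔
          R ∈ (CohB1.ProjSpace n k).basicOpen w := by
        show hDj.fromSpec (hDj.primeIdealOf ⟨R, hR⟩) ∈ (CohB1.ProjSpace n k).basicOpen w ↔ _
        rw [hDj.fromSpec_primeIdealOf]
      rw [hDj.fromSpec_preimage_basicOpen] at h2
      rw [← h2]
      exact not_not
    choose a ha using fun l => exists_sub_mem_of_isMaximal k p (rat (k := k) j l)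
    obtain ⟨l, hl⟩ : ∃ l, rat (k := k) j l - cD j (a l) ∉ p' := by
      by_contra hall
      push Not at hall
      refine hpne (h1.eq_of_le h2.ne_top fun w hw => ?_)
      have key : ∀ w : Γ(CohB1.ProjSpace n k, D j), ∃ b : k, w - cD j b ∈ p ⊓ p' := by
        intro w
        obtain ⟨w₀, rfl⟩ : ∃ w₀, Proj.awayToSection (CohB1.polyGrading n k) (MvPolynomial.X j) w₀ = w :=
          Proj.basicOpenIsoAway_hom (CohB1.polyGrading n k) _ (Ample.ProjMap.X_mem j) one_pos ▸
            (ConcreteCategory.bijective_of_isIso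
              (Proj.basicOpenIsoAway (CohB1.polyGrading n k) _ (Ample.ProjMap.X_mem j) one_pos).hom).2 w
        obtain ⟨g, rfl⟩ := Ample.ProjMap.exists_eval_ratio j w₀
        induction g using MvPolynomial.induction_on with
        | C r =>
          refine ⟨r, ?_⟩
          rw [MvPolynomial.eval₂Hom_C, awayToSection_cst j r, sub_self]
          exact zero_mem _
        | add g g' hg hg' =>
          obtain ⟨b, hb⟩ := hg
          obtain ⟨b', hb'⟩ := hg'
          refine ⟨b + b', ?_⟩
          rw [map_add, map_add, map_add, add_sub_add_comm]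
          exact add_mem hb hb'
        | mul_X g l hg =>
          obtain ⟨b, hb⟩ := hg
          refine ⟨b * a l, ?_⟩
          rw [map_mul, map_mul, map_mul, MvPolynomial.eval₂Hom_X']
          have : ∀ (u v u' v' : Γ(CohB1.ProjSpace n k, D j)), u * v - u' * v' = (u - u') * v + u' * (v - v') :=
            fun u v u' v' => by ring
          rw [this]
          exact add_mem (Ideal.mul_mem_right _ _ hb) (Ideal.mul_mem_left _ _ ⟨ha l, hall l⟩)
      obtain ⟨b, hb⟩ := key w
      have hb0 : b = 0 := by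
        by_contra hb0
        refine h1.ne_top (Ideal.eq_top_of_isUnit_mem _ ?_ ((IsUnit.mk0 b hb0).map (cD (k := k) j)))
        have := p.sub_mem hw hb.1
        rwa [sub_sub_cancel] at this
      simpa [hb0] using hb.2
    refine ⟨(Pi.single l 1 : Fin (n + 1) → k) - Pi.single j (a l), ?_, ?_⟩
    · rw [lin_mem_iff f hf _ j (show P ∈ f ⁻¹ᵁ D j from hPj), z_shift, hmem hPj]
      exact ha l
    · rw [lin_mem_iff f hf _ j (show Q ∈ f ⁻¹ᵁ D j from hj), z_shift, hmem hj]
      exact hl
  · refine ⟨Pi.single j 1, ?_, ?_⟩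
    · obtain ⟨i, hi⟩ := Opens.mem_iSup.mp ((Ample.ProjMap.iSup_basicOpen_X n k).ge (Opens.mem_top (f P)))
      rw [lin_mem_iff f hf _ i (show P ∈ f ⁻¹ᵁ D i from hi), z_single, map_one, one_mul]
      intro h
      refine hPj ?_
      refine Ample.ProjMap.basicOpen_pullRatio_le (𝟙 _) i j ?_
      show f P ∈ (CohB1.ProjSpace n k).basicOpen (pullRatio (𝟙 _) i j)
      rw [← ψ_ratio (𝟙 _) i j]
      exact h
    · rw [lin_mem_iff f hf _ j (show Q ∈ f ⁻¹ᵁ D j from hj), z_single, map_one, one_mul, not_not, rat, ratio_self]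
      have h1 : Proj.awayToSection (CohB1.polyGrading n k) (MvPolynomial.X j) (1 : HomogeneousLocalization.Away (CohB1.polyGrading n k) (MvPolynomial.X j)) = 1 :=
        map_one (Proj.awayToSection (CohB1.polyGrading n k) (MvPolynomial.X j)).hom
      rw [h1, Scheme.basicOpen_of_isUnit _ isUnit_one]
      exact hj

omit [IsAlgClosed k] in
/-- At a closed point of a closed immersion the linear forms through the point generate the maximal ideal. -/
theorem tan_of_isClosedImmersion [IsClosedImmersion f] [IsAlgClosed k] {P : X} (hPc : IsClosed ({P} : Set X)) :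
    IsLocalRing.maximalIdeal (X.presheaf.stalk P) • (⊤ : Submodule (X.presheaf.stalk P) ((Lf f).presheaf.stalk P)) ≤
      Submodule.span (X.presheaf.stalk P)
          {v | ∃ c : Fin (n + 1) → k, v = ((Lf f).presheaf.germ ⊤ P trivial).hom (lin f q c) ∧
            v ∈ IsLocalRing.maximalIdeal (X.presheaf.stalk P) • (⊤ : Submodule (X.presheaf.stalk P) ((Lf f).presheaf.stalk P))} := by
  classical
  obtain ⟨j, hj⟩ := Opens.mem_iSup.mp ((Ample.ProjMap.iSup_basicOpen_X n k).ge (Opens.mem_top (f P)))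
  haveI := Chow.isProper_toSpec n k
  letI : (CohB1.ProjSpace n k).Over (Spec (CommRingCat.of k)) := ⟨CohB1.ProjSpace.toSpec n k⟩
  haveI : LocallyOfFiniteType ((CohB1.ProjSpace n k) ↘ Spec (CommRingCat.of k)) :=
    (inferInstance : LocallyOfFiniteType (CohB1.ProjSpace.toSpec n k))
  have hDj : IsAffineOpen (D (k := k) j) :=
    Proj.isAffineOpen_basicOpen (CohB1.polyGrading n k) _ (MvPolynomial.isHomogeneous_X k j) one_pos
  letI := (locHom (X := CohB1.ProjSpace n k) k (D j)).toAlgebra
  haveI : Algebra.FiniteType k Γ(CohB1.ProjSpace n k, D j) := finiteType_locHom k hDj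
  let p := (hDj.primeIdealOf ⟨f P, hj⟩).asIdeal
  haveI hp : p.IsMaximal :=
    isMaximal_primeIdealOf' hDj hj (by rw [← Set.image_singleton]; exact f.isClosedMap _ hPc)
  choose a ha using fun l => exists_sub_mem_of_isMaximal k p (rat (k := k) j l)
  let I : Ideal Γ(CohB1.ProjSpace n k, D j) := Ideal.span (Set.range fun l => rat j l - cD j (a l))
  have key : ∀ w : Γ(CohB1.ProjSpace n k, D j), ∃ b : k, w - cD j b ∈ I := by
    intro w
    obtain ⟨w₀, rfl⟩ : ∃ w₀, Proj.awayToSection (CohB1.polyGrading n k) (MvPolynomial.X j) w₀ = w :=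
      Proj.basicOpenIsoAway_hom (CohB1.polyGrading n k) _ (Ample.ProjMap.X_mem j) one_pos ▸
        (ConcreteCategory.bijective_of_isIso
          (Proj.basicOpenIsoAway (CohB1.polyGrading n k) _ (Ample.ProjMap.X_mem j) one_pos).hom).2 w
    obtain ⟨g, rfl⟩ := Ample.ProjMap.exists_eval_ratio j w₀
    induction g using MvPolynomial.induction_on with
    | C r =>
      refine ⟨r, ?_⟩
      rw [MvPolynomial.eval₂Hom_C, awayToSection_cst j r, sub_self]
      exact zero_mem _
    | add g g' hg hg' =>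
      obtain ⟨b, hb⟩ := hg
      obtain ⟨b', hb'⟩ := hg'
      refine ⟨b + b', ?_⟩
      rw [map_add, map_add, map_add, add_sub_add_comm]
      exact add_mem hb hb'
    | mul_X g l hg =>
      obtain ⟨b, hb⟩ := hg
      refine ⟨b * a l, ?_⟩
      rw [map_mul, map_mul, map_mul, MvPolynomial.eval₂Hom_X']
      have : ∀ (u v u' v' : Γ(CohB1.ProjSpace n k, D j)), u * v - u' * v' = (u - u') * v + u' * (v - v') :=
        fun u v u' v' => by ring
      rw [this]
      exact add_mem (Ideal.mul_mem_right _ _ hb) (Ideal.mul_mem_left _ _ (Ideal.subset_span ⟨l, rfl⟩))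
  have hIp : I ≤ p := Ideal.span_le.2 (by rintro _ ⟨l, rfl⟩; exact ha l)
  have hpI : p ≤ I := fun w hw => by
    obtain ⟨b, hb⟩ := key w
    have hb0 : b = 0 := by
      by_contra hb0
      refine hp.ne_top (Ideal.eq_top_of_isUnit_mem _ ?_ ((IsUnit.mk0 b hb0).map (cD (k := k) j)))
      have := p.sub_mem hw (hIp hb)
      rwa [sub_sub_cancel] at this
    simpa [hb0] using hb
  letI : Algebra Γ(CohB1.ProjSpace n k, D j) ((CohB1.ProjSpace n k).presheaf.stalk (f P)) :=
    ((CohB1.ProjSpace n k).presheaf.germ (D j) (f P) hj).hom.toAlgebra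
  haveI : IsLocalization.AtPrime ((CohB1.ProjSpace n k).presheaf.stalk (f P)) p := hDj.isLocalization_stalk ⟨f P, hj⟩
  let φ := (f.stalkMap P).hom
  have hφ : Function.Surjective φ := f.stalkMap_surjective P
  have hmax : IsLocalRing.maximalIdeal (X.presheaf.stalk P) ≤
      ((I.map (algebraMap _ ((CohB1.ProjSpace n k).presheaf.stalk (f P)))).map φ) := by
    intro b hb
    obtain ⟨b₀, rfl⟩ := hφ b
    have hb₀ : b₀ ∈ IsLocalRing.maximalIdeal _ := (IsLocalRing.mem_maximalIdeal _).2 fun h =>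
      (IsLocalRing.mem_maximalIdeal _).1 hb (h.map φ)
    refine Ideal.mem_map_of_mem φ ?_
    rw [← IsLocalization.AtPrime.map_eq_maximalIdeal p] at hb₀
    exact Ideal.map_mono hpI hb₀
  refine Submodule.smul_le.2 fun r hr v _ => ?_
  obtain ⟨e, rfl⟩ := (bijective_gen f j (show P ∈ f ⁻¹ᵁ D j from hj)).2 v
  dsimp only
  rw [← mul_smul]
  have hre : r * e ∈ (I.map (algebraMap _ ((CohB1.ProjSpace n k).presheaf.stalk (f P)))).map φ :=
    hmax (Ideal.mul_mem_right _ _ hr)
  let M : Submodule (X.presheaf.stalk P) (X.presheaf.stalk P) := (Submodule.span (X.presheaf.stalk P)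
      {v | ∃ c : Fin (n + 1) → k, v = ((Lf f).presheaf.germ ⊤ P trivial).hom (lin f q c) ∧
        v ∈ IsLocalRing.maximalIdeal (X.presheaf.stalk P) • (⊤ : Submodule (X.presheaf.stalk P) ((Lf f).presheaf.stalk P))}).comap
    (LinearMap.toSpanSingleton _ _ (gen f j (show P ∈ f ⁻¹ᵁ D j from hj)))
  suffices hle : (I.map (algebraMap _ ((CohB1.ProjSpace n k).presheaf.stalk (f P)))).map φ ≤ M from hle hre
  rw [Ideal.map_map, Ideal.map_span, Ideal.span_le]
  rintro _ ⟨_, ⟨l, rfl⟩, rfl⟩
  refine Submodule.subset_span ⟨(Pi.single l 1 : Fin (n + 1) → k) - Pi.single j (a l), ?_, ?_⟩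
  · rw [germ_lin f hf _ j (show P ∈ f ⁻¹ᵁ D j from hj), LinearMap.toSpanSingleton_apply, ev, z_shift]
    refine congrArg (· • gen f j (show P ∈ f ⁻¹ᵁ D j from hj)) ?_
    exact congrArg (fun χ => χ.hom (rat j l - cD j (a l))) (f.germ_stalkMap (D j) P hj)
  · rw [LinearMap.toSpanSingleton_apply]
    refine Submodule.smul_mem_smul ?_ trivial
    rw [IsLocalRing.mem_maximalIdeal]
    intro hu
    have h1 : IsUnit (algebraMap _ ((CohB1.ProjSpace n k).presheaf.stalk (f P)) (rat j l - cD j (a l))) :=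
      isUnit_of_map_unit φ _ hu
    exact ((IsLocalization.AtPrime.isUnit_to_map_iff _ p _).1 h1) (ha l)


end Main

end GrothLib.CurveMult.SepImm
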