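import Groth.Agent.Lib.FunFld.SeparablePlaces
import Groth.Agent.Lib.FunFld.Conorm
import Groth.Agent.Lib.FunFld.RR
import Groth.Agent.Lib.CurveMult.InsepTwistGen
import Mathlib.GroupTheory.CosetCover

/-!
# Separable places of small degree: the function field part
-/

set_option autoImplicit false
set_option linter.style.haveILetI false

namespace GrothLib.CurveMult.SepPointFF

open _root_.FunFld WithZero Polynomial GrothLib.FunFld
open IntermediateField (adjoin mem_adjoin_simple_self)

universe u

variable {k K : Type u} [Field k] [Field K] [Algebra k K]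

/-- For a separating element `x`, almost every zero of every `x - c` has separable residue field. -/
theorem finite_bad_zeros (h : IsFG k K) {x : K} (hx : Transcendental k x)
    (hsep : Algebra.IsSeparable (adjoin k ({x} : Set K)) K) :
    ∃ B' : Set (Place k K), B'.Finite ∧ ∀ Q : Place k K, Q ∉ B' → ∀ c : k,
      0 < Q.ord (x - algebraMap k K c) → Algebra.IsSeparable k (IsLocalRing.ResidueField Q.O) := by
  classical
  set L := adjoin k ({x} : Set K)
  haveI : FiniteDimensional L K := h.finiteDimensional_adjoin hx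
  have hL : IsFG k L := by
    refine ⟨⟨x, mem_adjoin_simple_self k x⟩, fun ha => hx (ha.algHom L.val), ?_⟩
    have : adjoin k ({(⟨x, mem_adjoin_simple_self k x⟩ : L)} : Set L) = ⊤ := by
      apply IntermediateField.map_injective L.val
      rw [IntermediateField.adjoin_map, Set.image_singleton, ← AlgHom.fieldRange_eq_map,
        IntermediateField.fieldRange_val]
      rfl
    rw [this]
    exact Module.Finite.of_surjective (Algebra.linearMap (⊤ : IntermediateField k L) L)
      fun z => ⟨⟨z, trivial⟩, rfl⟩
  obtain ⟨y, B, hB, hgood⟩ := exists_finite_good (k := k) K hL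
  refine ⟨_, hB.biUnion fun P _ => (sum_ramIdx (K' := K) hL P).1, fun Q hQB c hord => ?_⟩
  let p : k[X] := X - C c
  have hm : p.Monic := monic_X_sub_C c
  have hsepp : p.Separable := separable_X_sub_C
  replace hord : 0 < Q.ord (aeval x p) := by simpa [p] using hord
  obtain ⟨P, e, -, he⟩ := exists_isOverWith (K := L) Q
  have hPB : P ∉ B := fun hPB => hQB (Set.mem_biUnion hPB ⟨e, he⟩)
  obtain ⟨-, hy, f, hf0, hf', hgen⟩ := hgood P hPB Q e he
  have h0 : aeval x p ≠ 0 := fun h0 => by rw [h0, ord_zero] at hord; exact lt_irrefl _ hord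
  have hplt : val Q (aeval x p) < 1 := (val_lt_one_iff Q h0).mpr hord
  have hxQ : x ∈ Q.O := not_lt.mp fun hc =>
    not_le.mpr hplt (val_aeval_lt_one_pole Q hc p hm)
  set xb := res Q ⟨x, hxQ⟩ with hxb
  have hxbp : aeval xb p = 0 := by
    rw [hxb, aeval_algHom_apply]
    refine (res_eq_zero_iff Q _).mpr ?_
    have : ((aeval (⟨x, hxQ⟩ : Q.O) p : Q.O) : K) = aeval x p :=
      (aeval_algHom_apply (incO Q) (⟨x, hxQ⟩ : Q.O) p).symm
    rw [this]; exact hplt
  have hxsep : IsSeparable k xb := hsepp.of_dvd (minpoly.dvd k xb hxbp)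
  set yb := res Q ⟨y, hy⟩
  have hint : ∀ z : IsLocalRing.ResidueField Q.O, IsIntegral k z := fun z => by
    have hfin : @Module.Finite k (IsLocalRing.ResidueField Q.O) _ _ Algebra.toModule := h.finite_residueField Q
    exact @IsIntegral.of_finite k (IsLocalRing.ResidueField Q.O) _ _ _ hfin z
  haveI : Algebra.IsAlgebraic k (IsLocalRing.ResidueField Q.O) := ⟨fun z => (hint z).isAlgebraic⟩
  set T := adjoin k ({xb} : Set (IsLocalRing.ResidueField Q.O))
  have hbase : ∀ a, resBelow he a ∈ T := by
    intro a
    obtain ⟨c, rfl⟩ := IsLocalRing.residue_surjective a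
    obtain ⟨num, den, hcd⟩ := IntermediateField.mem_adjoin_simple_iff k ((c : L) : K) |>.mp (c : L).2
    have hcQ : ((c : L) : K) ∈ Q.O := (inclBelow he c).2
    rw [resBelow_residue]
    show res Q ⟨((c : L) : K), hcQ⟩ ∈ T
    rcases eq_or_ne (aeval x den) 0 with hd0 | hd0
    · rw [show (⟨((c : L) : K), hcQ⟩ : Q.O) = 0 from Subtype.ext (by rw [hcd, hd0, div_zero]; rfl), map_zero]
      exact zero_mem _
    have hden : den ≠ 0 := fun h0 => hd0 (by rw [h0, map_zero])
    obtain ⟨g, num', den', hg, rfl, rfl⟩ : ∃ g num' den', IsCoprime num' den' ∧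
        num = g * num' ∧ den = g * den' := by
      obtain ⟨n', d', hn, hd, hcop⟩ := extract_gcd num den
      exact ⟨gcd num den, n', d', (gcd_isUnit_iff _ _).mp hcop, hn, hd⟩
    rw [map_mul] at hd0
    rw [map_mul, map_mul, mul_div_mul_left _ _ (left_ne_zero_of_mul hd0)] at hcd
    have hd' := right_ne_zero_of_mul hd0
    have hmem : ∀ r : k[X], aeval x r ∈ Q.O ∧ ∀ hr : aeval x r ∈ Q.O, res Q ⟨aeval x r, hr⟩ = aeval xb r := by
      intro r
      have h1 : aeval x r = ((aeval (⟨x, hxQ⟩ : Q.O) r : Q.O) : K) :=
        aeval_algHom_apply (incO Q) (⟨x, hxQ⟩ : Q.O) r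
      refine ⟨h1 ▸ (aeval (⟨x, hxQ⟩ : Q.O) r).2, fun hr => ?_⟩
      rw [hxb, aeval_algHom_apply]
      exact congrArg (res Q) (Subtype.ext h1)
    have heq : aeval xb num' = res Q ⟨((c : L) : K), hcQ⟩ * aeval xb den' := by
      rw [← (hmem num').2 (hmem num').1, ← (hmem den').2 (hmem den').1, ← map_mul]
      congr 1
      refine Subtype.ext ?_
      show aeval x num' = ((c : L) : K) * aeval x den'
      rw [hcd, div_mul_cancel₀ _ hd']
    have hdxb : aeval xb den' ≠ 0 := by
      intro hz
      rw [hz, mul_zero] at heq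
      obtain ⟨a, b, hab⟩ := hg
      have := congrArg (aeval xb) hab
      rw [map_add, map_mul, map_mul, heq, hz, mul_zero, mul_zero, add_zero, map_one] at this
      exact zero_ne_one this
    rw [eq_div_of_mul_eq hdxb heq.symm]
    have ha : ∀ r : k[X], aeval xb r ∈ T := fun r =>
      IntermediateField.algebra_adjoin_le_adjoin k _ (aeval_mem_adjoin_singleton k xb)
    exact div_mem (ha _) (ha _)
  let φ : IsLocalRing.ResidueField P.O →+* T := (resBelow he).codRestrict T.toSubfield hbase
  haveI : Algebra.IsSeparable k T :=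
    (IntermediateField.isSeparable_adjoin_simple_iff_isSeparable k _).mpr hxsep
  have hysepT : IsSeparable T yb := by
    have hcomp : (algebraMap T (IsLocalRing.ResidueField Q.O)).comp φ = resBelow he := rfl
    have h1 : aeval yb (f.map φ) = 0 := by
      rw [aeval_def, eval₂_map, hcomp]; exact hf0
    have h2 : aeval yb (f.map φ).derivative ≠ 0 := by
      rw [derivative_map, aeval_def, eval₂_map, hcomp]; exact hf'
    have hi : IsIntegral T yb := (hint yb).tower_top
    refine (separable_iff_derivative_ne_zero (minpoly.irreducible hi)).mpr fun h0 => h2 ?_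
    obtain ⟨g, hg⟩ := minpoly.dvd T yb h1
    rw [hg, derivative_mul, map_add, map_mul, map_mul, minpoly.aeval, h0, map_zero, zero_mul, zero_mul,
      add_zero]
  have hysep : IsSeparable k yb := IsSeparable.of_algebra_isSeparable_of_isSeparable k hysepT
  refine ⟨fun a => ?_⟩
  have hle : a ∈ separableClosure k (IsLocalRing.ResidueField Q.O) := by
    obtain ⟨q, rfl⟩ := hgen a
    rw [eval₂_eq_sum_range]
    refine sum_mem fun i _ => mul_mem ?_ (pow_mem (mem_separableClosure_iff.mpr hysep) _)
    exact IntermediateField.adjoin_le_iff.mpr (Set.singleton_subset_iff.mpr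
      (mem_separableClosure_iff.mpr hxsep)) (hbase _)
  exact mem_separableClosure_iff.mp hle

/-- Over an infinite field a separating element of `L(C)` gives a separable place of degree at most `deg C`. -/
theorem exists_separable_place [Infinite k] (h : IsFG k K) {C : Divisor k K} (hC : 0 ≤ C) {x : K}
    (hxC : x ∈ L C) (hx : Transcendental k x) (hsep : Algebra.IsSeparable (adjoin k ({x} : Set K)) K) :
    ∃ Q : Place k K, (Q.deg : ℤ) ≤ C.deg ∧ Algebra.IsSeparable k (IsLocalRing.ResidueField Q.O) := by
  classical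
  obtain ⟨B, hB, hgood⟩ := finite_bad_zeros h hx hsep
  have hzero : ∀ c : k, ∃ Q : Place k K, 0 < Q.ord (x - algebraMap k K c) := fun c =>
    h.exists_zero (by
      have := hx.aeval (X - Polynomial.C c) (by simp) (by simp)
      simpa using this)
  choose F hF using hzero
  have hne : ∀ c : k, x - algebraMap k K c ≠ 0 := fun c h0 => by
    have := hF c; rw [h0, ord_zero] at this; exact lt_irrefl _ this
  have hinj : Function.Injective F := by
    intro a b hab
    by_contra hne'
    have ha := hF a
    have hb := hF b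
    rw [← hab] at hb
    have h1 : val (F a) (x - algebraMap k K a) < 1 := (val_lt_one_iff _ (hne a)).mpr ha
    have h2 : val (F a) (x - algebraMap k K b) < 1 := (val_lt_one_iff _ (hne b)).mpr hb
    have hd : b - a ≠ 0 := sub_ne_zero.2 (Ne.symm hne')
    have h3 : val (F a) (algebraMap k K (b - a)) < 1 := by
      rw [show algebraMap k K (b - a) = (x - algebraMap k K a) - (x - algebraMap k K b) by
        rw [map_sub]; ring]
      exact lt_of_le_of_lt (Valuation.map_sub _ _ _) (max_lt h1 h2)
    have h4 := (val_lt_one_iff (F a) ((_root_.map_ne_zero _).2 hd)).1 h3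
    rw [ord_const] at h4
    exact lt_irrefl _ h4
  obtain ⟨_, ⟨c, rfl⟩, hQB⟩ := ((Set.infinite_range_of_injective hinj).sdiff hB).nonempty
  refine ⟨F c, ?_, hgood _ hQB c (hF c)⟩
  have hmem : x - algebraMap k K c ∈ L C := sub_mem hxC (by
    refine L_mono hC ?_
    intro P
    rw [Finsupp.coe_zero, Pi.zero_apply, exp_zero]
    exact P.2.1 c)
  have hE : (0 : Divisor k K) ≤ C + div k (x - algebraMap k K c) := fun P => by
    rw [Finsupp.add_apply, h.div_apply, Finsupp.coe_zero, Pi.zero_apply]
    have := (mem_L_iff_ord (hne c)).1 hmem P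
    omega
  have hle : Finsupp.single (F c) 1 ≤ C + div k (x - algebraMap k K c) := fun P => by
    by_cases hP : F c = P
    · subst hP
      rw [Finsupp.single_eq_same, Finsupp.add_apply, h.div_apply]
      have h1 : (0 : ℤ) ≤ C (F c) := hC (F c)
      have h2 := hF c
      omega
    · rw [Finsupp.single_eq_of_ne' hP]
      exact hE P
  have h1 := deg_nonneg (sub_nonneg.2 hle)
  rw [deg_sub, deg_add, h.deg_div, deg_single, one_mul, add_zero] at h1
  omega

/-- An element is separating or lies in `k K^p`. -/
theorem mem_powField_or_isSeparable (p : ℕ) [Fact p.Prime] [CharP K p] (h : IsFG k K) (z : K)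
    [Algebra.IsSeparable (adjoin k ({z} : Set K)) K] {x : K} (hx : Transcendental k x) :
    x ∈ powField k K p ∨ Algebra.IsSeparable (adjoin k ({x} : Set K)) K := by
  set E := adjoin k ({x} : Set K)
  haveI : FiniteDimensional E K := h.finiteDimensional_adjoin hx
  haveI : ExpChar K p := ExpChar.prime Fact.out
  haveI : CharP E p := (Algebra.charP_iff E K p).mpr inferInstance
  haveI : ExpChar E p := ExpChar.prime Fact.out
  haveI : CharP (separableClosure E K) p := (Algebra.charP_iff (separableClosure E K) K p).mpr inferInstance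
  haveI : ExpChar (separableClosure E K) p := ExpChar.prime Fact.out
  obtain ⟨r, hr⟩ := InsepTwistGen.eq_adjoin_range_pow p z ((separableClosure E K).restrictScalars k)
    (fun y => by
      obtain ⟨n, w, hw⟩ := IsPurelyInseparable.pow_mem (separableClosure E K) p y
      exact ⟨n, hw ▸ w.2⟩)
  cases r with
  | zero =>
    right
    refine ⟨fun y => mem_separableClosure_iff.1 ?_⟩
    have hy : y ∈ (separableClosure E K).restrictScalars k := by
      rw [hr]
      exact IntermediateField.subset_adjoin _ _ ⟨y, by simp⟩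
    exact hy
  | succ r =>
    left
    have hmem : x ∈ (separableClosure E K).restrictScalars k :=
      (separableClosure E K).algebraMap_mem ⟨x, mem_adjoin_simple_self k x⟩
    rw [hr] at hmem
    refine (IntermediateField.adjoin_le_iff.2 ?_ :
      adjoin k (Set.range fun y : K => y ^ p ^ (r + 1)) ≤ powField k K p) hmem
    rintro _ ⟨y, rfl⟩
    exact IntermediateField.subset_adjoin _ _ ⟨y ^ p ^ r, by simp [← pow_mul, pow_succ]⟩

/-- A canonical-sized system cannot come from a subfield of the same genus. -/
theorem false_of_sections_from_below [Infinite k] {L' : Type u} [Field L'] [Algebra k L'] [Algebra L' K]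
    [IsScalarTower k L' K] [FiniteDimensional L' K] (hL : IsFunctionField k L')
    (hg : 2 ≤ genus k L') (h2 : 2 ≤ Module.finrank L' K) {D : Divisor k K}
    (hD : D.deg ≤ 2 * (genus k L' : ℤ) - 2) (φ : Fin (genus k L') → L') (hind : LinearIndependent k φ)
    (hmem : ∀ i, algebraMap L' K (φ i) ∈ L D) : False := by
  classical
  have hfg : IsFG k L' := hL.1
  have hfgK : IsFG k K := isFG_extension (K := L') hfg
  haveI : Nonempty (Fin (genus k L')) := ⟨⟨0, by omega⟩⟩
  set A := mapDiv k φ with hA
  have hφA : ∀ i, φ i ∈ L A := fun i => (mem_L_iff_ord (hind.ne_zero i)).2 fun P => by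
    rw [hA, mapDiv_apply hfg]
    have := Finset.inf'_le (fun j => P.ord (φ j)) (Finset.mem_univ i)
    omega
  haveI := hfg.finite_L A
  have hellA : genus k L' ≤ ell A := by
    have hi : LinearIndependent k (fun i => (⟨φ i, hφA i⟩ : L A)) :=
      LinearIndependent.of_comp (L A).subtype hind
    simpa [ell] using hi.fintype_card_le_finrank
  have hcon : conorm K A ≤ D := fun Q => by
    rw [hA, ← mapDiv_algebraMap hfg, mapDiv_apply hfgK, neg_le]
    refine Finset.le_inf' _ _ fun i _ => ?_
    have := (mem_L_iff_ord (x := algebraMap L' K (φ i))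
      (by simpa using hind.ne_zero i)).1 (hmem i) Q
    omega
  have hdA : 0 ≤ A.deg := by
    by_contra hlt
    have := hfg.ell_eq_zero_of_deg_neg (D := A) (by omega)
    omega
  have hdA' : A.deg ≤ (genus k L' : ℤ) - 1 := by
    have h1 := deg_nonneg (sub_nonneg.2 hcon)
    rw [deg_sub, deg_conorm hfg] at h1
    have h2' : (2 : ℤ) ≤ Module.finrank L' K := by exact_mod_cast h2
    nlinarith
  obtain ⟨C, hC⟩ := exists_isCanonical hL
  have hrr := riemann_roch' hL hC A
  have hellB : genus k L' ≤ ell (C - A) := by omega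
  obtain ⟨w, hw0, -, hB⟩ := hfg.exists_of_ell_pos (D := C - A) (by omega)
  set B := C - A + div k w with hBdef
  have hellB' : ell B = ell (C - A) := hfg.ell_add_div _ hw0
  -- a section of `A` without extra zeros on the support of `B`
  let W : {P // P ∈ B.support} → Submodule k (L A) := fun P =>
    (L (A - Finsupp.single P.1 1)).comap (L A).subtype
  have hW : ∀ P, W P ≠ ⊤ := by
    intro P hP
    obtain ⟨i, -, hi⟩ := Finset.exists_mem_eq_inf' Finset.univ_nonempty fun j => P.1.ord (φ j)
    have h1 : φ i ∈ L (A - Finsupp.single P.1 1) := by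
      have : (⟨φ i, hφA i⟩ : L A) ∈ W P := hP ▸ Submodule.mem_top
      exact this
    have h2 := (mem_L_iff_ord (hind.ne_zero i)).1 h1 P.1
    rw [Finsupp.sub_apply, Finsupp.single_eq_same, hA, mapDiv_apply hfg, hi] at h2
    omega
  have hA0 : L A ≠ ⊥ := fun hb => by
    have : ell A = 0 := by rw [ell, hb, finrank_bot]
    omega
  obtain ⟨z, hzA, hz0, hz⟩ : ∃ z : L', z ∈ L A ∧ z ≠ 0 ∧ ∀ P ∈ B.support, z ∉ L (A - Finsupp.single P 1) := by
    by_cases hs : B.support = ∅
    · obtain ⟨z, hz, hz0⟩ := Submodule.exists_mem_ne_zero_of_ne_bot hA0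
      exact ⟨z, hz, hz0, fun P hP => by simp [hs] at hP⟩
    · have hne : (⋃ P, (W P : Set (L A))) ≠ Set.univ := fun hu => by
        obtain ⟨P, hP⟩ := Subspace.exists_eq_top_of_iUnion_eq_univ hu
        exact hW P hP
      obtain ⟨z, hz⟩ := (Set.ne_univ_iff_exists_notMem _).1 hne
      refine ⟨z.1, z.2, fun h0 => hz ?_, fun P hP h => hz (Set.mem_iUnion.2 ⟨⟨P, hP⟩, h⟩)⟩
      obtain ⟨P, hP⟩ := Finset.nonempty_iff_ne_empty.2 hs
      refine Set.mem_iUnion.2 ⟨⟨P, hP⟩, ?_⟩
      show (z : L') ∈ L (A - Finsupp.single P 1)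
      rw [h0]; exact zero_mem _
  -- multiply the sections of `B` by it
  haveI := hfg.finite_L B
  haveI := hfg.finite_L (A + B)
  have hAB : L A ≤ L (A + B) := L_mono (le_add_of_nonneg_right hB)
  have hzB : ∀ x : L B, z * x.1 ∈ L (A + B) := fun x P => by
    rw [map_mul, Finsupp.add_apply, exp_add]
    exact mul_le_mul' (hzA P) (x.2 P)
  let m : L B →ₗ[k] L (A + B) :=
    LinearMap.codRestrict _ ((LinearMap.mulLeft k z).comp (L B).subtype) hzB
  let S : Submodule k (L (A + B)) := (L A).comap (L (A + B)).subtype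
  have hker : Module.finrank k (LinearMap.ker (S.mkQ ∘ₗ m)) ≤ 1 := by
    have hle : (LinearMap.ker (S.mkQ ∘ₗ m)).map (L B).subtype ≤ L (0 : Divisor k L') := by
      rintro _ ⟨x, hx, rfl⟩
      rw [SetLike.mem_coe, LinearMap.mem_ker, LinearMap.comp_apply, Submodule.mkQ_apply,
        Submodule.Quotient.mk_eq_zero] at hx
      have hxA : z * x.1 ∈ L A := hx
      by_cases hx0 : (x.1 : L') = 0
      · show x.1 ∈ _
        rw [hx0]; exact zero_mem _
      refine (mem_L_iff_ord hx0).2 fun P => ?_
      simp only [Finsupp.coe_zero, Pi.zero_apply, add_zero]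
      have h1 := (mem_L_iff_ord hx0).1 x.2 P
      by_cases hP : P ∈ B.support
      · have h2 := (mem_L_iff_ord (mul_ne_zero hz0 hx0)).1 hxA P
        rw [ord_mul P hz0 hx0] at h2
        have h3 : ¬ ∀ Q : Place k L', 0 ≤ Q.ord z + (A - Finsupp.single P 1 : Divisor k L') Q :=
          fun h => hz P hP ((mem_L_iff_ord hz0).2 h)
        push Not at h3
        obtain ⟨Q, hQ⟩ := h3
        have hzQ := (mem_L_iff_ord hz0).1 hzA Q
        by_cases hQP : P = Q
        · subst hQP
          rw [Finsupp.sub_apply, Finsupp.single_eq_same] at hQ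
          omega
        · rw [Finsupp.sub_apply, Finsupp.single_eq_of_ne' hQP] at hQ
          omega
      · rw [Finsupp.notMem_support_iff.1 hP] at h1
        omega
    haveI := hfg.finite_L (0 : Divisor k L')
    calc Module.finrank k (LinearMap.ker (S.mkQ ∘ₗ m))
        = Module.finrank k ((LinearMap.ker (S.mkQ ∘ₗ m)).map (L B).subtype) :=
          (Submodule.equivMapOfInjective _ (L B).injective_subtype _).finrank_eq
      _ ≤ Module.finrank k (L (0 : Divisor k L')) := Submodule.finrank_mono hle
      _ = 1 := ell_zero hL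
  have h3 := (S.mkQ ∘ₗ m).finrank_range_add_finrank_ker
  have h4 : Module.finrank k (LinearMap.range (S.mkQ ∘ₗ m)) + Module.finrank k S ≤
      Module.finrank k (L (A + B)) := by
    rw [← Submodule.finrank_quotient_add_finrank S]
    exact Nat.add_le_add_right (Submodule.finrank_le _) _
  have h5 : Module.finrank k S = ell A := (Submodule.comapSubtypeEquivOfLe hAB).finrank_eq
  have h6 : ell (A + B) = genus k L' := by
    rw [hBdef, show A + (C - A + div k w) = C + div k w by abel, hfg.ell_add_div _ hw0,
      (ell_canonical hL hC).1]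
  simp only [ell] at hellA hellB hellB' h5 h6
  omega

end GrothLib.CurveMult.SepPointFF
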