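import Groth.Agent.Lib.CurveMult.OmegaApp
import Groth.Agent.Lib.CurveMult.CliffApp
import Groth.Agent.Lib.CurveMult.VeryAmpleDiv
import Groth.Agent.Lib.CurveMult.IdealDiv
import Groth.Agent.Lib.FunFld.CliffordEq
import Groth.Agent.Lib.ProjCohom.Corollaries
import Groth.Agent.Lib.CMReg.ProjSpace
import Groth.Agent.Lib.RelProjK.Local
import Groth.Agent.Lib.Snapper.PushEuler
import Groth.Prelude.Def_LinSer
import Groth.Prelude.Def_Omega3

/-! # Curves in projective space: the hyperplane system -/

set_option autoImplicit false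
set_option linter.style.haveILetI false

universe u

open CategoryTheory CategoryTheory.Limits AlgebraicGeometry
open _root_.FunFld (Place Divisor ell)

noncomputable section

namespace GrothLib.CurveMult.SpaceCurve

open GrothLib GrothLib.CurveRR

variable (k : Type u) [Field k] {X : Scheme.{u}} [X.Over (Spec (CommRingCat.of k))]
  [IsProper (X ↘ Spec (CommRingCat.of k))]

/-- A nondegenerate curve in `P^n` has at least `n + 1` independent hyperplane sections. -/
theorem succ_le_finrank {n : ℕ} (i : X ⟶ CohB1.ProjSpace n k) [IsAffineHom i]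
    (hi : i ≫ CohB1.ProjSpace.toSpec n k = X ↘ Spec (CommRingCat.of k))
    (hplane : ∀ s : LinSer.Sect (CohB1.ProjSpace n k) (Twist.twistProjSpace n k 1), s ≠ 0 →
      OmegaSh.pullSect i (Twist.twistProjSpace n k 1) ⊤ s ≠ 0) :
    n + 1 ≤ Module.finrank k (Coh.HH X ((Scheme.Modules.pullback i).obj (Twist.twistProjSpace n k 1)) 0) := by
  haveI := Euler.isNoetherian_of_proper (X := X) k
  let O1 := Twist.twistProjSpace n k 1
  let L := (Scheme.Modules.pullback i).obj O1
  let η : O1 ⟶ (Scheme.Modules.pushforward i).obj L := (Scheme.Modules.pullbackPushforwardAdjunction i).unit.app O1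
  haveI : L.IsQuasicoherent := InvExt.isQuasicoherent_of_isInvertible
    (RelProjK.isInvertible_pullback i (CMReg.isInvertible_twist (n := n) (k := k) 1))
  obtain ⟨e⟩ := Snapper.nonempty_HH_linearEquiv_pushforward (A := k) i hi L 0
  haveI := Euler.finiteDimensional_HH k (Euler.isCoh_of_isInvertible
    (RelProjK.isInvertible_pullback i (CMReg.isInvertible_twist (n := n) (k := k) 1))) 0
  have hinj : Function.Injective (Cohom.hhMap k η 0) := fun x y hxy => by
    by_contra hne
    refine hplane (ProjCoh.H0top O1 (x - y)) (fun h0 => hne ?_) ?_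
    · exact sub_eq_zero.1 ((ProjCoh.H0top O1).map_eq_zero_iff.1 h0)
    · refine (ProjCoh.H0top_map ((QCoh.toAbFun _).map η) (x - y)).symm.trans ?_
      refine (congrArg (ProjCoh.H0top _) (?_ : Cohom.hhMap k η 0 (x - y) = 0)).trans (map_zero _)
      rw [map_sub, hxy, sub_self]
  obtain ⟨e1⟩ := ProjCohom.nonempty_HH_zero (n := n) (R := k) 1
  have h4 : Module.finrank k (Coh.HH (CohB1.ProjSpace n k) O1 0) = n + 1 := by
    rw [show O1 = Twist.twistProjSpace n k ((1 : ℕ) : ℤ) from rfl, e1.finrank_eq, ProjCohom.finrank_forms,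
      Nat.choose_one_right]
  rw [← h4]
  exact LinearMap.finrank_le_finrank_of_injective (f := e.symm.toLinearMap ∘ₗ Cohom.hhMap k η 0)
    (e.symm.injective.comp hinj)

variable [IsIntegral X]

/-- A special space curve of degree six is canonical of genus four. -/
theorem canonical_of_special_deg_six [IsAlgClosed k] (hdim : topologicalKrullDim X = 1)
    (hreg : ∀ x : X, IsRegularLocalRing (X.presheaf.stalk x))
    (i : X ⟶ CohB1.ProjSpace 3 k) [IsClosedImmersion i]
    (hi : i ≫ CohB1.ProjSpace.toSpec 3 k = X ↘ Spec (CommRingCat.of k))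
    (hl4 : 4 ≤ Module.finrank k (Coh.HH X ((Scheme.Modules.pullback i).obj (Twist.twistProjSpace 3 k 1)) 0))
    (hspecial : Nontrivial (Coh.HH X ((Scheme.Modules.pullback i).obj (Twist.twistProjSpace 3 k 1)) 1))
    (hdeg : Curv2.deg k X ((Scheme.Modules.pullback i).obj (Twist.twistProjSpace 3 k 1)) 1 = 6) :
    Nonempty (((Scheme.Modules.pullback i).obj (Twist.twistProjSpace 3 k 1)) ≅
      Omega.sheaf (X ↘ Spec (CommRingCat.of k))) ∧ Curv2.genus k X = 4 := by
  classical
  obtain ⟨_, hsm, hK, hg, C, hC, ⟨eC⟩⟩ := OmegaApp.setup k hdim hreg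
  haveI := Euler.isNoetherian_of_proper (X := X) k
  let L := (Scheme.Modules.pullback i).obj (Twist.twistProjSpace 3 k 1)
  have hL : PicF.IsInvertible L := RelProjK.isInvertible_pullback i (CMReg.isInvertible_twist (n := 3) (k := k) 1)
  obtain ⟨D, ⟨eD⟩⟩ := exists_iso_oD k hL
  have hd : D.deg = 6 := by rw [← OmegaApp.deg_of_iso k eD]; exact hdeg
  have hl : 4 ≤ ell D := by rw [← OmegaApp.finrank_H0_of_iso k eD]; exact hl4
  haveI := Euler.finiteDimensional_HH k (Euler.isCoh_of_isInvertible hL) 1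
  have hl1 : 0 < ell (C - D) := by
    rw [← CliffApp.finrank_H1_of_iso k hC eD]
    exact Module.finrank_pos (h := hspecial)
  have hfg : GrothLib.FunFld.IsFG k X.functionField := hK.1
  have hRR := FunFld.riemann_roch' hK hC D
  obtain ⟨hgC, hdC⟩ := FunFld.ell_canonical hK hC
  have hsum := FF.ell_add_ell_le hK (show 0 < ell D by omega) hl1
  rw [add_sub_cancel] at hsum
  obtain ⟨y, hy0, -, hy⟩ := hfg.exists_of_ell_pos hl1
  have hpos := FunFld.deg_nonneg hy
  rw [FunFld.deg_add, FunFld.deg_sub, hfg.deg_div, hdC, hd] at hpos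
  have hg4 : _root_.FunFld.genus k X.functionField = 4 := by
    by_contra hne
    obtain ⟨F, hFd, hFl⟩ := FunFld.exists_g12_of_clifford_eq hK hC 3 D (by rw [hd]; rfl) (by omega) (by omega) (by omega)
    have hlin := FunFld.sub_mem_prinDivs_nsmul hK hC (D := D) (E := F) (r := 3) (by rw [hd]; rfl) (by omega)
      (by omega) hFd hFl
    obtain ⟨z, hz0, -, hz⟩ := hfg.exists_of_ell_pos (show 0 < ell F by omega)
    obtain ⟨E, hE⟩ : ∃ E, E = F + _root_.FunFld.div k z := ⟨_, rfl⟩
    rw [← hE] at hz
    have hEd : E.deg = 2 := by rw [hE, FunFld.deg_add, hfg.deg_div, hFd, add_zero]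
    obtain ⟨S, hS0, hSE, hSd⟩ := FunFld.CliffIdx.exists_sub_effective hfg hz 1 (by omega)
    obtain ⟨P, hP⟩ := FunFld.exists_single_le hS0 (fun h0 => by rw [h0, FunFld.deg_zero] at hSd; simp at hSd)
    obtain ⟨Q, hQ⟩ := FunFld.exists_single_le (sub_nonneg.2 (hP.trans hSE)) (fun h0 => by
      have := congrArg Divisor.deg h0
      rw [FunFld.deg_sub, FunFld.deg_zero, FunFld.deg_single, hfg.deg_eq_one P] at this
      omega)
    obtain ⟨x, rfl⟩ := place_surjective (k := k) (X := X) P
    obtain ⟨x', rfl⟩ := place_surjective (k := k) (X := X) Q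
    have hva := CurveMult.ell_of_closedImmersion k hL eD i hi (Iso.refl _) x x'
    have hEeq : E = Finsupp.single (place k x) 1 + Finsupp.single (place k x') 1 := by
      by_contra hne'
      have h0 : 0 ≤ E - (Finsupp.single (place k x) 1 + Finsupp.single (place k x') 1) := by
        rw [← sub_sub]; exact sub_nonneg.2 hQ
      obtain ⟨T, hT⟩ := FunFld.exists_single_le h0 (sub_ne_zero.2 hne')
      have h1 := FunFld.deg_nonneg (sub_nonneg.2 hT)
      rw [FunFld.deg_sub, FunFld.deg_sub, FunFld.deg_add, FunFld.deg_single, FunFld.deg_single, FunFld.deg_single,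
        hfg.deg_eq_one, hfg.deg_eq_one, hfg.deg_eq_one, hEd] at h1
      omega
    rw [show D - Finsupp.single (place k x) 1 - Finsupp.single (place k x') 1 = D - E by rw [hEeq, sub_sub]] at hva
    have h2 := FunFld.succ_le_ell_nsmul hK hFl 2
    obtain ⟨w, hw0, hw⟩ := (FunFld.mem_prinDivs_iff hfg _).1 hlin
    have h3 : ell (D - E) = ell (2 • F) := by
      rw [← hfg.ell_add_div (2 • F) (mul_ne_zero hw0 (inv_ne_zero hz0))]
      congr 1
      rw [hfg.div_mul hw0 (inv_ne_zero hz0), hfg.div_inv, hw, hE, succ_nsmul F 2]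
      abel
    omega
  refine ⟨?_, hg.trans hg4⟩
  obtain ⟨e⟩ := DivIso.nonempty_iso_of_sub_mem k
    (FunFld.sub_mem_prinDivs_of_canonical hK hC (A := D) (by omega) (by omega))
  exact ⟨eD ≪≫ e ≪≫ eC.symm⟩

end GrothLib.CurveMult.SpaceCurve
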