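import Groth.Agent.Lib.HodgeIndex.NegCurves
import Groth.Agent.Lib.HodgeIndex.ProjConv
import Groth.Agent.Lib.CurveMult.DegHom
import Groth.Agent.Lib.Kleiman.Proper
import Groth.Agent.Lib.Seesaw26.Criterion
import Groth.Agent.Lib.LocFreeHom.Basic

/-!
# Intersection numbers with a curve on a surface as degrees on the curve
-/

set_option autoImplicit false
set_option linter.all false

universe u

open CategoryTheory CategoryTheory.Limits AlgebraicGeometry TopologicalSpace

noncomputable section

namespace GrothLib.CurveMult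

open GrothLib.Cube (Pic clsMod)
open GrothLib.HodgeIndex (isect cCl)

/-- The dual of an invertible module is its inverse. -/
theorem exists_iso_tensor_sheafHom {X : Scheme.{u}} {M : X.Modules} (hM : PicF.IsInvertible M)
    [DCoh.HasSheafHom M] :
    PicF.IsInvertible ((DCoh.sheafHom M).obj (Coh.structureModule X)) ∧
      Nonempty (CohB1.tensorMod M ((DCoh.sheafHom M).obj (Coh.structureModule X)) ≅ Coh.structureModule X) := by
  obtain ⟨c, ⟨e⟩⟩ := Ample.exists_cocycle hM
  let N := (Cube.inv c).twist 1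
  have hN : PicF.IsInvertible N := (Cube.inv c).isInvertible_twist 1
  have h1 : clsMod (Ample.isInvertible_tensorMod hN hM) = 1 := by
    rw [Cube.clsMod_tensorMod hN hM, Cube.clsMod_eq hN (Iso.refl _), Cube.clsMod_eq hM e, ← Cube.cls_prod]
    exact Quotient.sound (Cube.eqv_prod_inv c)
  have h2 : clsMod (Ample.isInvertible_tensorMod hM hN) = 1 := by
    rw [Cube.clsMod_tensorMod hM hN, mul_comm, ← Cube.clsMod_tensorMod hN hM]; exact h1
  obtain ⟨a⟩ := (Cube.clsMod_eq_one_iff _).1 h1
  obtain ⟨b⟩ := (Cube.clsMod_eq_one_iff _).1 h2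
  let B := DCoh.tensorBi (X := X)
  let u₁ : 𝟭 X.Modules ≅ B.obj M ⋙ B.obj N :=
    OX.tensorUnitNatIso.symm ≪≫ B.mapIso a.symm ≪≫ (OX.tensorAssocNatIso.app N).app M
  let u₂ : B.obj N ⋙ B.obj M ≅ 𝟭 X.Modules :=
    ((OX.tensorAssocNatIso.app M).app N).symm ≪≫ B.mapIso b ≪≫ OX.tensorUnitNatIso
  haveI : (B.obj M).IsEquivalence := (CategoryTheory.Equivalence.mk (B.obj M) (B.obj N) u₁ u₂).isEquivalence_functor
  haveI := (DCoh.sheafHomAdj M).isEquivalence_right_of_isEquivalence_left
  haveI : IsIso ((DCoh.sheafHomAdj M).counit.app (Coh.structureModule X)) := inferInstance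
  let t : CohB1.tensorMod M ((DCoh.sheafHom M).obj (Coh.structureModule X)) ≅ Coh.structureModule X :=
    @asIso _ _ _ _ ((DCoh.sheafHomAdj M).counit.app (Coh.structureModule X)) this
  exact ⟨Seesaw26.isInvertible_of_tensor_iso t hM, ⟨t⟩⟩

variable {X C : Scheme.{u}} (k : Type u) [Field k] [X.Over (Spec (CommRingCat.of k))]
  [IsProper (X ↘ Spec (CommRingCat.of k))] [Smooth (X ↘ Spec (CommRingCat.of k))] [IsIntegral X]

/-- `(C · L) = deg L|C`, for the inverse module in the intersection number. -/
theorem intNum_ker_eq (hdim : topologicalKrullDim X = ((2 : ℕ) : WithBot ℕ∞)) {A : X.Modules}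
    (hA : CohB1.IsAmple A) (i : C ⟶ X) [IsClosedImmersion i] [IsIntegral C] (hC : topologicalKrullDim C = 1)
    {M : X.Modules} (hM : PicF.IsInvertible M) :
    letI : C.Over (Spec (CommRingCat.of k)) := ⟨i ≫ (X ↘ Spec (CommRingCat.of k))⟩
    FGA.intNum k X 2 ![ClSub.idealMod i.ker, M] (Coh.structureModule X) =
      - Curv2.deg k C ((Scheme.Modules.pullback i).obj M) 1 := by
  letI : C.Over (Spec (CommRingCat.of k)) := ⟨i ≫ (X ↘ Spec (CommRingCat.of k))⟩
  haveI : IsIso i.toImage := inferInstance
  haveI : Nonempty i.ker.subscheme := (IsIntegral.nonempty (X := C)).map i.toImage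
  have hint : IsIntegral i.ker.subscheme := isIntegral_of_isOpenImmersion (inv i.toImage)
  have hd : topologicalKrullDim (i.ker.support : Set X) = 1 := by
    rw [← hC, ← Scheme.IdealSheafData.range_subschemeι]
    refine ((IsHomeomorph.topologicalKrullDim_eq _
      i.ker.subschemeι.isClosedEmbedding.isEmbedding.toHomeomorph.isHomeomorph).symm).trans ?_
    exact (IsHomeomorph.topologicalKrullDim_eq _ i.toImage.homeomorph.isHomeomorph).symm
  rw [HodgeIndex.intNum_curve k hdim hint hd hA hM, ← HodgeIndex.euler_sub_eq_isect k hdim hint hd hM]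
  have h2 : Curv2.euler k C (Coh.structureModule C) = Curv2.euler k X (ClSub.quotMod i.ker) := by
    rw [← Euler.euler_of_iso k (Ample.nonempty_pullback_structureModule i).some,
      Kleiman.euler_pullback_eq_quotMod k i rfl Euler.isInvertible_structure]
    exact Kleiman.euler_tensor_structure k _
  rw [Curv2.deg, Kleiman.euler_pullback_eq_quotMod k i rfl hM, h2]
  push_cast
  ring

end GrothLib.CurveMult
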