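import Groth.Agent.Lib.CurveMult.InvolutionCurve
import Groth.Agent.Lib.FunFld.SwapInvolution
import Groth.Agent.Lib.FunFld.Linear
import Groth.Agent.Lib.CurveRR.Tensor
import Groth.Agent.Lib.Rigidity.Smooth.Curve

/-!
# Involutions of curves of genus one
-/

set_option autoImplicit false
set_option linter.style.haveILetI false
set_option linter.unusedSectionVars false
set_option backward.isDefEq.respectTransparency false

universe u

open CategoryTheory CategoryTheory.Limits AlgebraicGeometry IsLocalRing
open _root_.FunFld (Place Divisor)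

noncomputable section

namespace GrothLib.CurveMult.SwapCurve

open GrothLib GrothLib.CurveRR GrothLib.CurveMult.InvolutionCurve
open TopologicalSpace Opposite WithZero

variable (k : Type u) [Field k] {X : Scheme.{u}} [IsIntegral X] [RegCurve X]
  [X.Over (Spec (CommRingCat.of k))] [IsProper (X ↘ Spec (CommRingCat.of k))]

/-- Multiplication by a rational function. -/
noncomputable def scaleHom {D E : Divisor k X.functionField} (f : X.functionField)
    (h : ∀ x : CP X, exp (D (place k x)) * (place k x).1 f ≤ exp (E (place k x))) : oD k D ⟶ oD k E :=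
  ⟨PresheafOfModules.homMk
    { app := fun V => AddCommGrpCat.ofHom
        { toFun := fun s => (oDData k E).lift (fun hV => f * oval k (V := V.unop) s hV.down) fun x hx => by
            refine (map_mul (place k x).1 f _).le.trans ?_
            exact ((mul_le_mul_right (oval_bound (V := V.unop) s x hx) _).trans_eq (mul_comm _ _)).trans (h x)
          map_zero' := oval_ext fun hV => by
            show f * oval k (V := V.unop) (0 : Γ(oD k D, V.unop)) hV = 0
            rw [show oval k (V := V.unop) (0 : Γ(oD k D, V.unop)) hV = 0 from rfl, mul_zero]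
          map_add' := fun s t => oval_ext fun hV => by
            show f * oval k (V := V.unop) (s + t) hV = f * oval k (V := V.unop) s hV + f * oval k (V := V.unop) t hV
            exact (congrArg (f * ·) (oval_add (V := V.unop) s t hV)).trans (mul_add _ _ _) }
      naturality := fun _ _ _ => rfl } fun V r s => oval_ext fun hV => by
        show f * oval k (V := V.unop) (r • s) hV = _
        erw [oval_smul, oval_smul]
        exact mul_left_comm _ _ _⟩

theorem oval_scaleHom {D E : Divisor k X.functionField} (f : X.functionField)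
    (h : ∀ x : CP X, exp (D (place k x)) * (place k x).1 f ≤ exp (E (place k x))) {V : X.Opens}
    (s : Γ(oD k D, V)) (hV : genericPoint X ∈ V) : oval k ((scaleHom k f h).app V s) hV = f * oval k s hV := rfl

/-- Linearly equivalent divisors give isomorphic modules. -/
theorem nonempty_iso_of_sub_mem {D E : Divisor k X.functionField}
    (h : D - E ∈ _root_.FunFld.prinDivs k X.functionField) : Nonempty (oD k D ≅ oD k E) := by
  obtain ⟨f, hf0, hf⟩ := (FunFld.mem_prinDivs_iff (isFG k) _).1 h
  have hP : ∀ x : CP X, D (place k x) - E (place k x) = (place k x).ord f := fun x => by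
    rw [← (isFG k).div_apply f (place k x), hf]; rfl
  have h1 : ∀ x : CP X, exp (D (place k x)) * (place k x).1 f ≤ exp (E (place k x)) := fun x => by
    rw [FunFld.val_eq (place k x) hf0, ← exp_add, exp_le_exp]; linarith [hP x]
  have h2 : ∀ x : CP X, exp (E (place k x)) * (place k x).1 f⁻¹ ≤ exp (D (place k x)) := fun x => by
    rw [map_inv₀, FunFld.val_eq (place k x) hf0, ← exp_neg, ← exp_add, exp_le_exp]; linarith [hP x]
  refine ⟨⟨scaleHom k f h1, scaleHom k f⁻¹ h2, ?_, ?_⟩⟩ <;>
  · refine Scheme.Modules.hom_ext _ _ fun V => ?_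
    ext s
    refine oval_ext fun hV => ?_
    first
      | exact inv_mul_cancel_left₀ hf0 _
      | exact mul_inv_cancel_left₀ hf0 _

theorem ne_genericPoint_of_invol {σ : X ⟶ X} (hσσ : σ ≫ σ = 𝟙 X) (x : CP X) : σ x.1 ≠ genericPoint X := fun h =>
  x.2 (by
    have := congrArg σ h
    rw [genericPoint_of_invol hσσ, ← Scheme.Hom.comp_apply, hσσ] at this
    exact this)

theorem pull_place {σ : X ⟶ X} (hσ : σ ≫ (X ↘ Spec (CommRingCat.of k)) = X ↘ Spec (CommRingCat.of k))
    (hσσ : σ ≫ σ = 𝟙 X) (x : CP X) :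
    FunFld.pull (funEquiv hσ hσσ) (place k x) = place k (⟨σ x.1, ne_genericPoint_of_invol hσσ x⟩ : CP X) := by
  have e := genericPoint_of_invol hσσ
  have hinv : ∀ y, σ (σ y) = y := fun y => by rw [← Scheme.Hom.comp_apply, hσσ]; rfl
  have key : ∀ (y : X) (z : X.functionField), z ∈ Set.range (algebraMap (X.presheaf.stalk (σ y)) X.functionField) →
      funEquiv hσ hσσ z ∈ Set.range (algebraMap (X.presheaf.stalk y) X.functionField) := by
    rintro y _ ⟨r, rfl⟩
    exact ⟨(σ.stalkMap y).hom r, (Hurwitz.ψ_stalk e y r).symm⟩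
  refine FunFld.place_eq_of_le_one_iff fun z => ?_
  rw [FunFld.val_pull, ← FunFld.mem_O_iff, ← FunFld.mem_O_iff, mem_place_O, mem_place_O]
  refine ⟨fun h => ?_, key x.1 z⟩
  have h' := key (σ x.1) (funEquiv hσ hσσ z) (by rw [hinv]; exact h)
  rwa [show funEquiv hσ hσσ (funEquiv hσ hσσ z) = z from funHom_invol e hσ hσσ z] at h'

/-- An involution exchanging two points. -/
theorem exists_swap [IsAlgClosed k] (hreg : ∀ x : X, IsRegularLocalRing (X.presheaf.stalk x)) (hg : Curv2.genus k X = 1) (P Q : CP X) :
    ∃ σ : X ⟶ X, ∃ (_ : σ ≫ (X ↘ Spec (CommRingCat.of k)) = X ↘ Spec (CommRingCat.of k)) (_ : σ ≫ σ = 𝟙 X),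
      σ P.1 = Q.1 ∧ ∀ (R R' : CP X), σ R.1 = R'.1 →
        (Finsupp.single (place k R) (1 : ℤ) + Finsupp.single (place k R') 1) -
          (Finsupp.single (place k P) 1 + Finsupp.single (place k Q) 1) ∈ _root_.FunFld.prinDivs k X.functionField := by
  have h0 := finrank_H0_structure_eq_one k (X := X)
  haveI : Smooth (X ↘ Spec (CommRingCat.of k)) := Rigidity.smooth_of_isRegular _ hreg
  obtain ⟨s, -, hinv, hPQ, hR⟩ := FunFld.SwapInvolution.exists_swap (isFunctionField k h0)
    (by rw [← genus_eq k h0, hg]) (fun x hx => isSeparable_of_finrank_two k h0 (by omega) hx)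
    (place k P) (place k Q)
  obtain ⟨σ, hσ, hσσ, rfl⟩ := exists_invol s hinv
  refine ⟨σ, hσ, hσσ, ?_, fun R R' hRR' => ?_⟩
  · rw [pull_place] at hPQ
    exact congrArg Subtype.val (place_injective (k := k) hPQ)
  · have := hR (place k R)
    rwa [pull_place, show (⟨σ R.1, ne_genericPoint_of_invol hσσ R⟩ : CP X) = R' from Subtype.ext hRR'] at this

theorem nonempty_ideal_tensor_iso (P Q R R' : CP X) (hP : IsClosed ({P.1} : Set X)) (hQ : IsClosed ({Q.1} : Set X))
    (hR : IsClosed ({R.1} : Set X)) (hR' : IsClosed ({R'.1} : Set X))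
    (h : (Finsupp.single (place k R) (1 : ℤ) + Finsupp.single (place k R') 1) -
          (Finsupp.single (place k P) 1 + Finsupp.single (place k Q) 1) ∈ _root_.FunFld.prinDivs k X.functionField) :
    Nonempty (CohB1.tensorMod (ClSub.idealMod (Scheme.IdealSheafData.vanishingIdeal ⟨{R.1}, hR⟩))
        (ClSub.idealMod (Scheme.IdealSheafData.vanishingIdeal ⟨{R'.1}, hR'⟩)) ≅
      CohB1.tensorMod (ClSub.idealMod (Scheme.IdealSheafData.vanishingIdeal ⟨{P.1}, hP⟩))
        (ClSub.idealMod (Scheme.IdealSheafData.vanishingIdeal ⟨{Q.1}, hQ⟩))) := by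
  obtain ⟨a⟩ := nonempty_idealMod_point_iso k R hR
  obtain ⟨a'⟩ := nonempty_idealMod_point_iso k R' hR'
  obtain ⟨b⟩ := nonempty_idealMod_point_iso k P hP
  obtain ⟨b'⟩ := nonempty_idealMod_point_iso k Q hQ
  obtain ⟨e₁⟩ := nonempty_tensor_iso k a a'
  obtain ⟨e₂⟩ := nonempty_tensor_iso k b b'
  obtain ⟨e₃⟩ := nonempty_iso_of_sub_mem k
    (D := -(Finsupp.single (place k R) 1) + -(Finsupp.single (place k R') 1))
    (E := -(Finsupp.single (place k P) 1) + -(Finsupp.single (place k Q) 1)) (by
      convert neg_mem h using 1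
      abel)
  exact ⟨e₁ ≪≫ e₃ ≪≫ e₂.symm⟩

end GrothLib.CurveMult.SwapCurve
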