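import Groth.Agent.Lib.Euler.Torsion
import Groth.Agent.Lib.Euler.Slope2
import Groth.Agent.Lib.WeakAss.Basic

/-!
# Maps from invertible modules to torsion-free modules of rank one
-/

set_option autoImplicit false
set_option linter.all false

universe u

open CategoryTheory CategoryTheory.Limits AlgebraicGeometry TopologicalSpace

namespace GrothLib.CurveMult

open GrothLib.Euler (grank)
open GrothLib.QCoh (stalkLin)

variable {X : Scheme.{u}} [IsIntegral X]

/-- A coherent torsion-free module of generic rank zero is zero. -/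
theorem isZero_of_torsionFree_grank_zero {F : X.Modules} (hF : Coh.IsCoh F) (htf : TorSh.IsTorsionFree F)
    (h : grank F = 0) : IsZero F := by
  haveI := hF.1
  letI : Field (X.presheaf.stalk (genericPoint X)) := CurvePoints.isField_stalk_genericPoint.toField
  haveI := Euler.stalk_finite hF (genericPoint X)
  haveI hs : Subsingleton (F.presheaf.stalk (genericPoint X)) :=
    Module.finrank_zero_iff (R := X.presheaf.stalk (genericPoint X)).1 h
  have hst : ∀ x : X, Subsingleton (F.presheaf.stalk x) := fun x => by
    refine subsingleton_of_forall_eq 0 fun m => ?_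
    obtain ⟨V, hV, hxV, -⟩ := exists_isAffineOpen_mem_and_subset (x := x) (U := ⊤) trivial
    obtain ⟨c, z, hc, hz⟩ := WeakAss.exists_smul_eq_germ hV hxV m
    have hηV : genericPoint X ∈ V := ((genericPoint_spec X).specializes trivial).mem_open V.2 hxV
    obtain ⟨c', hc', hc'z⟩ := (WeakAss.germ_eq_zero_iff hV hηV z).1 (Subsingleton.elim _ _)
    haveI : Nonempty V := ⟨⟨x, hxV⟩⟩
    have hne : X.presheaf.germ V x hxV c' ≠ 0 := fun h0 => hc' (by
      have : c' = 0 := germ_injective_of_isIntegral X x hxV (h0.trans (map_zero _).symm)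
      rw [this]; exact Ideal.zero_mem _)
    haveI := htf x
    have h1 := WeakAss.germ_smul hxV c' z
    rw [hc'z, map_zero] at h1
    have h2 : F.presheaf.germ V x hxV z = 0 :=
      (smul_eq_zero_iff_right hne).1 h1.symm
    have hu : IsUnit (X.presheaf.germ V x hxV c) :=
      (Scheme.mem_basicOpen _ c x hxV).mp (WeakAss.notMem_primeAt_iff.mp hc)
    exact hu.smul_eq_zero.1 (hz.trans h2)
  refine (IsZero.iff_id_eq_zero F).2 (Scheme.Modules.hom_ext _ _ fun V => AddCommGrpCat.ext fun t => ?_)
  show t = 0
  exact QCoh.section_eq_zero_of_germ F t fun x _ =>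
    haveI := hst x
    Subsingleton.elim _ _

variable (k : Type u) [Field k] [X.Over (Spec (CommRingCat.of k))] [IsProper (X ↘ Spec (CommRingCat.of k))]

/-- A nonzero map from an invertible module to a torsion-free rank one module on a curve does not
decrease the Euler characteristic. -/
theorem euler_le_of_ne_zero (hd : topologicalKrullDim X ≤ 1) {M G : X.Modules} (hM : PicF.IsInvertible M)
    (hG : Coh.IsCoh G) (htf : TorSh.IsTorsionFree G) (hr : grank G = 1) {ψ : M ⟶ G} (hψ : ψ ≠ 0) :
    Curv2.euler k X M ≤ Curv2.euler k X G := by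
  haveI := Euler.isNoetherian_of_proper (X := X) k
  have hMr := Euler.isFinLocFreeOfRank_one_of_invertible hM
  have hMl := FinCov.isFinLocFree_of_rank hMr
  have hMc := Euler.isCoh_of_isInvertible hM
  have hKc := QCoh.isCoh_kernel ψ hMc hG
  have hIc : Coh.IsCoh (Abelian.image ψ) := QCoh.isCoh_kernel _ hG (QCoh.isCoh_cokernel ψ hMc hG)
  let T := ShortComplex.mk (kernel.ι ψ) (Abelian.factorThruImage ψ)
    (by rw [← cancel_mono (Abelian.image.ι ψ), Category.assoc, Abelian.image.fac, kernel.condition, zero_comp])
  have hT : T.ShortExact :=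
    { exact := ShortComplex.exact_of_f_is_kernel _ (KernelFork.IsLimit.ofι' _ _ fun g hg => ⟨kernel.lift ψ g
        (by rw [← Abelian.image.fac ψ, ← Category.assoc, hg, zero_comp]), kernel.lift_ι _ _ _⟩) }
  have hg : grank M = grank (kernel ψ) + grank (Abelian.image ψ) := Euler.grank_additive (S := T) hT hMc
  rw [Euler.grank_of_locFree hMr] at hg
  have hI0 : grank (Abelian.image ψ) ≠ 0 := fun h0 => hψ (by
    have hz := isZero_of_torsionFree_grank_zero hIc (fun x => by
      haveI := htf x
      exact Function.Injective.moduleIsTorsionFree (stalkLin (Abelian.image.ι ψ) x)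
        (QCoh.stalkLin_injective (Abelian.image.ι ψ) x) (map_smul _)) h0
    rw [← Abelian.image.fac ψ, hz.eq_of_tgt (Abelian.factorThruImage ψ) 0, zero_comp])
  have hK := isZero_of_torsionFree_grank_zero hKc (Euler.isTorsionFree_of_mono (kernel.ι ψ) hMl) (by omega)
  haveI : Mono ψ := Preadditive.mono_of_isZero_kernel ψ hK
  obtain ⟨q, hq, -, -⟩ := Euler.exists_cokernel_data k hd ψ hMc hG
    (Euler.surjective_generic_of_mono ψ hG ((Euler.grank_of_locFree hMr).trans hr.symm))
  omega

end GrothLib.CurveMult
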