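import Groth.Agent.Lib.DblCov21.Scheme
import Groth.Agent.Lib.CurveMult.TwistHom
import Groth.Agent.Lib.Snapper.PushEuler
import Groth.Agent.Lib.Euler.Vanish
import Groth.Agent.Lib.QCoh.SupportExact
import Groth.Agent.Lib.ASBun21.PushFree
import Groth.Agent.Lib.OX.LocalLift
import Groth.Agent.Lib.CurveMult.P1Split
import Groth.Agent.Lib.CurveRR.Setup
import Groth.Prelude.Def_FinCov

/-!
# The kernel of the trace of a double cover of the line
-/

set_option autoImplicit false
set_option linter.style.haveILetI false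
set_option linter.unusedSectionVars false
set_option backward.isDefEq.respectTransparency false

universe u

open CategoryTheory CategoryTheory.Limits AlgebraicGeometry TopologicalSpace Opposite

noncomputable section

namespace GrothLib.CurveMult.TraceKer

variable {X Y : Scheme.{u}} (f : X ⟶ Y) [IsFinite f] [Flat f] [LocallyOfFinitePresentation f]

theorem unit_comp_trace (hrk : ∀ y : Y, f.finrank y = 2)
    (τ : (Scheme.Modules.pushforward f).obj (Coh.structureModule X) ⟶ Coh.structureModule Y)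
    (hτ : FinCov.IsTraceHom f τ) :
    ClSub.unitToPush f ≫ τ = 𝟙 _ + 𝟙 _ := by
  refine GrothLib.CurveMult.hom_ext_one _ _ ?_
  refine TopCat.Presheaf.section_ext (C := CommRingCat.{u}) (X := Y.carrier) Y.sheaf ⊤
    ((ClSub.unitToPush f ≫ τ).app ⊤ (FinCov.one Y ⊤) : Γ(Y, ⊤))
    ((𝟙 _ + 𝟙 _ : Coh.structureModule Y ⟶ Coh.structureModule Y).app ⊤ (FinCov.one Y ⊤) : Γ(Y, ⊤)) fun y hy => ?_
  obtain ⟨U, ⟨hU, ⟨b⟩⟩, hyU, -⟩ := GrothLib.DblCov21.exists_isFreeOn f hrk ⊤ y trivial
  letI : Algebra Γ(Y, U) Γ(X, f ⁻¹ᵁ U) := (f.app U).hom.toAlgebra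
  haveI := Module.Free.of_basis b
  haveI := Module.Finite.of_basis b
  refine ((Y.presheaf.germ_res_apply (homOfLE (le_top : U ≤ ⊤)) y hyU _).symm.trans ?_).trans
    (Y.presheaf.germ_res_apply (homOfLE (le_top : U ≤ ⊤)) y hyU _)
  refine congrArg (Y.presheaf.germ U y hyU) ?_
  have hone : (Coh.structureModule Y).presheaf.map (homOfLE (le_top : U ≤ ⊤)).op (FinCov.one Y ⊤) = FinCov.one Y U :=
    map_one (Y.presheaf.map (homOfLE (le_top : U ≤ ⊤)).op).hom
  have hnat : ∀ (g : Coh.structureModule Y ⟶ Coh.structureModule Y),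
      (Y.presheaf.map (homOfLE (le_top : U ≤ ⊤)).op).hom (g.app ⊤ (FinCov.one Y ⊤) : Γ(Y, ⊤)) = g.app U (FinCov.one Y U) :=
    fun g => ((PresheafOfModules.naturality_apply g.val (homOfLE (le_top : U ≤ ⊤)).op (FinCov.one Y ⊤)).symm.trans
      (congrArg (g.app U) hone))
  rw [hnat, hnat]
  show @Eq Γ(Y, U) (τ.app U ((f.app U).hom 1)) ((1 : Γ(Y, U)) + 1)
  rw [map_one]
  refine (hτ U hU inferInstance inferInstance 1).trans ?_
  have := Algebra.trace_algebraMap_of_basis b (1 : Γ(Y, U))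
  rw [map_one] at this
  rw [this]
  simp [one_add_one_eq_two]

variable (k : Type u) [Field k]

attribute [local instance] P1Split.overP1

theorem deg_kernel {X : Scheme.{u}} [X.Over (Spec (CommRingCat.of k))] [IsProper (X ↘ Spec (CommRingCat.of k))]
    (hX : topologicalKrullDim X ≤ 1) (h0 : Module.finrank k (Coh.HH X (Coh.structureModule X) 0) = 1)
    (h2 : (2 : k) ≠ 0) (h : X ⟶ CohB1.ProjSpace 1 k)
    (hh : h ≫ CohB1.ProjSpace.toSpec 1 k = X ↘ Spec (CommRingCat.of k))
    [IsFinite h] [Flat h] [LocallyOfFinitePresentation h]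
    (hr : ∀ y : ↥(CohB1.ProjSpace 1 k), h.finrank y = 2)
    (τ : (Scheme.Modules.pushforward h).obj (Coh.structureModule X) ⟶ Coh.structureModule (CohB1.ProjSpace 1 k))
    (hτ : FinCov.IsTraceHom h τ) :
    Curv2.deg k (CohB1.ProjSpace 1 k) (kernel τ) 1 = -((Curv2.genus k X : ℤ) + 1) := by
  let P := CohB1.ProjSpace 1 k
  haveI := Euler.isNoetherian_of_proper (X := P) k
  haveI := Euler.isNoetherian_of_proper (X := X) k
  have hcomp := unit_comp_trace h hr τ hτ
  haveI : IsIso (ClSub.unitToPush h ≫ τ) := by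
    rw [hcomp]
    have htwo : IsUnit (2 : Γ(P, ⊤)) := by
      have := (IsUnit.mk0 (2 : k) h2).map (Coh.toGlobal (P ↘ Spec (CommRingCat.of k)))
      rwa [map_ofNat] at this
    obtain ⟨w, hw⟩ := htwo.exists_left_inv
    let g : Coh.structureModule P ⟶ Coh.structureModule P := OX.ofTop (N := Coh.structureModule P) w
    have hg : g.app ⊤ (1 : Γ(P, ⊤)) = w := OX.ofTop_app_top (N := Coh.structureModule P) w
    refine ⟨g, ?_, ?_⟩
    · refine GrothLib.CurveMult.hom_ext_one _ _ ?_
      show g.app ⊤ ((1 : Γ(P, ⊤)) + 1 : Γ(P, ⊤)) = (1 : Γ(P, ⊤))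
      rw [map_add, show g.app ⊤ (1 : Γ(P, ⊤)) = w from hg]
      show (w + w : Γ(P, ⊤)) = 1
      refine Eq.trans ?_ hw
      exact (mul_two (w : Γ(P, ⊤))).symm
    · refine GrothLib.CurveMult.hom_ext_one _ _ ?_
      show (g.app ⊤ (1 : Γ(P, ⊤)) : Γ(P, ⊤)) + g.app ⊤ (1 : Γ(P, ⊤)) = (1 : Γ(P, ⊤))
      rw [show g.app ⊤ (1 : Γ(P, ⊤)) = w from hg]
      show (w + w : Γ(P, ⊤)) = 1
      refine Eq.trans ?_ hw
      exact (mul_two (w : Γ(P, ⊤))).symm
  haveI : Epi τ := epi_of_epi (ClSub.unitToPush h) τ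
  let S : ShortComplex P.Modules := ShortComplex.mk (kernel.ι τ) τ (kernel.condition τ)
  have hS : S.ShortExact :=
    { exact := ShortComplex.exact_of_f_is_kernel _ (kernelIsKernel τ)
      mono_f := inferInstanceAs (Mono (kernel.ι τ))
      epi_g := inferInstanceAs (Epi τ) }
  have hO := Euler.isCoh_of_isInvertible (Euler.isInvertible_structure (X := P))
  have hOX := Euler.isCoh_of_isInvertible (Euler.isInvertible_structure (X := X))
  have hpush : Coh.IsCoh ((Scheme.Modules.pushforward h).obj (Coh.structureModule X)) := ASBun21.isCoh_push_finite h hOX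
  have hadd := Euler.euler_additive k hS (QCoh.isCoh_kernel τ hpush hO) hpush hO
  change Curv2.euler k P ((Scheme.Modules.pushforward h).obj (Coh.structureModule X)) =
    Curv2.euler k P (kernel τ) + Curv2.euler k P (Coh.structureModule P) at hadd
  haveI := hOX.1
  rw [Snapper.euler_pushforward h hh, Euler.euler_eq_sub k hX, h0, ← Euler.genus_def] at hadd
  have hP : Curv2.euler k P (Coh.structureModule P) = 1 := by
    obtain ⟨e0⟩ := P1Split.nonempty_iso_O1 k (Euler.isInvertible_structure (X := P))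
    have h1 : Curv2.deg k P (Coh.structureModule P) 1 = 0 := by simp [Curv2.deg]
    rw [h1] at e0
    rw [Euler.euler_of_iso k e0, P1Split.euler_O1]; norm_num
  rw [hP] at hadd
  show Curv2.euler k P (kernel τ) - ((1 : ℕ) : ℤ) * Curv2.euler k P (Coh.structureModule P) = _
  rw [hP]
  push_cast at hadd ⊢
  omega

end GrothLib.CurveMult.TraceKer
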