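import Groth.Agent.Lib.CurveMult.GenusZero

/-!
# A line bundle of degree one with two sections
-/

set_option linter.style.haveILetI false
set_option backward.isDefEq.respectTransparency false

universe u

open CategoryTheory CategoryTheory.Limits AlgebraicGeometry TopologicalSpace Opposite

noncomputable section

namespace GrothLib.CurveMult

variable {X : Scheme.{u}} (k : Type u) [Field k] [X.Over (Spec (CommRingCat.of k))]
  [IsIntegral X] [IsProper (X ↘ Spec (CommRingCat.of k))]

include k in
/-- A curve closed in the projective line is the projective line. -/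
theorem isIso_of_closedImmersion_P1 (hdim : topologicalKrullDim X = 1) (i : X ⟶ CohB1.ProjSpace 1 k)
    [IsClosedImmersion i] : IsIso i := by
  haveI : IsIntegral (CohB1.ProjSpace 1 k) := ProjDim.isIntegral_proj k 1
  have hP : topologicalKrullDim ↥(CohB1.ProjSpace 1 k) = 1 := by exact_mod_cast Groth.Agent.S10829.result k 1
  haveI : Surjective i := ⟨fun y => by
    have hη : i (genericPoint X) = genericPoint (CohB1.ProjSpace 1 k) := by
      by_contra hne
      have hcl : IsClosed ({i (genericPoint X)} : Set (CohB1.ProjSpace 1 k)) :=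
        CurvePoints.isClosed_singleton hP.le hne
      have hall : ∀ x : X, x = genericPoint X := fun x => i.isClosedEmbedding.injective
        (Set.mem_singleton_iff.1 ((((genericPoint_spec X).specializes trivial).map i.continuous).mem_closed hcl (Set.mem_singleton _)))
      haveI : Subsingleton X := ⟨fun a b => (hall a).trans (hall b).symm⟩
      haveI : DiscreteTopology X := inferInstance
      have h1 := hdim.symm.trans_le (topologicalKrullDim_zero_of_discreteTopology X)
      exact absurd h1 (by decide)
    exact (((genericPoint_spec (CohB1.ProjSpace 1 k)).specializes trivial).mem_closed i.isClosedMap.isClosed_range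
      ⟨_, hη⟩)⟩
  exact isIso_of_isClosedImmersion_of_surjective i

include k in
/-- A curve with a line bundle of degree one having two independent sections is the projective line. -/
theorem exists_iso_P1_of_two_sections (hdim : topologicalKrullDim X = 1) {L : X.Modules}
    (hL : PicF.IsInvertible L) (hdeg : Curv2.deg k X L 1 = 1)
    (h2 : 2 ≤ Module.finrank k (Coh.HH X L 0)) :
    ∃ e : X ≅ CohB1.ProjSpace 1 k, e.hom ≫ CohB1.ProjSpace.toSpec 1 k = X ↘ Spec (CommRingCat.of k) := by
  haveI := Euler.isNoetherian_of_proper (X := X) k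
  haveI hn : Nontrivial (Coh.HH X L 0) := Module.nontrivial_of_finrank_pos (R := k) (by omega)
  have h0 := finrank_H0_structure_eq_one_of_deg_one k hdim.le hL hn hdeg
  obtain ⟨c, ⟨e⟩⟩ := Ample.exists_cocycle hL
  have hh : Module.finrank k (Coh.HH X (c.twist 1) 0) = Module.finrank k (Coh.HH X L 0) :=
    (Euler.hhEquiv (A := k) e 0).finrank_eq.symm
  obtain ⟨e0⟩ := c.nonempty_twist_zero
  have h00 : Module.finrank k (Coh.HH X (c.twist 0) 0) = 1 :=
    (Euler.hhEquiv (A := k) e0 0).finrank_eq.symm.trans h0
  haveI : FiniteDimensional k (Coh.HH X (c.twist 1) 0) :=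
    Euler.finiteDimensional_HH k (Euler.isCoh_of_isInvertible (c.isInvertible_twist 1)) 0
  have hsur : ∀ u : c.sect 1 ⊤, u ≠ 0 → Function.Surjective (Cohom.hhMap k (seq c u 0).g 0) ∧
      Module.finrank k (Coh.HH X (c.twist 1) 0) = 2 := by
    intro u hu
    have hS := seq_shortExact c hu 0
    obtain ⟨hQ, -, -, -⟩ := seq_data c k hdim.le hu 0
    have hc := finrank_coker c k hdim.le hu 0
    rw [← Euler.deg_of_iso k e 1, hdeg] at hc
    haveI : FiniteDimensional k (Coh.HH X (seq c u 0).X₂ 0) :=
      inferInstanceAs (FiniteDimensional k (Coh.HH X (c.twist 1) 0))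
    haveI : FiniteDimensional k (Coh.HH X (seq c u 0).X₃ 0) := Euler.finiteDimensional_HH k hQ 0
    have e1 := Euler.finrank_eq_add_of_exact (Cohom.exact₂ (A := k) hS 0)
    rw [LinearMap.finrank_range_of_inj (Euler.hhMap_zero_injective (A := k) hS)] at e1
    have e3 : Module.finrank k (LinearMap.range (Cohom.hhMap k (seq c u 0).g 0)) ≤
        Module.finrank k (Coh.HH X (seq c u 0).X₃ 0) := Submodule.finrank_le _
    change Module.finrank k (Coh.HH X (c.twist 1) 0) = Module.finrank k (Coh.HH X (c.twist 0) 0) + _ at e1
    have hc' : Module.finrank k (Coh.HH X (seq c u 0).X₃ 0) = 1 := by exact_mod_cast hc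
    refine ⟨LinearMap.range_eq_top.1 (Submodule.eq_top_of_finrank_eq ?_), ?_⟩ <;> omega
  obtain ⟨u₀, hu⟩ := Euler.exists_ne_zero_section ((Euler.hhEquiv (A := k) e 0).symm.toEquiv.nontrivial)
  obtain ⟨u, hu'⟩ : ∃ u : c.sect 1 ⊤, u ≠ 0 := ⟨u₀, hu⟩
  have hN := (hsur u hu').2
  obtain ⟨i, hi, hik, -⟩ := exists_closedImmersion_of_surjective k c hdim e (by omega)
    (fun v hv => (hsur v hv).1) 1 (by omega)
  haveI := hi
  haveI := isIso_of_closedImmersion_P1 k hdim i
  exact ⟨asIso i, hik⟩

end GrothLib.CurveMult
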