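import Groth.Agent.Lib.CurveMult.RankTwo
import Groth.Agent.Lib.CurveMult.OmegaField
import Groth.Agent.Lib.RelProjK.Local

/-!
# Nilpotent twisted endomorphisms of bundles of rank two
-/

set_option linter.style.haveILetI false
set_option backward.isDefEq.respectTransparency false

universe u

open CategoryTheory CategoryTheory.Limits AlgebraicGeometry TopologicalSpace Opposite
open GrothLib.CurveRR

noncomputable section

namespace GrothLib.CurveMult

variable {X : Scheme.{u}} [IsIntegral X]

/-- Twisting by an invertible module preserves the rank. -/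
theorem isFinLocFreeOfRank_tF [IsLocallyNoetherian X] {n : ℕ} {E N : X.Modules} (hE : FlatMod.IsFinLocFreeOfRank n E)
    (hN : PicF.IsInvertible N) : FlatMod.IsFinLocFreeOfRank n ((Euler.tF N).obj E) := fun x => by
  have hEc := Euler.isCoh_of_isFinLocFree (FinCov.isFinLocFree_of_rank hE)
  have hN1 := Euler.isFinLocFreeOfRank_one_of_invertible hN
  have hT : Coh.IsCoh ((Euler.tF N).obj E) := Euler.isCoh_tF hEc (FinCov.isFinLocFree_of_rank hN1)
  obtain ⟨e₁⟩ := Euler.nonempty_stalk_equiv_pi (M := E) hN1 x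
  obtain ⟨D, f, hxD, hf⟩ := FinCov.exists_frame_nhd_of_rank hE x
  obtain ⟨b⟩ := Euler.stalk_basis_of_frame hf hxD
  obtain ⟨D', f', hxD', hf'⟩ := Euler.exists_frame_of_stalk_basis hT
    (b.map ((LinearEquiv.funUnique (Fin 1) (X.presheaf.stalk x) (E.presheaf.stalk x)).symm.trans e₁.symm))
  exact ⟨D', hxD', FinCov.exists_iso_of_frame hf'⟩

variable (k : Type u) [Field k] [RegCurve X] [X.Over (Spec (CommRingCat.of k))]
  [IsProper (X ↘ Spec (CommRingCat.of k))]

include k in
/-- Twisting by an invertible module is an equivalence, with some inverse. -/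
theorem isEquivalence_tF' {K : X.Modules} (hK : PicF.IsInvertible K) : (Euler.tF K).IsEquivalence := by
  obtain ⟨M, -, -, ⟨e⟩, ⟨e'⟩⟩ := exists_inverse k RegCurve.dim.le hK
  exact isEquivalence_tF e e'

include k in
/-- A twisted map out of the quotient gives a nonzero nilpotent twisted endomorphism. -/
theorem exists_nilpotent_of_subbundle {K E L : X.Modules} (hK : PicF.IsInvertible K) (j : L ⟶ E) [Mono j]
    {β : cokernel j ⟶ CohB1.tensorMod L K} (hβ : β ≠ 0) :
    ∃ α : E ⟶ (Euler.tF K).obj E, α ≫ (Euler.tF K).map α = 0 ∧ α ≠ 0 := by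
  haveI := isEquivalence_tF' k hK
  refine ⟨cokernel.π j ≫ β ≫ (Euler.tF K).map j, ?_, fun h => hβ ?_⟩
  · rw [(Euler.tF K).map_comp, Category.assoc, Category.assoc, ← (Euler.tF K).map_comp_assoc,
      cokernel.condition, Functor.map_zero, zero_comp, comp_zero, comp_zero]
  · rw [← cancel_epi (cokernel.π j), ← cancel_mono ((Euler.tF K).map j), comp_zero, zero_comp, Category.assoc]
    exact h

include k in
/-- A nonzero nilpotent twisted endomorphism comes from a line subbundle. -/
theorem exists_subbundle_of_nilpotent {K E : X.Modules} (hK : PicF.IsInvertible K)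
    (hE : FlatMod.IsFinLocFreeOfRank 2 E) {α : E ⟶ (Euler.tF K).obj E} (h2 : α ≫ (Euler.tF K).map α = 0)
    (hα : α ≠ 0) :
    ∃ (L : X.Modules) (j : L ⟶ E), PicF.IsInvertible L ∧ Mono j ∧ PicF.IsInvertible (cokernel j) ∧
      ∃ β : cokernel j ⟶ CohB1.tensorMod L K, β ≠ 0 := by
  haveI := Euler.isNoetherian_of_proper (X := X) k
  haveI := isEquivalence_tF' k hK
  let ι := kernel.ι α
  have hT := isFinLocFreeOfRank_tF hE hK
  have hpid : ∀ x : X, IsPrincipalIdealRing (X.presheaf.stalk x) := CurveRR.pid_stalk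
  have hE' := FinCov.isFinLocFree_of_rank hE
  have hT' := FinCov.isFinLocFree_of_rank hT
  have hEc := Euler.isCoh_of_isFinLocFree hE'
  have hKc := QCoh.isCoh_kernel α hEc (Euler.isCoh_of_isFinLocFree hT')
  have hQc := QCoh.isCoh_cokernel ι hKc hEc
  let ε : cokernel ι ⟶ (Euler.tF K).obj E := Abelian.factorThruCoimage α
  have hε : cokernel.π ι ≫ ε = α := cokernel.π_desc _ _ _
  haveI : Mono ε := inferInstanceAs (Mono (Abelian.factorThruCoimage α))
  have hL := Euler.isFinLocFreeOfRank_of_mono hpid ι hKc hE'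
  have hQ := Euler.isFinLocFreeOfRank_of_mono hpid ε hQc hT'
  obtain ⟨-, hg⟩ := Euler.degree_quotient k _ _ _ (Euler.cokernel_shortExact ι) hKc hEc hQc
  rw [Euler.grank_of_locFree hE] at hg
  have hQ0 : Euler.grank (cokernel ι) ≠ 0 := fun h => hα (by
    rw [h] at hQ
    rw [← hε, (Euler.isZero_of_rank_zero hQ).eq_of_src ε 0, comp_zero])
  have hL0 : Euler.grank (kernel α) ≠ 0 := fun h => hα (by
    rw [h] at hL
    haveI : Mono α := Preadditive.mono_of_isZero_kernel α (Euler.isZero_of_rank_zero hL)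
    haveI : Mono ((Euler.tF K).map α) := inferInstance
    rw [← cancel_mono ((Euler.tF K).map α), zero_comp]
    exact h2)
  rw [show Euler.grank (kernel α) = 1 by omega] at hL
  rw [show Euler.grank (cokernel ι) = 1 by omega] at hQ
  have hQi := isInvertible_of_rank_one hQ
  have h3 : ε ≫ (Euler.tF K).map α = 0 := by
    rw [← cancel_epi (cokernel.π ι), ← Category.assoc, hε, h2, comp_zero]
  let β : cokernel ι ⟶ CohB1.tensorMod (kernel α) K :=
    kernel.lift _ ε h3 ≫ (PreservesKernel.iso (Euler.tF K) α).inv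
  have hβ : β ≫ (Euler.tF K).map ι = ε := by
    show (kernel.lift _ ε h3 ≫ (PreservesKernel.iso (Euler.tF K) α).inv) ≫ (Euler.tF K).map (kernel.ι α) = ε
    rw [Category.assoc, PreservesKernel.iso_inv_ι, kernel.lift_ι]
  refine ⟨kernel α, ι, isInvertible_of_rank_one hL, inferInstance, hQi, β, fun h => ?_⟩
  have hεne : ε ≠ 0 := fun he => hα (by rw [← hε, he, comp_zero])
  exact hεne (by rw [← hβ, h]; exact zero_comp)

end GrothLib.CurveMult
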